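import Cfsg.Agent.Mrg.Omega.NO3S.ML
import Cfsg.Agent.Omega.NO3S.EThree.MinOff
import Cfsg.Agent.Mrg.Omega.OM.PG.NoRad
import Mathlib
import Cfsg.Agent.ZN.ChoiceSit

section


/-!
# EThree: distance at least `3`, the group `M_a = ⟨N_u : u ~ a⟩` (helper495 #18378 (6))

* `no_sup`: `(NO)` passes from subgroups of an abelian group to their join;
* `MinA Q M A`: `A ∈ AA Q` moves `M`, with `|A : C_A(M)|` minimal; `MinA.cap`: for `V ≤ M` moved by `A` with
  `|A : C_A(V)| ≤ |V : C_V(A)|`: `C_A(V) = C_A(M)`, `M = V C_M(A)`, `[M, A] = [V, A]`;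
* `MM Z a = ⟨N_u : u ~ a⟩`; if all pairs at distance `≤ 2` commute: `MM_eab`, `MM_le_QQ`, `MM_no` (`(NO)` for `Q_a` on
  `M_a`), `MM_exact` (every `A ∈ AA Q_a` is exact on `M_a`), `exists_minA_MM`;
* `MinA.nbr`: `A` minimal as above, `u ~ a` moved: `C_A(N_u)` centralises `M_a`, `M_a = N_u C(A)`,
  `[M_a, A] = [N_u, A] ≤ N_u`;
* `MinA.tc`: points of order `2`, lines of order `4`: `A` centralises all lines on `a`, or `[M_a, A] ≤ a`,
  `|A : C_A(M_a)| = 2`.
-/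

set_option autoImplicit false
set_option linter.unusedSectionVars false

namespace Cfsg.Agent.Omega.NO3S.EThree.ExactA

open Subgroup Cfsg Cfsg.Agent.ZN Cfsg.Agent.Omega.MinPar
open Cfsg.Agent.Omega.OM.PG
open Cfsg.Agent.ZN.ChoiceBase (AA mm mm_eq mem_AA_iff AA_nonempty card_le_mm cj_mem_AA mm_cj mm_mono)
open Cfsg.Agent.Omega.NoFF.Basic (conj_conj mem_conj conj_le_iff conj_le_centralizer comm_symm comm_mono)
open Cfsg.Agent.Omega.NO3S.ML (card_mul_relIndex card_sup_mul_of_comm)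
open scoped Pointwise

universe u

variable {G : Type u} [Group G] [Finite G]

/-- `(NO)` passes to joins inside an abelian group. -/
theorem no_sup {ι : Sort*} {N : ι → Subgroup G} {M Q : Subgroup G} (hN : ∀ i, N i ≤ M) (hgen : M ≤ ⨆ i, N i)
    (h : ∀ i, ∀ B : Subgroup G, IsElementaryAbelian 2 B → B ≤ Q →
      (centralizer (N i : Set G)).relIndex B ≤ (centralizer (B : Set G)).relIndex (N i)) :
    ∀ B : Subgroup G, IsElementaryAbelian 2 B → B ≤ Q →
      (centralizer (M : Set G)).relIndex B ≤ (centralizer (B : Set G)).relIndex M := by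
  have key : ∀ n : ℕ, ∀ B : Subgroup G, Nat.card B ≤ n → IsElementaryAbelian 2 B → B ≤ Q →
      (centralizer (M : Set G)).relIndex B ≤ (centralizer (B : Set G)).relIndex M := by
    intro n
    induction n with
    | zero => intro B hB; exact absurd (Nat.card_pos (α := B)) (by omega)
    | succ n ih =>
      intro B hB hBe hBQ
      by_cases hall : ∀ i, B ≤ centralizer (N i : Set G)
      · have h1 : B ≤ centralizer (M : Set G) := by
          refine comm_symm (hgen.trans (iSup_le fun i => comm_symm (hall i)))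
        rw [relIndex_eq_one.2 h1]
        exact Nat.one_le_iff_ne_zero.2 index_ne_zero_of_finite
      · push Not at hall
        obtain ⟨i, hi⟩ := hall
        have hlt : B ⊓ centralizer (N i : Set G) < B :=
          lt_of_le_of_ne inf_le_left fun e => hi (by rw [← e]; exact inf_le_right)
        have hcard : Nat.card (B ⊓ centralizer (N i : Set G) : Subgroup G) ≤ n := by
          have h2 : Nat.card (B ⊓ centralizer (N i : Set G) : Subgroup G) < Nat.card B := by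
            refine lt_of_le_of_ne (Subgroup.card_le_of_le inf_le_left) fun e => hlt.ne ?_
            exact Subgroup.eq_of_le_of_card_ge inf_le_left e.ge
          omega
        have h3 := ih _ hcard (eab_mono hBe inf_le_left) (inf_le_left.trans hBQ)
        have h4 := mul_relIndex_le (N := M) (V := N i) (A := B) (B := B ⊓ centralizer (N i : Set G)) (hN i)
          inf_le_left inf_le_right
        have h5 := relIndex_eq_mul (N := M) (V := N i) (A := B) (hN i)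
        rw [h5, mul_comm]
        exact (Nat.mul_le_mul (h i B hBe hBQ) h3).trans h4
  exact fun B => key _ B le_rfl

/-- `A ∈ AA Q` moves `M`, with `|A : C_A(M)|` minimal. -/
structure MinA (Q M A : Subgroup G) : Prop where
  mem : A ∈ AA Q
  mov : ¬ A ≤ centralizer (M : Set G)
  min : ∀ B ∈ AA Q, ¬ B ≤ centralizer (M : Set G) →
    (centralizer (M : Set G)).relIndex A ≤ (centralizer (M : Set G)).relIndex B

theorem exists_minA {Q M A : Subgroup G} (hA : A ∈ AA Q) (hmov : ¬ A ≤ centralizer (M : Set G)) :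
    ∃ A, MinA Q M A := by
  let s : Set ℕ := {n | ∃ B ∈ AA Q, ¬ B ≤ centralizer (M : Set G) ∧ (centralizer (M : Set G)).relIndex B = n}
  have hs : s.Nonempty := ⟨_, A, hA, hmov, rfl⟩
  obtain ⟨B, hB, hBm, hn⟩ := Nat.sInf_mem hs
  refine ⟨B, hB, hBm, fun D hD hDm => ?_⟩
  rw [hn]
  exact Nat.sInf_le ⟨D, hD, hDm, rfl⟩

/-- `MinA.cap`: the peeling. -/
theorem MinA.cap {Q M A V : Subgroup G} (h : MinA Q M A) (hM : IsElementaryAbelian 2 M) (hMQ : M ≤ Q) (hV : V ≤ M)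
    (hmov : ¬ A ≤ centralizer (V : Set G))
    (hoff : (centralizer (V : Set G)).relIndex A ≤ (centralizer (A : Set G)).relIndex V) :
    A ⊓ centralizer (V : Set G) ≤ centralizer (M : Set G) ∧
      M ≤ V ⊔ (M ⊓ centralizer (A : Set G)) ∧
      (centralizer (M : Set G)).relIndex A = (centralizer (V : Set G)).relIndex A ∧
      (∀ m ∈ M, ∀ x ∈ A, ∃ v ∈ V, m * x * m⁻¹ * x⁻¹ = v * x * v⁻¹ * x⁻¹) := by
  have hM' := (eab_iff.1 hM).1
  obtain ⟨-, -, h1⟩ := swp (eab_mono hM hV) (hV.trans hMQ) h.mem hoff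
  have hVc : V ≤ centralizer (M : Set G) := hV.trans hM'
  -- `C_A(V)` centralises `M`
  have h2 : A ⊓ centralizer (V : Set G) ≤ centralizer (M : Set G) := by
    by_contra hcon
    have h3 := h.min _ h1 fun h4 => hcon (le_sup_left.trans h4)
    have h4 : (centralizer (M : Set G)).relIndex (A ⊓ centralizer (V : Set G) ⊔ V) ≤
        (centralizer (M : Set G)).relIndex (A ⊓ centralizer (V : Set G)) := by
      set K := A ⊓ centralizer (V : Set G) with hK
      set C := centralizer (M : Set G) ⊓ (K ⊔ V) with hC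
      have e1 : (centralizer (M : Set G)).relIndex (K ⊔ V) = C.relIndex (K ⊔ V) := (inf_relIndex_right _ _).symm
      have e2 : (centralizer (M : Set G)).relIndex K = C.relIndex K := by
        have e9 : C ⊓ K = centralizer (M : Set G) ⊓ K := by
          rw [hC, inf_assoc, inf_eq_right.2 (le_sup_left : K ≤ K ⊔ V)]
        rw [← inf_relIndex_right (centralizer (M : Set G)) K, ← e9, inf_relIndex_right]
      have hVC : V ≤ C := le_inf hVc le_sup_right
      have e3 : K ⊔ V = K ⊔ C := le_antisymm (sup_le le_sup_left (hVC.trans le_sup_right))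
        (sup_le le_sup_left inf_le_right)
      have hCab : K ⊔ V ≤ centralizer ((K ⊔ V : Subgroup G) : Set G) := (eab_iff.1 h1.1).1
      rw [e1, e2]
      have e4 := card_sup_mul_of_comm (K := K) (L := C) fun a ha b hb =>
        (mem_centralizer_iff.1 (hCab ((inf_le_right : C ≤ K ⊔ V) hb)) a (mem_sup_left ha))
      rw [← e3] at e4
      have e5 : Nat.card C * C.relIndex (K ⊔ V) = Nat.card (K ⊔ V : Subgroup G) := card_mul_relIndex inf_le_right
      have e6 : Nat.card (K ⊓ C : Subgroup G) * C.relIndex K = Nat.card K := by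
        rw [← inf_relIndex_left]
        exact card_mul_relIndex inf_le_left
      have p1 : 0 < Nat.card (K ⊓ C : Subgroup G) := Nat.card_pos
      have p2 : 0 < Nat.card C := Nat.card_pos
      have e7 : (Nat.card C * Nat.card (K ⊓ C : Subgroup G)) * C.relIndex (K ⊔ V) =
          (Nat.card C * Nat.card (K ⊓ C : Subgroup G)) * C.relIndex K := by
        calc _ = (Nat.card C * C.relIndex (K ⊔ V)) * Nat.card (K ⊓ C : Subgroup G) := by ring
          _ = Nat.card K * Nat.card C := by rw [e5, e4]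
          _ = Nat.card C * (Nat.card (K ⊓ C : Subgroup G) * C.relIndex K) := by rw [e6]; ring
          _ = _ := by ring
      exact (Nat.eq_of_mul_eq_mul_left (Nat.mul_pos p2 p1) e7).le
    have h5 := relIndex_eq_mul (N := M) (V := V) (A := A) hV
    have h6 : (centralizer (M : Set G)).relIndex (A ⊓ centralizer (V : Set G)) ≠ 0 := index_ne_zero_of_finite
    have h7 : (centralizer (V : Set G)).relIndex A ≠ 0 := index_ne_zero_of_finite
    have h8 : (centralizer (V : Set G)).relIndex A ≠ 1 := fun e => hmov (relIndex_eq_one.1 e)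
    have h9 : 2 ≤ (centralizer (V : Set G)).relIndex A := by omega
    have h10 := Nat.mul_le_mul_left ((centralizer (M : Set G)).relIndex (A ⊓ centralizer (V : Set G))) h9
    omega
  have h5 := relIndex_eq_mul (N := M) (V := V) (A := A) hV
  rw [relIndex_eq_one.2 h2, one_mul] at h5
  -- `M = V C_M(A)`
  have hA' := (eab_iff.1 h.mem.1).1
  have h6 : M ≤ V ⊔ (M ⊓ centralizer (A : Set G)) := by
    -- `|M : C_M(A)| ≤ |A : C_A(M)|` by maximality of `A`
    have h7 : (centralizer (A : Set G)).relIndex M ≤ (centralizer (M : Set G)).relIndex A := by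
      by_contra hcon
      push Not at hcon
      exact hcon.ne (swp hM hMQ h.mem hcon.le).1
    set D := M ⊓ centralizer (A : Set G) with hD
    have hDM : D ≤ M := inf_le_left
    have h3 : D.relIndex M = (centralizer (A : Set G)).relIndex M := inf_relIndex_left _ _
    have e : (centralizer (A : Set G)).relIndex V = D.relIndex V := by
      rw [← inf_relIndex_right D, ← inf_relIndex_right (centralizer (A : Set G)), hD, inf_comm M, inf_assoc,
        inf_eq_right.2 hV]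
    have h4 : D.relIndex V ≤ D.relIndex (V ⊔ D) := relIndex_le_of_le_right le_sup_left index_ne_zero_of_finite
    have h8 := relIndex_mul_relIndex D (V ⊔ D) M le_sup_right (sup_le hV hDM)
    have h9 : D.relIndex (V ⊔ D) ≠ 0 := index_ne_zero_of_finite
    have h10 : D.relIndex M ≤ D.relIndex (V ⊔ D) * 1 := by
      rw [mul_one, h3]
      refine h7.trans ?_
      rw [h5]
      exact hoff.trans (e.le.trans h4)
    rw [← h8] at h10
    have h11 := Nat.le_of_mul_le_mul_left h10 (Nat.pos_of_ne_zero h9)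
    have h12 : (V ⊔ D).relIndex M ≠ 0 := index_ne_zero_of_finite
    exact relIndex_eq_one.1 (by omega)
  refine ⟨h2, h6, h5, fun m hm x hx => ?_⟩
  have hVn : V ≤ normalizer ((M ⊓ centralizer (A : Set G) : Subgroup G) : Set G) :=
    (hVc.trans (centralizer_le inf_le_left)).trans (centralizer_le_normalizer _)
  have h7 : m ∈ ((V ⊔ (M ⊓ centralizer (A : Set G)) : Subgroup G) : Set G) := h6 hm
  rw [coe_mul_of_left_le_normalizer_right V _ hVn] at h7
  obtain ⟨v, hv, c, hc, rfl⟩ := Set.mem_mul.mp h7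
  refine ⟨v, hv, ?_⟩
  have h8 : x * c = c * x := mem_centralizer_iff.1 hc.2 x hx
  calc v * c * x * (v * c)⁻¹ * x⁻¹ = v * (c * x) * c⁻¹ * v⁻¹ * x⁻¹ := by group
    _ = v * (x * c) * c⁻¹ * v⁻¹ * x⁻¹ := by rw [h8]
    _ = v * x * v⁻¹ * x⁻¹ := by group

/-- `M_a = ⟨N_u : u ~ a⟩` -/
def MM (Z : Fin 2 → Subgroup G) (a : Subgroup G) : Subgroup G := ⨆ u : {u : Subgroup G // Adj Z a u}, NN Z u

section PPs

variable {Z U : Fin 2 → Subgroup G} (P : PP Z U)
  (hC : ∀ m ≤ 2, ∀ a b : Subgroup G, Pth Z m a b → Com Z a b)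

include P hC

omit [Finite G] in
theorem NN_le_MM {a u : Subgroup G} (h : Adj Z a u) : NN Z u ≤ MM Z a :=
  le_iSup (fun u : {u : Subgroup G // Adj Z a u} => NN Z u) ⟨u, h⟩

omit [Finite G] in
theorem MM_comm {a : Subgroup G} : MM Z a ≤ centralizer (MM Z a : Set G) := by
  refine iSup_le fun u => comm_symm (iSup_le fun v => ?_)
  exact hC 2 le_rfl _ _ (Pth.succ (PP.pth_one (P.adj_symm v.2)) u.2)

omit [Finite G] in
theorem MM_eab {a : Subgroup G} : IsElementaryAbelian 2 (MM Z a) := by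
  rw [eab_iff]
  refine ⟨MM_comm P hC, NoFF.Lines.Geo.sq_of_comm (MM_comm P hC) (ι := {u : Subgroup G // Adj Z a u})
    (B := fun u => NN Z u) (fun u => NN_le_MM P hC u.2) le_rfl fun u => (eab_iff.1 (NN_eab P (P.adj_pt u.2))).2⟩

theorem MM_le_QQ {a : Subgroup G} : MM Z a ≤ QQ a :=
  iSup_le fun u => P.lemP hC 1 (by omega) _ _ (PP.pth_one (P.adj_symm u.2))

omit [Finite G] in
theorem hC1 : ∀ a u : Subgroup G, Adj Z a u → Com Z a u := fun _ _ h => hC 1 (by omega) _ _ (PP.pth_one h)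

/-- `(NO)` for `Q_a` on `M_a` -/
theorem MM_no (hNO : NoP Z) {a : Subgroup G} {B : Subgroup G} (hB : IsElementaryAbelian 2 B) (hBQ : B ≤ QQ a) :
    (centralizer (MM Z a : Set G)).relIndex B ≤ (centralizer (B : Set G)).relIndex (MM Z a) :=
  no_sup (ι := {u : Subgroup G // Adj Z a u}) (N := fun u => NN Z u) (fun u => NN_le_MM P hC u.2) le_rfl
    (fun u B hB hBQ => hNO a u u.2 B hB hBQ) B hB hBQ

/-- every `A ∈ AA Q_a` is exact on `M_a` -/
theorem MM_exact (hNO : NoP Z) {a A : Subgroup G} (hA : A ∈ AA (QQ a)) :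
    (centralizer (MM Z a : Set G)).relIndex A = (centralizer (A : Set G)).relIndex (MM Z a) ∧
      MM Z a ⊓ centralizer (A : Set G) ≤ A ∧
      (A ⊓ centralizer (MM Z a : Set G)) ⊔ MM Z a ∈ AA (QQ a) :=
  swp (MM_eab P hC) (MM_le_QQ P hC) hA (MM_no P hC hNO hA.1 hA.2.1)

theorem exists_minA_MM (hne : jj (QQ (Z 0)) ≠ ⊥) {a u : Subgroup G} (h : Adj Z a u) : ∃ A, MinA (QQ a) (MM Z a) A := by
  obtain ⟨A, hA, hm⟩ := moves P hne h
  exact exists_minA hA fun h1 => hm (h1.trans (centralizer_le (NN_le_MM P hC h)))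

/-- `A` minimal, `u ~ a` moved by `A`. -/
theorem MinA.nbr (hNO : NoP Z) {a u A : Subgroup G} (h : MinA (QQ a) (MM Z a) A) (hau : Adj Z a u)
    (hmov : ¬ A ≤ centralizer (NN Z u : Set G)) :
    A ⊓ centralizer (NN Z u : Set G) ≤ centralizer (MM Z a : Set G) ∧
      MM Z a ≤ NN Z u ⊔ (MM Z a ⊓ centralizer (A : Set G)) ∧
      (centralizer (MM Z a : Set G)).relIndex A = (centralizer (NN Z u : Set G)).relIndex A ∧
      (∀ m ∈ MM Z a, ∀ x ∈ A, ∃ v ∈ NN Z u, m * x * m⁻¹ * x⁻¹ = v * x * v⁻¹ * x⁻¹) ∧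
      ∀ m ∈ MM Z a, ∀ x ∈ A, m * x * m⁻¹ * x⁻¹ ∈ NN Z u := by
  obtain ⟨h1, h2, h3, h4⟩ := h.cap (MM_eab P hC) (MM_le_QQ P hC) (NN_le_MM P hC hau) hmov
    (exact P (hC1 P hC) hNO hau h.mem).1.le
  refine ⟨h1, h2, h3, h4, fun m hm x hx => ?_⟩
  obtain ⟨v, hv, e⟩ := h4 m hm x hx
  rw [e]
  have h5 : x ∈ normalizer (NN Z u : Set G) := PP.HH_le_NN u (P.QQ_le_HH (P.adj_symm hau) (h.mem.2.1 hx))
  have h6 : x * v⁻¹ * x⁻¹ ∈ NN Z u := (mem_normalizer_iff.1 h5 v⁻¹).1 (inv_mem hv)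
  have e2 : v * x * v⁻¹ * x⁻¹ = v * (x * v⁻¹ * x⁻¹) := by group
  rw [e2]
  exact mul_mem hv h6

/-- points of order `2`, lines of order `4` -/
theorem MinA.tc (h2 : Nat.card (Z 0) = 2) (h4 : Nat.card (U 0) = 4) (hgen : U 1 ≤ NN Z (Z 0)) {a A : Subgroup G}
    (ha : IsPt Z a) (h : MinA (QQ a) (MM Z a) A) :
    (∀ l : Subgroup G, LnOn Z U a l → A ≤ centralizer (l : Set G)) ∨
      ((centralizer (MM Z a : Set G)).relIndex A = 2 ∧ (∀ m ∈ MM Z a, ∀ x ∈ A, m * x * m⁻¹ * x⁻¹ ∈ a) ∧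
        ∃ l : Subgroup G, LnOn Z U a l ∧ l ≤ MM Z a ∧ ¬ A ≤ centralizer (l : Set G) ∧
          MM Z a ≤ l ⊔ (MM Z a ⊓ centralizer (A : Set G))) := by
  by_cases hall : ∀ l : Subgroup G, LnOn Z U a l → A ≤ centralizer (l : Set G)
  · exact Or.inl hall
  refine Or.inr ?_
  push Not at hall
  obtain ⟨l, hl, hlm⟩ := hall
  -- `l ≤ N_u`, `u ~ a`
  obtain ⟨k, hk0, hk1⟩ := hl
  have hl : LnOn Z U a l := ⟨k, hk0, hk1⟩
  have h01 : Adj Z (Z 0) (Z 1) := ⟨1, by rw [map_one, one_smul], by rw [map_one, one_smul]⟩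
  have hau : Adj Z a (MulAut.conj k • Z 1) := by rw [hk0]; exact h01.conj k
  have hlu : l ≤ NN Z (MulAut.conj k • Z 1) := by
    obtain ⟨s, hs0, hs1, hs2, hs3⟩ := P.swap
    rw [hk1, NN_conj]
    refine conj_le_iff.2 ?_
    have h5 : MulAut.conj s • U 1 ≤ MulAut.conj s • NN Z (Z 0) := conj_le_iff.2 hgen
    rwa [hs3, ← NN_conj, hs0] at h5
  have hlM : l ≤ MM Z a := hlu.trans (NN_le_MM P hC hau)
  have hlc : Nat.card l = 4 := by rw [hk1]; exact (ZN.ChoiceBase.card_cj k _).trans h4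
  have hac : Nat.card a = 2 := by rw [hk0]; exact (ZN.ChoiceBase.card_cj k _).trans h2
  have hal : a ≤ l := by rw [hk0, hk1]; exact conj_le_iff.2 P.ZU
  have hAQ := h.mem.2.1
  have haA : a ≤ centralizer (A : Set G) := by
    -- `Q_a` centralises `a`, as `a ≤ N_u ≤ ..`
    have h5 : QQ a ≤ centralizer (a : Set G) := by
      obtain ⟨s, hs⟩ := IsPGroup.iff_card.1 ((MinSimple.VModule.o2_isPGroup (HH a)))
      intro y hy
      refine mem_centralizer_iff.2 fun x hx => ?_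
      by_cases hx1 : x = 1
      · rw [hx1]; group
      have h7 : y * x * y⁻¹ ∈ a := by
        have h6 : y ∈ HH a := MinSimple.VModule.o2_le _ hy
        exact (mem_normalizer_iff.1 h6 x).1 hx
      have h8 : y * x * y⁻¹ ≠ 1 := fun e => hx1 (by
        have : x = y⁻¹ * (y * x * y⁻¹) * y := by group
        rw [this, e]; group)
      have h9 : y * x * y⁻¹ = x := by
        have h10 : ∀ p ∈ a, ∀ q ∈ a, p ≠ 1 → q ≠ 1 → p = q := by
          intro p hp q hq hp1 hq1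
          have : Nat.card a = 2 := hac
          obtain ⟨c, hc, hcu⟩ := (Nat.card_eq_two_iff' (1 : a)).1 this
          have e1 := hcu ⟨p, hp⟩ (fun e => hp1 (congrArg Subtype.val e))
          have e2 := hcu ⟨q, hq⟩ (fun e => hq1 (congrArg Subtype.val e))
          exact congrArg Subtype.val (e1.trans e2.symm)
        exact h10 _ h7 _ hx h8 hx1
      calc x * y = y * x * y⁻¹ * y := by rw [h9]
        _ = y * x := by group
    exact comm_symm (hAQ.trans h5)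
  -- `C_l(A) = a`
  have hcl : l ⊓ centralizer (A : Set G) = a := by
    have h5 : a ≤ l ⊓ centralizer (A : Set G) := le_inf hal haA
    have h6 : Nat.card (l ⊓ centralizer (A : Set G) : Subgroup G) ∣ Nat.card l := Subgroup.card_dvd_of_le inf_le_left
    have h7 : Nat.card (l ⊓ centralizer (A : Set G) : Subgroup G) ≠ 4 := by
      intro e
      have h8 : l ⊓ centralizer (A : Set G) = l := Subgroup.eq_of_le_of_card_ge inf_le_left (by rw [hlc, e])
      apply hlm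
      exact comm_symm (by rw [← h8]; exact inf_le_right)
    have h8 := Subgroup.card_le_of_le h5
    rw [hlc] at h6
    rw [hac] at h8
    have h9 : Nat.card (l ⊓ centralizer (A : Set G) : Subgroup G) = 2 := by
      have h10 := Nat.le_of_dvd (by norm_num) h6
      interval_cases hh : Nat.card (l ⊓ centralizer (A : Set G) : Subgroup G)
      · rfl
      · omega
      · omega
    exact (Subgroup.eq_of_le_of_card_ge h5 (by rw [h9, hac])).symm
  have hrl : (centralizer (A : Set G)).relIndex l = 2 := by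
    have h5 : Nat.card (l ⊓ centralizer (A : Set G) : Subgroup G) * (centralizer (A : Set G)).relIndex l =
        Nat.card l := by
      rw [← inf_relIndex_left]
      exact card_mul_relIndex inf_le_left
    rw [hcl, hac, hlc] at h5
    omega
  have hcomm : ∀ v ∈ l, ∀ x ∈ A, v * x * v⁻¹ * x⁻¹ ∈ a := fun v hv x hx => P.comm_mem hl hv (hAQ hx)
  -- `|A : C_A(l)| ≤ 2`
  have hrA : (centralizer (l : Set G)).relIndex A ≤ 2 := by
    obtain ⟨v, hv, hva⟩ : ∃ v ∈ l, v ∉ a := by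
      by_contra hcon
      push Not at hcon
      have := Subgroup.card_le_of_le (show l ≤ a from hcon)
      omega
    -- `C_A(v) = C_A(l)`
    have hlgen : l ≤ a ⊔ zpowers v := by
      have h5 : a ⊔ zpowers v ≤ l := sup_le hal (by rw [zpowers_le]; exact hv)
      have h6 : Nat.card (a ⊔ zpowers v : Subgroup G) ∣ 4 := hlc ▸ Subgroup.card_dvd_of_le h5
      have h7 : Nat.card (a ⊔ zpowers v : Subgroup G) ≠ 2 := by
        intro e
        have h8 : a = a ⊔ zpowers v := Subgroup.eq_of_le_of_card_ge le_sup_left (by rw [e, hac])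
        apply hva
        rw [h8]
        exact mem_sup_right (mem_zpowers v)
      have h8 := Subgroup.card_le_of_le (le_sup_left : a ≤ a ⊔ zpowers v)
      rw [hac] at h8
      have h9 : Nat.card (a ⊔ zpowers v : Subgroup G) = 4 := by
        have h10 := Nat.le_of_dvd (by norm_num) h6
        interval_cases hh : Nat.card (a ⊔ zpowers v : Subgroup G)
        · omega
        · omega
        · rfl
      exact (Subgroup.eq_of_le_of_card_ge h5 (by rw [h9, hlc])).ge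
    have hAa : A ≤ centralizer (a : Set G) := comm_symm haA
    -- the map `x ↦ [v, x]` from `A` to `a`
    have h11 : ∀ x ∈ A, v * x = x * v → x ∈ centralizer (l : Set G) := by
      intro x hx hvx
      have h12 : l ≤ centralizer ({x} : Set G) := by
        refine hlgen.trans (sup_le ?_ ?_)
        · intro y hy
          rw [mem_centralizer_singleton_iff]
          exact mem_centralizer_iff.1 (hAa hx) y hy
        · rw [zpowers_le, mem_centralizer_singleton_iff]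
          exact hvx
      refine mem_centralizer_iff.2 fun y hy => ?_
      exact mem_centralizer_singleton_iff.1 (h12 hy)
    obtain ⟨c, hc, hcu⟩ := (Nat.card_eq_two_iff' (1 : a)).1 hac
    have hval : ∀ x ∈ A, v * x * v⁻¹ * x⁻¹ = 1 ∨ v * x * v⁻¹ * x⁻¹ = (c : G) := by
      intro x hx
      by_cases e : v * x * v⁻¹ * x⁻¹ = 1
      · exact Or.inl e
      · refine Or.inr ?_
        exact congrArg Subtype.val (hcu ⟨_, hcomm v hv x hx⟩ fun e' => e (congrArg Subtype.val e'))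
    have h13 : (centralizer (l : Set G)).relIndex A = 1 ∨ (centralizer (l : Set G)).relIndex A = 2 := by
      by_cases hA1 : A ≤ centralizer (l : Set G)
      · exact Or.inl (relIndex_eq_one.2 hA1)
      · refine Or.inr ?_
        obtain ⟨x₀, hx₀, hx₀l⟩ := SetLike.not_le_iff_exists.1 hA1
        rw [relIndex_eq_two_iff]
        refine ⟨x₀, hx₀, fun x hx => ?_⟩
        have hne0 : v * x₀ * v⁻¹ * x₀⁻¹ = (c : G) := by
          refine (hval x₀ hx₀).resolve_left fun e => hx₀l (h11 x₀ hx₀ ?_)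
          calc v * x₀ = (v * x₀ * v⁻¹ * x₀⁻¹) * x₀ * v := by group
            _ = x₀ * v := by rw [e, one_mul]
        have hxc : x₀ * (c : G) = (c : G) * x₀ := (mem_centralizer_iff.1 (hAa hx₀) c c.2).symm
        have hxc' : x * (c : G) = (c : G) * x := (mem_centralizer_iff.1 (hAa hx) c c.2).symm
        have hcc : (c : G) * c = 1 := by
          have := P.ZsqConj ha c c.2
          rwa [pow_two] at this
        have e0 : v * x₀ * v⁻¹ = c * x₀ := by
          rw [← hne0]; group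
        rcases hval x hx with e | e
        · refine Or.inr ⟨h11 x hx ?_, fun hmem => ?_⟩
          · calc v * x = (v * x * v⁻¹ * x⁻¹) * x * v := by group
              _ = x * v := by rw [e, one_mul]
          · have h14 := mem_centralizer_iff.1 hmem v hv
            have e1 : v * x * v⁻¹ = x := by
              calc v * x * v⁻¹ = (v * x * v⁻¹ * x⁻¹) * x := by group
                _ = x := by rw [e, one_mul]
            have e2 : v * (x * x₀) * v⁻¹ = x * x₀ := by rw [h14]; group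
            have e3 : v * (x * x₀) * v⁻¹ = (v * x * v⁻¹) * (v * x₀ * v⁻¹) := by group
            rw [e3, e1, e0] at e2
            have e4 : (c : G) * x₀ = x₀ := mul_left_cancel e2
            have e5 : (c : G) = 1 := mul_eq_right.1 e4
            exact hc (Subtype.ext e5)
        · refine Or.inl ⟨h11 _ (mul_mem hx hx₀) ?_, fun hmem => ?_⟩
          · have e1 : v * x * v⁻¹ = c * x := by rw [← e]; group
            have e2 : v * (x * x₀) * v⁻¹ = x * x₀ := by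
              calc v * (x * x₀) * v⁻¹ = (v * x * v⁻¹) * (v * x₀ * v⁻¹) := by group
                _ = c * x * (c * x₀) := by rw [e1, e0]
                _ = c * (x * c) * x₀ := by group
                _ = (c * c) * x * x₀ := by rw [hxc']; group
                _ = x * x₀ := by rw [hcc, one_mul]
            calc v * (x * x₀) = (v * (x * x₀) * v⁻¹) * v := by group
              _ = x * x₀ * v := by rw [e2]
          · have h14 := mem_centralizer_iff.1 hmem v hv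
            have e2 : v * x * v⁻¹ * x⁻¹ = 1 := by rw [h14]; group
            rw [e2] at e
            exact hc (Subtype.ext e.symm)
    rcases h13 with e | e <;> omega
  obtain ⟨h5, h6, h7, h8⟩ := h.cap (MM_eab P hC) (MM_le_QQ P hC) hlM hlm (by rw [hrl]; exact hrA)
  refine ⟨?_, fun m hm x hx => ?_, l, hl, hlM, hlm, h6⟩
  · rw [h7]
    have h9 : (centralizer (l : Set G)).relIndex A ≠ 0 := index_ne_zero_of_finite
    have h10 : (centralizer (l : Set G)).relIndex A ≠ 1 := fun e => hlm (relIndex_eq_one.1 e)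
    omega
  · obtain ⟨v, hv, e⟩ := h8 m hm x hx
    rw [e]
    exact hcomm v hv x hx

end PPs

end Cfsg.Agent.Omega.NO3S.EThree.ExactA

end

section


/-!
# (E), least distance at least 3 (helper609, TEXT R5 #19750 (4))

* `Nob N B` : `|B : C_B(N)| ≤ |N : C_N(B)|`; `Exa N B` : equality;
* `nob_of`, `exa_peel` : the peeling (`V ≤ N`, `B` replaced by `C_B(V)`);
* `XF Z X` : the groups `X_a` (`= W_a N_a`) of the points: `N_a, a ≤ X_a ≤ Q_a` elementary abelian, `[X_a, Q_a] ≤ a`;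
* `false_of_three` : all `X_a`, `X_b` at distance `≤ 2` commute, `(NO)`, points of order `2`, THEOREM G
  (`C_{H_a}(X_a/N_a)` centralises `N_a`): contradiction.
-/

set_option autoImplicit false
set_option linter.unusedSectionVars false

namespace Cfsg.Agent.Omega.OM.PG.Peel

open Subgroup Cfsg Cfsg.Agent.ZN Cfsg.Agent.Omega.MinPar
open Cfsg.Agent.Omega.OM.PG
open Cfsg.Agent.Omega.NO3S.EThree Cfsg.Agent.Omega.NO3S.EThree.ExactA
open Cfsg.Agent.ZN.ChoiceBase (AA mm mm_eq mem_AA_iff AA_nonempty card_le_mm cj_mem_AA mm_cj mm_mono)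
open Cfsg.Agent.Omega.NoFF.Basic (conj_conj mem_conj conj_le_iff conj_le_centralizer comm_symm comm_mono)
open Cfsg.Agent.Omega.NO3S.ML (card_mul_relIndex card_sup_mul_of_comm)
open scoped Pointwise

universe u

variable {G : Type u} [Group G]

/-- `|B : C_B(N)| ≤ |N : C_N(B)|` -/
def Nob (N B : Subgroup G) : Prop :=
  (centralizer (N : Set G)).relIndex B ≤ (centralizer (B : Set G)).relIndex N

/-- `|B : C_B(N)| = |N : C_N(B)|` -/
def Exa (N B : Subgroup G) : Prop :=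
  (centralizer (N : Set G)).relIndex B = (centralizer (B : Set G)).relIndex N

variable [Finite G]

theorem rel_pos (H K : Subgroup G) : 0 < H.relIndex K := Nat.pos_of_ne_zero index_ne_zero_of_finite

theorem nob_of_le {N B : Subgroup G} (h : B ≤ centralizer (N : Set G)) : Nob N B := by
  unfold Nob
  rw [relIndex_eq_one.2 h]
  exact rel_pos _ _

theorem nob_of {N V B : Subgroup G} (hVN : V ≤ N) (h1 : Nob V B) (h2 : Nob N (B ⊓ centralizer (V : Set G))) :
    Nob N B := by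
  unfold Nob at *
  have h4 := mul_relIndex_le (N := N) (V := V) (A := B) (B := B ⊓ centralizer (V : Set G)) hVN
    inf_le_left inf_le_right
  have h5 := relIndex_eq_mul (N := N) (V := V) (A := B) hVN
  rw [h5, mul_comm]
  exact (Nat.mul_le_mul h1 h2).trans h4

/-- **The peeling.** -/
theorem exa_peel {N V B : Subgroup G} (hVN : V ≤ N) (hE : Exa N B) (h1 : Nob V B)
    (h2 : Nob N (B ⊓ centralizer (V : Set G))) :
    Exa N (B ⊓ centralizer (V : Set G)) ∧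
      N ⊓ centralizer ((B ⊓ centralizer (V : Set G) : Subgroup G) : Set G) ≤ V ⊔ (N ⊓ centralizer (B : Set G)) := by
  unfold Exa Nob at *
  have h4 := mul_relIndex_le (N := N) (V := V) (A := B) (B := B ⊓ centralizer (V : Set G)) hVN
    inf_le_left inf_le_right
  have h5 := relIndex_eq_mul (N := N) (V := V) (A := B) hVN
  set B' := B ⊓ centralizer (V : Set G) with hB'
  have pa := rel_pos (centralizer (N : Set G)) B'
  have pb := rel_pos (centralizer (V : Set G)) B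
  have pc := rel_pos (centralizer (B : Set G)) V
  have pe := rel_pos (centralizer (B' : Set G)) N
  rw [← hE, h5] at h4
  -- `a b ≤ a c ≤ e c ≤ a b`
  have e1 : (centralizer (N : Set G)).relIndex B' * (centralizer (V : Set G)).relIndex B ≤
      (centralizer (N : Set G)).relIndex B' * (centralizer (B : Set G)).relIndex V := Nat.mul_le_mul_left _ h1
  have e2 : (centralizer (N : Set G)).relIndex B' * (centralizer (B : Set G)).relIndex V ≤
      (centralizer (B' : Set G)).relIndex N * (centralizer (B : Set G)).relIndex V := Nat.mul_le_mul_right _ h2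
  rw [mul_comm] at h4
  have e3 : (centralizer (N : Set G)).relIndex B' * (centralizer (B : Set G)).relIndex V =
      (centralizer (B' : Set G)).relIndex N * (centralizer (B : Set G)).relIndex V :=
    le_antisymm e2 (h4.trans e1)
  have e4 : (centralizer (N : Set G)).relIndex B' = (centralizer (B' : Set G)).relIndex N :=
    Nat.eq_of_mul_eq_mul_right pc e3
  have e5 : (centralizer (B : Set G)).relIndex N =
      (centralizer (B' : Set G)).relIndex N * (centralizer (B : Set G)).relIndex V := by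
    rw [← hE, h5]
    exact le_antisymm (e1.trans e2) h4
  refine ⟨e4, ?_⟩
  set D := N ⊓ centralizer (B : Set G) with hD
  set E := N ⊓ centralizer (B' : Set G) with hE'
  have hVE : V ≤ E := le_inf hVN fun v hv => mem_centralizer_iff.2 fun b hb =>
    (mem_centralizer_iff.1 hb.2 v hv).symm
  have hDE : D ≤ E := inf_le_inf_left _ (centralizer_le inf_le_left)
  have f1 : D.relIndex N = (centralizer (B : Set G)).relIndex N := inf_relIndex_left _ _
  have f2 : E.relIndex N = (centralizer (B' : Set G)).relIndex N := inf_relIndex_left _ _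
  have f3 : D.relIndex V = (centralizer (B : Set G)).relIndex V := by
    rw [← inf_relIndex_right D, ← inf_relIndex_right (centralizer (B : Set G)), hD, inf_comm N, inf_assoc,
      inf_eq_right.2 hVN]
  have f4 := relIndex_mul_relIndex D E N hDE inf_le_left
  rw [f1, f2, e5, mul_comm] at f4
  have f5 : D.relIndex E = D.relIndex V := by
    rw [f3]
    exact Nat.eq_of_mul_eq_mul_left pe f4
  have f6 := relIndex_mul_relIndex D (V ⊔ D) E le_sup_right (sup_le hVE hDE)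
  have f7 : D.relIndex V ≤ D.relIndex (V ⊔ D) := relIndex_le_of_le_right le_sup_left index_ne_zero_of_finite
  have f8 := rel_pos D (V ⊔ D)
  have f9 : (V ⊔ D).relIndex E ≤ 1 := by
    have f10 : D.relIndex (V ⊔ D) * (V ⊔ D).relIndex E ≤ D.relIndex (V ⊔ D) * 1 := by
      rw [f6, f5, mul_one]
      exact f7
    exact Nat.le_of_mul_le_mul_left f10 f8
  have f11 := rel_pos (V ⊔ D) E
  exact relIndex_eq_one.1 (by omega)

/-- a single vector -/
theorem nob_zpowers {x c : G} {B : Subgroup G} (hcc : c * c = 1) (hcB : ∀ b ∈ B, b * c = c * b)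
    (h : ∀ b ∈ B, b * x * b⁻¹ = x ∨ b * x * b⁻¹ = x * c) : Nob (zpowers x) B := by
  by_cases hB : B ≤ centralizer ((zpowers x : Subgroup G) : Set G)
  · exact nob_of_le hB
  unfold Nob
  have h1 : (centralizer (B : Set G)).relIndex (zpowers x) ≠ 1 := by
    intro e
    exact hB (comm_symm (relIndex_eq_one.1 e))
  have h2 := rel_pos (centralizer (B : Set G)) (zpowers x)
  have hmem : ∀ b : G, b ∈ centralizer ((zpowers x : Subgroup G) : Set G) ↔ b * x * b⁻¹ = x := by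
    intro b
    rw [mem_centralizer_iff]
    constructor
    · intro e
      rw [← e x (mem_zpowers x)]; group
    · rintro e _ ⟨n, rfl⟩
      have e' : Commute x b := by
        calc x * b = (b * x * b⁻¹) * b := by rw [e]
          _ = b * x := by group
      exact (e'.zpow_left n).eq
  have h3 : (centralizer ((zpowers x : Subgroup G) : Set G)).relIndex B = 2 := by
    obtain ⟨b₀, hb₀, hb₀x⟩ := SetLike.not_le_iff_exists.1 hB
    rw [relIndex_eq_two_iff]
    refine ⟨b₀, hb₀, fun b hb => ?_⟩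
    rw [hmem, hmem]
    have e0 : b₀ * x * b₀⁻¹ = x * c := (h b₀ hb₀).resolve_left fun e => hb₀x ((hmem _).2 e)
    have e1 : b * b₀ * x * (b * b₀)⁻¹ = b * (x * c) * b⁻¹ := by rw [← e0]; group
    have e2 : b * (x * c) * b⁻¹ = b * x * b⁻¹ * c := by
      calc b * (x * c) * b⁻¹ = b * x * (c * b⁻¹) := by group
        _ = b * x * (b⁻¹ * c) := by
            have := hcB _ (inv_mem hb)
            rw [this]
        _ = b * x * b⁻¹ * c := by group
    have hc1 : c ≠ 1 := by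
      rintro rfl
      rw [mul_one] at e0
      exact hb₀x ((hmem _).2 e0)
    rcases h b hb with e | e
    · refine Or.inr ⟨e, ?_⟩
      rw [e1, e2, e]
      intro e'
      exact hc1 (mul_eq_left.1 e')
    · refine Or.inl ⟨?_, ?_⟩
      · rw [e1, e2, e, mul_assoc, hcc, mul_one]
      · rw [e]
        intro e'
        exact hc1 (mul_eq_left.1 e')
  omega

/-- `[X, Q] ≤ ⟨c⟩` of order two: `|B : C_B(X)| ≤ |X : C_X(B)|`. -/
theorem nob_two {X Q : Subgroup G} {c : G} (hcc : c * c = 1) (hcQ : ∀ b ∈ Q, b * c = c * b)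
    (h : ∀ x ∈ X, ∀ b ∈ Q, b * x * b⁻¹ = x ∨ b * x * b⁻¹ = x * c) {B : Subgroup G} (hB : IsElementaryAbelian 2 B)
    (hBQ : B ≤ Q) : Nob X B := by
  refine no_sup (ι := X) (N := fun x => zpowers (x : G)) (M := X) (Q := Q) (fun x => ?_) (fun x hx => ?_) ?_ B hB hBQ
  · rw [zpowers_le]
    exact x.2
  · exact mem_iSup_of_mem (⟨x, hx⟩ : X) (mem_zpowers x)
  · intro x B _ hBQ
    exact nob_zpowers hcc (fun b hb => hcQ b (hBQ hb)) fun b hb => h x x.2 b (hBQ hb)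

/-- elements of `V D` -/
theorem exists_mul_of_comm {V D : Subgroup G} (h : V ≤ centralizer (D : Set G)) {x : G} (hx : x ∈ V ⊔ D) :
    ∃ v ∈ V, ∃ d ∈ D, v * d = x := by
  have h1 : x ∈ ((V ⊔ D : Subgroup G) : Set G) := hx
  rw [coe_mul_of_left_le_normalizer_right V D (h.trans (centralizer_le_normalizer _))] at h1
  obtain ⟨v, hv, d, hd, e⟩ := Set.mem_mul.mp h1
  exact ⟨v, hv, d, hd, e⟩

/-- The groups `X_a`. -/
structure XF (Z : Fin 2 → Subgroup G) (X : Subgroup G → Subgroup G) : Prop where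
  conj : ∀ (g : G) (a : Subgroup G), IsPt Z a → X (MulAut.conj g • a) = MulAut.conj g • X a
  NX : ∀ a : Subgroup G, IsPt Z a → NN Z a ≤ X a
  aX : ∀ a : Subgroup G, IsPt Z a → a ≤ X a
  XQ : ∀ a : Subgroup G, IsPt Z a → X a ≤ QQ a
  eab : ∀ a : Subgroup G, IsPt Z a → IsElementaryAbelian 2 (X a)
  com : ∀ a : Subgroup G, IsPt Z a → ∀ x ∈ X a, ∀ y ∈ QQ a, x * y * x⁻¹ * y⁻¹ ∈ a

/-- `Y_a = ⟨X_u : u ~ a⟩` -/
def YY (Z : Fin 2 → Subgroup G) (X : Subgroup G → Subgroup G) (a : Subgroup G) : Subgroup G :=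
  ⨆ u : {u : Subgroup G // Adj Z a u}, X u

/-- THEOREM G: `C_{H_a}(X_a/N_a)` centralises `N_a`. -/
def ThmG (Z : Fin 2 → Subgroup G) (X : Subgroup G → Subgroup G) : Prop :=
  ∀ a : Subgroup G, IsPt Z a → ∀ g ∈ HH a, (∀ x ∈ X a, x * g * x⁻¹ * g⁻¹ ∈ NN Z a) →
    g ∈ centralizer (NN Z a : Set G)

omit [Finite G] in
theorem MM_conj {Z : Fin 2 → Subgroup G} (g : G) (a : Subgroup G) :
    MM Z (MulAut.conj g • a) = MulAut.conj g • MM Z a := by
  have key : ∀ (g : G) (a : Subgroup G), MM Z (MulAut.conj g • a) ≤ MulAut.conj g • MM Z a := by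
    intro g a
    refine iSup_le ?_
    rintro ⟨u, hu⟩
    have h1 : Adj Z a (MulAut.conj g⁻¹ • u) := by
      have h2 := hu.conj g⁻¹
      rwa [inv_conj_conj] at h2
    have h2 : NN Z (MulAut.conj g⁻¹ • u) ≤ MM Z a :=
      le_iSup (fun u : {u : Subgroup G // Adj Z a u} => NN Z u) ⟨_, h1⟩
    have h3 := conj_le_iff (g := g) |>.2 h2
    rwa [← NN_conj, conj_inv_conj] at h3
  refine le_antisymm (key g a) ?_
  have h1 := key g⁻¹ (MulAut.conj g • a)
  rw [inv_conj_conj] at h1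
  have h2 := conj_le_iff (g := g) |>.2 h1
  rwa [conj_inv_conj] at h2

section main

variable {Z U : Fin 2 → Subgroup G} (P : PP Z U) {X : Subgroup G → Subgroup G} (F : XF Z X)
  (hX : ∀ m ≤ 2, ∀ a b : Subgroup G, Pth Z m a b → X a ≤ centralizer (X b : Set G))
  (hc2 : Nat.card (Z 0) = 2)

omit [Finite G] in
/-- points of order two -/
theorem pt_two {Z : Fin 2 → Subgroup G} (hc2 : Nat.card (Z 0) = 2) {a : Subgroup G} (ha : IsPt Z a) :
    ∃ c ∈ a, c ≠ 1 ∧ c * c = 1 ∧ (∀ x ∈ a, x = 1 ∨ x = c) ∧ ∀ b ∈ HH a, b * c = c * b := by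
  have h2 : Nat.card a = 2 := by
    obtain ⟨k, rfl⟩ := ha
    exact (ZN.ChoiceBase.card_cj k _).trans hc2
  obtain ⟨c, hc, hcu⟩ := (Nat.card_eq_two_iff' (1 : a)).1 h2
  have hall : ∀ x ∈ a, x = 1 ∨ x = (c : G) := by
    intro x hx
    by_cases e : x = 1
    · exact Or.inl e
    · exact Or.inr (congrArg Subtype.val (hcu ⟨x, hx⟩ fun e' => e (congrArg Subtype.val e')))
  have hc1 : (c : G) ≠ 1 := fun e => hc (Subtype.ext e)
  refine ⟨c, c.2, hc1, ?_, hall, fun b hb => ?_⟩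
  · rcases hall _ (mul_mem c.2 c.2) with e | e
    · exact e
    · exact absurd (mul_eq_left.1 e) hc1
  · have h3 : b * (c : G) * b⁻¹ ∈ a := (mem_normalizer_iff.1 hb c).1 c.2
    rcases hall _ h3 with e | e
    · exact absurd (conj_eq_one_iff.1 e) hc1
    · calc b * (c : G) = (b * c * b⁻¹) * b := by group
        _ = c * b := by rw [e]

omit [Finite G] in
theorem pt_inf {Z : Fin 2 → Subgroup G} (hc2 : Nat.card (Z 0) = 2) {a b : Subgroup G} (ha : IsPt Z a)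
    (hb : IsPt Z b) (hne : a ≠ b) {x : G} (hxa : x ∈ a) (hxb : x ∈ b) : x = 1 := by
  by_contra hx
  obtain ⟨c, hc, -, -, hca, -⟩ := pt_two hc2 ha
  obtain ⟨d, hd, -, -, hdb, -⟩ := pt_two hc2 hb
  have e1 := (hca x hxa).resolve_left hx
  have e2 := (hdb x hxb).resolve_left hx
  apply hne
  ext y
  constructor
  · intro hy
    rcases hca y hy with e | e
    · rw [e]; exact one_mem _
    · rw [e, ← e1]; exact hxb
  · intro hy
    rcases hdb y hy with e | e
    · rw [e]; exact one_mem _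
    · rw [e, ← e2]; exact hxa

include hc2 F in
/-- `(NO)` for `Q_a` on `X_a` -/
theorem nobX {a B : Subgroup G} (ha : IsPt Z a) (hB : IsElementaryAbelian 2 B) (hBQ : B ≤ QQ a) : Nob (X a) B := by
  obtain ⟨c, hc, hc1, hcc, hall, hcH⟩ := pt_two hc2 ha
  refine nob_two (Q := QQ a) hcc (fun b hb => hcH b (MinSimple.VModule.o2_le _ hb)) (fun x hx b hb => ?_) hB hBQ
  have hXX := (eab_iff.1 (F.eab a ha)).1
  have h1 := F.com a ha x hx b hb
  rcases hall _ h1 with e | e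
  · refine Or.inl ?_
    have e2 : x * b = b * x := by
      calc x * b = (x * b * x⁻¹ * b⁻¹) * (b * x) := by group
        _ = b * x := by rw [e, one_mul]
    rw [← e2]; group
  · refine Or.inr ?_
    have hxc : c * x = x * c := (mem_centralizer_iff.1 (hXX (F.aX a ha hc)) x hx).symm
    have e2 : x * b = c * (b * x) := by
      calc x * b = (x * b * x⁻¹ * b⁻¹) * (b * x) := by group
        _ = c * (b * x) := by rw [e]
    have e3 : b * x = c * (x * b) := by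
      rw [e2, ← mul_assoc, hcc, one_mul]
    rw [e3, mul_assoc, mul_assoc, mul_inv_cancel, mul_one, hxc]

include P F hX

omit [Finite G] in
theorem hC : ∀ m ≤ 2, ∀ a b : Subgroup G, Pth Z m a b → Com Z a b := fun m hm a b h =>
  ((F.NX a (PP.pth_pt h)).trans (hX m hm a b h)).trans (centralizer_le (F.NX b (P.pth_pt' h)))

/-- `X_x ≤ Q_c` at distance `≤ 2` -/
theorem X_le_QQ : ∀ m ≤ 2, ∀ x c : Subgroup G, Pth Z m x c → X x ≤ QQ c := by
  intro m
  induction m with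
  | zero =>
    intro _ x c hx
    cases hx with
    | zero h0 => exact F.XQ _ h0
  | succ m ih =>
    intro hm x c hx
    have h1 := hX _ hm x c hx
    have hcp := P.pth_pt' hx
    cases hx with
    | succ h2 h3 =>
      exact P.f3 (P.adj_symm h3) (ih (by omega) _ _ h2) (h1.trans (centralizer_le (F.NX _ hcp)))

omit P F hX in
theorem X_le_YY {a u : Subgroup G} (h : Adj Z a u) : X u ≤ YY Z X a :=
  le_iSup (fun u : {u : Subgroup G // Adj Z a u} => X u) ⟨u, h⟩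

theorem YY_comm {a : Subgroup G} : YY Z X a ≤ centralizer (YY Z X a : Set G) := by
  refine iSup_le fun u => comm_symm (iSup_le fun v => ?_)
  exact hX 2 le_rfl _ _ (Pth.succ (PP.pth_one (P.adj_symm v.2)) u.2)

theorem YY_eab {a : Subgroup G} : IsElementaryAbelian 2 (YY Z X a) := by
  rw [eab_iff]
  refine ⟨YY_comm P F hX, NoFF.Lines.Geo.sq_of_comm (YY_comm P F hX) (ι := {u : Subgroup G // Adj Z a u})
    (B := fun u => X u) (fun u => X_le_YY u.2) le_rfl fun u => (eab_iff.1 (F.eab _ (P.adj_pt u.2))).2⟩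

theorem YY_le_QQ {a : Subgroup G} : YY Z X a ≤ QQ a :=
  iSup_le fun u => X_le_QQ P F hX 1 (by omega) _ _ (PP.pth_one (P.adj_symm u.2))

theorem YY_le_QQ' {a b : Subgroup G} (h : Adj Z a b) : YY Z X a ≤ QQ b :=
  iSup_le fun u => X_le_QQ P F hX 2 (by omega) _ _ (Pth.succ (PP.pth_one (P.adj_symm u.2)) h)

theorem MM_le_YY {a : Subgroup G} : MM Z a ≤ YY Z X a :=
  iSup_le fun u => (F.NX _ (P.adj_pt u.2)).trans (X_le_YY u.2)

theorem NN_le_YY {a : Subgroup G} : NN Z a ≤ YY Z X a :=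
  sSup_le fun _ hu => (F.aX _ (P.adj_pt hu)).trans (X_le_YY hu)

/-- `C_{Q_a}(M_a) ≤ Q_u` -/
theorem cent_MM_le {a u B : Subgroup G} (h : Adj Z a u) (hB : B ≤ QQ a) (hBM : B ≤ centralizer (MM Z a : Set G)) :
    B ≤ QQ u :=
  P.f3 (P.adj_symm h) hB (hBM.trans (centralizer_le (NN_le_MM P (hC P F hX) h)))

include hc2

/-- `(NO)` for `C_{Q_a}(M_a)` on `Y_a` -/
theorem nobY0 {a B : Subgroup G} (hB : IsElementaryAbelian 2 B) (hBQ : B ≤ QQ a)
    (hBM : B ≤ centralizer (MM Z a : Set G)) : Nob (YY Z X a) B := by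
  refine no_sup (ι := {u : Subgroup G // Adj Z a u}) (N := fun u => X u) (M := YY Z X a)
    (Q := QQ a ⊓ centralizer (MM Z a : Set G)) (fun u => X_le_YY u.2) le_rfl (fun u B hB hBQ => ?_) B hB (le_inf hBQ hBM)
  exact nobX F hc2 (P.adj_pt u.2) hB (cent_MM_le P F hX u.2 (hBQ.trans inf_le_left) (hBQ.trans inf_le_right))

variable (hNO : NoP Z)
include hNO

/-- `(NO)` for `Q_a` on `Y_a` -/
theorem nobY1 {a B : Subgroup G} (hB : IsElementaryAbelian 2 B) (hBQ : B ≤ QQ a) : Nob (YY Z X a) B :=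
  nob_of (MM_le_YY P F hX) (MM_no P (hC P F hX) hNO hB hBQ)
    (nobY0 P F hX hc2 (eab_mono hB inf_le_left) (inf_le_left.trans hBQ) inf_le_right)

/-- `(NO)` for `Q_b` on `Y_a`, `a ~ b` -/
theorem nobY2 {a b B : Subgroup G} (h : Adj Z a b) (hB : IsElementaryAbelian 2 B) (hBQ : B ≤ QQ b) :
    Nob (YY Z X a) B :=
  nob_of (NN_le_YY P F hX) (hNO b a (P.adj_symm h) B hB hBQ)
    (nobY1 P F hX hc2 hNO (eab_mono hB inf_le_left) (P.f3 h (inf_le_left.trans hBQ) inf_le_right))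

theorem nobT1 {a B : Subgroup G} (ha : IsPt Z a) (hB : IsElementaryAbelian 2 B) (hBQ : B ≤ QQ a) :
    Nob (MM Z a ⊔ NN Z a) B :=
  nob_of le_sup_left (MM_no P (hC P F hX) hNO hB hBQ) (nob_of_le (comm_symm (sup_le (comm_symm inf_le_right)
    (comm_symm (inf_le_left.trans (hBQ.trans (P.QQ_le_cent ha)))))))

theorem nobT2 {a b B : Subgroup G} (h : Adj Z a b) (hB : IsElementaryAbelian 2 B) (hBQ : B ≤ QQ b) :
    Nob (MM Z a ⊔ NN Z a) B :=
  nob_of le_sup_right (hNO b a (P.adj_symm h) B hB hBQ)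
    (nobT1 P F hX hc2 hNO h.pt (eab_mono hB inf_le_left) (P.f3 h (inf_le_left.trans hBQ) inf_le_right))

/-- `AA Q` for `Q ≥ Y` : exact on `Y_a` -/
theorem exaY {a A Q : Subgroup G} (hYQ : YY Z X a ≤ Q) (hA : A ∈ AA Q) (h : Nob (YY Z X a) A) :
    Exa (YY Z X a) A :=
  (swp (YY_eab P F hX) hYQ hA h).1

/-- the element `g` of TEXT R5 (4) (a) -/
def Sep (Z : Fin 2 → Subgroup G) (X : Subgroup G → Subgroup G) (a u : Subgroup G) : Prop :=
  ∃ g ∈ QQ a, g ∈ centralizer (MM Z a : Set G) ∧ (∀ p : Subgroup G, Adj Z a p → p ≠ u →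
    g ∈ centralizer (X p : Set G)) ∧ g ∉ centralizer (X u : Set G)

omit P F hX hc2 hNO [Finite G] in
theorem mem_cent_conj {g x : G} {A : Subgroup G} :
    g * x * g⁻¹ ∈ centralizer ((MulAut.conj g • A : Subgroup G) : Set G) ↔ x ∈ centralizer (A : Set G) := by
  constructor
  · intro h
    refine mem_centralizer_iff.2 fun y hy => ?_
    have h1 : g * y * g⁻¹ ∈ ((MulAut.conj g • A : Subgroup G) : Set G) := ⟨y, hy, rfl⟩
    have h2 := mem_centralizer_iff.1 h _ h1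
    have h3 : g * (y * x) * g⁻¹ = g * (x * y) * g⁻¹ := by
      calc g * (y * x) * g⁻¹ = g * y * g⁻¹ * (g * x * g⁻¹) := by group
        _ = g * x * g⁻¹ * (g * y * g⁻¹) := h2
        _ = _ := by group
    exact mul_left_cancel (mul_right_cancel h3)
  · intro h
    refine mem_centralizer_iff.2 ?_
    rintro _ ⟨y, hy, rfl⟩
    have h2 := mem_centralizer_iff.1 h y hy
    change g * y * g⁻¹ * (g * x * g⁻¹) = g * x * g⁻¹ * (g * y * g⁻¹)
    calc g * y * g⁻¹ * (g * x * g⁻¹) = g * (y * x) * g⁻¹ := by group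
      _ = g * (x * y) * g⁻¹ := by rw [h2]
      _ = _ := by group

omit [Finite G] hX hc2 hNO in
theorem Sep.conj {a u : Subgroup G} (hau : Adj Z a u) (h : Sep Z X a u) (k : G) :
    Sep Z X (MulAut.conj k • a) (MulAut.conj k • u) := by
  obtain ⟨g, hg, hgM, hgX, hgu⟩ := h
  refine ⟨k * g * k⁻¹, ?_, ?_, fun p hp hne => ?_, ?_⟩
  · rw [QQ_conj]
    exact ⟨g, hg, rfl⟩
  · rw [MM_conj, mem_cent_conj]
    exact hgM
  · have h1 : Adj Z a (MulAut.conj k⁻¹ • p) := by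
      have h2 := hp.conj k⁻¹
      rwa [inv_conj_conj] at h2
    have h2 : MulAut.conj k⁻¹ • p ≠ u := by
      rintro rfl
      exact hne (conj_inv_conj k p).symm
    have h3 := hgX _ h1 h2
    rw [← mem_cent_conj (g := k), ← F.conj k _ (P.adj_pt h1), conj_inv_conj] at h3
    exact h3
  · rw [F.conj k _ (P.adj_pt hau), mem_cent_conj]
    exact hgu

omit P F hX hc2 hNO [Finite G] in
theorem not_le_iSup {ι : Sort*} {N : ι → Subgroup G} {B : Subgroup G}
    (h : ¬ B ≤ centralizer ((⨆ i, N i : Subgroup G) : Set G)) : ∃ i, ¬ B ≤ centralizer (N i : Set G) := by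
  by_contra hcon
  push Not at hcon
  exact h (comm_symm (iSup_le fun i => comm_symm (hcon i)))

variable (hG : ThmG Z X)

include hG in
/-- some `B ∈ AA Q_a` centralises `M_a` and moves `Y_a` -/
theorem exists_B (hne : jj (QQ (Z 0)) ≠ ⊥) {a u₀ : Subgroup G} (h₀ : Adj Z a u₀) :
    ∃ B ∈ AA (QQ a), B ≤ centralizer (MM Z a : Set G) ∧ ¬ B ≤ centralizer (YY Z X a : Set G) := by
  obtain ⟨B, hB⟩ := exists_minA_MM P (hC P F hX) hne h₀
  obtain ⟨⟨u, hau⟩, hu⟩ := not_le_iSup hB.mov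
  replace hu : ¬ B ≤ centralizer (NN Z u : Set G) := hu
  obtain ⟨h1, -, -, -, -⟩ := hB.nbr P (hC P F hX) hNO hau hu
  obtain ⟨-, -, h2, -⟩ := exact P (hC1 P (hC P F hX)) hNO hau hB.mem
  refine ⟨_, h2, sup_le h1 ((NN_le_MM P (hC P F hX) hau).trans (MM_comm P (hC P F hX))), fun hcon => ?_⟩
  -- `C_B(N_u)` centralises `X_u`
  have h3 : B ⊓ centralizer (NN Z u : Set G) ≤ centralizer (X u : Set G) :=
    (le_sup_left.trans hcon).trans (centralizer_le (X_le_YY hau))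
  obtain ⟨-, h4⟩ := exa_peel (N := YY Z X a) (V := NN Z u) (B := B)
    ((F.NX _ (P.adj_pt hau)).trans (X_le_YY hau))
    (exaY P F hX hc2 hNO (YY_le_QQ P F hX) hB.mem (nobY1 P F hX hc2 hNO hB.mem.1 hB.mem.2.1))
    (hNO a u hau B hB.mem.1 hB.mem.2.1)
    (nobY1 P F hX hc2 hNO (eab_mono hB.mem.1 inf_le_left) (inf_le_left.trans hB.mem.2.1))
  apply hu
  intro g hg
  have hgu : g ∈ HH u := P.QQ_le_HH (P.adj_symm hau) (hB.mem.2.1 hg)
  refine hG u (P.adj_pt hau) g hgu fun x hx => ?_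
  have h5 : x ∈ YY Z X a ⊓ centralizer ((B ⊓ centralizer (NN Z u : Set G) : Subgroup G) : Set G) :=
    ⟨X_le_YY hau hx, mem_centralizer_iff.2 fun b hb => (mem_centralizer_iff.1 (h3 hb) x hx).symm⟩
  obtain ⟨n, hn, y, hy, rfl⟩ := exists_mul_of_comm (V := NN Z u) (D := YY Z X a ⊓ centralizer (B : Set G))
    (((F.NX _ (P.adj_pt hau)).trans (X_le_YY hau)).trans ((YY_comm P F hX).trans (centralizer_le inf_le_left))) (h4 h5)
  have e1 : g * y = y * g := mem_centralizer_iff.1 hy.2 g hg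
  have e2 : n * y * g * (n * y)⁻¹ * g⁻¹ = n * (g * n⁻¹ * g⁻¹) := by
    calc n * y * g * (n * y)⁻¹ * g⁻¹ = n * (y * g) * y⁻¹ * n⁻¹ * g⁻¹ := by group
      _ = n * (g * y) * y⁻¹ * n⁻¹ * g⁻¹ := by rw [e1]
      _ = _ := by group
  rw [e2]
  exact mul_mem hn ((mem_normalizer_iff.1 (PP.HH_le_NN u hgu) _).1 (inv_mem hn))

include hG in
/-- **(a)** -/
theorem sep (hne : jj (QQ (Z 0)) ≠ ⊥) {a u : Subgroup G} (h : Adj Z a u) : Sep Z X a u := by
  obtain ⟨B, hB, hBM, hBY⟩ := exists_B P F hX hc2 hNO hG hne h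
  set Q' := QQ a ⊓ centralizer (MM Z a : Set G) with hQ'
  have hBQ' : B ∈ AA Q' := ⟨hB.1, le_inf hB.2.1 hBM, fun D hD hDQ => hB.2.2 D hD (hDQ.trans inf_le_left)⟩
  obtain ⟨C, hCm⟩ := exists_minA hBQ' hBY
  obtain ⟨⟨u', hau'⟩, hu'⟩ := not_le_iSup hCm.mov
  replace hu' : ¬ C ≤ centralizer (X u' : Set G) := hu'
  have hCQ : C ≤ QQ a := hCm.mem.2.1.trans inf_le_left
  have hCM : C ≤ centralizer (MM Z a : Set G) := hCm.mem.2.1.trans inf_le_right
  have hCu : ∀ p, Adj Z a p → C ≤ QQ p := fun p hp => cent_MM_le P F hX hp hCQ hCM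
  have hYQ' : YY Z X a ≤ Q' :=
    le_inf (YY_le_QQ P F hX) ((YY_comm P F hX).trans (centralizer_le (MM_le_YY P F hX)))
  obtain ⟨-, -, -, h4⟩ := hCm.cap (YY_eab P F hX) hYQ' (X_le_YY hau') hu'
    (nobX F hc2 (P.adj_pt hau') hCm.mem.1 (hCu _ hau'))
  obtain ⟨g, hgC, hgu⟩ := SetLike.not_le_iff_exists.1 hu'
  have h5 : Sep Z X a u' := by
    refine ⟨g, hCQ hgC, hCM hgC, fun p hp hne' => ?_, hgu⟩
    refine mem_centralizer_iff.2 fun x hx => ?_
    have h6 : x * g * x⁻¹ * g⁻¹ ∈ u' := by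
      obtain ⟨v, hv, e⟩ := h4 x (X_le_YY hp hx) g hgC
      rw [e]
      exact F.com u' (P.adj_pt hau') v hv g (hCu _ hau' hgC)
    have h7 : x * g * x⁻¹ * g⁻¹ ∈ p := F.com p (P.adj_pt hp) x hx g (hCu _ hp hgC)
    have h8 := pt_inf hc2 (P.adj_pt hp) (P.adj_pt hau') hne' h7 h6
    calc x * g = (x * g * x⁻¹ * g⁻¹) * (g * x) := by group
      _ = g * x := by rw [h8, one_mul]
  -- all pairs are conjugate
  obtain ⟨k, hk0, hk1⟩ := hau'
  obtain ⟨l, hl0, hl1⟩ := h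
  have h9 := h5.conj P F ⟨k, hk0, hk1⟩ (l * k⁻¹)
  have e : ∀ A B C : Subgroup G, A = MulAut.conj k • C → B = MulAut.conj l • C → MulAut.conj (l * k⁻¹) • A = B := by
    rintro _ _ C rfl rfl
    rw [conj_conj, inv_mul_cancel_right]
  rwa [e _ _ _ hk0 hl0, e _ _ _ hk1 hl1] at h9

include hG in
/-- **TEXT R5 (4)**: least distance at least three is impossible. -/
theorem false_of_three (hne : jj (QQ (Z 0)) ≠ ⊥) : False := by
  have h0 : IsPt Z (Z 0) := ⟨1, by rw [map_one, one_smul]⟩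
  have hab : Adj Z (Z 0) (Z 1) := ⟨1, by rw [map_one, one_smul], by rw [map_one, one_smul]⟩
  obtain ⟨A, hA, hmov⟩ := moves P hne (P.adj_symm hab)
  set a := Z 0 with ha
  set b := Z 1 with hb
  obtain ⟨u, hau, hu⟩ : ∃ u : Subgroup G, Adj Z a u ∧ ¬ A ≤ centralizer (u : Set G) := by
    by_contra hcon
    push Not at hcon
    exact hmov (comm_symm (sSup_le fun u hu => comm_symm (hcon u hu)))
  obtain ⟨x, hxA, hxu⟩ := SetLike.not_le_iff_exists.1 hu
  have hAab := (eab_iff.1 hA.1).1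
  have hAa : A ≤ HH a := hA.2.1.trans (P.QQ_le_HH hab)
  have hxa : MulAut.conj x • a = a := Cfsg.Agent.Omega.NOThreeL.Pair.conj_eq_of_mem (hAa hxA)
  set u' := MulAut.conj x • u with hu'
  have hau' : Adj Z a u' := by
    have h1 := hau.conj x
    rwa [hxa] at h1
  have hupt := P.adj_pt hau
  have hne' : u' ≠ u := by
    intro e
    apply hxu
    have h1 : x ∈ HH u := by
      refine ChoiceBase.mem_normalizer_iff_cj.2 ?_
      exact e
    obtain ⟨c, hc, -, -, hall, hcH⟩ := pt_two hc2 hupt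
    refine mem_centralizer_iff.2 fun y hy => ?_
    rcases hall y hy with e | e
    · rw [e, one_mul, mul_one]
    · rw [e]; exact (hcH x h1).symm
  obtain ⟨g, hgQ, hgM, hgX, hgu⟩ := sep P F hX hc2 hNO hG hne hau
  set T := MM Z a ⊔ NN Z a with hT
  have hTY : T ≤ YY Z X a := sup_le (MM_le_YY P F hX) (NN_le_YY P F hX)
  set AM := A ⊓ centralizer (T : Set G) with hAM
  have hAMQ : AM ≤ QQ a := P.f3 hab (inf_le_left.trans hA.2.1) (inf_le_right.trans (centralizer_le (le_sup_right : NN Z a ≤ T)))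
  have hAMe : IsElementaryAbelian 2 AM := eab_mono hA.1 inf_le_left
  have hAMM : AM ≤ centralizer (MM Z a : Set G) := inf_le_right.trans (centralizer_le (le_sup_left : MM Z a ≤ T))
  have hAMu : ∀ p, Adj Z a p → AM ≤ QQ p := fun p hp => cent_MM_le P F hX hp hAMQ hAMM
  have hE := exaY P F hX hc2 hNO (YY_le_QQ' P F hX hab) hA (nobY2 P F hX hc2 hNO hab hA.1 hA.2.1)
  obtain ⟨h1, h2⟩ := exa_peel hTY hE (nobT2 P F hX hc2 hNO hab hA.1 hA.2.1) (nobY1 P F hX hc2 hNO hAMe hAMQ)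
  obtain ⟨-, h3⟩ := exa_peel (X_le_YY hau) h1 (nobX F hc2 hupt hAMe (hAMu _ hau))
    (nobY1 P F hX hc2 hNO (eab_mono hAMe inf_le_left) (inf_le_left.trans hAMQ))
  have hYc := YY_comm P F hX (a := a)
  have hXu' : X u' = MulAut.conj x • X u := F.conj x u hupt
  -- `A_M` centralises `X_u'`
  have h4 : AM ≤ centralizer (X u' : Set G) := by
    intro y hy
    refine mem_centralizer_iff.2 fun s hs => ?_
    have h5 : s ∈ YY Z X a ⊓ centralizer ((AM ⊓ centralizer (X u : Set G) : Subgroup G) : Set G) := by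
      refine ⟨X_le_YY hau' hs, mem_centralizer_iff.2 fun w hw => ?_⟩
      rw [hXu'] at hs
      obtain ⟨t, ht, rfl⟩ := hs
      have e1 : x * w = w * x := mem_centralizer_iff.1 (hAab hw.1.1) x hxA
      have e2 : t * w = w * t := mem_centralizer_iff.1 hw.2 t ht
      change w * (x * t * x⁻¹) = x * t * x⁻¹ * w
      have e3 : x⁻¹ * w = w * x⁻¹ := mem_centralizer_iff.1 (hAab hw.1.1) x⁻¹ (inv_mem hxA)
      calc w * (x * t * x⁻¹) = (w * x) * t * x⁻¹ := by group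
        _ = x * (w * t) * x⁻¹ := by rw [← e1]; group
        _ = x * t * (w * x⁻¹) := by rw [← e2]; group
        _ = x * t * x⁻¹ * w := by rw [← e3]; group
    obtain ⟨v, hv, w, hw, rfl⟩ := exists_mul_of_comm (V := X u)
      (D := YY Z X a ⊓ centralizer (AM : Set G)) ((X_le_YY hau).trans (hYc.trans (centralizer_le inf_le_left))) (h3 h5)
    have e1 : y * w = w * y := mem_centralizer_iff.1 hw.2 y hy
    have e2 : v * w * y * (v * w)⁻¹ * y⁻¹ = v * y * v⁻¹ * y⁻¹ := by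
      calc v * w * y * (v * w)⁻¹ * y⁻¹ = v * (w * y) * w⁻¹ * v⁻¹ * y⁻¹ := by group
        _ = v * (y * w) * w⁻¹ * v⁻¹ * y⁻¹ := by rw [e1]
        _ = _ := by group
    have h6 : v * w * y * (v * w)⁻¹ * y⁻¹ ∈ u := by
      rw [e2]
      exact F.com u hupt v hv y (hAMu _ hau hy)
    have h7 : v * w * y * (v * w)⁻¹ * y⁻¹ ∈ u' := F.com u' (P.adj_pt hau') _ hs y (hAMu _ hau' hy)
    have h8 := pt_inf hc2 (P.adj_pt hau') hupt hne' h7 h6
    calc v * w * y = (v * w * y * (v * w)⁻¹ * y⁻¹) * (y * (v * w)) := by group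
      _ = y * (v * w) := by rw [h8, one_mul]
  -- `A_M` centralises `X_u`
  have h5 : AM ≤ centralizer (X u : Set G) := by
    intro y hy
    have e1 : x * y * x⁻¹ = y := by
      have : x * y = y * x := mem_centralizer_iff.1 (hAab hy.1) x hxA
      rw [this]; group
    have h6 := h4 hy
    rw [hXu', ← e1, mem_cent_conj] at h6
    exact h6
  -- `X_u ≤ T X_u'`
  apply hgu
  refine mem_centralizer_iff.2 fun s hs => ?_
  have hgT : g ∈ centralizer (T : Set G) := by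
    have h6 : T ≤ centralizer ({g} : Set G) := by
      refine sup_le (fun t ht => ?_) fun t ht => ?_
      · rw [mem_centralizer_singleton_iff]
        exact mem_centralizer_iff.1 hgM t ht
      · rw [mem_centralizer_singleton_iff]
        exact mem_centralizer_iff.1 (P.QQ_le_cent h0 hgQ) t ht
    exact mem_centralizer_iff.2 fun t ht => mem_centralizer_singleton_iff.1 (h6 ht)
  have hxT : ∀ t ∈ T, x * t * x⁻¹ ∈ T := by
    intro t ht
    have h6 : MulAut.conj x • T = T := by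
      rw [hT, Subgroup.smul_sup, ← MM_conj, ← NN_conj, hxa]
    rw [← h6]
    exact ⟨t, ht, rfl⟩
  obtain ⟨t, ht, c, hc, rfl⟩ := exists_mul_of_comm (V := T) (D := YY Z X a ⊓ centralizer (A : Set G))
    (hTY.trans (hYc.trans (centralizer_le inf_le_left)))
    (h2 ⟨X_le_YY hau hs, mem_centralizer_iff.2 fun y hy => (mem_centralizer_iff.1 (h5 hy) s hs).symm⟩)
  have e1 : x * c = c * x := mem_centralizer_iff.1 hc.2 x hxA
  have e2 : x * (t * c) * x⁻¹ = x * t * x⁻¹ * c := by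
    calc x * (t * c) * x⁻¹ = x * t * x⁻¹ * (x * c) * x⁻¹ := by group
      _ = x * t * x⁻¹ * (c * x) * x⁻¹ := by rw [e1]
      _ = x * t * x⁻¹ * c := by group
  have k1 : t ∈ centralizer ({g} : Set G) := by
    rw [mem_centralizer_singleton_iff]
    exact mem_centralizer_iff.1 hgT t ht
  have k2 : x * t * x⁻¹ ∈ centralizer ({g} : Set G) := by
    rw [mem_centralizer_singleton_iff]
    exact mem_centralizer_iff.1 hgT _ (hxT t ht)
  have k3 : x * t * x⁻¹ * c ∈ centralizer ({g} : Set G) := by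
    rw [mem_centralizer_singleton_iff, ← e2]
    refine mem_centralizer_iff.1 (hgX u' hau' hne') _ ?_
    rw [hXu']
    exact ⟨_, hs, rfl⟩
  have k4 : c ∈ centralizer ({g} : Set G) := by
    have := mul_mem (inv_mem k2) k3
    rwa [inv_mul_cancel_left] at this
  exact mem_centralizer_singleton_iff.1 (mul_mem k1 k4)

end main

/-! ### The groups `X_a = W_a N_a` -/

/-- `X_a = W_a N_a` -/
def XW (Z U : Fin 2 → Subgroup G) (a : Subgroup G) : Subgroup G :=
  NN Z a ⊔ ⨆ l : {l : Subgroup G // LnOn Z U a l}, (l : Subgroup G)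

section XW

variable {Z U : Fin 2 → Subgroup G}

omit [Finite G] in
theorem XW_conj (g : G) (a : Subgroup G) : XW Z U (MulAut.conj g • a) = MulAut.conj g • XW Z U a := by
  have key : ∀ (g : G) (a : Subgroup G), XW Z U (MulAut.conj g • a) ≤ MulAut.conj g • XW Z U a := by
    intro g a
    refine sup_le ?_ (iSup_le ?_)
    · rw [NN_conj]
      exact conj_le_iff.2 le_sup_left
    · rintro ⟨l, hl⟩
      have h1 : LnOn Z U a (MulAut.conj g⁻¹ • l) := by
        have h2 := hl.conj g⁻¹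
        rwa [inv_conj_conj] at h2
      have h2 : MulAut.conj g⁻¹ • l ≤ XW Z U a :=
        (le_iSup (fun l : {l : Subgroup G // LnOn Z U a l} => (l : Subgroup G)) ⟨_, h1⟩).trans le_sup_right
      have h3 := conj_le_iff (g := g) |>.2 h2
      rwa [conj_inv_conj] at h3
  refine le_antisymm (key g a) ?_
  have h1 := key g⁻¹ (MulAut.conj g • a)
  rw [inv_conj_conj] at h1
  have h2 := conj_le_iff (g := g) |>.2 h1
  rwa [conj_inv_conj] at h2

omit [Finite G] in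
theorem ln_le_XW {a l : Subgroup G} (h : LnOn Z U a l) : l ≤ XW Z U a :=
  (le_iSup (fun l : {l : Subgroup G // LnOn Z U a l} => (l : Subgroup G)) ⟨_, h⟩).trans le_sup_right

omit [Finite G] in
theorem eab_conj {A : Subgroup G} (h : IsElementaryAbelian 2 A) (g : G) :
    IsElementaryAbelian 2 (MulAut.conj g • A : Subgroup G) := by
  rw [eab_iff] at *
  refine ⟨conj_le_centralizer h.1, ?_⟩
  rintro _ ⟨x, hx, rfl⟩
  change (g * x * g⁻¹) ^ 2 = 1
  rw [conj_pow, h.2 x hx, mul_one, mul_inv_cancel]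

omit [Finite G] in
/-- The axioms of `X_a` for `W_a N_a`. -/
theorem xf (P : PP Z U) (hab : IsElementaryAbelian 2 (XW Z U (Z 0))) (hle : XW Z U (Z 0) ≤ QQ (Z 0)) :
    XF Z (XW Z U) := by
  have h0 : IsPt Z (Z 0) := ⟨1, by rw [map_one, one_smul]⟩
  have hl0 : LnOn Z U (Z 0) (U 0) := ⟨1, by rw [map_one, one_smul], by rw [map_one, one_smul]⟩
  refine ⟨fun g a _ => XW_conj g a, fun a _ => le_sup_left, ?_, ?_, ?_, ?_⟩
  · rintro _ ⟨k, rfl⟩
    rw [XW_conj]
    exact conj_le_iff.2 (P.ZU.trans (ln_le_XW hl0))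
  · rintro _ ⟨k, rfl⟩
    rw [XW_conj, QQ_conj]
    exact conj_le_iff.2 hle
  · rintro _ ⟨k, rfl⟩
    rw [XW_conj]
    exact eab_conj hab k
  · intro a ha x hx y hy
    have hXX : XW Z U a ≤ centralizer (XW Z U a : Set G) := by
      obtain ⟨k, rfl⟩ := ha
      rw [XW_conj]
      exact (eab_iff.1 (eab_conj hab k)).1
    have haX : a ≤ XW Z U a := by
      obtain ⟨k, rfl⟩ := ha
      rw [XW_conj]
      exact conj_le_iff.2 (P.ZU.trans (ln_le_XW hl0))
    let K : Subgroup G :=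
      { carrier := {x | x ∈ XW Z U a ∧ x * y * x⁻¹ * y⁻¹ ∈ a}
        one_mem' := ⟨one_mem _, by simp⟩
        mul_mem' := by
          rintro x₁ x₂ ⟨h1, h2⟩ ⟨h3, h4⟩
          refine ⟨mul_mem h1 h3, ?_⟩
          have e1 := mem_centralizer_iff.1 (hXX h1) _ (haX h4)
          have e2 : x₁ * x₂ * y * (x₁ * x₂)⁻¹ * y⁻¹ =
              x₂ * y * x₂⁻¹ * y⁻¹ * (x₁ * y * x₁⁻¹ * y⁻¹) := by
            calc x₁ * x₂ * y * (x₁ * x₂)⁻¹ * y⁻¹ =
                x₁ * (x₂ * y * x₂⁻¹ * y⁻¹) * (y * x₁⁻¹ * y⁻¹) := by group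
              _ = (x₂ * y * x₂⁻¹ * y⁻¹) * x₁ * (y * x₁⁻¹ * y⁻¹) := by rw [← e1]
              _ = _ := by group
          rw [e2]
          exact mul_mem h4 h2
        inv_mem' := by
          rintro x₁ ⟨h1, h2⟩
          refine ⟨inv_mem h1, ?_⟩
          have e1 := mem_centralizer_iff.1 (hXX (inv_mem h1)) _ (haX (inv_mem h2))
          have e2 : x₁⁻¹ * y * x₁⁻¹⁻¹ * y⁻¹ = (x₁ * y * x₁⁻¹ * y⁻¹)⁻¹ := by
            calc x₁⁻¹ * y * x₁⁻¹⁻¹ * y⁻¹ = x₁⁻¹ * (x₁ * y * x₁⁻¹ * y⁻¹)⁻¹ * x₁ := by group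
              _ = (x₁ * y * x₁⁻¹ * y⁻¹)⁻¹ * x₁⁻¹ * x₁ := by rw [e1]
              _ = _ := by group
          rw [e2]
          exact inv_mem h2 }
    have h1 : XW Z U a ≤ K := by
      refine sup_le (fun n hn => ⟨mem_sup_left hn, ?_⟩) (iSup_le fun l x hx => ⟨ln_le_XW l.2 hx, ?_⟩)
      · have e := mem_centralizer_iff.1 (P.QQ_le_cent ha hy) n hn
        rw [e]
        simp
      · exact P.comm_mem l.2 hx hy
    exact (h1 hx).2

/-- `J(Q_a) ≠ 1` -/
theorem jj_ne (P : PP Z U) : jj (QQ (Z 0)) ≠ ⊥ := by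
  have h0 : IsPt Z (Z 0) := ⟨1, by rw [map_one, one_smul]⟩
  have h01 : Adj Z (Z 0) (Z 1) := ⟨1, by rw [map_one, one_smul], by rw [map_one, one_smul]⟩
  intro e
  obtain ⟨A, hA⟩ := AA_nonempty (QQ (Z 0))
  have h1 : A = ⊥ := by
    rw [eq_bot_iff, ← e]
    exact ChoiceBase.le_jj hA
  have h2 := NN_le P h0 hA
  rw [h1] at h2
  have h3 : Z 1 = ⊥ := le_bot_iff.1 (h01.le_NN.trans h2)
  obtain ⟨s, hs0, -, -, -⟩ := P.swap
  apply P.ne
  have h4 : MulAut.conj s • Z 0 ≤ MulAut.conj s • (⊥ : Subgroup G) := by rw [hs0, h3]; exact bot_le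
  exact le_bot_iff.1 (conj_le_iff.1 h4)

/-- **TEXT R5 (4), for `X_a = W_a N_a`.** -/
theorem far (P : PP Z U) (hab : IsElementaryAbelian 2 (XW Z U (Z 0))) (hle : XW Z U (Z 0) ≤ QQ (Z 0))
    (hc2 : Nat.card (Z 0) = 2) (hNO : NoP Z) (hG : ThmG Z (XW Z U)) :
    ∃ d a b, d ≤ 1 ∧ Pth Z (d + 1) a b ∧ ¬ XW Z U a ≤ centralizer (XW Z U b : Set G) ∧
      ∀ m ≤ d, ∀ a b, Pth Z m a b → XW Z U a ≤ centralizer (XW Z U b : Set G) := by
  classical
  have F := xf P hab hle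
  have hex : ∃ n ≤ 2, ∃ a b, Pth Z n a b ∧ ¬ XW Z U a ≤ centralizer (XW Z U b : Set G) := by
    by_contra hcon
    push Not at hcon
    exact false_of_three P F hcon hc2 hNO hG (jj_ne P)
  obtain ⟨n, ⟨hn2, a, b, hab', hne⟩, hmin⟩ : ∃ n, (n ≤ 2 ∧ ∃ a b, Pth Z n a b ∧
      ¬ XW Z U a ≤ centralizer (XW Z U b : Set G)) ∧
      ∀ m < n, ¬ (m ≤ 2 ∧ ∃ a b, Pth Z m a b ∧ ¬ XW Z U a ≤ centralizer (XW Z U b : Set G)) :=
    ⟨Nat.find hex, Nat.find_spec hex, fun m hm => Nat.find_min hex hm⟩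
  have hn : n ≠ 0 := by
    rintro rfl
    cases hab' with
    | zero h => exact hne (eab_iff.1 (F.eab _ h)).1
  obtain ⟨d, rfl⟩ := Nat.exists_eq_succ_of_ne_zero hn
  refine ⟨d, a, b, by omega, hab', hne, fun m hm a b h => ?_⟩
  by_contra h1
  exact hmin m (by omega) ⟨by omega, a, b, h, h1⟩

end XW

end Cfsg.Agent.Omega.OM.PG.Peel

end

section


/-!
# THEOREM R (bb OMEGA #21425), part (6): the peeling at one vertex (TEXT R5 #19750 (4)), abstract form

`PD Q Q₁ N₀ N X c` : a family of elementary abelian groups `N u ≤ X u ≤ Q ⊓ Q₁` generating an abelian group `Y`,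
`[X u, C_Q(N u)] ≤ ⟨c u⟩`, (NO) for `Q` on `N u` and for `Q₁` on `N₀ ≤ Y`, `C_{Q₁}(N₀) ≤ Q ≤ C(N₀)`.

* `sep` : if some `A ∈ AA Q` moves some `N u`, and no `A ∈ AA Q` which moves `N u` satisfies `C_A(N u) ≤ C(X u)`, then
  some `g ∈ Q` centralises all `N u` and all `X p`, `c p ≠ c u`, but not `X u`, for some `u`;
* `false_of` : then the groups in `AA Q₁` do not move `X u`, for such `u`.
-/

set_option autoImplicit false
set_option linter.unusedSectionVars false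

namespace Cfsg.Agent.Omega.TC.RSix.Peel

open Subgroup Cfsg Cfsg.Agent.ZN Cfsg.Agent.Omega.MinPar
open Cfsg.Agent.ZN.ChoiceBase (AA)
open Cfsg.Agent.Omega.NoFF.Basic (comm_symm)
open Cfsg.Agent.Omega.NO3S.EThree.ExactA (eab_iff eab_sup eab_mono swp no_sup MinA exists_minA)
open Cfsg.Agent.Omega.OM.PG.Peel (Nob Exa nob_of nob_of_le exa_peel nob_two exists_mul_of_comm not_le_iSup)
open scoped Pointwise

universe u

variable {G : Type u} [Group G]

/-- The data at one vertex. -/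
structure PD {ι : Type*} (Q Q₁ N₀ : Subgroup G) (N X : ι → Subgroup G) (c : ι → G) : Prop where
  NX : ∀ u, N u ≤ X u
  cc : ∀ u, c u * c u = 1
  Xc : ∀ u p, X u ≤ centralizer (X p : Set G)
  Xsq : ∀ u, ∀ x ∈ X u, x ^ 2 = 1
  XQ : ∀ u, X u ≤ Q
  XQ1 : ∀ u, X u ≤ Q₁
  N0 : N₀ ≤ ⨆ u, X u
  QN0 : Q ≤ centralizer (N₀ : Set G)
  Q1N0 : Q₁ ⊓ centralizer (N₀ : Set G) ≤ Q
  cQ : ∀ u, ∀ g ∈ Q, g ∈ centralizer (N u : Set G) → g * c u = c u * g
  com : ∀ u, ∀ x ∈ X u, ∀ g ∈ Q, g ∈ centralizer (N u : Set G) → g * x * g⁻¹ = x ∨ g * x * g⁻¹ = x * c u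
  noN : ∀ u, ∀ B : Subgroup G, IsElementaryAbelian 2 B → B ≤ Q → Nob (N u) B
  no0 : ∀ B : Subgroup G, IsElementaryAbelian 2 B → B ≤ Q₁ → Nob N₀ B

variable [Finite G] {ι : Type*} {Q Q₁ N₀ : Subgroup G} {N X : ι → Subgroup G} {c : ι → G}
  (D : PD Q Q₁ N₀ N X c)

include D

theorem Y_comm : (⨆ u, X u) ≤ centralizer ((⨆ u, X u : Subgroup G) : Set G) :=
  iSup_le fun u => comm_symm (iSup_le fun p => D.Xc p u)

theorem Y_eab : IsElementaryAbelian 2 (⨆ u, X u : Subgroup G) := by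
  rw [eab_iff]
  exact ⟨Y_comm D, NoFF.Lines.Geo.sq_of_comm (Y_comm D) (ι := ι) (B := X) (fun u => le_iSup X u) le_rfl D.Xsq⟩

theorem X_eab (u : ι) : IsElementaryAbelian 2 (X u) := eab_mono (Y_eab D) (le_iSup X u)

theorem N_eab (u : ι) : IsElementaryAbelian 2 (N u) := eab_mono (X_eab D u) (D.NX u)

theorem Y_le_Q : (⨆ u, X u) ≤ Q := iSup_le D.XQ

theorem Y_le_Q1 : (⨆ u, X u) ≤ Q₁ := iSup_le D.XQ1

theorem M_le_Y : (⨆ u, N u) ≤ ⨆ u, X u := iSup_mono D.NX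

theorem M_comm : (⨆ u, N u) ≤ centralizer ((⨆ u, N u : Subgroup G) : Set G) :=
  ((M_le_Y D).trans (Y_comm D)).trans (centralizer_le (M_le_Y D))

/-- `(NO)` for `C_Q(N u)` on `X u` -/
theorem nobX (u : ι) {B : Subgroup G} (hB : IsElementaryAbelian 2 B) (hBQ : B ≤ Q ⊓ centralizer (N u : Set G)) :
    Nob (X u) B :=
  nob_two (Q := Q ⊓ centralizer (N u : Set G)) (D.cc u) (fun b hb => D.cQ u b hb.1 hb.2)
    (fun x hx b hb => D.com u x hx b hb.1 hb.2) hB hBQ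

theorem nobY0 {B : Subgroup G} (hB : IsElementaryAbelian 2 B)
    (hBQ : B ≤ Q ⊓ centralizer ((⨆ u, N u : Subgroup G) : Set G)) : Nob (⨆ u, X u) B :=
  no_sup (N := X) (M := ⨆ u, X u) (Q := Q ⊓ centralizer ((⨆ u, N u : Subgroup G) : Set G)) (fun u => le_iSup X u)
    le_rfl (fun u _ hB hBQ => nobX D u hB (hBQ.trans (inf_le_inf_left _ (centralizer_le (le_iSup N u))))) B hB hBQ

theorem nobM {B : Subgroup G} (hB : IsElementaryAbelian 2 B) (hBQ : B ≤ Q) : Nob (⨆ u, N u) B :=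
  no_sup (N := N) (M := ⨆ u, N u) (Q := Q) (fun u => le_iSup N u) le_rfl (fun u B hB hBQ => D.noN u B hB hBQ) B hB hBQ

theorem nobY1 {B : Subgroup G} (hB : IsElementaryAbelian 2 B) (hBQ : B ≤ Q) : Nob (⨆ u, X u) B :=
  nob_of (M_le_Y D) (nobM D hB hBQ) (nobY0 D (eab_mono hB inf_le_left) (inf_le_inf_right _ hBQ))

theorem nobY2 {B : Subgroup G} (hB : IsElementaryAbelian 2 B) (hBQ : B ≤ Q₁) : Nob (⨆ u, X u) B :=
  nob_of D.N0 (D.no0 B hB hBQ) (nobY1 D (eab_mono hB inf_le_left) ((inf_le_inf_right _ hBQ).trans D.Q1N0))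

theorem nobT1 {B : Subgroup G} (hB : IsElementaryAbelian 2 B) (hBQ : B ≤ Q) : Nob ((⨆ u, N u) ⊔ N₀) B :=
  nob_of le_sup_left (nobM D hB hBQ) (nob_of_le (comm_symm (sup_le (comm_symm inf_le_right)
    (comm_symm (inf_le_left.trans (hBQ.trans D.QN0))))))

theorem nobT2 {B : Subgroup G} (hB : IsElementaryAbelian 2 B) (hBQ : B ≤ Q₁) : Nob ((⨆ u, N u) ⊔ N₀) B :=
  nob_of le_sup_right (D.no0 B hB hBQ) (nobT1 D (eab_mono hB inf_le_left) ((inf_le_inf_right _ hBQ).trans D.Q1N0))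

/-- exactness of the members of `AA R` on `Y`, `R ≥ Y` -/
theorem exaY {A R : Subgroup G} (hYR : (⨆ u, X u) ≤ R) (hA : A ∈ AA R) (h : Nob (⨆ u, X u) A) : Exa (⨆ u, X u) A :=
  (swp (Y_eab D) hYR hA h).1

/-- some `B ∈ AA Q` centralises all `N u` and moves some `X u` -/
theorem exists_B (hmv : ∃ A ∈ AA Q, ¬ A ≤ centralizer ((⨆ u, N u : Subgroup G) : Set G))
    (h1b : ∀ u, ∀ A ∈ AA Q, ¬ A ≤ centralizer (N u : Set G) →
      ¬ A ⊓ centralizer (N u : Set G) ≤ centralizer (X u : Set G)) :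
    ∃ B ∈ AA Q, B ≤ centralizer ((⨆ u, N u : Subgroup G) : Set G) ∧
      ¬ B ≤ centralizer ((⨆ u, X u : Subgroup G) : Set G) := by
  obtain ⟨A₀, hA₀, hmv₀⟩ := hmv
  obtain ⟨A, hA⟩ := exists_minA hA₀ hmv₀
  obtain ⟨u, hu⟩ := not_le_iSup hA.mov
  have hM : IsElementaryAbelian 2 (⨆ u, N u : Subgroup G) := eab_mono (Y_eab D) (M_le_Y D)
  have hMQ : (⨆ u, N u) ≤ Q := (M_le_Y D).trans (Y_le_Q D)
  have hno := D.noN u A hA.mem.1 hA.mem.2.1
  obtain ⟨h1, -, -, -⟩ := hA.cap hM hMQ (le_iSup N u) hu hno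
  obtain ⟨-, -, h2⟩ := swp (N_eab D u) ((le_iSup N u).trans hMQ) hA.mem hno
  refine ⟨_, h2, sup_le h1 ((le_iSup N u).trans (M_comm D)), fun hcon => h1b u A hA.mem hu ?_⟩
  exact (le_sup_left.trans hcon).trans (centralizer_le (le_iSup X u))

/-- **(a)** -/
theorem sep (hmv : ∃ A ∈ AA Q, ¬ A ≤ centralizer ((⨆ u, N u : Subgroup G) : Set G))
    (h1b : ∀ u, ∀ A ∈ AA Q, ¬ A ≤ centralizer (N u : Set G) →
      ¬ A ⊓ centralizer (N u : Set G) ≤ centralizer (X u : Set G)) :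
    ∃ u, ∃ g ∈ Q, g ∈ centralizer ((⨆ u, N u : Subgroup G) : Set G) ∧
      (∀ p, c p ≠ c u → g ∈ centralizer (X p : Set G)) ∧ g ∉ centralizer (X u : Set G) := by
  obtain ⟨B, hB, hBM, hBY⟩ := exists_B D hmv h1b
  set M : Subgroup G := ⨆ u, N u with hM
  set Q' := Q ⊓ centralizer (M : Set G) with hQ'
  have hBQ' : B ∈ AA Q' := ⟨hB.1, le_inf hB.2.1 hBM, fun E hE hEQ => hB.2.2 E hE (hEQ.trans inf_le_left)⟩
  obtain ⟨C, hCm⟩ := exists_minA hBQ' hBY
  obtain ⟨u, hu⟩ := not_le_iSup hCm.mov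
  have hCQ : C ≤ Q := hCm.mem.2.1.trans inf_le_left
  have hCM : C ≤ centralizer (M : Set G) := hCm.mem.2.1.trans inf_le_right
  have hCN : ∀ p, C ≤ centralizer (N p : Set G) := fun p => hCM.trans (centralizer_le (le_iSup N p))
  have hYQ' : (⨆ u, X u) ≤ Q' :=
    le_inf (Y_le_Q D) ((Y_comm D).trans (centralizer_le (M_le_Y D)))
  obtain ⟨-, -, -, h4⟩ := hCm.cap (Y_eab D) hYQ' (le_iSup X u) hu (nobX D u hCm.mem.1 (le_inf hCQ (hCN u)))
  obtain ⟨g, hgC, hgu⟩ := SetLike.not_le_iff_exists.1 hu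
  refine ⟨u, g, hCQ hgC, hCM hgC, fun p hpu => mem_centralizer_iff.2 fun x hx => ?_, hgu⟩
  have key : ∀ q, ∀ y ∈ X q, y * g * y⁻¹ * g⁻¹ = 1 ∨ y * g * y⁻¹ * g⁻¹ = c q := by
    intro q y hy
    have hci : (c q)⁻¹ = c q := inv_eq_of_mul_eq_one_left (D.cc q)
    rcases D.com q y hy g (hCQ hgC) (hCN q hgC) with e | e
    · left
      have e1 : g * y = y * g := mul_inv_eq_iff_eq_mul.1 e
      rw [← e1]; group
    · right
      have e1 : g * y = y * c q * g := mul_inv_eq_iff_eq_mul.1 e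
      have e2 : g * c q = c q * g := D.cQ q g (hCQ hgC) (hCN q hgC)
      have e3 : g * y * c q = y * g := by
        calc g * y * c q = y * c q * (g * c q) := by rw [e1]; group
          _ = y * (c q * c q) * g := by rw [e2]; group
          _ = y * g := by rw [D.cc q, mul_one]
      have e4 : y * c q = c q * y := by
        have e5 : (y * c q) ^ 2 = 1 := by
          rw [← e, conj_pow, D.Xsq q y hy, mul_one, mul_inv_cancel]
        have e6 : y * y = 1 := by rw [← pow_two]; exact D.Xsq q y hy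
        have e7 : y * c q * (y * c q) = 1 := by rw [← pow_two]; exact e5
        calc y * c q = (y * c q)⁻¹ := (inv_eq_of_mul_eq_one_left e7).symm
          _ = c q * y := by rw [mul_inv_rev, hci, inv_eq_of_mul_eq_one_left e6]
      calc y * g * y⁻¹ * g⁻¹ = g * y * c q * y⁻¹ * g⁻¹ := by rw [e3]
        _ = g * (y * c q) * y⁻¹ * g⁻¹ := by group
        _ = g * (c q * y) * y⁻¹ * g⁻¹ := by rw [e4]
        _ = (g * c q) * g⁻¹ := by group
        _ = c q := by rw [e2]; group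
  have h6 : x * g * x⁻¹ * g⁻¹ = 1 ∨ x * g * x⁻¹ * g⁻¹ = c u := by
    obtain ⟨v, hv, e⟩ := h4 x (le_iSup X p hx) g hgC
    rw [e]
    exact key u v hv
  have h7 := key p x hx
  have h8 : x * g * x⁻¹ * g⁻¹ = 1 := by
    rcases h6 with h | h
    · exact h
    · rcases h7 with h' | h'
      · exact h'
      · exact absurd (h'.symm.trans h) hpu
  calc x * g = (x * g * x⁻¹ * g⁻¹) * (g * x) := by group
    _ = g * x := by rw [h8, one_mul]

/-- **TEXT R5 (4) (b)** -/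
theorem false_of {A : Subgroup G} (hA : A ∈ AA Q₁) {x : G} (hxA : x ∈ A) {u u' : ι}
    (hXu : X u' = MulAut.conj x • X u) (huu : c u' ≠ c u)
    (hxT : ∀ t ∈ (⨆ u, N u) ⊔ N₀, x * t * x⁻¹ ∈ (⨆ u, N u) ⊔ N₀) {g : G} (hgQ : g ∈ Q)
    (hgM : g ∈ centralizer ((⨆ u, N u : Subgroup G) : Set G)) (hgX : g ∈ centralizer (X u' : Set G))
    (hgu : g ∉ centralizer (X u : Set G)) : False := by
  have hAab := (eab_iff.1 hA.1).1
  set T : Subgroup G := (⨆ u, N u) ⊔ N₀ with hT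
  have hTY : T ≤ ⨆ u, X u := sup_le (M_le_Y D) D.N0
  set AM := A ⊓ centralizer (T : Set G) with hAM
  have hAMQ : AM ≤ Q := (le_inf (inf_le_left.trans hA.2.1)
    (inf_le_right.trans (centralizer_le (le_sup_right : N₀ ≤ T)))).trans D.Q1N0
  have hAMe : IsElementaryAbelian 2 AM := eab_mono hA.1 inf_le_left
  have hAMM : AM ≤ centralizer ((⨆ u, N u : Subgroup G) : Set G) :=
    inf_le_right.trans (centralizer_le (le_sup_left : (⨆ u, N u) ≤ T))
  have hAMu : ∀ p, AM ≤ Q ⊓ centralizer (N p : Set G) := fun p =>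
    le_inf hAMQ (hAMM.trans (centralizer_le (le_iSup N p)))
  have hE := exaY D (Y_le_Q1 D) hA (nobY2 D hA.1 hA.2.1)
  obtain ⟨h1, h2⟩ := exa_peel hTY hE (nobT2 D hA.1 hA.2.1) (nobY1 D hAMe hAMQ)
  obtain ⟨-, h3⟩ := exa_peel (le_iSup X u) h1 (nobX D u hAMe (hAMu u))
    (nobY1 D (eab_mono hAMe inf_le_left) (inf_le_left.trans hAMQ))
  have hYc := Y_comm D
  -- commutators of `A_M` with `X p`
  have com : ∀ p, ∀ y ∈ AM, ∀ s ∈ X p, y * s * y⁻¹ * s⁻¹ = 1 ∨ y * s * y⁻¹ * s⁻¹ = c p := by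
    intro p y hy s hs
    rcases D.com p s hs y (hAMu p hy).1 (hAMu p hy).2 with e | e
    · left; rw [e, mul_inv_cancel]
    · right
      have e4 : s * c p = c p * s := by
        have e5 : (s * c p) ^ 2 = 1 := by
          rw [← e, conj_pow, D.Xsq p s hs, mul_one, mul_inv_cancel]
        have e6 : s * s = 1 := by rw [← pow_two]; exact D.Xsq p s hs
        have e7 : s * c p * (s * c p) = 1 := by rw [← pow_two]; exact e5
        have hci : (c p)⁻¹ = c p := inv_eq_of_mul_eq_one_left (D.cc p)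
        calc s * c p = (s * c p)⁻¹ := (inv_eq_of_mul_eq_one_left e7).symm
          _ = c p * s := by rw [mul_inv_rev, hci, inv_eq_of_mul_eq_one_left e6]
      rw [e, e4]; group
  -- `A_M` centralises `X u'`
  have h4 : AM ≤ centralizer (X u' : Set G) := by
    intro y hy
    refine mem_centralizer_iff.2 fun s hs => ?_
    have h5 : s ∈ (⨆ u, X u) ⊓ centralizer ((AM ⊓ centralizer (X u : Set G) : Subgroup G) : Set G) := by
      refine ⟨le_iSup X u' hs, mem_centralizer_iff.2 fun w hw => ?_⟩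
      rw [hXu] at hs
      obtain ⟨t, ht, rfl⟩ := hs
      have e1 : x * w = w * x := mem_centralizer_iff.1 (hAab hw.1.1) x hxA
      have e2 : t * w = w * t := mem_centralizer_iff.1 hw.2 t ht
      change w * (x * t * x⁻¹) = x * t * x⁻¹ * w
      have e3 : x⁻¹ * w = w * x⁻¹ := mem_centralizer_iff.1 (hAab hw.1.1) x⁻¹ (inv_mem hxA)
      calc w * (x * t * x⁻¹) = (w * x) * t * x⁻¹ := by group
        _ = x * (w * t) * x⁻¹ := by rw [← e1]; group
        _ = x * t * (w * x⁻¹) := by rw [← e2]; group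
        _ = x * t * x⁻¹ * w := by rw [← e3]; group
    obtain ⟨v, hv, w, hw, rfl⟩ := exists_mul_of_comm (V := X u)
      (D := (⨆ u, X u) ⊓ centralizer (AM : Set G)) ((le_iSup X u).trans (hYc.trans (centralizer_le inf_le_left)))
      (h3 h5)
    have e1 : y * w = w * y := mem_centralizer_iff.1 hw.2 y hy
    have e2 : y * (v * w) * y⁻¹ * (v * w)⁻¹ = y * v * y⁻¹ * v⁻¹ := by
      calc y * (v * w) * y⁻¹ * (v * w)⁻¹ = y * v * (w * y⁻¹) * w⁻¹ * v⁻¹ := by group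
        _ = y * v * (y⁻¹ * w) * w⁻¹ * v⁻¹ := by
          have e3 : y⁻¹ * w = w * y⁻¹ := mem_centralizer_iff.1 hw.2 _ (inv_mem hy)
          rw [e3]
        _ = _ := by group
    have h6 := com u y hy v hv
    rw [← e2] at h6
    have h7 := com u' y hy _ hs
    have h8 : y * (v * w) * y⁻¹ * (v * w)⁻¹ = 1 := by
      rcases h6 with h | h
      · exact h
      · rcases h7 with h' | h'
        · exact h'
        · exact absurd (h'.symm.trans h) huu
    exact (mul_inv_eq_iff_eq_mul.1 (mul_inv_eq_one.1 h8)).symm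
  -- `A_M` centralises `X u`
  have h5 : AM ≤ centralizer (X u : Set G) := by
    intro y hy
    refine mem_centralizer_iff.2 fun s hs => ?_
    have e1 : x * y = y * x := mem_centralizer_iff.1 (hAab hy.1) x hxA
    have h6 : x * s * x⁻¹ ∈ X u' := by rw [hXu]; exact ⟨s, hs, rfl⟩
    have h7 := mem_centralizer_iff.1 (h4 hy) _ h6
    have e3 : x⁻¹ * y = y * x⁻¹ := mem_centralizer_iff.1 (hAab hy.1) x⁻¹ (inv_mem hxA)
    have e4 : x * (s * y) * x⁻¹ = x * (y * s) * x⁻¹ := by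
      calc x * (s * y) * x⁻¹ = x * s * (y * x⁻¹) := by group
        _ = x * s * x⁻¹ * y := by rw [← e3]; group
        _ = y * (x * s * x⁻¹) := h7
        _ = (y * x) * s * x⁻¹ := by group
        _ = x * (y * s) * x⁻¹ := by rw [← e1]; group
    exact mul_left_cancel (mul_right_cancel e4)
  -- `X u ≤ T X u'`
  apply hgu
  refine mem_centralizer_iff.2 fun s hs => ?_
  have hgT : g ∈ centralizer (T : Set G) := by
    have h6 : T ≤ centralizer ({g} : Set G) := by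
      refine sup_le (fun t ht => ?_) fun t ht => ?_
      · rw [mem_centralizer_singleton_iff]
        exact mem_centralizer_iff.1 hgM t ht
      · rw [mem_centralizer_singleton_iff]
        exact mem_centralizer_iff.1 (D.QN0 hgQ) t ht
    exact mem_centralizer_iff.2 fun t ht => mem_centralizer_singleton_iff.1 (h6 ht)
  obtain ⟨t, ht, k, hk, rfl⟩ := exists_mul_of_comm (V := T) (D := (⨆ u, X u) ⊓ centralizer (A : Set G))
    (hTY.trans (hYc.trans (centralizer_le inf_le_left)))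
    (h2 ⟨le_iSup X u hs, mem_centralizer_iff.2 fun y hy => (mem_centralizer_iff.1 (h5 hy) s hs).symm⟩)
  have e1 : x * k = k * x := mem_centralizer_iff.1 hk.2 x hxA
  have e2 : x * (t * k) * x⁻¹ = x * t * x⁻¹ * k := by
    calc x * (t * k) * x⁻¹ = x * t * x⁻¹ * (x * k) * x⁻¹ := by group
      _ = x * t * x⁻¹ * (k * x) * x⁻¹ := by rw [e1]
      _ = x * t * x⁻¹ * k := by group
  have k1 : t ∈ centralizer ({g} : Set G) := by
    rw [mem_centralizer_singleton_iff]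
    exact mem_centralizer_iff.1 hgT t ht
  have k2 : x * t * x⁻¹ ∈ centralizer ({g} : Set G) := by
    rw [mem_centralizer_singleton_iff]
    exact mem_centralizer_iff.1 hgT _ (hxT t ht)
  have k3 : x * t * x⁻¹ * k ∈ centralizer ({g} : Set G) := by
    rw [mem_centralizer_singleton_iff, ← e2]
    refine mem_centralizer_iff.1 hgX _ ?_
    rw [hXu]
    exact ⟨_, hs, rfl⟩
  have k4 : k ∈ centralizer ({g} : Set G) := by
    have := mul_mem (inv_mem k2) k3
    rwa [inv_mul_cancel_left] at this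
  exact mem_centralizer_singleton_iff.1 (mul_mem k1 k4)

end Cfsg.Agent.Omega.TC.RSix.Peel

end

section


/-!
# NO-3S, case (E): every nonzero vector is in a point (uniform form of helper118 #18644 (2)-(4), all `q`)

`M` an additive group (`N_1/Z_1`), `PP` a set of subgroups ("points"), `T p` a set of automorphisms for `p ∈ PP`
("transvections with centre `p`"), `pr T p = C_M(T p)`.  No form and no field.

* `Geo PP T` : the axioms; `Geo.one`, `Geo.ext`, `Geo.hyp` (hyperbolic lines are unions of points);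
* `Cn` : common neighbour; `Geo.cn_step`, `Geo.cn_trans`;
* `Col x y` : `x ⊥ y` and `x + y` is a union of points; `Geo.col_of` ;
* `Geo.gen` : `M_C ∩ x^⊥` is generated by the points of the component `C` in `x^⊥`;
* `Geo.inj` : `x^⊥ ≤ z^⊥`, `x ≠ z` yields a forbidden product of two transvections;
* `Geo.col` : all perpendicular `x ≠ z` in one component are collinear; `Geo.vec` : every nonzero vector of `M_C` lies in
  a point of `C`.
-/

set_option autoImplicit false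
set_option linter.unusedSectionVars false

namespace Cfsg.Agent.Omega.NO3S.EThree.PtGeo

variable {M : Type*} [AddCommGroup M]

/-- `C_M(T p)` -/
def pr (T : AddSubgroup M → Set (M ≃+ M)) (p : AddSubgroup M) : AddSubgroup M where
  carrier := {m | ∀ t ∈ T p, t m = m}
  zero_mem' := fun t _ => map_zero t
  add_mem' := fun {a b} ha hb t ht => by rw [map_add, ha t ht, hb t ht]
  neg_mem' := fun {a} ha t ht => by rw [map_neg, ha t ht]

/-- the image of a subgroup -/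
def mp (t : M ≃+ M) (r : AddSubgroup M) : AddSubgroup M := r.map t.toAddMonoidHom

theorem mem_mp {t : M ≃+ M} {r : AddSubgroup M} {x : M} : x ∈ mp t r ↔ ∃ y ∈ r, t y = x := Iff.rfl

/-- The axioms of the geometry. -/
structure Geo (PP : Set (AddSubgroup M)) (T : AddSubgroup M → Set (M ≃+ M)) : Prop where
  ne : ∀ p ∈ PP, ∃ x ∈ p, x ≠ 0
  ti : ∀ p ∈ PP, ∀ r ∈ PP, ∀ x ∈ p, x ∈ r → x ≠ 0 → p = r
  mem : ∀ p ∈ PP, ∀ t ∈ T p, ∀ m, t m - m ∈ p
  self : ∀ p ∈ PP, p ≤ pr T p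
  act : ∀ p ∈ PP, ∀ t ∈ T p, ∀ r ∈ PP, mp t r ∈ PP
  cj : ∀ p ∈ PP, ∀ t ∈ T p, ∀ r ∈ PP, ∀ m, t m ∈ pr T (mp t r) ↔ m ∈ pr T r
  sur : ∀ p ∈ PP, ∀ m, m ∉ pr T p → ∀ v ∈ p, ∃ t ∈ T p, t m = m + v
  sym : ∀ p ∈ PP, ∀ r ∈ PP, r ≤ pr T p → p ≤ pr T r
  ix : ∀ p ∈ PP, ∀ r ∈ PP, ¬ r ≤ pr T p → ∀ m, ∃ x ∈ r, m - x ∈ pr T p

/-- `p` and `r` have a common neighbour. -/
def Cn (PP : Set (AddSubgroup M)) (T : AddSubgroup M → Set (M ≃+ M)) (p r : AddSubgroup M) : Prop :=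
  ∃ s ∈ PP, ¬ s ≤ pr T p ∧ ¬ s ≤ pr T r

/-- `x ⊥ y` and `x + y` is a union of points. -/
def Col (PP : Set (AddSubgroup M)) (T : AddSubgroup M → Set (M ≃+ M)) (x y : AddSubgroup M) : Prop :=
  y ≤ pr T x ∧ ∀ v ∈ x ⊔ y, v ≠ 0 → ∃ s ∈ PP, v ∈ s ∧ s ≤ x ⊔ y

variable {PP : Set (AddSubgroup M)} {T : AddSubgroup M → Set (M ≃+ M)}

theorem Cn.symm {p r : AddSubgroup M} (h : Cn PP T p r) : Cn PP T r p := by
  obtain ⟨s, hs, h1, h2⟩ := h
  exact ⟨s, hs, h2, h1⟩

namespace Geo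

variable (g : Geo PP T)
include g

/-- **(1)** -/
theorem one {p r : AddSubgroup M} (hp : p ∈ PP) (hr : r ∈ PP) {x : M} (hx : x ∈ r) (hx0 : x ≠ 0) (hxp : x ∈ pr T p) :
    r ≤ pr T p := by
  intro y hy t ht
  have h1 : mp t r = r := g.ti _ (g.act p hp t ht r hr) _ hr x ⟨x, hx, hxp t ht⟩ hx hx0
  have h2 : t y ∈ r := h1 ▸ (⟨y, hy, rfl⟩ : t y ∈ mp t r)
  by_contra hne
  have h3 : t y - y ≠ 0 := fun e => hne (sub_eq_zero.1 e)
  have h4 : r = p := g.ti _ hr _ hp _ (sub_mem h2 hy) (g.mem p hp t ht y) h3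
  subst h4
  exact hne (g.self r hr hy t ht)

theorem iff_one {p r : AddSubgroup M} (hp : p ∈ PP) (hr : r ∈ PP) {x : M} (hx : x ∈ r) (hx0 : x ≠ 0) :
    r ≤ pr T p ↔ x ∈ pr T p := ⟨fun h => h hx, g.one hp hr hx hx0⟩

theorem nsym {p r : AddSubgroup M} (hp : p ∈ PP) (hr : r ∈ PP) (h : ¬ r ≤ pr T p) : ¬ p ≤ pr T r :=
  fun h1 => h (g.sym r hr p hp h1)

theorem not_mem {p r : AddSubgroup M} (hp : p ∈ PP) (hr : r ∈ PP) (h : ¬ r ≤ pr T p) {x : M} (hx : x ∈ r)
    (hx0 : x ≠ 0) : x ∉ pr T p := fun h1 => h (g.one hp hr hx hx0 h1)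

/-- **(E)** -/
theorem ext {s d : AddSubgroup M} (hs : s ∈ PP) (hd : d ∈ PP) {m v : M} (hm : m ∈ s) (hmd : m ∉ pr T d)
    (hv : v ∈ d) : ∃ s' ∈ PP, m + v ∈ s' ∧ s' ≤ s ⊔ d := by
  obtain ⟨t, ht, e⟩ := g.sur d hd m hmd v hv
  refine ⟨mp t s, g.act d hd t ht s hs, ⟨m, hm, e⟩, ?_⟩
  rintro _ ⟨y, hy, rfl⟩
  have h1 : t y = y + (t y - y) := by abel
  change t y ∈ s ⊔ d
  rw [h1]
  exact add_mem (AddSubgroup.mem_sup_left hy) (AddSubgroup.mem_sup_right (g.mem d hd t ht y))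

/-- **(H)** Hyperbolic lines are unions of points. -/
theorem hyp {p r : AddSubgroup M} (hp : p ∈ PP) (hr : r ∈ PP) (h : ¬ r ≤ pr T p) {v : M} (hv : v ∈ p ⊔ r)
    (hv0 : v ≠ 0) : ∃ s ∈ PP, v ∈ s ∧ s ≤ p ⊔ r := by
  obtain ⟨x, hx, y, hy, rfl⟩ := AddSubgroup.mem_sup.1 hv
  by_cases hy0 : y = 0
  · subst hy0
    exact ⟨p, hp, by simpa using hx, le_sup_left⟩
  · obtain ⟨s, hs, h1, h2⟩ := g.ext hr hp hy (g.not_mem hp hr h hy hy0) hx
    exact ⟨s, hs, by rwa [add_comm] at h1, by rwa [sup_comm] at h2⟩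

theorem hyp' {p r : AddSubgroup M} (hp : p ∈ PP) (hr : r ∈ PP) (h : ¬ r ≤ pr T p) {x y : M} (hx : x ∈ p)
    (hy : y ∈ r) (hv0 : x + y ≠ 0) : ∃ s ∈ PP, x + y ∈ s ∧ s ≤ p ⊔ r :=
  g.hyp hp hr h (add_mem (AddSubgroup.mem_sup_left hx) (AddSubgroup.mem_sup_right hy)) hv0

theorem disj {p r : AddSubgroup M} (hp : p ∈ PP) (hr : r ∈ PP) (h : ¬ r ≤ pr T p) {x : M} (hx : x ∈ p)
    (hxr : x ∈ r) : x = 0 := by
  by_contra h0
  have := g.ti p hp r hr x hx hxr h0
  subst this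
  exact h (g.self p hp)

/-- The third point of a hyperbolic line. -/
theorem third {p r : AddSubgroup M} (hp : p ∈ PP) (hr : r ∈ PP) (h : ¬ r ≤ pr T p) :
    ∃ x ∈ p, ∃ y ∈ r, x ≠ 0 ∧ y ≠ 0 ∧ x + y ≠ 0 ∧ ∃ s ∈ PP, x + y ∈ s ∧ s ≤ p ⊔ r := by
  obtain ⟨x, hx, hx0⟩ := g.ne p hp
  obtain ⟨y, hy, hy0⟩ := g.ne r hr
  have h1 : x + y ≠ 0 := by
    intro e
    have h2 : x = -y := eq_neg_of_add_eq_zero_left e
    exact hx0 (g.disj hp hr h hx (h2 ▸ neg_mem hy))
  exact ⟨x, hx, y, hy, hx0, hy0, h1, g.hyp' hp hr h hx hy h1⟩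

/-! ### (2) Common neighbours -/

theorem cn_self {p s : AddSubgroup M} (hs : s ∈ PP) (h : ¬ s ≤ pr T p) : Cn PP T p p := ⟨s, hs, h, h⟩

/-- Adjacent points have a common neighbour. -/
theorem cn_of_adj {p r : AddSubgroup M} (hp : p ∈ PP) (hr : r ∈ PP) (h : ¬ r ≤ pr T p) : Cn PP T p r := by
  obtain ⟨x, hx, y, hy, hx0, hy0, h0, s, hs, h1, -⟩ := g.third hp hr h
  refine ⟨s, hs, ?_, ?_⟩
  · rw [g.iff_one hp hs h1 h0, AddSubgroup.add_mem_cancel_left _ (g.self p hp hx)]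
    exact g.not_mem hp hr h hy hy0
  · rw [g.iff_one hr hs h1 h0, AddSubgroup.add_mem_cancel_right _ (g.self r hr hy)]
    exact g.not_mem hr hp (g.nsym hp hr h) hx hx0

theorem cn_step {p r u : AddSubgroup M} (hp : p ∈ PP) (hr : r ∈ PP) (hu : u ∈ PP) (h : Cn PP T p r)
    (hru : ¬ u ≤ pr T r) : Cn PP T p u := by
  obtain ⟨s, hs, h1, h2⟩ := h
  by_cases hsu : s ≤ pr T u
  · by_cases hpr : r ≤ pr T p
    · -- third point on `s + r`
      obtain ⟨x, hx, y, hy, hx0, hy0, h0, w, hw, h3, -⟩ := g.third hs hr (g.nsym hr hs h2)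
      refine ⟨w, hw, ?_, ?_⟩
      · rw [g.iff_one hp hw h3 h0, AddSubgroup.add_mem_cancel_right _ (hpr hy)]
        exact g.not_mem hp hs h1 hx hx0
      · rw [g.iff_one hu hw h3 h0, AddSubgroup.add_mem_cancel_left _ (hsu hx)]
        exact g.not_mem hu hr (g.nsym hr hu hru) hy hy0
    · exact ⟨r, hr, hpr, g.nsym hr hu hru⟩
  · exact ⟨s, hs, h1, hsu⟩

theorem cn_trans {p r u : AddSubgroup M} (hp : p ∈ PP) (hr : r ∈ PP) (hu : u ∈ PP) (h : Cn PP T p r)
    (h' : Cn PP T r u) : Cn PP T p u := by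
  obtain ⟨s, hs, h1, h2⟩ := h'
  exact g.cn_step hp hs hu (g.cn_step hp hr hs h h1) (g.nsym hu hs h2)

/-- a point nonperpendicular to a point of the component is in the component -/
theorem cn_adj {x r u : AddSubgroup M} (hx : x ∈ PP) (hr : r ∈ PP) (hu : u ∈ PP) (h : Cn PP T x r)
    (hru : ¬ r ≤ pr T u) : Cn PP T x u := g.cn_step hx hr hu h (g.nsym hu hr hru)

/-! ### (3) Collinearity -/

/-- **(3)** -/
theorem col_of {x y y' : AddSubgroup M} (hx : x ∈ PP) (hy : y ∈ PP) (hy' : y' ∈ PP) (h : Col PP T x y)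
    (h1 : y' ≤ pr T x) (h2 : ¬ y' ≤ pr T y) : Col PP T x y' := by
  refine ⟨h1, fun v hv hv0 => ?_⟩
  obtain ⟨ξ, hξ, η', hη', rfl⟩ := AddSubgroup.mem_sup.1 hv
  by_cases hη0 : η' = 0
  · subst hη0
    exact ⟨x, hx, by simpa using hξ, le_sup_left⟩
  obtain ⟨η, hη, hη1⟩ := g.ne y hy
  have hxy : x ≤ pr T y := g.sym x hx y hy h.1
  have hxy' : x ≤ pr T y' := g.sym x hx y' hy' h1
  have hη'y : η' ∉ pr T y := g.not_mem hy hy' h2 hη' hη0
  have hηy' : η ∉ pr T y' := g.not_mem hy' hy (g.nsym hy hy' h2) hη hη1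
  -- the point of `η + ξ`
  have h3 : ξ + η ≠ 0 := by
    intro e
    apply hηy'
    have : η = -ξ := eq_neg_of_add_eq_zero_right e
    rw [this]
    exact neg_mem (hxy' hξ)
  obtain ⟨a, ha, h4, h5⟩ := h.2 (ξ + η) (add_mem (AddSubgroup.mem_sup_left hξ) (AddSubgroup.mem_sup_right hη)) h3
  have hay' : ¬ a ≤ pr T y' := by
    rw [g.iff_one hy' ha h4 h3, AddSubgroup.add_mem_cancel_left _ (hxy' hξ)]
    exact hηy'
  obtain ⟨s₁, hs₁, h6, h7⟩ := g.ext hy' ha hη' (g.not_mem ha hy' (g.nsym hy' ha hay') hη' hη0) h4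
  have h8 : η' + (ξ + η) ∉ pr T y := by
    rw [AddSubgroup.add_mem_cancel_right _ (add_mem (hxy hξ) (g.self y hy hη))]
    exact hη'y
  obtain ⟨s₂, hs₂, h9, h10⟩ := g.ext hs₁ hy h6 h8 (neg_mem hη)
  have e1 : η' + (ξ + η) + -η = ξ + η' := by abel
  rw [e1] at h9
  refine ⟨s₂, hs₂, h9, ?_⟩
  have h11 : s₂ ≤ pr T y' := by
    rw [g.iff_one hy' hs₂ h9 hv0]
    exact add_mem (hxy' hξ) (g.self y' hy' hη')
  intro w hw
  have h12 : w ∈ y' ⊔ (x ⊔ y) := by
    have h13 : s₁ ⊔ y ≤ y' ⊔ (x ⊔ y) :=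
      sup_le (h7.trans (sup_le_sup_left h5 _)) (le_sup_right.trans le_sup_right)
    exact h13 (h10 hw)
  obtain ⟨b, hb, c, hc, e2⟩ := AddSubgroup.mem_sup.1 h12
  obtain ⟨c₁, hc₁, c₂, hc₂, rfl⟩ := AddSubgroup.mem_sup.1 hc
  have h14 : c₂ = 0 := by
    by_contra hne
    refine g.not_mem hy' hy (g.nsym hy hy' h2) hc₂ hne ?_
    have h15 := h11 hw
    rw [← e2, AddSubgroup.add_mem_cancel_left _ (g.self y' hy' hb),
      AddSubgroup.add_mem_cancel_left _ (hxy' hc₁)] at h15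
    exact h15
  subst h14
  rw [← e2, add_zero]
  exact add_mem (AddSubgroup.mem_sup_right hb) (AddSubgroup.mem_sup_left hc₁)

/-! ### (4) Generation of `x^⊥` -/

/-- collinear points have a common neighbour (up to transitivity) -/
theorem cn_of_col {x y : AddSubgroup M} (hx : x ∈ PP) (hy : y ∈ PP) (hne : x ≠ y) (h : Col PP T x y)
    (h1 : ∃ s ∈ PP, ¬ s ≤ pr T x) (h2 : ∃ s ∈ PP, ¬ s ≤ pr T y) : Cn PP T x y := by
  obtain ⟨w, hw, hwx⟩ := h1
  obtain ⟨w', hw', hwy⟩ := h2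
  by_cases h3 : w ≤ pr T y
  · by_cases h4 : w' ≤ pr T x
    · obtain ⟨ξ, hξ, hξ0⟩ := g.ne x hx
      obtain ⟨η, hη, hη0⟩ := g.ne y hy
      have h0 : ξ + η ≠ 0 := by
        intro e
        have h5 : ξ = -η := eq_neg_of_add_eq_zero_left e
        exact hne (g.ti x hx y hy ξ hξ (h5 ▸ neg_mem hη) hξ0)
      obtain ⟨s, hs, h5, -⟩ := h.2 (ξ + η)
        (add_mem (AddSubgroup.mem_sup_left hξ) (AddSubgroup.mem_sup_right hη)) h0
      have h6 : Cn PP T x s := by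
        refine ⟨w, hw, hwx, g.nsym hw hs ?_⟩
        rw [g.iff_one hw hs h5 h0, AddSubgroup.add_mem_cancel_right _ (g.sym y hy w hw h3 hη)]
        exact g.not_mem hw hx (g.nsym hx hw hwx) hξ hξ0
      have h7 : Cn PP T s y := by
        refine ⟨w', hw', g.nsym hw' hs ?_, hwy⟩
        rw [g.iff_one hw' hs h5 h0, AddSubgroup.add_mem_cancel_left _ (g.sym x hx w' hw' h4 hξ)]
        exact g.not_mem hw' hy (g.nsym hy hw' hwy) hη hη0
      exact g.cn_trans hx hs hy h6 h7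
    · exact ⟨w', hw', h4, hwy⟩
  · exact ⟨w, hw, hwx, h3⟩

end Geo

/-- `M_C`, generated by the component of `x` -/
def MC (PP : Set (AddSubgroup M)) (T : AddSubgroup M → Set (M ≃+ M)) (x : AddSubgroup M) : AddSubgroup M :=
  sSup {r | r ∈ PP ∧ Cn PP T x r}

/-- generated by the points of the component in `x^⊥` -/
def XC (PP : Set (AddSubgroup M)) (T : AddSubgroup M → Set (M ≃+ M)) (x : AddSubgroup M) : AddSubgroup M :=
  sSup {r | r ∈ PP ∧ Cn PP T x r ∧ r ≤ pr T x}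

theorem XC_le (x : AddSubgroup M) : XC PP T x ≤ pr T x := sSup_le fun _ h => h.2.2

theorem le_MC {x r : AddSubgroup M} (hr : r ∈ PP) (h : Cn PP T x r) : r ≤ MC PP T x := le_sSup ⟨hr, h⟩

namespace Geo

variable (g : Geo PP T)
include g

theorem genA {x a b : AddSubgroup M} (hx : x ∈ PP) (ha : a ∈ PP) (hb : b ∈ PP) (hax : ¬ a ≤ pr T x)
    (hCa : Cn PP T x a) (hab : ¬ b ≤ pr T a) {m : M} (hm : m ∈ b) : ∃ v ∈ a, m - v ∈ XC PP T x := by
  by_cases hm0 : m = 0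
  · exact ⟨0, zero_mem _, by rw [hm0, sub_zero]; exact zero_mem _⟩
  obtain ⟨v, hv, h1⟩ := g.ix x hx a ha hax m
  refine ⟨v, hv, ?_⟩
  by_cases h0 : m - v = 0
  · rw [h0]; exact zero_mem _
  obtain ⟨s, hs, h2, -⟩ := g.hyp ha hb hab
    (sub_mem (AddSubgroup.mem_sup_right hm) (AddSubgroup.mem_sup_left hv)) h0
  have h3 : ¬ s ≤ pr T a := by
    rw [g.iff_one ha hs h2 h0]
    intro h4
    refine g.not_mem ha hb hab hm hm0 ?_
    have := add_mem h4 (g.self a ha hv)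
    rwa [sub_add_cancel] at this
  exact AddSubgroup.mem_sSup_of_mem
    (⟨hs, g.cn_step hx ha hs hCa h3, g.one hx hs h2 h0 h1⟩ : s ∈ {r | r ∈ PP ∧ Cn PP T x r ∧ r ≤ pr T x}) h2

theorem genB {x a b : AddSubgroup M} (hx : x ∈ PP) (ha : a ∈ PP) (hb : b ∈ PP) (hax : ¬ a ≤ pr T x)
    (hCb : Cn PP T x b) {m : M} (hm : m ∈ b) : ∃ v ∈ a, m - v ∈ XC PP T x := by
  have hxx : Cn PP T x x := ⟨a, ha, hax, hax⟩
  have hCa : Cn PP T x a := g.cn_step hx hx ha hxx hax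
  by_cases hbx : b ≤ pr T x
  · refine ⟨0, zero_mem _, ?_⟩
    rw [sub_zero]
    exact AddSubgroup.mem_sSup_of_mem
      (⟨hb, hCb, hbx⟩ : b ∈ {r | r ∈ PP ∧ Cn PP T x r ∧ r ≤ pr T x}) hm
  by_cases hab : b ≤ pr T a
  · obtain ⟨ξ, hξ, v₀, hv₀, hξ0, hv0, h0, a', ha', h1, h2⟩ := g.third hx ha hax
    have h3 : ¬ a' ≤ pr T x := by
      rw [g.iff_one hx ha' h1 h0, AddSubgroup.add_mem_cancel_left _ (g.self x hx hξ)]
      exact g.not_mem hx ha hax hv₀ hv0
    have h4 : ¬ b ≤ pr T a' := by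
      apply g.nsym hb ha'
      rw [g.iff_one hb ha' h1 h0, AddSubgroup.add_mem_cancel_right _ (g.sym a ha b hb hab hv₀)]
      exact g.not_mem hb hx (g.nsym hx hb hbx) hξ hξ0
    obtain ⟨v', hv', h5⟩ := g.genA hx ha' hb h3 (g.cn_step hx hx ha' hxx h3) h4 hm
    obtain ⟨ξ', hξ', v, hv, rfl⟩ := AddSubgroup.mem_sup.1 (h2 hv')
    refine ⟨v, hv, ?_⟩
    have h6 : ξ' ∈ XC PP T x := AddSubgroup.mem_sSup_of_mem
      (⟨hx, hxx, g.self x hx⟩ : x ∈ {r | r ∈ PP ∧ Cn PP T x r ∧ r ≤ pr T x}) hξ'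
    have h7 : m - v = m - (ξ' + v) + ξ' := by abel
    rw [h7]
    exact add_mem h5 h6
  · exact g.genA hx ha hb hax hCa hab hm

/-- `M_C ≤ a + ⟨points of C in x^⊥⟩`, `a ~ x` -/
theorem MC_le {x a : AddSubgroup M} (hx : x ∈ PP) (ha : a ∈ PP) (hax : ¬ a ≤ pr T x) :
    MC PP T x ≤ a ⊔ XC PP T x := by
  refine sSup_le fun b hb m hm => ?_
  obtain ⟨v, hv, h1⟩ := g.genB hx ha hb.1 hax hb.2 hm
  have h2 : m = v + (m - v) := by abel
  rw [h2]
  exact add_mem (AddSubgroup.mem_sup_left hv) (AddSubgroup.mem_sup_right h1)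

/-- **(4)** -/
theorem gen {x a : AddSubgroup M} (hx : x ∈ PP) (ha : a ∈ PP) (hax : ¬ a ≤ pr T x) {m : M}
    (hm : m ∈ MC PP T x) (hmx : m ∈ pr T x) : m ∈ XC PP T x := by
  obtain ⟨v, hv, c, hc, rfl⟩ := AddSubgroup.mem_sup.1 (g.MC_le hx ha hax hm)
  rw [AddSubgroup.add_mem_cancel_right _ (XC_le x hc)] at hmx
  have : v = 0 := by
    by_contra h0
    exact g.not_mem hx ha hax hv h0 hmx
  rw [this, zero_add]
  exact hc

/-! ### The forbidden product -/

/-- (7b) of helper159 #17814: the kernels agree on adjacent neighbours. -/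
theorem injA {x z w r : AddSubgroup M} (hx : x ∈ PP) (hz : z ∈ PP) (hw : w ∈ PP) (hr : r ∈ PP)
    (hxz : ∀ m, m ∈ pr T x → m ∈ pr T z) (hwx : ¬ w ≤ pr T x) (hrx : ¬ r ≤ pr T x) (hrw : ¬ r ≤ pr T w) {k : M}
    (hk : k ∈ x ⊔ z) (hkw : k ∈ pr T w) : k ∈ pr T r := by
  obtain ⟨ρ, hρ, hρ0⟩ := g.ne r hr
  obtain ⟨ω, hω, h1⟩ := g.ix x hx w hw hwx ρ
  by_cases h0 : ρ - ω = 0
  · exfalso
    have : ρ ∈ w := by rw [sub_eq_zero.1 h0]; exact hω
    exact g.not_mem hw hr hrw hρ hρ0 (g.self w hw this)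
  obtain ⟨d, hd, h2, h3⟩ := g.hyp hw hr hrw (sub_mem (AddSubgroup.mem_sup_right hρ)
    (AddSubgroup.mem_sup_left hω)) h0
  have hdx : d ≤ pr T x := g.one hx hd h2 h0 h1
  have hdz : d ≤ pr T z := fun y hy => hxz y (hdx hy)
  have hkd : k ∈ pr T d := by
    have : x ⊔ z ≤ pr T d := sup_le (g.sym x hx d hd hdx) (g.sym z hz d hd hdz)
    exact this hk
  have h4 : ρ - ω ∉ pr T w := by
    intro h5
    refine g.not_mem hw hr hrw hρ hρ0 ?_
    have := add_mem h5 (g.self w hw hω)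
    rwa [sub_add_cancel] at this
  have h5 : ¬ w ≤ pr T d := g.nsym hw hd fun h => h4 (h h2)
  have hω0 : ω ≠ 0 := by
    rintro rfl
    rw [sub_zero] at h1
    exact g.not_mem hx hr hrx hρ hρ0 h1
  obtain ⟨t, ht, e⟩ := g.sur d hd ω (g.not_mem hd hw h5 hω hω0) (ρ - ω) h2
  have h6 : t ω = ρ := by rw [e]; abel
  have h7 : mp t w = r := g.ti _ (g.act d hd t ht w hw) _ hr ρ ⟨ω, hω, h6⟩ hρ hρ0
  have h8 := (g.cj d hd t ht w hw k).2 hkw
  rwa [hkd t ht, h7] at h8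

/-- The kernels do not depend on the neighbour. -/
theorem injB {x z w : AddSubgroup M} (hx : x ∈ PP) (hz : z ∈ PP) (hw : w ∈ PP) (hzx : z ≤ pr T x)
    (hxz : ∀ m, m ∈ pr T x → m ∈ pr T z) (hwx : ¬ w ≤ pr T x) {k : M}
    (hk : k ∈ x ⊔ z) (hkw : k ∈ pr T w) : ∀ r ∈ PP, k ∈ pr T r := by
  intro r hr
  by_cases hrx : r ≤ pr T x
  · have hrz : r ≤ pr T z := fun y hy => hxz y (hrx hy)
    have : x ⊔ z ≤ pr T r := sup_le (g.sym x hx r hr hrx) (g.sym z hz r hr hrz)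
    exact this hk
  by_cases hrw : r ≤ pr T w
  · obtain ⟨ω, hω, hω0⟩ := g.ne w hw
    obtain ⟨ξ, hξ, hξ0⟩ := g.ne x hx
    have hωx : ω ∉ pr T x := g.not_mem hx hw hwx hω hω0
    obtain ⟨t, ht, e⟩ := g.sur x hx ω hωx ξ hξ
    have h1 : ω + ξ ∉ pr T x := by
      rwa [AddSubgroup.add_mem_cancel_right _ (g.self x hx hξ)]
    have h0 : ω + ξ ≠ 0 := fun h => h1 (h ▸ zero_mem _)
    have hw' : mp t w ∈ PP := g.act x hx t ht w hw
    have h2 : ω + ξ ∈ mp t w := ⟨ω, hω, e⟩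
    have h3 : ¬ mp t w ≤ pr T x := by rwa [g.iff_one hx hw' h2 h0]
    have h4 : ¬ r ≤ pr T (mp t w) := by
      apply g.nsym hr hw'
      rw [g.iff_one hr hw' h2 h0, AddSubgroup.add_mem_cancel_left _ (g.sym w hw r hr hrw hω)]
      exact g.not_mem hr hx (g.nsym hx hr hrx) hξ hξ0
    have hkx : k ∈ pr T x := (sup_le (g.self x hx) hzx : x ⊔ z ≤ pr T x) hk
    have h5 : k ∈ pr T (mp t w) := by
      have := (g.cj x hx t ht w hw k).2 hkw
      rwa [hkx t ht] at this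
    exact g.injA hx hz hw' hr hxz h3 hrx h4 hk h5
  · exact g.injA hx hz hw hr hxz hwx hrx hrw hk hkw

/-- **The forbidden product.** -/
theorem inj {x z : AddSubgroup M} (hx : x ∈ PP) (hz : z ∈ PP) (hne : x ≠ z) (hzx : z ≤ pr T x)
    (hxz : ∀ m, m ∈ pr T x → m ∈ pr T z) (hC : Cn PP T x z) :
    ∃ t ∈ T x, ∃ t' ∈ T z, (∀ m, ∀ r ∈ PP, t' (t m) - m ∈ pr T r) ∧ ∃ m, t' (t m) ≠ m := by
  obtain ⟨w, hw, hwx, hwz⟩ := hC
  obtain ⟨ω, hω, hω0⟩ := g.ne w hw
  obtain ⟨ξ, hξ, hξ0⟩ := g.ne x hx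
  obtain ⟨ζ, hζ, h1⟩ := g.ix w hw z hz (g.nsym hz hw hwz) ξ
  obtain ⟨t, ht, e⟩ := g.sur x hx ω (g.not_mem hx hw hwx hω hω0) ξ hξ
  obtain ⟨t', ht', e'⟩ := g.sur z hz ω (g.not_mem hz hw hwz hω hω0) (-ζ) (neg_mem hζ)
  have hxz' : x ≤ pr T z := g.sym x hx z hz hzx
  have e2 : t' (t ω) = ω + (ξ - ζ) := by
    rw [e, map_add, e', hxz' hξ t' ht']
    abel
  have hy : mp t' (mp t w) ∈ PP := g.act z hz t' ht' _ (g.act x hx t ht w hw)
  have h2 : t' (t ω) ∈ mp t' (mp t w) := ⟨t ω, ⟨ω, hω, rfl⟩, rfl⟩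
  have h20 : t' (t ω) ≠ 0 := by
    intro h
    exact hω0 (t.injective (t'.injective (by rw [h, map_zero, map_zero])))
  have h3 : mp t' (mp t w) ≤ pr T w := by
    refine g.one hw hy h2 h20 ?_
    rw [e2]
    exact add_mem (g.self w hw hω) h1
  refine ⟨t, ht, t', ht', fun m r hr => ?_, ω, ?_⟩
  · obtain ⟨ω', hω', h4⟩ := g.ix x hx w hw hwx m
    have h5 : t' (t (m - ω')) = m - ω' := by rw [h4 t ht, hxz _ h4 t' ht']
    rw [map_sub, map_sub, sub_eq_iff_eq_add] at h5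
    have h6 : t' (t m) - m = t' (t ω') - ω' := by
      rw [h5]; abel
    rw [h6]
    refine g.injB hx hz hw hzx hxz hwx ?_ ?_ r hr
    · have h7 : t' (t ω') - ω' = (t ω' - ω') + (t' ω' - ω') := by
        have h8 : t' (t ω' - ω') = t ω' - ω' := hxz' (g.mem x hx t ht ω') t' ht'
        rw [map_sub] at h8
        have h9 : t' (t ω') = t ω' - ω' + t' ω' := by rw [← h8]; abel
        rw [h9]; abel
      rw [h7]
      exact add_mem (AddSubgroup.mem_sup_left (g.mem x hx t ht ω'))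
        (AddSubgroup.mem_sup_right (g.mem z hz t' ht' ω'))
    · exact sub_mem (h3 ⟨t ω', ⟨ω', hω', rfl⟩, rfl⟩) (g.self w hw hω')
  · rw [e2]
    intro h
    have h4 : ξ - ζ = 0 := by simpa using h
    have h5 : ξ = ζ := sub_eq_zero.1 h4
    exact hne (g.ti x hx z hz ξ hξ (h5 ▸ hζ) hξ0)

end Geo

/-- The geometry with lines. -/
structure GeoL (PP : Set (AddSubgroup M)) (T : AddSubgroup M → Set (M ≃+ M)) : Prop extends Geo PP T where
  o2 : ∀ x ∈ PP, ∀ z ∈ PP, ∀ t ∈ T x, ∀ t' ∈ T z, (∀ m, ∀ r ∈ PP, t' (t m) - m ∈ pr T r) → ∀ m, t' (t m) = m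
  line : ∀ x ∈ PP, ∃ y ∈ PP, x ≠ y ∧ Col PP T x y
  nbr : ∀ x ∈ PP, ∃ s ∈ PP, ¬ s ≤ pr T x
  top : ∀ m, m ∈ sSup PP

namespace GeoL

variable (g : GeoL PP T)
include g

/-- points outside the component of `x` are perpendicular to the points of the component -/
theorem out {x z r : AddSubgroup M} (hx : x ∈ PP) (hz : z ∈ PP) (hr : r ∈ PP) (hC : Cn PP T x z)
    (hout : ¬ Cn PP T x r) : r ≤ pr T z := by
  by_contra h
  exact hout (g.cn_step hx hz hr hC h)

theorem cn_refl {x : AddSubgroup M} (hx : x ∈ PP) : Cn PP T x x := by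
  obtain ⟨s, hs, h1⟩ := g.nbr x hx
  exact ⟨s, hs, h1, h1⟩

/-- `M = M_C + (x^⊥ ∩ z^⊥)`, `x, z ∈ C` -/
theorem split {x z : AddSubgroup M} (hx : x ∈ PP) (hz : z ∈ PP) (hC : Cn PP T x z) (m : M) :
    ∃ c ∈ MC PP T x, m - c ∈ pr T x ∧ m - c ∈ pr T z := by
  have h1 : sSup PP ≤ MC PP T x ⊔ (pr T x ⊓ pr T z) := by
    refine sSup_le fun r hr => ?_
    by_cases h : Cn PP T x r
    · exact (le_MC hr h).trans le_sup_left
    · exact (le_inf (g.out hx hx hr (g.cn_refl hx) h) (g.out hx hz hr hC h)).trans le_sup_right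
  obtain ⟨c, hc, d, hd, rfl⟩ := AddSubgroup.mem_sup.1 (h1 (g.top m))
  exact ⟨c, hc, by simpa using hd.1, by simpa using hd.2⟩

/-- It is enough to test points. -/
theorem perp_of_pts {x z : AddSubgroup M} (hx : x ∈ PP) (hz : z ∈ PP) (hC : Cn PP T x z)
    (h : ∀ r ∈ PP, r ≤ pr T x → r ≤ pr T z) : ∀ m, m ∈ pr T x → m ∈ pr T z := by
  intro m hm
  obtain ⟨c, hc, h1, h2⟩ := g.split hx hz hC m
  obtain ⟨a, ha, hax, -⟩ := hC
  have h3 : c ∈ pr T x := by
    have := sub_mem hm h1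
    rwa [sub_sub_cancel] at this
  have h4 : XC PP T x ≤ pr T z := sSup_le fun r hr => h r hr.1 hr.2.2
  have h5 := h4 (g.gen hx ha hax hc h3)
  have := add_mem h2 h5
  rwa [sub_add_cancel] at this

/-- different points have different perps -/
theorem sep {x z : AddSubgroup M} (hx : x ∈ PP) (hz : z ∈ PP) (hne : x ≠ z) (hC : Cn PP T x z) :
    ∃ r ∈ PP, r ≤ pr T x ∧ ¬ r ≤ pr T z := by
  by_contra hcon
  push Not at hcon
  have hzx : z ≤ pr T x := g.sym z hz x hx (hcon x hx (g.self x hx))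
  obtain ⟨t, ht, t', ht', h5, m, h6⟩ := g.inj hx hz hne hzx (g.perp_of_pts hx hz hC hcon) hC
  exact h6 (g.o2 x hx z hz t ht t' ht' h5 m)

/-- **(5)** Perpendicular points of one component are collinear. -/
theorem col {x z : AddSubgroup M} (hx : x ∈ PP) (hz : z ∈ PP) (hne : x ≠ z) (hC : Cn PP T x z)
    (hzx : z ≤ pr T x) : Col PP T x z := by
  by_contra hbad
  -- `z` is perpendicular to all points collinear to `x`
  have bad : ∀ y ∈ PP, Col PP T x y → y ≤ pr T z := by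
    intro y hy hxy
    by_contra h
    exact hbad (g.col_of hx hy hz hxy hzx (g.nsym hz hy h))
  obtain ⟨y₀, hy₀, hne₀, hc₀⟩ := g.line x hx
  have hn₀ : Cn PP T x y₀ := g.cn_of_col hx hy₀ hne₀ hc₀ (g.nbr x hx) (g.nbr y₀ hy₀)
  obtain ⟨x₁, hx₁, h1, h2⟩ := g.sep hx hy₀ hne₀ hn₀
  have hc₁ : Col PP T x x₁ := g.col_of hx hy₀ hx₁ hc₀ h1 h2
  have hzy₀ : y₀ ≤ pr T z := bad y₀ hy₀ hc₀
  have hzx₁ : x₁ ≤ pr T z := bad x₁ hx₁ hc₁
  have hn₁ : Cn PP T x x₁ := g.cn_step hx hy₀ hx₁ hn₀ h2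
  -- (5a)
  have claim : ∀ w ∈ PP, ¬ w ≤ pr T x → ¬ w ≤ pr T x₁ → w ≤ pr T z := by
    intro w hw hwx hwx₁
    by_contra hwz
    obtain ⟨a₁, ha₁, ha₁0⟩ := g.ne x₁ hx₁
    obtain ⟨a₃, ha₃, ha₃0⟩ := g.ne x hx
    obtain ⟨ω, hω, hω0⟩ := g.ne w hw
    obtain ⟨a₂, ha₂, h3⟩ := g.ix w hw z hz (g.nsym hz hw hwz) a₁
    have hz₁ : z ≤ pr T x₁ := g.sym z hz x₁ hx₁ hzx₁
    have hx₁x : x₁ ≤ pr T x := h1
    -- `ω + a₁`
    obtain ⟨s₁, hs₁, k1, -⟩ := g.ext hw hx₁ hω (g.not_mem hx₁ hw hwx₁ hω hω0) ha₁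
    obtain ⟨s₂, hs₂, k2, -⟩ := g.ext hs₁ hz k1 (by
      rw [AddSubgroup.add_mem_cancel_right _ (hzx₁ ha₁)]
      exact g.not_mem hz hw hwz hω hω0) (neg_mem ha₂)
    obtain ⟨s₃, hs₃, k3, -⟩ := g.ext hs₂ hx k2 (by
      rw [AddSubgroup.add_mem_cancel_right _ (neg_mem (hzx ha₂)),
        AddSubgroup.add_mem_cancel_right _ (hx₁x ha₁)]
      exact g.not_mem hx hw hwx hω hω0) ha₃
    have e3 : ω + a₁ + -a₂ + a₃ = ω + (a₁ - a₂) + a₃ := by abel
    have k4 : ω + a₁ + -a₂ + a₃ ∉ pr T w := by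
      rw [e3, AddSubgroup.add_mem_cancel_left _ (add_mem (g.self w hw hω) h3)]
      exact g.not_mem hw hx (g.nsym hx hw hwx) ha₃ ha₃0
    obtain ⟨c, hc, k5, -⟩ := g.ext hs₃ hw k3 k4 (neg_mem hω)
    have e4 : ω + a₁ + -a₂ + a₃ + -ω = a₁ - a₂ + a₃ := by abel
    rw [e4] at k5
    have k6 : a₁ - a₂ + a₃ ∉ pr T w := by
      rw [AddSubgroup.add_mem_cancel_left _ h3]
      exact g.not_mem hw hx (g.nsym hx hw hwx) ha₃ ha₃0
    have k60 : a₁ - a₂ + a₃ ≠ 0 := fun h => k6 (h ▸ zero_mem _)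
    have k7 : c ≤ pr T x := g.one hx hc k5 k60
      (add_mem (sub_mem (hx₁x ha₁) (hzx ha₂)) (g.self x hx ha₃))
    have k8 : ¬ c ≤ pr T y₀ := by
      rw [g.iff_one hy₀ hc k5 k60, AddSubgroup.add_mem_cancel_right _ (g.sym x hx y₀ hy₀ hc₀.1 ha₃),
        sub_eq_add_neg, AddSubgroup.add_mem_cancel_right _ (neg_mem (g.sym z hz y₀ hy₀ hzy₀ ha₂))]
      exact g.not_mem hy₀ hx₁ h2 ha₁ ha₁0
    have hcc : Col PP T x c := g.col_of hx hy₀ hc hc₀ k7 k8
    have hzc : c ≤ pr T z := bad c hc hcc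
    -- `z ⊥ r` for all points `r ⊥ x`
    have k9 : ∀ r ∈ PP, r ≤ pr T x → r ≤ pr T z := by
      intro r hr hrx
      by_cases hrx' : r = x
      · rw [hrx']; exact g.sym x hx z hz hzx
      by_cases hcr : Col PP T x r
      · exact bad r hr hcr
      · -- `r` bad
        have b1 : x₁ ≤ pr T r := by
          by_contra h
          exact hcr (g.col_of hx hx₁ hr hc₁ hrx (g.nsym hr hx₁ h))
        have b2 : c ≤ pr T r := by
          by_contra h
          exact hcr (g.col_of hx hc hr hcc hrx (g.nsym hr hc h))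
        have b3 : x ≤ pr T r := g.sym x hx r hr hrx
        have b4 : a₂ ∈ pr T r := by
          have e5 : a₂ = a₁ + a₃ - (a₁ - a₂ + a₃) := by abel
          rw [e5]
          exact sub_mem (add_mem (b1 ha₁) (b3 ha₃)) (b2 k5)
        have ha₂0 : a₂ ≠ 0 := by
          rintro rfl
          rw [sub_zero] at h3
          exact g.not_mem hw hx₁ (g.nsym hx₁ hw hwx₁) ha₁ ha₁0 h3
        exact g.sym r hr z hz (g.one hr hz ha₂ ha₂0 b4)
    have k10 : ∀ m, m ∈ pr T x → m ∈ pr T z := g.perp_of_pts hx hz hC k9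
    obtain ⟨t, ht, t', ht', h5, m, h6⟩ := g.inj hx hz hne hzx k10 hC
    exact h6 (g.o2 x hx z hz t ht t' ht' h5 m)
  -- (5b)
  have fin : ∀ w₁ ∈ PP, ∀ w₂ ∈ PP, ¬ w₁ ≤ pr T x → ¬ w₁ ≤ pr T x₁ → ¬ w₂ ≤ pr T x → ¬ w₂ ≤ pr T z →
      ¬ w₂ ≤ pr T w₁ → False := by
    intro w₁ hw₁ w₂ hw₂ k1 k2 k3 k4 k5
    have k6 := claim w₁ hw₁ k1 k2
    have k7 : w₂ ≤ pr T x₁ := by
      by_contra h
      exact k4 (claim w₂ hw₂ k3 h)
    obtain ⟨ω₁, hω₁, hω₁0⟩ := g.ne w₁ hw₁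
    obtain ⟨ω₂, hω₂, k8⟩ := g.ix x hx w₂ hw₂ k3 ω₁
    have hω₂0 : ω₂ ≠ 0 := by
      rintro rfl
      rw [sub_zero] at k8
      exact g.not_mem hx hw₁ k1 hω₁ hω₁0 k8
    have k9 : ω₁ - ω₂ ∉ pr T z := by
      rw [sub_eq_add_neg, AddSubgroup.add_mem_cancel_left _ (k6 hω₁), neg_mem_iff]
      exact g.not_mem hz hw₂ k4 hω₂ hω₂0
    have k90 : ω₁ - ω₂ ≠ 0 := fun h => k9 (h ▸ zero_mem _)
    obtain ⟨p, hp, k10, -⟩ := g.hyp hw₁ hw₂ k5 (sub_mem (AddSubgroup.mem_sup_left hω₁)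
      (AddSubgroup.mem_sup_right hω₂)) k90
    have k11 : p ≤ pr T x := g.one hx hp k10 k90 k8
    have k12 : ¬ p ≤ pr T x₁ := by
      rw [g.iff_one hx₁ hp k10 k90, sub_eq_add_neg, AddSubgroup.add_mem_cancel_right _ (neg_mem (k7 hω₂))]
      exact g.not_mem hx₁ hw₁ k2 hω₁ hω₁0
    exact k9 (bad p hp (g.col_of hx hx₁ hp hc₁ k11 k12) k10)
  obtain ⟨w₁, hw₁, k1, k2⟩ := hn₁
  obtain ⟨w₂, hw₂, k3, k4⟩ := hC
  by_cases k5 : w₂ ≤ pr T w₁
  · obtain ⟨ω₁, hω₁, hω₁0⟩ := g.ne w₁ hw₁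
    obtain ⟨ξ, hξ, hξ0⟩ := g.ne x hx
    have k6 : ω₁ + ξ ∉ pr T x := by
      rw [AddSubgroup.add_mem_cancel_right _ (g.self x hx hξ)]
      exact g.not_mem hx hw₁ k1 hω₁ hω₁0
    have k60 : ω₁ + ξ ≠ 0 := fun h => k6 (h ▸ zero_mem _)
    obtain ⟨w, hw, k7, -⟩ := g.ext hw₁ hx hω₁ (g.not_mem hx hw₁ k1 hω₁ hω₁0) hξ
    have k8 : ¬ w ≤ pr T x₁ := by
      rw [g.iff_one hx₁ hw k7 k60, AddSubgroup.add_mem_cancel_right _ (g.sym x hx x₁ hx₁ hc₁.1 hξ)]
      exact g.not_mem hx₁ hw₁ k2 hω₁ hω₁0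
    refine fin w hw w₂ hw₂ (by rwa [g.iff_one hx hw k7 k60]) k8 k3 k4 ?_
    apply g.nsym hw₂ hw
    rw [g.iff_one hw₂ hw k7 k60, AddSubgroup.add_mem_cancel_left _ (g.sym w₁ hw₁ w₂ hw₂ k5 hω₁)]
    exact g.not_mem hw₂ hx (g.nsym hx hw₂ k3) hξ hξ0
  · exact fin w₁ hw₁ w₂ hw₂ k1 k2 k3 k4 k5

/-- `x + z` is a union of points for all `x ≠ z` in one component. -/
theorem sup_pts {x z : AddSubgroup M} (hx : x ∈ PP) (hz : z ∈ PP) (hC : Cn PP T x z) {v : M} (hv : v ∈ x ⊔ z)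
    (hv0 : v ≠ 0) : ∃ s ∈ PP, v ∈ s ∧ s ≤ x ⊔ z := by
  by_cases hne : x = z
  · subst hne
    rw [sup_idem] at hv ⊢
    exact ⟨x, hx, hv, le_rfl⟩
  by_cases h : z ≤ pr T x
  · exact (g.col hx hz hne hC h).2 v hv hv0
  · exact g.hyp hx hz h hv hv0

/-- **(6)** Every nonzero vector of `M_C` lies in a point of `C`. -/
theorem vec {x : AddSubgroup M} (hx : x ∈ PP) : ∀ m ∈ MC PP T x, m ≠ 0 → ∃ s ∈ PP, Cn PP T x s ∧ m ∈ s := by
  -- points in `M_C` are in `C`
  have hin : ∀ s ∈ PP, s ≤ MC PP T x → Cn PP T x s := by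
    intro s hs hle
    by_contra hout
    obtain ⟨a, ha, has, -⟩ := g.cn_refl hs
    have h1 : ¬ Cn PP T x a := fun h => hout (g.cn_step hx ha hs h (g.nsym hs ha has))
    have h2 : MC PP T x ≤ pr T a := by
      refine sSup_le fun r hr => ?_
      exact g.sym r hr.1 a ha (g.out hx hr.1 ha hr.2 h1)
    exact g.nsym hs ha has (hle.trans h2)
  have key : ∀ m ∈ MC PP T x, m = 0 ∨ ∃ s ∈ PP, Cn PP T x s ∧ m ∈ s := by
    intro m hm
    rw [MC, sSup_eq_iSup'] at hm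
    refine AddSubgroup.iSup_induction (fun r : {r | r ∈ PP ∧ Cn PP T x r} => (r : AddSubgroup M))
      (C := fun m => m = 0 ∨ ∃ s ∈ PP, Cn PP T x s ∧ m ∈ s) hm ?_ (Or.inl rfl) ?_
    · intro r m hm
      exact Or.inr ⟨r, r.2.1, r.2.2, hm⟩
    · rintro a b (rfl | ⟨s, hs, h1, h2⟩) (rfl | ⟨u, hu, h3, h4⟩)
      · left; simp
      · right; rw [zero_add]; exact ⟨u, hu, h3, h4⟩
      · right; rw [add_zero]; exact ⟨s, hs, h1, h2⟩
      · by_cases h0 : a + b = 0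
        · exact Or.inl h0
        · obtain ⟨p, hp, h5, h6⟩ := g.sup_pts hs hu (g.cn_trans hs hx hu h1.symm h3)
            (add_mem (AddSubgroup.mem_sup_left h2) (AddSubgroup.mem_sup_right h4)) h0
          refine Or.inr ⟨p, hp, hin p hp (h6.trans (sup_le (le_MC hs h1) (le_MC hu h3))), h5⟩
  intro m hm hm0
  rcases key m hm with h | h
  · exact absurd h hm0
  · exact h

end GeoL

/-- a subgroup inside a union of two subgroups -/
theorem le_or_le {X A B : AddSubgroup M} (h : ∀ x ∈ X, x ∈ A ∨ x ∈ B) : X ≤ A ∨ X ≤ B := by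
  by_contra hcon
  push Not at hcon
  obtain ⟨h1, h2⟩ := hcon
  obtain ⟨u, hu, hu1⟩ := SetLike.not_le_iff_exists.1 h1
  obtain ⟨v, hv, hv1⟩ := SetLike.not_le_iff_exists.1 h2
  have hu2 : u ∈ B := (h u hu).resolve_left hu1
  have hv2 : v ∈ A := (h v hv).resolve_right hv1
  rcases h (u + v) (add_mem hu hv) with h3 | h3
  · exact hu1 ((AddSubgroup.add_mem_cancel_right _ hv2).1 h3)
  · exact hv1 ((AddSubgroup.add_mem_cancel_left _ hu2).1 h3)

/-- One component. -/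
structure GeoO (PP : Set (AddSubgroup M)) (T : AddSubgroup M → Set (M ≃+ M)) : Prop extends GeoL PP T where
  cn : ∀ x ∈ PP, ∀ z ∈ PP, Cn PP T x z
  nonempty : PP.Nonempty

namespace GeoO

variable (g : GeoO PP T)
include g

/-- Every nonzero vector is in a point. -/
theorem vect (m : M) (hm : m ≠ 0) : ∃ s ∈ PP, m ∈ s := by
  obtain ⟨x, hx⟩ := g.nonempty
  have h1 : sSup PP ≤ MC PP T x := sSup_le fun r hr => le_MC hr (g.cn x hx r hr)
  obtain ⟨s, hs, -, h⟩ := g.vec hx m (h1 (g.top m)) hm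
  exact ⟨s, hs, h⟩

/-- **(4)(a)** -/
theorem inv {x : AddSubgroup M} (hx : x ∈ PP) {A : AddSubgroup M}
    (hT : ∀ p ∈ PP, p ≤ pr T x → ∀ t ∈ T p, ∀ a ∈ A, t a ∈ A) : A ≤ x ∨ pr T x ≤ A := by
  let A' : AddSubgroup M := ⨅ s : {s : AddSubgroup M // s ∈ PP ∧ ∃ a ∈ A, a ≠ 0 ∧ a ∈ s}, pr T s
  have h1 : ∀ m ∈ pr T x, m ∈ A ∨ m ∈ A' := by
    intro m hm
    by_cases hm0 : m = 0
    · exact Or.inl (hm0 ▸ zero_mem _)
    obtain ⟨p, hp, hmp⟩ := g.vect m hm0
    have hpx : p ≤ pr T x := g.one hx hp hmp hm0 hm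
    by_cases hAp : A ≤ pr T p
    · right
      refine AddSubgroup.mem_iInf.2 ?_
      rintro ⟨s, hs, a, ha, ha0, has⟩
      exact g.sym p hp s hs (g.one hp hs has ha0 (hAp ha)) hmp
    · left
      obtain ⟨a, ha, hap⟩ := SetLike.not_le_iff_exists.1 hAp
      obtain ⟨t, ht, e⟩ := g.sur p hp a hap m hmp
      have h2 := hT p hp hpx t ht a ha
      rw [e, AddSubgroup.add_mem_cancel_left _ ha] at h2
      exact h2
  rcases le_or_le h1 with h2 | h2
  · exact Or.inr h2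
  · left
    intro a ha
    by_cases ha0 : a = 0
    · rw [ha0]; exact zero_mem _
    obtain ⟨s, hs, has⟩ := g.vect a ha0
    by_contra hax
    have hne : x ≠ s := fun e => hax (e ▸ has)
    obtain ⟨r, hr, h3, h4⟩ := g.sep hx hs hne (g.cn x hx s hs)
    exact h4 ((h3.trans h2).trans (iInf_le _ (⟨s, hs, a, ha, ha0, has⟩ :
      {s : AddSubgroup M // s ∈ PP ∧ ∃ a ∈ A, a ≠ 0 ∧ a ∈ s})))

/-- for `y, y' ≠ x` there is a point in `x^⊥` which is not perpendicular to `y`, `y'` -/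
theorem two {x y y' : AddSubgroup M} (hx : x ∈ PP) (hy : y ∈ PP) (hy' : y' ∈ PP) (h : x ≠ y) (h' : x ≠ y') :
    ∃ p ∈ PP, p ≤ pr T x ∧ ¬ p ≤ pr T y ∧ ¬ p ≤ pr T y' := by
  have key : ∃ m ∈ pr T x, m ∉ pr T y ∧ m ∉ pr T y' := by
    by_contra hcon
    push Not at hcon
    have h1 : ∀ m ∈ pr T x, m ∈ pr T y ∨ m ∈ pr T y' := fun m hm => or_iff_not_imp_left.2 (hcon m hm)
    rcases le_or_le h1 with h2 | h2
    · obtain ⟨r, hr, h3, h4⟩ := g.sep hx hy h (g.cn x hx y hy)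
      exact h4 (h3.trans h2)
    · obtain ⟨r, hr, h3, h4⟩ := g.sep hx hy' h' (g.cn x hx y' hy')
      exact h4 (h3.trans h2)
  obtain ⟨m, hm, h1, h2⟩ := key
  have hm0 : m ≠ 0 := fun e => h1 (e ▸ zero_mem _)
  obtain ⟨p, hp, hmp⟩ := g.vect m hm0
  exact ⟨p, hp, g.one hx hp hmp hm0 hm, fun h3 => h1 (h3 hmp), fun h3 => h2 (h3 hmp)⟩

/-- An automorphism of the geometry fixing `x^⊥` pointwise moves every vector inside `x`. -/
theorem tv {x : AddSubgroup M} (hx : x ∈ PP) {φ : M ≃+ M}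
    (hT : ∀ r ∈ PP, mp φ r = r → ∀ t ∈ T r, ∃ t' ∈ T r, ∀ m, t' (φ m) = φ (t m))
    (hreg : ∀ r ∈ PP, ∀ t ∈ T r, ∀ t' ∈ T r, ∀ m, m ∉ pr T r → t m = t' m → ∀ m', t m' = t' m')
    (hφ : ∀ m ∈ pr T x, φ m = m) (m : M) : φ m - m ∈ x := by
  have key : ∀ r ∈ PP, r ≤ pr T x → r ≠ x → φ m - m ∈ pr T r := by
    intro r hr hrx hne t ht
    have h1 : mp φ r = r := by
      ext y
      rw [mem_mp]
      constructor
      · rintro ⟨z, hz, rfl⟩
        rw [hφ z (hrx hz)]; exact hz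
      · intro hy
        exact ⟨y, hy, hφ y (hrx hy)⟩
    obtain ⟨t', ht', h2⟩ := hT r hr h1 t ht
    obtain ⟨r', hr', h3, h4⟩ := g.sep hx hr hne.symm (g.cn x hx r hr)
    obtain ⟨m₀, hm₀, hm₀'⟩ := SetLike.not_le_iff_exists.1 h4
    have h5 : t' m₀ = t m₀ := by
      have h6 := h2 m₀
      rw [hφ m₀ (h3 hm₀)] at h6
      rw [h6]
      refine hφ _ ?_
      have h7 : t m₀ = m₀ + (t m₀ - m₀) := by abel
      rw [h7]
      exact add_mem (h3 hm₀) (hrx (g.mem r hr t ht m₀))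
    have h6 : ∀ m, t' m = t m := hreg r hr t' ht' t ht m₀ hm₀' h5
    have h7 : t (φ m) = φ (t m) := by rw [← h6, h2]
    have h8 : φ (t m - m) = t m - m := hφ _ (hrx (g.mem r hr t ht m))
    rw [map_sub] at h8
    rw [map_sub, h7]
    have : φ (t m) = t m - m + φ m := by rw [← h8]; abel
    rw [this]; abel
  by_cases h0 : φ m - m = 0
  · rw [h0]; exact zero_mem _
  obtain ⟨s, hs, hms⟩ := g.vect _ h0
  by_contra hcon
  have hne : x ≠ s := fun e => hcon (e ▸ hms)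
  obtain ⟨r, hr, h1, h2⟩ := g.sep hx hs hne (g.cn x hx s hs)
  apply h2
  by_cases hrx : r = x
  · subst hrx
    -- `x` is generated by other points
    obtain ⟨y, hy, hxy, hcol⟩ := g.line r hr
    obtain ⟨η, hη, hη0⟩ := g.ne y hy
    intro ξ hξ
    by_cases hξ0 : ξ = 0
    · rw [hξ0]; exact zero_mem _
    have h0' : ξ + η ≠ 0 := by
      intro e
      have h5 : ξ = -η := eq_neg_of_add_eq_zero_left e
      exact hxy (g.ti r hr y hy ξ hξ (h5 ▸ neg_mem hη) hξ0)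
    obtain ⟨z, hz, hz1, hz2⟩ := hcol.2 (ξ + η)
      (add_mem (AddSubgroup.mem_sup_left hξ) (AddSubgroup.mem_sup_right hη)) h0'
    have hzr : z ≠ r := by
      intro e
      rw [e] at hz1
      have h6 : η ∈ r := (AddSubgroup.add_mem_cancel_left _ hξ).1 hz1
      exact hxy (g.ti r hr y hy η h6 hη hη0)
    have hzx : z ≤ pr T r := hz2.trans (sup_le h1 hcol.1)
    have k1 : y ≤ pr T s := g.sym y hy s hs (g.one hy hs hms h0 (key y hy hcol.1 hxy.symm))
    have k2 : z ≤ pr T s := g.sym z hz s hs (g.one hz hs hms h0 (key z hz hzx hzr))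
    have : ξ = (ξ + η) - η := by abel
    rw [this]
    exact sub_mem (k2 hz1) (k1 hη)
  · exact g.sym r hr s hs (g.one hr hs hms h0 (key r hr h1 hrx))

end GeoO

end Cfsg.Agent.Omega.NO3S.EThree.PtGeo

end

section


/-!
# TEXT R3 (helper609 #16982), STEP F

`F_1` is not transitive on `V_1^{D_12}`.  Abstract form: `S` permutes the blocks (conjugates of `Z`, `V`, `L` under `S`),
`s ∈ S` interchanges the partners `Z` and `Z_2 = sZ`; `H = N(Z)`, `D = H ∩ N(sZ)`.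

* `Hyp` : the hypotheses; `Hyp.stepF` : `D ≤ F (D ∩ N(V))` ⟹ the conjugates of `Z` under `⟨N(Z), N(sZ)⟩` commute;
* `Hyp.not_le` : so, if no nontrivial elementary abelian 2-group is normalised by `N(Z)` and `N(sZ)`, then
  `¬ D ≤ F ⊔ (D ⊓ N(V))`.
* `cov_of` : the field `cov` from the action of `H` on the components of `N_1`.

The components of `N_a` are not needed: everything takes place in the cosets of `X = ⟨H, L⟩` (`= E H`, `E = ⟨F, L⟩`,
`E ≤ N(sZ)`), and the point is `X s ⊆ S X`.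
-/

set_option autoImplicit false

namespace Cfsg.Agent.Omega.NO3S.EThree.StepF

open Subgroup
open scoped Pointwise

variable {G : Type*} [Group G]

/-- the conjugate `g A g⁻¹` -/
def cn (g : G) (A : Subgroup G) : Subgroup G := MulAut.conj g • A

theorem mem_cn {g x : G} {A : Subgroup G} : x ∈ cn g A ↔ g⁻¹ * x * g ∈ A := by
  unfold cn
  rw [Subgroup.mem_pointwise_smul_iff_inv_smul_mem, ← map_inv, MulAut.smul_def, MulAut.conj_apply, inv_inv]

theorem conj_mem_cn {g x : G} {A : Subgroup G} (hx : x ∈ A) : g * x * g⁻¹ ∈ cn g A := by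
  rw [mem_cn]
  have : g⁻¹ * (g * x * g⁻¹) * g = x := by group
  rwa [this]

theorem cn_mul (g k : G) (A : Subgroup G) : cn (g * k) A = cn g (cn k A) := by
  ext x
  rw [mem_cn, mem_cn, mem_cn]
  have : (g * k)⁻¹ * x * (g * k) = k⁻¹ * (g⁻¹ * x * g) * k := by group
  rw [this]

theorem cn_one (A : Subgroup G) : cn 1 A = A := by
  ext x
  rw [mem_cn]; simp

theorem cn_eq_iff {g : G} {A : Subgroup G} : cn g A = A ↔ g ∈ normalizer (A : Set G) := by
  rw [Subgroup.mem_normalizer_iff]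
  constructor
  · intro h x
    constructor
    · intro hx
      have : g * x * g⁻¹ ∈ cn g A := conj_mem_cn hx
      rwa [h] at this
    · intro hx
      rw [← h, mem_cn] at hx
      have e : g⁻¹ * (g * x * g⁻¹) * g = x := by group
      rwa [e] at hx
  · intro h
    ext x
    rw [mem_cn, h]
    have e : g * (g⁻¹ * x * g) * g⁻¹ = x := by group
    rw [e]

theorem cn_inv_of {g : G} {A : Subgroup G} (h : cn g A = A) : cn g⁻¹ A = A := by
  conv_lhs => rw [← h]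
  rw [← cn_mul, inv_mul_cancel, cn_one]

theorem cn_eq_cn_iff {g k : G} {A : Subgroup G} : cn g A = cn k A ↔ k⁻¹ * g ∈ normalizer (A : Set G) := by
  rw [← cn_eq_iff, cn_mul]
  constructor
  · intro h
    rw [h, ← cn_mul, inv_mul_cancel, cn_one]
  · intro h
    have := congrArg (cn k) h
    rwa [← cn_mul, mul_inv_cancel, cn_one] at this

theorem cn_mono (g : G) {A B : Subgroup G} (h : A ≤ B) : cn g A ≤ cn g B := fun x hx => by
  rw [mem_cn] at hx ⊢
  exact h hx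

/-- **The hypotheses of STEP F.** -/
structure Hyp (S : Subgroup G) (s : G) (Z V L F : Subgroup G) : Prop where
  sS : s ∈ S
  /-- `s` interchanges `Z` and `sZ` -/
  ss : s * s ∈ normalizer (Z : Set G)
  ne : cn s Z ≠ Z
  ZV : Z ≤ V
  LV : ∀ l ∈ L, cn l V = V
  /-- `L` is transitive on the points contained in `V` -/
  pts : ∀ g, cn g Z ≤ V → ∃ l ∈ L, cn g Z = cn l Z
  /-- the `L`'s of the other blocks centralise `V` -/
  blk : ∀ σ ∈ S, cn σ Z ≠ Z → ∀ l ∈ L, ∀ v ∈ V, (σ * l * σ⁻¹) * v = v * (σ * l * σ⁻¹)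
  FD : F ≤ normalizer (Z : Set G) ⊓ normalizer (cn s Z : Set G)
  Fn : ∀ h ∈ normalizer (Z : Set G), ∀ f ∈ F, h * f * h⁻¹ ∈ F
  /-- `N_H(K_2) = ⟨D, L_2⟩`, every component of `N_1` contains a block, in which `V` is a line -/
  cov : ∀ h ∈ normalizer (Z : Set G), ∃ c ∈ normalizer (Z : Set G),
    ∃ k ∈ closure (((normalizer (Z : Set G) ⊓ normalizer (cn s Z : Set G) : Subgroup G) : Set G) ∪ (cn s L : Set G)),
    ∃ σ ∈ S, h = c * k ∧ cn (c * s) Z = cn σ Z ∧ cn c V = V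
  /-- `⟨V^{H_2}⟩` is abelian -/
  ab : ∀ σ ∈ S, ∀ h ∈ normalizer (cn s Z : Set G), ∀ a ∈ Z, ∀ b ∈ Z,
    (σ * a * σ⁻¹) * (h * b * h⁻¹) = (h * b * h⁻¹) * (σ * a * σ⁻¹)

namespace Hyp

variable {S : Subgroup G} {s : G} {Z V L F : Subgroup G}

/-- the neighbours of `Z` among the blocks -/
def JJ (S : Subgroup G) (s : G) (Z : Subgroup G) (σ : G) : Prop :=
  σ ∈ S ∧ ∃ c ∈ normalizer (Z : Set G), cn σ Z = cn (c * s) Z

variable (H : Hyp S s Z V L F)

include H

theorem jj_ne {σ : G} (hσ : JJ S s Z σ) : cn σ Z ≠ Z := by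
  obtain ⟨-, c, hc, e⟩ := hσ
  intro h
  apply H.ne
  rw [h, cn_mul] at e
  have h1 := congrArg (cn c⁻¹) e
  rw [← cn_mul c⁻¹ c, inv_mul_cancel, cn_one, cn_inv_of (cn_eq_iff.2 hc)] at h1
  exact h1.symm

theorem jj_s : JJ S s Z s := ⟨H.sS, 1, one_mem _, by rw [one_mul]⟩

/-- `σ⁻¹ L σ ≤ N(Z)` for `σZ ≠ Z` -/
theorem L_conj {σ : G} (hσ : σ ∈ S) (hne : cn σ Z ≠ Z) {l : G} (hl : l ∈ L) :
    σ * l * σ⁻¹ ∈ normalizer (Z : Set G) := by
  rw [Subgroup.mem_normalizer_iff]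
  have h1 : ∀ z ∈ Z, (σ * l * σ⁻¹) * z * (σ * l * σ⁻¹)⁻¹ = z := by
    intro z hz
    rw [H.blk σ hσ hne l hl z (H.ZV hz), mul_inv_cancel_right]
  intro z
  constructor
  · intro hz
    rw [h1 z hz]; exact hz
  · intro hz
    have h2 : (σ * l * σ⁻¹) * ((σ * l * σ⁻¹) * z * (σ * l * σ⁻¹)⁻¹) =
        ((σ * l * σ⁻¹) * z * (σ * l * σ⁻¹)⁻¹) * (σ * l * σ⁻¹) := H.blk σ hσ hne l hl _ (H.ZV hz)
    have h3 : z = (σ * l * σ⁻¹) * z * (σ * l * σ⁻¹)⁻¹ := by
      have h4 : (σ * l * σ⁻¹)⁻¹ * ((σ * l * σ⁻¹) * ((σ * l * σ⁻¹) * z * (σ * l * σ⁻¹)⁻¹)) =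
          (σ * l * σ⁻¹)⁻¹ * (((σ * l * σ⁻¹) * z * (σ * l * σ⁻¹)⁻¹) * (σ * l * σ⁻¹)) := by rw [h2]
      have h5 : (σ * l * σ⁻¹)⁻¹ * ((σ * l * σ⁻¹) * ((σ * l * σ⁻¹) * z * (σ * l * σ⁻¹)⁻¹)) =
          (σ * l * σ⁻¹) * z * (σ * l * σ⁻¹)⁻¹ := by group
      have h6 : (σ * l * σ⁻¹)⁻¹ * (((σ * l * σ⁻¹) * z * (σ * l * σ⁻¹)⁻¹) * (σ * l * σ⁻¹)) = z := by group
      rw [h5, h6] at h4
      exact h4.symm
    rw [h3]; exact hz

omit H in
theorem ne_inv {σ : G} (hne : cn σ Z ≠ Z) : cn σ⁻¹ Z ≠ Z := by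
  intro h
  apply hne
  have := cn_inv_of h
  rwa [inv_inv] at this

/-- `s⁻¹ D s ≤ D` -/
theorem D_conj {d : G} (hd : d ∈ normalizer (Z : Set G) ⊓ normalizer (cn s Z : Set G)) :
    s⁻¹ * d * s ∈ normalizer (Z : Set G) ⊓ normalizer (cn s Z : Set G) := by
  rw [Subgroup.mem_inf, ← cn_eq_iff, ← cn_eq_iff] at hd ⊢
  have h1 : cn (s * s) Z = Z := cn_eq_iff.2 H.ss
  refine ⟨?_, ?_⟩
  · rw [cn_mul, cn_mul, hd.2, ← cn_mul, inv_mul_cancel, cn_one]
  · -- `s Z = s⁻¹ Z`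
    have h2 : cn s Z = cn s⁻¹ Z := by
      have := congrArg (cn s⁻¹) h1
      rwa [← cn_mul, inv_mul_cancel_left] at this
    rw [h2, ← cn_mul]
    have h3 : s⁻¹ * d * s * s⁻¹ = s⁻¹ * d := by group
    rw [h3, cn_mul, hd.1]

/-- **(N)** -/
theorem nbr {h : G} (hh : h ∈ normalizer (Z : Set G)) :
    ∃ σ, JJ S s Z σ ∧ ∃ x ∈ closure ((normalizer (Z : Set G) : Set G) ∪ (L : Set G)), h * s = σ * x := by
  obtain ⟨c, hc, k, hk, σ, hσ, e1, e2, -⟩ := H.cov h hh
  refine ⟨σ, ⟨hσ, c, hc, e2.symm⟩, σ⁻¹ * (c * s) * (s⁻¹ * k * s), mul_mem ?_ ?_, ?_⟩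
  · exact subset_closure (Or.inl (cn_eq_cn_iff.1 e2))
  · clear e1
    induction hk using Subgroup.closure_induction with
    | mem y hy =>
      rcases hy with hy | hy
      · exact subset_closure (Or.inl (Subgroup.mem_inf.1 (H.D_conj hy)).1)
      · exact subset_closure (Or.inr (mem_cn.1 hy))
    | one =>
      have : s⁻¹ * 1 * s = 1 := by group
      rw [this]; exact one_mem _
    | mul y z _ _ ihy ihz =>
      have : s⁻¹ * (y * z) * s = (s⁻¹ * y * s) * (s⁻¹ * z * s) := by group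
      rw [this]; exact mul_mem ihy ihz
    | inv y _ ih =>
      have : s⁻¹ * y⁻¹ * s = (s⁻¹ * y * s)⁻¹ := by group
      rw [this]; exact inv_mem ih
  · rw [e1]; group

/-- `X σ ⊆ S X` for neighbours `σ` -/
theorem X_comm {x : G} (hx : x ∈ closure ((normalizer (Z : Set G) : Set G) ∪ (L : Set G))) :
    ∀ σ, JJ S s Z σ → ∃ σ', JJ S s Z σ' ∧ ∃ x' ∈ closure ((normalizer (Z : Set G) : Set G) ∪ (L : Set G)),
      x * σ = σ' * x' := by
  have key : ∀ (x y : G), (y ∈ normalizer (Z : Set G) ∨ y ∈ L) →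
      (∀ σ, JJ S s Z σ → ∃ σ', JJ S s Z σ' ∧ ∃ x' ∈ closure ((normalizer (Z : Set G) : Set G) ∪ (L : Set G)),
        x * σ = σ' * x') →
      ∀ σ, JJ S s Z σ → ∃ σ', JJ S s Z σ' ∧ ∃ x' ∈ closure ((normalizer (Z : Set G) : Set G) ∪ (L : Set G)),
        x * y * σ = σ' * x' := by
    intro x y hy ih σ hσ
    rcases hy with hy | hy
    · obtain ⟨c, hc, e⟩ := hσ.2
      obtain ⟨σ1, hσ1, x1, hx1, e1⟩ := H.nbr (mul_mem hy hc)
      obtain ⟨σ2, hσ2, x2, hx2, e2⟩ := ih σ1 hσ1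
      have h1 : (c * s)⁻¹ * σ ∈ normalizer (Z : Set G) := cn_eq_cn_iff.1 e
      refine ⟨σ2, hσ2, x2 * x1 * ((c * s)⁻¹ * σ), mul_mem (mul_mem hx2 hx1) (subset_closure (Or.inl h1)), ?_⟩
      calc x * y * σ = x * ((y * c) * s) * ((c * s)⁻¹ * σ) := by group
        _ = (x * σ1) * x1 * ((c * s)⁻¹ * σ) := by rw [e1]; group
        _ = σ2 * (x2 * x1 * ((c * s)⁻¹ * σ)) := by rw [e2]; group
    · obtain ⟨σ1, hσ1, x1, hx1, e1⟩ := ih σ hσ
      have h1 : σ⁻¹ * y * σ⁻¹⁻¹ ∈ normalizer (Z : Set G) :=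
        H.L_conj (inv_mem hσ.1) (ne_inv (H.jj_ne hσ)) hy
      rw [inv_inv] at h1
      refine ⟨σ1, hσ1, x1 * (σ⁻¹ * y * σ), mul_mem hx1 (subset_closure (Or.inl h1)), ?_⟩
      calc x * y * σ = (x * σ) * (σ⁻¹ * y * σ) := by group
        _ = σ1 * (x1 * (σ⁻¹ * y * σ)) := by rw [e1]; group
  induction hx using Subgroup.closure_induction_right with
  | one => exact fun σ hσ => ⟨σ, hσ, 1, one_mem _, by rw [one_mul, mul_one]⟩
  | mul_right x hx y hy ih => exact key x y hy ih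
  | mul_inv_cancel x hx y hy ih => exact key x y⁻¹ (hy.imp inv_mem inv_mem) ih

/-- `G₀ ⊆ S X` -/
theorem mem_SX {g : G} (hg : g ∈ normalizer (Z : Set G) ⊔ normalizer (cn s Z : Set G)) :
    ∃ σ ∈ S, ∃ x ∈ closure ((normalizer (Z : Set G) : Set G) ∪ (L : Set G)), g = σ * x := by
  rw [Subgroup.sup_eq_closure] at hg
  suffices h : (∃ σ ∈ S, ∃ x ∈ closure ((normalizer (Z : Set G) : Set G) ∪ (L : Set G)), g = σ * x) ∧
      ∃ σ ∈ S, ∃ x ∈ closure ((normalizer (Z : Set G) : Set G) ∪ (L : Set G)), g * s = σ * x from h.1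
  have step : ∀ g : G, (∃ σ ∈ S, ∃ x ∈ closure ((normalizer (Z : Set G) : Set G) ∪ (L : Set G)), g = σ * x) →
      ∀ h ∈ normalizer (Z : Set G),
      ∃ σ ∈ S, ∃ x ∈ closure ((normalizer (Z : Set G) : Set G) ∪ (L : Set G)), g * h * s = σ * x := by
    rintro g ⟨σ, hσ, x, hx, rfl⟩ h hh
    obtain ⟨σ', hσ', x', hx', e⟩ := H.X_comm (mul_mem hx (subset_closure (Or.inl hh))) s H.jj_s
    refine ⟨σ * σ', mul_mem hσ hσ'.1, x', hx', ?_⟩
    calc σ * x * h * s = σ * ((x * h) * s) := by group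
      _ = σ * σ' * x' := by rw [e]; group
  have key : ∀ (g y : G), (y ∈ normalizer (Z : Set G) ∨ y ∈ normalizer (cn s Z : Set G)) →
      ((∃ σ ∈ S, ∃ x ∈ closure ((normalizer (Z : Set G) : Set G) ∪ (L : Set G)), g = σ * x) ∧
        ∃ σ ∈ S, ∃ x ∈ closure ((normalizer (Z : Set G) : Set G) ∪ (L : Set G)), g * s = σ * x) →
      ((∃ σ ∈ S, ∃ x ∈ closure ((normalizer (Z : Set G) : Set G) ∪ (L : Set G)), g * y = σ * x) ∧
        ∃ σ ∈ S, ∃ x ∈ closure ((normalizer (Z : Set G) : Set G) ∪ (L : Set G)), g * y * s = σ * x) := by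
    rintro g y hy ⟨h1, h2⟩
    rcases hy with hy | hy
    · refine ⟨?_, step g h1 y hy⟩
      obtain ⟨σ, hσ, x, hx, rfl⟩ := h1
      exact ⟨σ, hσ, x * y, mul_mem hx (subset_closure (Or.inl hy)), by group⟩
    · -- `y = s h s⁻¹`
      have hh : s⁻¹ * y * s ∈ normalizer (Z : Set G) := by
        rw [← cn_eq_iff] at hy ⊢
        rw [cn_mul, cn_mul, hy, ← cn_mul, inv_mul_cancel, cn_one]
      refine ⟨?_, ?_⟩
      · obtain ⟨σ, hσ, x, hx, e⟩ := step (g * s) h2 ((s⁻¹ * y * s) * (s * s)⁻¹) (mul_mem hh (inv_mem H.ss))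
        refine ⟨σ, hσ, x, hx, ?_⟩
        rw [← e]; group
      · obtain ⟨σ, hσ, x, hx, e⟩ := h2
        refine ⟨σ, hσ, x * (s⁻¹ * y * s), mul_mem hx (subset_closure (Or.inl hh)), ?_⟩
        calc g * y * s = (g * s) * (s⁻¹ * y * s) := by group
          _ = σ * (x * (s⁻¹ * y * s)) := by rw [e]; group
  induction hg using Subgroup.closure_induction_right with
  | one =>
    exact ⟨⟨1, one_mem _, 1, one_mem _, by rw [mul_one]⟩, ⟨s, H.sS, 1, one_mem _, by rw [one_mul, mul_one]⟩⟩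
  | mul_right x hx y hy ih => exact key x y hy ih
  | mul_inv_cancel x hx y hy ih => exact key x y⁻¹ (hy.imp inv_mem inv_mem) ih

section Trans

variable (htr : ∀ d ∈ normalizer (Z : Set G) ⊓ normalizer (cn s Z : Set G), ∃ f ∈ F, cn d V = cn f V)

include htr

/-- `V^H = V^F` -/
theorem line {h : G} (hh : h ∈ normalizer (Z : Set G)) : ∃ f ∈ F, cn h V = cn f V := by
  obtain ⟨c, hc, k, hk, σ, hσ, e1, e2, e3⟩ := H.cov h hh
  have hL2 : ∀ y ∈ cn s L, y ∈ normalizer (Z : Set G) ∧ cn y V = V := by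
    intro y hy
    have h1 : s * (s⁻¹ * y * s) * s⁻¹ = y := by group
    refine ⟨h1 ▸ H.L_conj H.sS H.ne (mem_cn.1 hy), ?_⟩
    have h2 : ∀ v ∈ V, y * v = v * y := by
      intro v hv
      have := H.blk s H.sS H.ne _ (mem_cn.1 hy) v hv
      rwa [h1] at this
    ext v
    rw [mem_cn]
    constructor
    · intro hv
      have h3 := h2 _ hv
      have h4 : v = y⁻¹ * v * y := by
        calc v = (y * (y⁻¹ * v * y)) * y⁻¹ := by group
          _ = y⁻¹ * v * y := by rw [h3]; group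
      rw [h4]; exact hv
    · intro hv
      have h4 : y⁻¹ * v * y = v := by
        rw [mul_assoc, ← h2 v hv, inv_mul_cancel_left]
      rw [h4]; exact hv
  have key : ∀ x y : G, (y ∈ normalizer (Z : Set G) ⊓ normalizer (cn s Z : Set G) ∨ y ∈ cn s L) →
      (∃ f ∈ F, cn x V = cn f V) → ∃ f ∈ F, cn (y * x) V = cn f V := by
    rintro x y hy ⟨f, hf, e⟩
    obtain ⟨hyH, f', hf', e'⟩ : y ∈ normalizer (Z : Set G) ∧ ∃ f' ∈ F, cn y V = cn f' V := by
      rcases hy with hy | hy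
      · exact ⟨(Subgroup.mem_inf.1 hy).1, htr y hy⟩
      · exact ⟨(hL2 y hy).1, 1, one_mem _, by rw [cn_one, (hL2 y hy).2]⟩
    refine ⟨(y * f * y⁻¹) * f', mul_mem (H.Fn y hyH f hf) hf', ?_⟩
    rw [cn_mul, e, ← cn_mul, cn_mul (y * f * y⁻¹), ← e', ← cn_mul]
    congr 1
    group
  have h1 : ∃ f ∈ F, cn k V = cn f V := by
    clear e1
    induction hk using Subgroup.closure_induction_left with
    | one => exact ⟨1, one_mem _, rfl⟩
    | mul_left y hy x hx ih => exact key x y hy ih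
    | inv_mul_cancel y hy x hx ih => exact key x y⁻¹ (hy.imp inv_mem inv_mem) ih
  obtain ⟨f, hf, e⟩ := h1
  refine ⟨c * f * c⁻¹, H.Fn c hc f hf, ?_⟩
  have e4 : c * f * c⁻¹ = (c * f) * c⁻¹ := rfl
  rw [e1, cn_mul, e, e4, cn_mul (c * f), cn_inv_of e3, cn_mul]

/-- `X = E H`, `E = ⟨F, L⟩` -/
theorem X_eq {x : G} (hx : x ∈ closure ((normalizer (Z : Set G) : Set G) ∪ (L : Set G))) :
    ∃ e ∈ closure ((F : Set G) ∪ (L : Set G)), ∃ h ∈ normalizer (Z : Set G), x = e * h := by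
  -- `H L ⊆ E H`
  have hHL : ∀ h ∈ normalizer (Z : Set G), ∀ l ∈ L,
      ∃ e ∈ closure ((F : Set G) ∪ (L : Set G)), ∃ h' ∈ normalizer (Z : Set G), h * l = e * h' := by
    intro h hh l hl
    obtain ⟨f, hf, e⟩ := H.line htr hh
    have hfH : f ∈ normalizer (Z : Set G) := (Subgroup.mem_inf.1 (H.FD hf)).1
    have hm : cn (f⁻¹ * h) V = V := by
      rw [cn_mul, e, ← cn_mul, inv_mul_cancel, cn_one]
    have hp : cn (f⁻¹ * h * l) Z ≤ V := by
      rw [cn_mul]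
      have h1 : cn l Z ≤ V := by
        rw [← H.LV l hl]; exact cn_mono l H.ZV
      rw [← hm]
      exact cn_mono _ h1
    obtain ⟨l', hl', e'⟩ := H.pts _ hp
    refine ⟨f * l', mul_mem (subset_closure (Or.inl hf)) (subset_closure (Or.inr hl')),
      l'⁻¹ * (f⁻¹ * h * l), cn_eq_cn_iff.1 e', ?_⟩
    group
  -- `H E ⊆ E H`
  have hHE : ∀ e ∈ closure ((F : Set G) ∪ (L : Set G)), ∀ h ∈ normalizer (Z : Set G),
      ∃ e' ∈ closure ((F : Set G) ∪ (L : Set G)), ∃ h' ∈ normalizer (Z : Set G), h * e = e' * h' := by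
    have key : ∀ x y : G, (y ∈ F ∨ y ∈ L) →
        (∀ h ∈ normalizer (Z : Set G), ∃ e' ∈ closure ((F : Set G) ∪ (L : Set G)),
          ∃ h' ∈ normalizer (Z : Set G), h * x = e' * h') →
        ∀ h ∈ normalizer (Z : Set G), ∃ e' ∈ closure ((F : Set G) ∪ (L : Set G)),
          ∃ h' ∈ normalizer (Z : Set G), h * (y * x) = e' * h' := by
      intro x y hy ih h hh
      rcases hy with hy | hy
      · obtain ⟨e', he', h', hh', e⟩ := ih h hh
        refine ⟨(h * y * h⁻¹) * e', mul_mem (subset_closure (Or.inl (H.Fn h hh y hy))) he', h', hh', ?_⟩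
        calc h * (y * x) = (h * y * h⁻¹) * (h * x) := by group
          _ = (h * y * h⁻¹) * e' * h' := by rw [e]; group
      · obtain ⟨e1, he1, h1, hh1, q1⟩ := hHL h hh y hy
        obtain ⟨e2, he2, h2, hh2, q2⟩ := ih h1 hh1
        refine ⟨e1 * e2, mul_mem he1 he2, h2, hh2, ?_⟩
        calc h * (y * x) = (h * y) * x := by group
          _ = e1 * (h1 * x) := by rw [q1]; group
          _ = e1 * e2 * h2 := by rw [q2]; group
    intro e he
    induction he using Subgroup.closure_induction_left with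
    | one => exact fun h hh => ⟨1, one_mem _, h, hh, by rw [mul_one, one_mul]⟩
    | mul_left y hy x hx ih => exact key x y hy ih
    | inv_mul_cancel y hy x hx ih => exact key x y⁻¹ (hy.imp inv_mem inv_mem) ih
  have key : ∀ x y : G, (y ∈ normalizer (Z : Set G) ∨ y ∈ L) →
      (∃ e ∈ closure ((F : Set G) ∪ (L : Set G)), ∃ h ∈ normalizer (Z : Set G), x = e * h) →
      ∃ e ∈ closure ((F : Set G) ∪ (L : Set G)), ∃ h ∈ normalizer (Z : Set G), y * x = e * h := by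
    rintro x y hy ⟨e, he, h, hh, rfl⟩
    rcases hy with hy | hy
    · obtain ⟨e', he', h', hh', q⟩ := hHE e he y hy
      exact ⟨e', he', h' * h, mul_mem hh' hh, by rw [← mul_assoc, q, mul_assoc]⟩
    · exact ⟨y * e, mul_mem (subset_closure (Or.inr hy)) he, h, hh, by rw [mul_assoc]⟩
  induction hx using Subgroup.closure_induction_left with
  | one => exact ⟨1, one_mem _, 1, one_mem _, by rw [mul_one]⟩
  | mul_left y hy x hx ih => exact key x y hy ih
  | inv_mul_cancel y hy x hx ih => exact key x y⁻¹ (hy.imp inv_mem inv_mem) ih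

/-- **STEP F** : the conjugates of `Z` under `⟨N(Z), N(sZ)⟩` commute. -/
theorem stepF {g k : G} (hg : g ∈ normalizer (Z : Set G) ⊔ normalizer (cn s Z : Set G))
    (hk : k ∈ normalizer (Z : Set G) ⊔ normalizer (cn s Z : Set G)) {a b : G} (ha : a ∈ Z) (hb : b ∈ Z) :
    (g * a * g⁻¹) * (k * b * k⁻¹) = (k * b * k⁻¹) * (g * a * g⁻¹) := by
  have key : ∀ g ∈ normalizer (Z : Set G) ⊔ normalizer (cn s Z : Set G), ∀ a ∈ Z, ∀ b ∈ Z,
      b * (g * a * g⁻¹) = (g * a * g⁻¹) * b := by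
    intro g hg a ha b hb
    obtain ⟨σ, hσ, x, hx, rfl⟩ := H.mem_SX hg
    obtain ⟨e, he, h, hh, rfl⟩ := H.X_eq htr hx
    have heN : e ∈ normalizer (cn s Z : Set G) := by
      have h1 : closure ((F : Set G) ∪ (L : Set G)) ≤ normalizer (cn s Z : Set G) := by
        rw [Subgroup.closure_le]
        rintro y (hy | hy)
        · exact (Subgroup.mem_inf.1 (H.FD hy)).2
        · have h2 := H.L_conj (inv_mem H.sS) (ne_inv H.ne) hy
          rw [inv_inv] at h2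
          change y ∈ normalizer (cn s Z : Set G)
          rw [← cn_eq_iff] at h2 ⊢
          rw [cn_mul, cn_mul] at h2
          have h3 := congrArg (cn s) h2
          rwa [← cn_mul, mul_inv_cancel, cn_one] at h3
      exact h1 he
    have ha' : h * a * h⁻¹ ∈ Z := (Subgroup.mem_normalizer_iff.1 hh a).1 ha
    have h1 := H.ab σ⁻¹ (inv_mem hσ) e heN b hb _ ha'
    have h2 : (σ * (e * h)) * a * (σ * (e * h))⁻¹ = σ * (e * (h * a * h⁻¹) * e⁻¹) * σ⁻¹ := by group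
    rw [h2]
    rw [inv_inv] at h1
    calc b * (σ * (e * (h * a * h⁻¹) * e⁻¹) * σ⁻¹) = σ * ((σ⁻¹ * b * σ) * (e * (h * a * h⁻¹) * e⁻¹)) * σ⁻¹ := by group
      _ = σ * ((e * (h * a * h⁻¹) * e⁻¹) * (σ⁻¹ * b * σ)) * σ⁻¹ := by rw [h1]
      _ = (σ * (e * (h * a * h⁻¹) * e⁻¹) * σ⁻¹) * b := by group
  have h1 := key (k⁻¹ * g) (mul_mem (inv_mem hk) hg) a ha b hb
  calc (g * a * g⁻¹) * (k * b * k⁻¹) = k * ((k⁻¹ * g * a * (k⁻¹ * g)⁻¹) * b) * k⁻¹ := by group
    _ = k * (b * (k⁻¹ * g * a * (k⁻¹ * g)⁻¹)) * k⁻¹ := by rw [h1]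
    _ = (k * b * k⁻¹) * (g * a * g⁻¹) := by group

end Trans

/-- **STEP F**, final form. -/
theorem not_le (hZ1 : Z ≠ ⊥) (hZ2 : ∀ z ∈ Z, z * z = 1)
    (hnl : ∀ A : Subgroup G, (∀ a ∈ A, a * a = 1) → normalizer (Z : Set G) ≤ normalizer (A : Set G) →
      normalizer (cn s Z : Set G) ≤ normalizer (A : Set G) → A = ⊥) :
    ¬ normalizer (Z : Set G) ⊓ normalizer (cn s Z : Set G) ≤
      F ⊔ ((normalizer (Z : Set G) ⊓ normalizer (cn s Z : Set G)) ⊓ normalizer (V : Set G)) := by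
  intro hle
  have htr : ∀ d ∈ normalizer (Z : Set G) ⊓ normalizer (cn s Z : Set G), ∃ f ∈ F, cn d V = cn f V := by
    intro d hd
    set D : Subgroup G := normalizer (Z : Set G) ⊓ normalizer (cn s Z : Set G) with hD
    have h1 : D ⊓ normalizer (V : Set G) ≤ normalizer (F : Set G) := by
      intro y hy
      have hyH : y ∈ normalizer (Z : Set G) := (Subgroup.mem_inf.1 (Subgroup.mem_inf.1 hy).1).1
      rw [Subgroup.mem_normalizer_iff]
      intro f
      constructor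
      · exact H.Fn y hyH f
      · intro hf
        have := H.Fn y⁻¹ (inv_mem hyH) _ hf
        have e : y⁻¹ * (y * f * y⁻¹) * y⁻¹⁻¹ = f := by group
        rwa [e] at this
    have h2 : d ∈ ((F ⊔ (D ⊓ normalizer (V : Set G)) : Subgroup G) : Set G) := hle hd
    rw [Subgroup.coe_mul_of_right_le_normalizer_left _ _ h1, Set.mem_mul] at h2
    obtain ⟨f, hf, y, hy, rfl⟩ := h2
    refine ⟨f, hf, ?_⟩
    rw [cn_mul, cn_eq_iff.2 (Subgroup.mem_inf.1 hy).2]
  set G0 : Subgroup G := normalizer (Z : Set G) ⊔ normalizer (cn s Z : Set G) with hG0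
  let T : Set G := {y | ∃ g ∈ G0, ∃ a ∈ Z, y = g * a * g⁻¹}
  have hTc : ∀ x ∈ T, ∀ y ∈ T, x * y = y * x := by
    rintro _ ⟨g, hg, a, ha, rfl⟩ _ ⟨k, hk, b, hb, rfl⟩
    exact H.stepF htr hg hk ha hb
  have hTs : ∀ x ∈ T, x * x = 1 := by
    rintro _ ⟨g, hg, a, ha, rfl⟩
    calc (g * a * g⁻¹) * (g * a * g⁻¹) = g * (a * a) * g⁻¹ := by group
      _ = 1 := by rw [hZ2 a ha]; group
  have hA2 : ∀ x ∈ closure T, ∀ y ∈ closure T, x * y = y * x := by
    intro x hx y hy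
    have h1 : closure T ≤ centralizer T := by
      rw [Subgroup.closure_le]
      intro u hu
      rw [SetLike.mem_coe, Subgroup.mem_centralizer_iff]
      exact fun v hv => hTc v hv u hu
    have h2 : closure T ≤ centralizer (closure T : Set G) := by
      rw [Subgroup.le_centralizer_iff, Subgroup.closure_le]
      intro u hu
      rw [SetLike.mem_coe, Subgroup.mem_centralizer_iff]
      intro v hv
      exact (Subgroup.mem_centralizer_iff.1 (h1 hv) u hu).symm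
    exact (Subgroup.mem_centralizer_iff.1 (h2 hx) y hy).symm
  have hA3 : ∀ x ∈ closure T, x * x = 1 := by
    intro x hx
    induction hx using Subgroup.closure_induction with
    | mem y hy => exact hTs y hy
    | one => exact one_mul 1
    | mul y z hy hz ihy ihz =>
      have h1 := hA2 y hy z hz
      calc y * z * (y * z) = y * (z * y) * z := by group
        _ = (y * y) * (z * z) := by rw [← h1]; group
        _ = 1 := by rw [ihy, ihz, one_mul]
    | inv y hy ih =>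
      rw [← mul_inv_rev, ih, inv_one]
  have hN : G0 ≤ normalizer (closure T : Set G) := by
    intro k hk
    rw [← cn_eq_iff]
    have h1 : ∀ k ∈ G0, cn k (closure T) ≤ closure T := by
      intro k hk y hy
      rw [mem_cn] at hy
      have h2 : ∀ z ∈ closure T, k * z * k⁻¹ ∈ closure T := by
        intro z hz
        induction hz using Subgroup.closure_induction with
        | mem z hz =>
          obtain ⟨g, hg, a, ha, rfl⟩ := hz
          exact subset_closure ⟨k * g, mul_mem hk hg, a, ha, by group⟩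
        | one => rw [mul_one, mul_inv_cancel]; exact one_mem _
        | mul u v _ _ ihu ihv =>
          have : k * (u * v) * k⁻¹ = (k * u * k⁻¹) * (k * v * k⁻¹) := by group
          rw [this]; exact mul_mem ihu ihv
        | inv u _ ih =>
          have : k * u⁻¹ * k⁻¹ = (k * u * k⁻¹)⁻¹ := by group
          rw [this]; exact inv_mem ih
      have h3 := h2 _ hy
      have h4 : k * (k⁻¹ * y * k) * k⁻¹ = y := by group
      rwa [h4] at h3
    apply le_antisymm (h1 k hk)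
    have h2 := cn_mono k (h1 k⁻¹ (inv_mem hk))
    rwa [← cn_mul, mul_inv_cancel, cn_one] at h2
  have h1 := hnl (closure T) hA3 (le_sup_left.trans hN) (le_sup_right.trans hN)
  apply hZ1
  rw [eq_bot_iff]
  intro z hz
  rw [← h1]
  exact subset_closure ⟨1, one_mem _, z, hz, by group⟩

end Hyp

/-- The field `cov` from the components of `N_1` : `κ` the component containing `sZ`; `stab` : `N_H(κ) ≤ ⟨D, L_2⟩`;
`blocks` : every component contains a block `σZ`, `H`-conjugate to `sZ` in the right way; `lines` : `V` is a line of the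
component of `N_{σZ}` containing `Z` and `D_σ` is transitive on the lines. -/
theorem cov_of {S : Subgroup G} {s : G} {Z V L : Subgroup G} (κ : Subgroup G)
    (Dκ : ∀ d ∈ normalizer (Z : Set G) ⊓ normalizer (cn s Z : Set G), cn d κ = κ)
    (stab : ∀ h ∈ normalizer (Z : Set G), cn h κ = κ →
      h ∈ closure (((normalizer (Z : Set G) ⊓ normalizer (cn s Z : Set G) : Subgroup G) : Set G) ∪ (cn s L : Set G)))
    (blocks : ∀ h ∈ normalizer (Z : Set G), ∃ c ∈ normalizer (Z : Set G), ∃ σ ∈ S,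
      cn c κ = cn h κ ∧ cn (c * s) Z = cn σ Z)
    (lines : ∀ c ∈ normalizer (Z : Set G), ∀ σ ∈ S, cn (c * s) Z = cn σ Z →
      ∃ d ∈ normalizer (Z : Set G) ⊓ normalizer (cn σ Z : Set G), cn (d * c) V = V) :
    ∀ h ∈ normalizer (Z : Set G), ∃ c ∈ normalizer (Z : Set G),
    ∃ k ∈ closure (((normalizer (Z : Set G) ⊓ normalizer (cn s Z : Set G) : Subgroup G) : Set G) ∪ (cn s L : Set G)),
    ∃ σ ∈ S, h = c * k ∧ cn (c * s) Z = cn σ Z ∧ cn c V = V := by
  intro h hh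
  obtain ⟨c0, hc0, σ, hσ, e1, e2⟩ := blocks h hh
  obtain ⟨d, hd, e3⟩ := lines c0 hc0 σ hσ e2
  rw [Subgroup.mem_inf] at hd
  have hd' : cn d (cn σ Z) = cn σ Z := cn_eq_iff.2 hd.2
  have h1 : c0⁻¹ * d * c0 ∈ normalizer (Z : Set G) ⊓ normalizer (cn s Z : Set G) := by
    rw [Subgroup.mem_inf, ← cn_eq_iff, ← cn_eq_iff]
    refine ⟨?_, ?_⟩
    · rw [cn_mul, cn_mul, cn_eq_iff.2 hc0, cn_eq_iff.2 hd.1, cn_inv_of (cn_eq_iff.2 hc0)]
    · rw [cn_mul, ← cn_mul c0 s, e2, cn_mul, hd', ← e2, ← cn_mul, inv_mul_cancel_left]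
  have h2 : cn (d * c0) κ = cn h κ := by
    have h3 := congrArg (cn c0) (Dκ _ h1)
    rw [← cn_mul] at h3
    have h4 : c0 * (c0⁻¹ * d * c0) = d * c0 := by group
    rw [h4] at h3
    rw [h3, e1]
  have hc : d * c0 ∈ normalizer (Z : Set G) := mul_mem hd.1 hc0
  refine ⟨d * c0, hc, (d * c0)⁻¹ * h, stab _ (mul_mem (inv_mem hc) hh) ?_, σ, hσ, by group, ?_, e3⟩
  · rw [cn_mul, ← h2, ← cn_mul, inv_mul_cancel, cn_one]
  · rw [mul_assoc, cn_mul, e2, hd']

end Cfsg.Agent.Omega.NO3S.EThree.StepF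

end

section


/-!
# NO-3S, case (E), `k = 2`, all `q`: the frame (helper997 TEXT Q4 #20474)

`FQ Z U B q` : `PG.PP Z U`, points of order `q`, lines of order `q²`, TI, fusion in `Z 0 Z 1` ((0.2)), `B` a Sylow
2-subgroup of `C_G(Z 0 Z 1)` which induces on `U i` a full root group with centre `Z i`; `L_i` (`mvl`), torus (`tor`).

`Crd F B U Z f g c` : root group coordinates, `g [b, x] = c b * f x`.
-/

set_option autoImplicit false
set_option linter.unusedSectionVars false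

namespace Cfsg.Agent.Omega.NO3S.EThree

open Subgroup Cfsg Cfsg.Agent.ZN Cfsg.Agent.Omega.MinPar
open Cfsg.Agent.Omega.NoFF.Basic (conj_conj mem_conj conj_le_iff conj_le_centralizer comm_symm comm_mono)
open Cfsg.Agent.Omega.NOThreeL.Pair (conj_eq_of_mem)
open Cfsg.Agent.Omega.OM.PG
open Cfsg.Agent.ZN.ChoiceSit (Syl)
open scoped Pointwise

universe u

variable {G : Type u} [Group G]

/-- Root group coordinates on a line `U` with point `Z`. -/
structure Crd (F : Type) [Field F] (B U Z : Subgroup G) (f g c : G → F) : Prop where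
  fm : ∀ x ∈ U, ∀ y ∈ U, f (x * y) = f x + f y
  f0 : ∀ x ∈ U, f x = 0 ↔ x ∈ Z
  fs : ∀ t, ∃ x ∈ U, f x = t
  gm : ∀ x ∈ Z, ∀ y ∈ Z, g (x * y) = g x + g y
  g0 : ∀ x ∈ Z, g x = 0 → x = 1
  gs : ∀ t, ∃ x ∈ Z, g x = t
  cs : ∀ t, ∃ b ∈ B, c b = t
  com : ∀ b ∈ B, ∀ x ∈ U, g (b * x * b⁻¹ * x⁻¹) = c b * f x

/-- **The frame of TEXT Q4**: case (E), `k = 2`, points of order `q`. -/
structure FQ (Z U : Fin 2 → Subgroup G) (B : Subgroup G) (q : ℕ) : Prop extends PP Z U where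
  cardZ : ∀ i, Nat.card (Z i) = q
  cardU : ∀ i, Nat.card (U i) = q ^ 2
  ZU' : ∀ i, Z i ≤ U i
  sqU : ∀ i, ∀ x ∈ U i, x ^ 2 = 1
  inf : U 0 ⊓ U 1 = ⊥
  /-- TI -/
  ti : ∀ a b, IsPt Z a → IsPt Z b → ∀ x ∈ a, x ∈ b → x ≠ 1 → a = b
  /-- (0.2) -/
  fus : ∀ a, IsPt Z a → ∀ x ∈ a, x ∈ Z 0 ⊔ Z 1 → x ≠ 1 → a = Z 0 ∨ a = Z 1
  cen : ∀ i, QQ (Z i) ≤ centralizer (Z i : Set G)
  UQ' : ∀ i, U i ≤ QQ (Z i)
  half : ∀ i j, i ≠ j → U j ≤ QQ (Z i) ∧ U j ≤ centralizer (QQ (Z i) : Set G)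
  /-- the lines on a point commute -/
  ab : ∀ a l l', LnOn Z U a l → LnOn Z U a l' → l ≤ centralizer (l' : Set G)
  /-- `B` is a Sylow 2-subgroup of `D = C_G(Z 0 Z 1)` -/
  syl : Syl B (centralizer ((Z 0 ⊔ Z 1 : Subgroup G) : Set G))
  swB : ∃ s : G, MulAut.conj s • B = B ∧ MulAut.conj s • Z 0 = Z 1 ∧ MulAut.conj s • Z 1 = Z 0 ∧
    MulAut.conj s • U 0 = U 1 ∧ MulAut.conj s • U 1 = U 0
  com : ∀ i, ∀ b ∈ B, ∀ x ∈ U i, b * x * b⁻¹ * x⁻¹ ∈ Z i
  free : ∀ i, ∀ b ∈ B, ∀ x ∈ U i, x ∉ Z i → b * x = x * b → b ∈ centralizer (U i : Set G)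
  /-- the full root group of `U i`, centralising `U j` -/
  root : ∀ i j, i ≠ j → ∀ x ∈ U i, x ∉ Z i → ∀ z ∈ Z i, ∃ b ∈ B, b ∈ centralizer (U j : Set G) ∧
    b * x * b⁻¹ * x⁻¹ = z
  /-- `Ω₁Z(B) ≤ Z 0 Z 1` -/
  zB : ∀ x ∈ B, x ^ 2 = 1 → (∀ b ∈ B, b * x = x * b) → x ∈ Z 0 ⊔ Z 1
  /-- `Ω₁Z(Q) ≤ V = U 0 U 1`, `Q = C_B(V)` -/
  zQ : ∀ x ∈ B, (∀ i, x ∈ centralizer (U i : Set G)) → x ^ 2 = 1 →
    (∀ b ∈ B, (∀ i, b ∈ centralizer (U i : Set G)) → b * x = x * b) → x ∈ U 0 ⊔ U 1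
  /-- an element of `L_i` moving `Z i` -/
  mvl : ∀ i j, i ≠ j → ∃ l : G, MulAut.conj l • U i = U i ∧ MulAut.conj l • Z i ⊓ Z i = ⊥ ∧
    l ∈ centralizer (Z j : Set G) ∧ MulAut.conj l • (B ⊓ centralizer (U i : Set G)) = B ⊓ centralizer (U i : Set G) ∧
    MulAut.conj l • (B ⊓ centralizer (U i : Set G) ⊓ centralizer (U j : Set G)) =
      B ⊓ centralizer (U i : Set G) ⊓ centralizer (U j : Set G)
  /-- the torus of `L_i` -/
  tor : ∀ i j, i ≠ j → ∀ x ∈ U i, x ∉ Z i → ∀ y ∈ U i, y ∉ Z i → ∃ h : G, h ∈ centralizer (U j : Set G) ∧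
    MulAut.conj h • Z i = Z i ∧ MulAut.conj h • U i = U i ∧ y⁻¹ * (h * x * h⁻¹) ∈ Z i

/-- `O = O₂(C_G(Z 0 Z 1))` -/
abbrev OO (Z : Fin 2 → Subgroup G) : Subgroup G := o2 (centralizer ((Z 0 ⊔ Z 1 : Subgroup G) : Set G))

/-- `(NO)` for `O` on `N_i` -/
def NoDQ (Z : Fin 2 → Subgroup G) : Prop :=
  ∀ i, ∀ A : Subgroup G, IsElementaryAbelian 2 A → A ≤ OO Z →
    (centralizer (NN Z (Z i) : Set G)).relIndex A ≤ (centralizer (A : Set G)).relIndex (NN Z (Z i))

/-- `(NO)` for `O` on `N_i / Z i` -/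
def NoQQ (Z : Fin 2 → Subgroup G) : Prop :=
  ∀ i, ∀ A : Subgroup G, IsElementaryAbelian 2 A → A ≤ OO Z →
    ∀ M : Subgroup G, M ≤ NN Z (Z i) → (∀ m ∈ M, ∀ b ∈ A, m * b * m⁻¹ * b⁻¹ ∈ Z i) →
      (centralizer (NN Z (Z i) : Set G)).relIndex A ≤ M.relIndex (NN Z (Z i))

end Cfsg.Agent.Omega.NO3S.EThree

end

section


/-!
# THEOREM N (helper381 #23328), end of (1): from the generators to `K`

`K = V A H = ⟨A^h : h ∈ H⟩`, `Fv y n` : "`n` is a canonical vector at the point `y`" (`H`-invariant), `y ≤ X`,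
`[X, A] ≤ N`, `A ≤ C(b)`:

* `(c)` : `[n, c] ∈ y` for `c ∈ C(b) ∩ C(y)`;
* `(H)` : `[n, A] ≤ N` if `A` moves `y`.

`main` : **`n^s ∈ n y N` for all `s ∈ K`**; `mv` : the field `mv` of `NV`.
-/

set_option autoImplicit false
set_option linter.unusedSectionVars false

namespace Cfsg.Agent.Omega.TCQ.R.MvH

open Subgroup Cfsg
open Cfsg.Agent.ZN Cfsg.Agent.Omega.OM.PG Cfsg.Agent.Omega.OM.PG.Peel
open Cfsg.Agent.Omega.NoFF.Basic (comm_symm conj_conj mem_conj conj_le_iff)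
open scoped Pointwise

universe u

variable {G : Type u} [Group G]

/-- The data. -/
structure Dat (H b Np X A : Subgroup G) (Fv : Subgroup G → G → Prop) : Prop where
  AH : A ≤ H
  Ab : A ≤ centralizer (b : Set G)
  HX : H ≤ normalizer (X : Set G)
  HN : H ≤ normalizer (Np : Set G)
  NX : Np ≤ X
  Xc : ∀ x ∈ X, ∀ y ∈ X, x * y = y * x
  XA : ∀ x ∈ X, ∀ f ∈ A, x * f * x⁻¹ * f⁻¹ ∈ Np
  inv : ∀ g ∈ H, ∀ y n, Fv y n → Fv (MulAut.conj g • y) (g * n * g⁻¹)
  yX : ∀ y n, Fv y n → y ≤ X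
  nX : ∀ y n, Fv y n → ∀ x ∈ X, n * x = x * n
  hc : ∀ y n, Fv y n → ∀ c ∈ centralizer (b : Set G), c ∈ centralizer (y : Set G) → n * c * n⁻¹ * c⁻¹ ∈ y
  hH : ∀ y n, Fv y n → ¬ A ≤ centralizer (y : Set G) → ∀ f ∈ A, n * f * n⁻¹ * f⁻¹ ∈ Np

namespace Dat

variable {H b Np X A : Subgroup G} {Fv : Subgroup G → G → Prop} (D : Dat H b Np X A Fv)
include D

/-- `[X, A^g] ≤ N` -/
theorem XAg {g : G} (hg : g ∈ H) {x f : G} (hx : x ∈ X) (hf : f ∈ MulAut.conj g • A) : x * f * x⁻¹ * f⁻¹ ∈ Np := by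
  obtain ⟨f', hf', rfl⟩ := hf
  change x * (g * f' * g⁻¹) * x⁻¹ * (g * f' * g⁻¹)⁻¹ ∈ Np
  have hx' : g⁻¹ * x * g ∈ X := by
    have := (mem_normalizer_iff.1 (D.HX (inv_mem hg)) x).1 hx
    rwa [inv_inv] at this
  have h1 := (mem_normalizer_iff.1 (D.HN hg) _).1 (D.XA _ hx' f' hf')
  have e : g * (g⁻¹ * x * g * f' * (g⁻¹ * x * g)⁻¹ * f'⁻¹) * g⁻¹ =
      x * (g * f' * g⁻¹) * x⁻¹ * (g * f' * g⁻¹)⁻¹ := by group
  rwa [e] at h1

/-- a generator on `n` -/
theorem gen {g : G} (hg : g ∈ H) {y : Subgroup G} {n : G} (h : Fv y n) {f : G} (hf : f ∈ MulAut.conj g • A) :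
    f * n * f⁻¹ * n⁻¹ ∈ y ⊔ Np := by
  obtain ⟨f', hf', rfl⟩ := hf
  change g * f' * g⁻¹ * n * (g * f' * g⁻¹)⁻¹ * n⁻¹ ∈ y ⊔ Np
  have h' := D.inv g⁻¹ (inv_mem hg) y n h
  rw [inv_inv] at h'
  have e : g * f' * g⁻¹ * n * (g * f' * g⁻¹)⁻¹ * n⁻¹ =
      g * ((g⁻¹ * n * g) * f' * (g⁻¹ * n * g)⁻¹ * f'⁻¹)⁻¹ * g⁻¹ := by group
  rw [e]
  by_cases hA : A ≤ centralizer ((MulAut.conj g⁻¹ • y : Subgroup G) : Set G)
  · have h1 := D.hc _ _ h' f' (D.Ab hf') (hA hf')
    refine mem_sup_left ?_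
    have h2 : g * ((g⁻¹ * n * g) * f' * (g⁻¹ * n * g)⁻¹ * f'⁻¹)⁻¹ * g⁻¹ ∈ MulAut.conj g • (MulAut.conj g⁻¹ • y) :=
      ⟨_, inv_mem h1, rfl⟩
    rwa [conj_inv_conj] at h2
  · have h1 := D.hH _ _ h' hA f' hf'
    exact mem_sup_right ((mem_normalizer_iff.1 (D.HN hg) _).1 (inv_mem h1))

/-- **`n^s ∈ n y N` for all `s ∈ K`.** -/
theorem main {y : Subgroup G} {n : G} (h : Fv y n) {s : G} (hs : s ∈ NoFF.Basic.V A H) :
    s * n * s⁻¹ * n⁻¹ ∈ y ⊔ Np := by
  set M := y ⊔ Np with hM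
  have hMX : M ≤ X := sup_le (D.yX y n h) D.NX
  have hNM : Np ≤ M := le_sup_right
  let St : Subgroup G :=
    { carrier := {s | s ∈ normalizer (M : Set G) ∧ s * n * s⁻¹ * n⁻¹ ∈ M}
      one_mem' := ⟨one_mem _, by simp⟩
      mul_mem' := by
        rintro s t ⟨h1, h2⟩ ⟨h3, h4⟩
        refine ⟨mul_mem h1 h3, ?_⟩
        have e : s * t * n * (s * t)⁻¹ * n⁻¹ = s * (t * n * t⁻¹ * n⁻¹) * s⁻¹ * (s * n * s⁻¹ * n⁻¹) := by group
        rw [e]
        exact mul_mem ((mem_normalizer_iff.1 h1 _).1 h4) h2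
      inv_mem' := by
        rintro s ⟨h1, h2⟩
        refine ⟨inv_mem h1, ?_⟩
        have h3 := (mem_normalizer_iff.1 (inv_mem h1) _).1 (inv_mem h2)
        have e : s⁻¹ * (s * n * s⁻¹ * n⁻¹)⁻¹ * s⁻¹⁻¹ = s⁻¹ * n * s⁻¹⁻¹ * n⁻¹ := by group
        rwa [e] at h3 }
  have key : NoFF.Basic.V A H ≤ St := by
    refine iSup_le ?_
    rintro ⟨g, hg⟩ f hf
    have hn : ∀ f ∈ MulAut.conj g • A, ∀ x ∈ M, f * x * f⁻¹ ∈ M := by
      intro f hf x hx
      have h1 : (x⁻¹ * f * x⁻¹⁻¹ * f⁻¹)⁻¹ ∈ Np := inv_mem (D.XAg hg (inv_mem (hMX hx)) hf)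
      have h2 : x⁻¹ * f * x⁻¹⁻¹ * f⁻¹ ∈ Np := D.XAg hg (inv_mem (hMX hx)) hf
      have e : f * x * f⁻¹ = x * (x⁻¹ * f * x⁻¹⁻¹ * f⁻¹) := by group
      rw [e]
      exact mul_mem hx (hNM h2)
    refine ⟨?_, D.gen hg h hf⟩
    rw [mem_normalizer_iff]
    intro x
    refine ⟨hn f hf x, fun hx => ?_⟩
    have h1 := hn f⁻¹ (inv_mem hf) _ hx
    have e : f⁻¹ * (f * x * f⁻¹) * f⁻¹⁻¹ = x := by group
    rwa [e] at h1
  exact (key hs).2

/-- **The field `mv` of `NV`.** -/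
theorem mv [Finite G] {e m s : G} (h : Fv (MulAut.conj e • b) (e * m * e⁻¹)) (hs : s ∈ NoFF.Basic.V A H) :
    ∃ u ∈ b, ∃ n ∈ Np, s * (e * m * e⁻¹) * s⁻¹ = (e * m * e⁻¹) * (e * u * e⁻¹) * n := by
  have hyX := D.yX _ _ h
  have h1 := D.main h hs
  obtain ⟨v, hv, n, hn, e1⟩ := exists_mul_of_comm (V := MulAut.conj e • b) (D := Np)
    (fun x hx => mem_centralizer_iff.2 fun z hz => D.Xc z (D.NX hz) x (hyX hx)) h1
  obtain ⟨u, hu, rfl⟩ := hv
  refine ⟨u, hu, n, hn, ?_⟩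
  change e * u * e⁻¹ * n = _ at e1
  have hX : e * u * e⁻¹ * n ∈ X := mul_mem (hyX ⟨u, hu, rfl⟩) (D.NX hn)
  calc s * (e * m * e⁻¹) * s⁻¹ = (s * (e * m * e⁻¹) * s⁻¹ * (e * m * e⁻¹)⁻¹) * (e * m * e⁻¹) := by group
    _ = (e * u * e⁻¹ * n) * (e * m * e⁻¹) := by rw [e1]
    _ = (e * m * e⁻¹) * (e * u * e⁻¹ * n) := (D.nX _ _ h _ hX).symm
    _ = _ := by group

/-- `[x, s] ∈ N` for `x ∈ X`, `s ∈ K` (the field `Kl`). -/
theorem XK {x s : G} (hx : x ∈ X) (hs : s ∈ NoFF.Basic.V A H) : s * x * s⁻¹ * x⁻¹ ∈ Np := by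
  let St : Subgroup G :=
    { carrier := {s | s ∈ H ∧ ∀ x ∈ X, s * x * s⁻¹ * x⁻¹ ∈ Np}
      one_mem' := ⟨one_mem _, fun x _ => by simp⟩
      mul_mem' := by
        rintro s t ⟨h1, h2⟩ ⟨h3, h4⟩
        refine ⟨mul_mem h1 h3, fun x hx => ?_⟩
        have e : s * t * x * (s * t)⁻¹ * x⁻¹ = s * (t * x * t⁻¹ * x⁻¹) * s⁻¹ * (s * x * s⁻¹ * x⁻¹) := by group
        rw [e]
        exact mul_mem ((mem_normalizer_iff.1 (D.HN h1) _).1 (h4 x hx)) (h2 x hx)
      inv_mem' := by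
        rintro s ⟨h1, h2⟩
        refine ⟨inv_mem h1, fun x hx => ?_⟩
        have h3 := (mem_normalizer_iff.1 (D.HN (inv_mem h1)) _).1 (inv_mem (h2 x hx))
        have e : s⁻¹ * (s * x * s⁻¹ * x⁻¹)⁻¹ * s⁻¹⁻¹ = s⁻¹ * x * s⁻¹⁻¹ * x⁻¹ := by group
        rwa [e] at h3 }
  have key : NoFF.Basic.V A H ≤ St := by
    refine iSup_le ?_
    rintro ⟨g, hg⟩ f hf
    refine ⟨?_, fun x hx => ?_⟩
    · obtain ⟨f', hf', rfl⟩ := hf
      exact mul_mem (mul_mem hg (D.AH hf')) (inv_mem hg)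
    · have h1 := inv_mem (D.XAg hg hx hf)
      have e : (x * f * x⁻¹ * f⁻¹)⁻¹ = f * x * f⁻¹ * x⁻¹ := by group
      rwa [e] at h1
  exact (key hs).2 x hx

end Dat

end Cfsg.Agent.Omega.TCQ.R.MvH

end
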