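import Cfsg.Agent.Mrg.Omega.OM.FrNat
import Cfsg.Agent.Mrg.Omega.OM.UOne
import Cfsg.Agent.Mrg.Omega.OM.UniPlus
import Cfsg.Agent.Mrg.Omega.OM.NX
import Cfsg.Agent.Mrg.Omega.OM.Dich
import Cfsg.Agent.Mrg.Omega.OM.PG.Base
import Cfsg.Agent.Mrg.Omega.NO3S.FF
import Cfsg.Agent.SporRec.MaxFix
import Cfsg.Agent.Mrg.Omega.OM.KTwo.Cut
import Cfsg.Agent.Mrg.Omega.NO3S.EThree.ExactB

section


/-!
# NO-3S, `V_P` a sum of `k ≥ 2` natural modules: the K-free facts (0.1), (0.2) of TEXT R3 (helper609 #16982)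

* `Bs S P L W Z C A q m` : `HypJ S P`, the frame `Uni.Fr` of the natural blocks `L i` over `B = bau S` with modules
  `W i`, `Z i = [W i, B]`, `V_P = W i × C i`, `|ι| ≥ 2`, `P` permutes the `W i`;
* `Bs.toIn` : the hypotheses of `WOne` for every `i`; `Bs.o2_le` : `O₂(N_G(Z i)) ≤ B`; `Bs.V_le` : `V_P ≤ O₂(N_G(Z i))`;
  `Bs.comm` : `⟨V_P^{N_G(Z i)}⟩` is abelian;
* `Bs.norm` : `N_G(B)` normalises `V_P`, permutes the `Z i`; `Bs.syl` : `N_S(Z i)` is Sylow in `N_G(Z i)`;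
* `Bs.fus` : (0.2): an element of `Z_J` conjugate into `Z i` lies in some `Z j`.
-/

set_option autoImplicit false
set_option linter.unusedSectionVars false

namespace Cfsg.Agent.Omega.NO3S.EThree.Frame

open Subgroup Cfsg Cfsg.Agent.ZN.ChoiceBase
open Cfsg.Agent.ZN (jj zj bau zc zl o2)
open Cfsg.Agent.ZN.ChoiceSit (Syl exists_syl syl_conj)
open Cfsg.Agent.Omega.OM Cfsg.Agent.Omega.OM.Uni
open Cfsg.Agent.Omega.NO3S (HypJ HypN Hyp)
open scoped Pointwise

universe u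

variable {G : Type u} [Group G]

/-- **The frame of NO-3S, several natural blocks.** -/
structure Bs [Finite G] (S : Sylow 2 G) (P : Subgroup G) {ι : Type} (L W Z C A : ι → Subgroup G) (q m : ℕ) :
    Prop where
  hyp : HypJ S P
  fr : Fr (bau (S : Subgroup G)) (o2 P) (zl (S : Subgroup G) P) (zj (S : Subgroup G)) L W Z C A q m
  two : ∀ i : ι, ∃ j, j ≠ i
  LP : ∀ i, L i ≤ P
  AS : ∀ i, A i ∈ AA (S : Subgroup G)
  perm : ∀ p ∈ P, ∃ σ : Equiv.Perm ι, ∀ i, cj p (W i) = W (σ i) ∧ cj p (C i) = C (σ i)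
  trans : ∀ i j, ∃ s ∈ (S : Subgroup G), cj s (W i) = W j
  tr : ∀ i, ∀ x ∈ W i, x ≠ 1 → ∃ l ∈ P, l ∈ centralizer (C i : Set G) ∧ ∃ z ∈ Z i, l * z * l⁻¹ = x

namespace Bs

section one

variable [Finite G] {S : Sylow 2 G} {P : Subgroup G} {ι : Type} {L W Z C A : ι → Subgroup G} {q m : ℕ}
  (h : Bs S P L W Z C A q m)
include h

theorem bau_two : IsPGroup 2 (bau (S : Subgroup G)) := S.isPGroup'.to_le (bau_le _)

theorem block (i : ι) : LemmaK.Block 2 (bau (S : Subgroup G)) (L i) (W i) :=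
  (h.fr.blk i).toBlock (h.fr.cardZ i) h.bau_two (UniPlus.WC.weakNormal (UniPlus.wc_bau S))

theorem Z_ne (i : ι) : Z i ≠ ⊥ := by
  intro e
  have h1 := h.fr.cardZ i
  rw [e, card_bot] at h1
  exact absurd (h.fr.blk i).one (by omega)

theorem W_ne (i : ι) : W i ≠ ⊥ := fun e => h.Z_ne i (le_bot_iff.1 (e ▸ (h.fr.blk i).ZV))

theorem L_norm {i j : ι} (hij : j ≠ i) : L j ≤ normalizer (Z i : Set G) := by
  refine le_trans (fun l hl => mem_centralizer_iff.2 fun z hz => ?_) (centralizer_le_normalizer _)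
  exact (h.fr.LC j l hl z (h.fr.Z_le i hz) (h.fr.WjC j i hij ((h.fr.blk i).ZV hz))).symm

theorem Z_two (i : ι) : IsPGroup 2 (Z i) :=
  h.bau_two.to_le ((h.fr.blk i).ZV.trans (h.fr.blk i).VB)

theorem char_Z (i : ι) : normalizer (Z i : Set G) ⊓ centralizer (o2 (normalizer (Z i : Set G)) : Set G) ≤
    o2 (normalizer (Z i : Set G)) :=
  MinSimple.Basic.char2_normalizer h.hyp.ctx.char2 (h.Z_two i) (h.Z_ne i)

/-- LEMMA K -/
theorem lemK {i j : ι} (hij : j ≠ i) :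
    W j ≤ o2 (normalizer (Z i : Set G)) ⊓ centralizer (o2 (normalizer (Z i : Set G)) : Set G) := by
  have : Fact (Nat.Prime 2) := ⟨Nat.prime_two⟩
  have h2 : IsPGroup 2 (o2 (normalizer (Z i : Set G)) : Subgroup G) := MinSimple.VModule.o2_isPGroup _
  have h3 := MinSimple.VModule.le_normalizer_o2 (normalizer (Z i : Set G))
  refine le_inf ((h.block j).le_of_char (h.L_norm hij) h2 h3 (h.char_Z i)) ?_
  rw [le_centralizer_iff]
  exact (h.block j).le_centralizer h2 ((h.L_norm hij).trans h3)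

theorem C_le [Finite ι] (i : ι) : C i ≤ ⨆ j : {j : ι // j ≠ i}, W j := by
  classical
  have := Fintype.ofFinite ι
  intro v hv
  have hle : (⨆ j : {j : ι // j ≠ i}, W j) ≤ C i := iSup_le fun j => h.fr.WjC i j j.2.symm
  have key : ∀ s : Finset ι, i ∉ s → ∃ u ∈ ⨆ j : {j : ι // j ≠ i}, W j, ∀ j ∈ s, u⁻¹ * v ∈ C j := by
    intro s
    induction s using Finset.induction_on with
    | empty => exact fun _ => ⟨1, one_mem _, by simp⟩
    | insert j s hj ih =>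
      intro hi
      have hji : j ≠ i := fun e => hi (e ▸ Finset.mem_insert_self _ _)
      obtain ⟨u, hu, h1⟩ := ih fun e => hi (Finset.mem_insert_of_mem e)
      obtain ⟨w, hw, c, hc, e⟩ := h.fr.WC j (u⁻¹ * v) (mul_mem (inv_mem (h.fr.CV i (hle hu))) (h.fr.CV i hv))
      refine ⟨u * w, mul_mem hu (mem_iSup_of_mem (⟨j, hji⟩ : {j : ι // j ≠ i}) hw), fun l hl => ?_⟩
      have e1 : (u * w)⁻¹ * v = w⁻¹ * (u⁻¹ * v) := by group
      rw [e1]
      rcases Finset.mem_insert.1 hl with rfl | hl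
      · rw [e]
        have : w⁻¹ * (w * c) = c := by group
        rwa [this]
      · have hlj : l ≠ j := fun e => hj (e ▸ hl)
        exact mul_mem (inv_mem (h.fr.WjC l j hlj hw)) (h1 l hl)
  obtain ⟨u, hu, h1⟩ := key (Finset.univ.erase i) (Finset.notMem_erase _ _)
  have h2 : u⁻¹ * v = 1 := by
    refine h.fr.C0 _ (mul_mem (inv_mem (h.fr.CV i (hle hu))) (h.fr.CV i hv)) fun j => ?_
    by_cases hj : j = i
    · subst hj
      exact mul_mem (inv_mem (hle hu)) hv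
    · exact h1 j (Finset.mem_erase.2 ⟨hj, Finset.mem_univ _⟩)
  rw [← inv_mul_eq_one.1 h2]
  exact hu

theorem Z_cent_L (i : ι) {z : G} (hz : z ∈ Z i) (hz1 : z ≠ 1) : z ∉ centralizer (L i : Set G) := by
  intro hzc
  obtain ⟨l, hl, hne, -⟩ := (h.fr.blk i).exists_mv
  have h1 := (h.fr.blk i).nat_tri (h.fr.cardZ i) hl hne
  have h2 : z ∈ cj l (Z i) ⊓ Z i := by
    refine mem_inf.2 ⟨?_, hz⟩
    rw [mem_cj]
    have h3 := mem_centralizer_iff.1 hzc l hl
    have h4 : l⁻¹ * z * l = z := by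
      calc l⁻¹ * z * l = l⁻¹ * (z * l) := by group
        _ = l⁻¹ * (l * z) := by rw [h3]
        _ = z := by group
    rwa [h4]
  rw [h1, mem_bot] at h2
  exact hz1 h2

/-- an element of `L i` normalising `B` normalises `Z i` -/
theorem L_inf_norm (i : ι) {x : G} (hx : x ∈ L i) (hxB : x ∈ normalizer (bau (S : Subgroup G) : Set G)) {z : G}
    (hz : z ∈ Z i) : x * z * x⁻¹ ∈ Z i := by
  refine (h.fr.blk i).toMd.mem_Z_iff.2 ⟨(h.fr.blk i).nV x hx z ((h.fr.blk i).ZV hz), fun b hb => ?_⟩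
  have hb' : x⁻¹ * b * x ∈ bau (S : Subgroup G) := (mem_normalizer_iff''.1 hxB b).1 hb
  have h7 := congrArg (fun t => x * t * x⁻¹) ((h.fr.blk i).cZ _ hb' z hz)
  simpa [mul_assoc] using h7

/-- `N_{L i}(B)` is transitive on `Z i - 1`. -/
theorem tor (i : ι) {z z' : G} (hz : z ∈ Z i) (hz1 : z ≠ 1) (hz' : z' ∈ Z i) (hz1' : z' ≠ 1) :
    ∃ x ∈ L i, x ∈ normalizer (bau (S : Subgroup G) : Set G) ∧ x * z * x⁻¹ = z' := by
  obtain ⟨x, hx, hxn, hxc⟩ := (h.fr.blk i).tor z hz (h.Z_cent_L i hz hz1) z' hz' (h.Z_cent_L i hz' hz1')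
  refine ⟨x, hx, hxn, ?_⟩
  have h5 : x * z * x⁻¹ * z'⁻¹ ∈ Z i := mul_mem (h.L_inf_norm i hx hxn hz) (inv_mem hz')
  by_contra hne
  exact h.Z_cent_L i h5 (fun e => hne (mul_inv_eq_one.1 e)) hxc

/-- The hypotheses of TEXT R1 (1). -/
theorem toIn [Finite ι] (i : ι) : WOne.In S (Z i) (W i) (L i ⊓ normalizer (bau (S : Subgroup G) : Set G))
    (fun j : {j : ι // j ≠ i} => W j) where
  char := h.hyp.ctx.char2
  ne := h.Z_ne i
  Z1J := h.fr.Z_le i
  ZJ := by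
    intro z hz
    obtain ⟨w, hw, c, hc, -, rfl⟩ := h.fr.split_ZJ i hz
    exact mul_mem (mem_sup_left hw) (mem_sup_right (h.C_le i hc))
  K := fun j => h.lemK j.2
  NN := fun x hx => by
    rw [mem_normalizer_iff_cj]
    refine Subgroup.eq_of_le_of_card_ge ?_ (by rw [card_cj])
    rintro _ ⟨z, hz, rfl⟩
    exact h.L_inf_norm i hx.1 hx.2 hz
  irr := by
    intro U hU hn hU1 z hz
    obtain ⟨u, hu, hu1⟩ : ∃ u ∈ U, u ≠ 1 := by
      by_contra hcon
      push Not at hcon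
      exact hU1 ((eq_bot_iff_forall _).2 hcon)
    by_cases hz1 : z = 1
    · rw [hz1]; exact one_mem _
    obtain ⟨x, hx, hxn, rfl⟩ := h.tor i (hU hu) hu1 hz hz1
    exact (mem_normalizer_iff.1 (hn ⟨hx, hxn⟩) u).1 hu
  V1S := fun v hv => mem_centralizer_iff.2 fun z hz =>
    h.fr.Vc (h.fr.ZV i hz) (h.fr.WV i hv)
  comm := fun v hv b hb => by
    have h1 := (h.fr.blk i).com b hb v hv
    have e : v * b * v⁻¹ * b⁻¹ = (b * v * b⁻¹ * v⁻¹)⁻¹ := by group
    rw [e]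
    exact inv_mem h1

/-- `O₂(N_G(Z i)) ≤ B` -/
theorem o2_le [Finite ι] (i : ι) : o2 (normalizer (Z i : Set G)) ≤ bau (S : Subgroup G) := (h.toIn i).W_le

theorem o2_cent [Finite ι] (i : ι) : o2 (normalizer (Z i : Set G)) ≤ centralizer (Z i : Set G) := (h.toIn i).W_cent

theorem W_le_o2 [Finite ι] (i : ι) : W i ≤ o2 (normalizer (Z i : Set G)) := (h.toIn i).V_le

/-- `V_P ≤ O₂(N_G(Z i))` -/
theorem V_le [Finite ι] (i : ι) : zl (S : Subgroup G) P ≤ o2 (normalizer (Z i : Set G)) := by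
  intro v hv
  obtain ⟨w, hw, c, hc, rfl⟩ := h.fr.WC i v hv
  exact (h.toIn i).V_le' (mul_mem (mem_sup_left hw) (mem_sup_right (h.C_le i hc)))

theorem bau_norm : bau (S : Subgroup G) ≤ normalizer (zl (S : Subgroup G) P : Set G) :=
  (bau_le _).trans (h.hyp.star.isLoc.le.trans (MinSimple.VModule.le_normalizer_zl _ _))

/-- NOFF for the line `V_P`. -/
theorem noff {a b : G}
    (h1 : cj a (zl (S : Subgroup G) P) ≤ normalizer ((cj b (zl (S : Subgroup G) P) : Subgroup G) : Set G))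
    (h2 : cj b (zl (S : Subgroup G) P) ≤ normalizer ((cj a (zl (S : Subgroup G) P) : Subgroup G) : Set G)) :
    cj a (zl (S : Subgroup G) P) ≤ centralizer ((cj b (zl (S : Subgroup G) P) : Subgroup G) : Set G) :=
  NoFF.Lines.noff_lines h.hyp.geo.toSys (Set.mem_singleton P) (Set.mem_singleton P) h1 h2

/-- `⟨V_P^{N_G(Z i)}⟩` is abelian. -/
theorem comm [Finite ι] (i : ι) {a b : G} (ha : a ∈ normalizer (Z i : Set G)) (hb : b ∈ normalizer (Z i : Set G)) :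
    cj a (zl (S : Subgroup G) P) ≤ centralizer ((cj b (zl (S : Subgroup G) P) : Subgroup G) : Set G) := by
  refine (h.toIn i).W1_comm (h.V_le i) h.bau_norm (fun g h1 h2 => ?_) ha hb
  have h3 := h.noff (a := 1) (b := g) (by rwa [cj_one]) (by rwa [cj_one])
  rwa [cj_one] at h3

end one

/-! ### `N_G(B)`, Sylow subgroups, fusion -/

section two

variable [Finite G] {S : Sylow 2 G} {P : Subgroup G} {ι : Type} {L W Z C A : ι → Subgroup G} {q m : ℕ}
  (h : Bs S P L W Z C A q m)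
include h

theorem W_inj {i j : ι} (e : W i = W j) : i = j := by
  by_contra hne
  apply h.W_ne i
  have h1 := h.fr.WjC i j hne
  rw [← e] at h1
  rw [← h.fr.dir i]
  exact (inf_eq_left.2 h1).symm

theorem W_disj {i j : ι} (hne : i ≠ j) : W i ⊓ W j = ⊥ :=
  le_bot_iff.1 ((inf_le_inf_left _ (h.fr.WjC i j hne)).trans (h.fr.dir i).le)

theorem Z_inj {i j : ι} (e : Z i = Z j) : i = j := by
  by_contra hne
  apply h.Z_ne i
  rw [eq_bot_iff, ← h.W_disj hne]
  exact le_inf (h.fr.blk i).ZV (e ▸ (h.fr.blk j).ZV)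

theorem Z_disj {i j : ι} (hne : i ≠ j) : Z i ⊓ Z j = ⊥ :=
  le_bot_iff.1 ((inf_le_inf (h.fr.blk i).ZV (h.fr.blk j).ZV).trans (h.W_disj hne).le)

omit h in
theorem S_norm_bau (S : Sylow 2 G) : (S : Subgroup G) ≤ normalizer (bau (S : Subgroup G) : Set G) :=
  Subgroup.le_normalizer.trans (normalizer_le_bau _)

/-- `g ∈ N_G(B)`, `g W_i = W_j` implies `g Z_i = Z_j`. -/
theorem cj_Z {g : G} (hg : g ∈ normalizer (bau (S : Subgroup G) : Set G)) {i j : ι} (e : cj g (W i) = W j) :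
    cj g (Z i) = Z j := by
  have key : ∀ (g : G), g ∈ normalizer (bau (S : Subgroup G) : Set G) → ∀ i j, cj g (W i) = W j →
      cj g (Z i) ≤ Z j := by
    rintro g hg i j e _ ⟨z, hz, rfl⟩
    refine (h.fr.blk j).toMd.mem_Z_iff.2 ⟨e ▸ ⟨z, (h.fr.blk i).ZV hz, rfl⟩, fun b hb => ?_⟩
    have hb' : g⁻¹ * b * g ∈ bau (S : Subgroup G) := (mem_normalizer_iff''.1 hg b).1 hb
    have h7 := congrArg (fun t => g * t * g⁻¹) ((h.fr.blk i).cZ _ hb' z hz)
    simpa [mul_assoc] using h7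
  refine Subgroup.eq_of_le_of_card_ge (key g hg i j e) ?_
  rw [card_cj, h.fr.cardZ, h.fr.cardZ]

theorem perm_S {s : G} (hs : s ∈ (S : Subgroup G)) : ∃ σ : Equiv.Perm ι, ∀ i, cj s (W i) = W (σ i) ∧
    cj s (Z i) = Z (σ i) ∧ cj s (C i) = C (σ i) := by
  obtain ⟨σ, hσ⟩ := h.perm s (h.hyp.star.isLoc.le hs)
  exact ⟨σ, fun i => ⟨(hσ i).1, h.cj_Z (S_norm_bau S hs) (hσ i).1, (hσ i).2⟩⟩

/-- For `s ∈ S`: `s` normalises `Z i` iff it normalises `W i`. -/
theorem cj_Z_iff {s : G} (hs : s ∈ (S : Subgroup G)) {i j : ι} : cj s (Z i) = Z j ↔ cj s (W i) = W j := by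
  refine ⟨fun e => ?_, h.cj_Z (S_norm_bau S hs)⟩
  obtain ⟨σ, hσ⟩ := h.perm_S hs
  have h1 := (hσ i).2.1
  rw [e] at h1
  rw [h.Z_inj h1]
  exact (hσ i).1

theorem inf_normalizer (i : ι) :
    (S : Subgroup G) ⊓ normalizer (Z i : Set G) = (S : Subgroup G) ⊓ normalizer (W i : Set G) := by
  ext s
  constructor
  · rintro ⟨hs, hn⟩
    exact ⟨hs, mem_normalizer_iff_cj.2 ((h.cj_Z_iff hs).1 (mem_normalizer_iff_cj.1 hn))⟩
  · rintro ⟨hs, hn⟩
    exact ⟨hs, mem_normalizer_iff_cj.2 ((h.cj_Z_iff hs).2 (mem_normalizer_iff_cj.1 hn))⟩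

theorem bau_le_T (i : ι) : bau (S : Subgroup G) ≤ (S : Subgroup G) ⊓ normalizer (Z i : Set G) :=
  le_inf (bau_le _) (le_trans (fun b hb => mem_centralizer_iff.2 fun z hz => ((h.fr.blk i).cZ b hb z hz).symm)
    (centralizer_le_normalizer _))

/-- **(U1)** -/
theorem norm [Finite ι] {g : G} (hg : g ∈ normalizer (bau (S : Subgroup G) : Set G)) :
    cj g (zl (S : Subgroup G) P) = zl (S : Subgroup G) P ∧
      ∀ i, ∃ j, cj g (Z i) = Z j ∧ cj g (W i) ≤ W j ⊔ zj (S : Subgroup G) :=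
  norm_bau h.hyp.ctx.char2 S h.hyp.noFF h.hyp.star h.hyp.ne h.fr h.fr.QB hg

/-- `|N_S(Z i)|` does not depend on `i`. -/
theorem card_T (i j : ι) : Nat.card ((S : Subgroup G) ⊓ normalizer (Z i : Set G) : Subgroup G) =
    Nat.card ((S : Subgroup G) ⊓ normalizer (Z j : Set G) : Subgroup G) := by
  obtain ⟨s, hs, e⟩ := h.trans i j
  have h1 : cj s ((S : Subgroup G) ⊓ normalizer (Z i : Set G)) = (S : Subgroup G) ⊓ normalizer (Z j : Set G) := by
    rw [cj_inf, cj_normalizer, (h.cj_Z_iff hs).2 e, cj_eq_of_mem_normalizer (Subgroup.le_normalizer hs)]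
  rw [← h1, card_cj]

/-- A 2-subgroup of `N_G(Z i)` over `B` has order `≤ |N_S(Z i)|`. -/
theorem card_le [Finite ι] (i : ι) {R : Subgroup G} (hR : IsPGroup 2 R) (hB : bau (S : Subgroup G) ≤ R)
    (hRn : R ≤ normalizer (Z i : Set G)) :
    Nat.card R ≤ Nat.card ((S : Subgroup G) ⊓ normalizer (Z i : Set G) : Subgroup G) := by
  have h1 := LemmaK.Main.le_normalizer_bau S hR hB
  obtain ⟨R', hR', hle⟩ := exists_syl hR h1
  have hS : Syl (S : Subgroup G) (normalizer (bau (S : Subgroup G) : Set G)) :=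
    ⟨S_norm_bau S, S.isPGroup', fun _ _ hT hST => S.is_maximal' hT hST⟩
  obtain ⟨x, hx, rfl⟩ := syl_conj hS hR'
  -- `x⁻¹ R x ≤ S ⊓ N(Z j)`
  obtain ⟨j, hj, -⟩ := (h.norm (inv_mem hx)).2 i
  rw [h.card_T i j, ← card_cj x⁻¹ R]
  refine Subgroup.card_le_of_le (le_inf ?_ ?_)
  · have := cj_mono x⁻¹ hle
    rwa [cj_inv_cj] at this
  · have := cj_mono x⁻¹ hRn
    rwa [cj_normalizer, hj] at this

/-- **`N_S(Z i)` is a Sylow 2-subgroup of `N_G(Z i)`.** -/
theorem syl [Finite ι] (i : ι) : Syl ((S : Subgroup G) ⊓ normalizer (Z i : Set G)) (normalizer (Z i : Set G)) := by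
  refine ⟨inf_le_right, S.isPGroup'.to_le inf_le_left, fun R hR h2 hle => ?_⟩
  symm
  exact Subgroup.eq_of_le_of_card_ge hle (h.card_le i h2 ((h.bau_le_T i).trans hle) hR)

/-- The same for every subgroup of `N_G(Z i)` over `N_S(Z i)`. -/
theorem syl_of_le [Finite ι] (i : ι) {X : Subgroup G} (h1 : (S : Subgroup G) ⊓ normalizer (Z i : Set G) ≤ X)
    (h2 : X ≤ normalizer (Z i : Set G)) : Syl ((S : Subgroup G) ⊓ normalizer (Z i : Set G)) X :=
  ⟨h1, S.isPGroup'.to_le inf_le_left, fun R hR h3 hle => (h.syl i).2.2 R (hR.trans h2) h3 hle⟩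

/-- **(0.2)** An element of `Z_J` conjugate into `Z i` lies in some `Z j`. -/
theorem fus [Finite ι] {i : ι} {x g : G} (hx : x ∈ zj (S : Subgroup G)) (hg : g⁻¹ * x * g ∈ Z i) :
    ∃ j, x ∈ Z j := by
  -- `B`, `B^g ≤ C(x)`
  have hB1 : bau (S : Subgroup G) ≤ centralizer ({x} : Set G) := fun b hb => by
    rw [mem_centralizer_singleton_iff]
    exact ((mem_bau.1 hb).2 x hx).symm
  have hB2 : cj g (bau (S : Subgroup G)) ≤ centralizer ({x} : Set G) := by
    rintro _ ⟨b, hb, rfl⟩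
    rw [mem_centralizer_singleton_iff]
    have h1 := (h.fr.blk i).cZ b hb _ hg
    have h2 := congrArg (fun t => g * t * g⁻¹) h1
    simpa [mul_assoc] using h2
  obtain ⟨R, hR, hBR⟩ := exists_syl h.bau_two hB1
  obtain ⟨R', hR', hBR'⟩ := exists_syl (isPGroup_cj g h.bau_two) hB2
  obtain ⟨c, hc, rfl⟩ := syl_conj hR hR'
  have hj : jj R = jj (S : Subgroup G) := LemmaK.Main.jj_eq S hR.2.1 hBR
  have hj' : jj (cj c R) = cj g (jj (S : Subgroup G)) := by
    have h1 : ((g • S : Sylow 2 G) : Subgroup G) = cj g (S : Subgroup G) := by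
      rw [Sylow.coe_subgroup_smul]
      rfl
    have h2 : bau ((g • S : Sylow 2 G) : Subgroup G) ≤ cj c R := by
      rw [h1, bau_cj]
      exact hBR'
    rw [LemmaK.Main.jj_eq (g • S) hR'.2.1 h2, h1, jj_cj]
  rw [jj_cj, hj] at hj'
  have hn : c⁻¹ * g ∈ normalizer (jj (S : Subgroup G) : Set G) := by
    rw [mem_normalizer_iff_cj, ← cj_cj, ← hj', cj_inv_cj]
  have hn' : c⁻¹ * g ∈ normalizer (zj (S : Subgroup G) : Set G) := by
    have h7 := normalizer_le_of_cj (F := zj) zj_cj (jj (S : Subgroup G))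
    have h8 : zj (jj (S : Subgroup G)) = zj (S : Subgroup G) := zj_congr (jj_eq_of_jj_le le_rfl (jj_le _))
    rw [h8] at h7
    exact h7 hn
  obtain ⟨d, hd, n, hnB, e⟩ := Dich.exists_frattini S hn'
  obtain ⟨j, hj1, -⟩ := (h.norm hnB).2 i
  refine ⟨j, ?_⟩
  have hz : n * (g⁻¹ * x * g) * n⁻¹ ∈ Z j := hj1 ▸ ⟨_, hg, rfl⟩
  have e2 : c⁻¹ * x * c = x := by
    have h1 := mem_centralizer_singleton_iff.1 (inv_mem hc)
    rw [h1]; group
  have e3 : c⁻¹ * g * (g⁻¹ * x * g) * (c⁻¹ * g)⁻¹ = x := by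
    have : c⁻¹ * g * (g⁻¹ * x * g) * (c⁻¹ * g)⁻¹ = c⁻¹ * x * c := by group
    rw [this, e2]
  rw [e] at e3
  have e4 : d * n * (g⁻¹ * x * g) * (d * n)⁻¹ = d * (n * (g⁻¹ * x * g) * n⁻¹) * d⁻¹ := by group
  have e5 := mem_centralizer_iff.1 hd _ (h.fr.Z_le j hz)
  rw [e4, ← e5, mul_inv_cancel_right] at e3
  rwa [← e3]

end two

end Bs

/-! ### Partners, the axioms `PG.PP` -/

/-- `i`, `j` are partners: `s ∈ S` exchanges `W i` and `W j` and normalises `N_S(W i)`. -/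
structure Pa (S : Subgroup G) {ι : Type} (W : ι → Subgroup G) (i j : ι) (s : G) : Prop where
  mem : s ∈ S
  ne : i ≠ j
  ij : cj s (W i) = W j
  ji : cj s (W j) = W i
  nT : s ∈ normalizer ((S ⊓ normalizer (W i : Set G) : Subgroup G) : Set G)

/-- The conjugates of `Z` are TI. -/
def TI (Z : Subgroup G) : Prop := ∀ g : G, cj g Z ⊓ Z ≠ ⊥ → cj g Z = Z

theorem TI.of_card [Finite G] {Z : Subgroup G} (h : Nat.card Z = 2) : TI Z := by
  intro g hg
  obtain ⟨x, hx, hx1⟩ : ∃ x ∈ cj g Z ⊓ Z, x ≠ 1 := by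
    by_contra hcon
    push Not at hcon
    exact hg ((eq_bot_iff_forall _).2 hcon)
  have key : ∀ Y : Subgroup G, Nat.card Y = 2 → x ∈ Y → zpowers x = Y := by
    intro Y hY hxY
    refine Subgroup.eq_of_le_of_card_ge (zpowers_le.2 hxY) ?_
    rw [hY, Nat.card_zpowers]
    have h1 : orderOf x ≠ 1 := fun e => hx1 (orderOf_eq_one_iff.1 e)
    have h2 : 0 < orderOf x := orderOf_pos x
    omega
  exact (key (cj g Z) (by rw [card_cj, h]) hx.1).symm.trans (key Z h hx.2)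

namespace Bs

section three

variable [Finite G] {S : Sylow 2 G} {P : Subgroup G} {ι : Type} {L W Z C A : ι → Subgroup G} {q m : ℕ}
  (h : Bs S P L W Z C A q m)
include h

theorem exists_partner (i : ι) : ∃ j s, Pa (S : Subgroup G) W i j s := by
  set T : Subgroup G := (S : Subgroup G) ⊓ normalizer (W i : Set G) with hT
  have hlt : T < (S : Subgroup G) := by
    refine lt_of_le_of_ne inf_le_left fun e => ?_
    obtain ⟨j, hj⟩ := h.two i
    obtain ⟨s, hs, e1⟩ := h.trans i j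
    have h1 : s ∈ T := e ▸ hs
    exact hj (h.W_inj (e1.symm.trans (mem_normalizer_iff_cj.1 h1.2)))
  obtain ⟨s, hs, hsn, hsT, hss⟩ := SporRec.MaxFix.exists_sq_mem S.isPGroup' hlt
  obtain ⟨σ, hσ⟩ := h.perm_S hs
  refine ⟨σ i, s, hs, fun e => hsT ⟨hs, mem_normalizer_iff_cj.2 ?_⟩, (hσ i).1, ?_, hsn⟩
  · rw [(hσ i).1, ← e]
  · rw [← (hσ i).1, cj_cj]
    exact mem_normalizer_iff_cj.1 hss.2

/-- an element of `P ∩ C(C i)` fixes all `W j` -/
theorem fix {i : ι} {l : G} (hl : l ∈ P) (hlc : l ∈ centralizer (C i : Set G)) (j : ι) : cj l (W j) = W j := by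
  classical
  have h1 : ∀ j, j ≠ i → cj l (W j) = W j := fun j hj =>
    mem_normalizer_iff_cj.1 (centralizer_le_normalizer _ (centralizer_le (h.fr.WjC i j hj.symm) hlc))
  obtain ⟨σ, hσ⟩ := h.perm l hl
  by_cases hj : j = i
  · subst hj
    have h2 : σ j = j := by
      by_contra hne
      have h3 := (hσ (σ j)).1
      rw [h1 _ hne] at h3
      exact hne (σ.injective (h.W_inj h3).symm)
    have h3 := (hσ j).1
    rwa [h2] at h3
  · exact h1 j hj

/-- The neighbours of `Z i`. -/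
theorem adj_le {i j : ι} (hij : j ≠ i) {k : G} (hk : k ∈ normalizer (Z i : Set G)) :
    cj k (W j) ≤ o2 (normalizer (Z i : Set G)) ⊓ centralizer (o2 (normalizer (Z i : Set G)) : Set G) := by
  have h1 := cj_mono k (h.lemK hij)
  rwa [cj_inf, cj_centralizer,
    cj_eq_of_mem_normalizer (MinSimple.VModule.le_normalizer_o2 (normalizer (Z i : Set G)) hk)] at h1

variable {i j : ι} {s : G} (p : Pa (S : Subgroup G) W i j s)
include p

theorem cj_s_Z : cj s (Z i) = Z j := h.cj_Z (S_norm_bau S p.mem) p.ij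

theorem cj_s_Z' : cj s (Z j) = Z i := h.cj_Z (S_norm_bau S p.mem) p.ji

/-- `N_S(Z j) = N_S(Z i)` for partners. -/
theorem T_eq : (S : Subgroup G) ⊓ normalizer (Z j : Set G) = (S : Subgroup G) ⊓ normalizer (Z i : Set G) := by
  have h1 := mem_normalizer_iff_cj.1 p.nT
  rw [← h.inf_normalizer i, cj_inf, cj_normalizer, h.cj_s_Z p,
    cj_eq_of_mem_normalizer (Subgroup.le_normalizer p.mem)] at h1
  exact h1

theorem T_le : (S : Subgroup G) ⊓ normalizer (Z i : Set G) ≤ normalizer (Z i : Set G) ⊓ normalizer (Z j : Set G) :=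
  le_inf inf_le_right ((h.T_eq p).ge.trans inf_le_right)

/-- `N_S(Z i)` is a Sylow 2-subgroup of `D_12 = N_G(Z i) ∩ N_G(Z j)`. -/
theorem syl_D [Finite ι] : Syl ((S : Subgroup G) ⊓ normalizer (Z i : Set G))
    (normalizer (Z i : Set G) ⊓ normalizer (Z j : Set G)) :=
  h.syl_of_le i (h.T_le p) inf_le_left

/-- **The axioms `PG.PP`** of the points and lines (`PG/Base.lean`). -/
theorem toPP [Finite ι] (hTI : TI (Z i))
    (hnl : MinPar.NonLoc (normalizer (Z i : Set G)) (normalizer (Z j : Set G))) :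
    PG.PP ![Z i, Z j] ![W i, W j] := by
  have hji : j ≠ i := p.ne.symm
  refine
    { swap := ⟨s, h.cj_s_Z p, h.cj_s_Z' p, p.ij, p.ji⟩
      ZU := (h.fr.blk i).ZV
      sq := fun x hx => SQ1.Bau.elem_sq h.fr.el x (h.fr.ZV i hx)
      ne := h.Z_ne i
      tr := ?_
      N_le_Q := ?_
      Q_le_cent := ?_
      UQ := ?_
      nonLoc := hnl }
  · intro k hk
    change cj k (Z i) ≤ W i at hk
    change ∃ l : G, cj l (Z i) = cj k (Z i) ∧ cj l (Z j) = Z j ∧ cj l (W i) = W i ∧ cj l (W j) = W j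
    obtain ⟨z, hz, hz1⟩ : ∃ x ∈ Z i, x ≠ 1 := by
      by_contra hcon
      push Not at hcon
      exact h.Z_ne i ((eq_bot_iff_forall _).2 hcon)
    have hx : k * z * k⁻¹ ∈ cj k (Z i) := ⟨z, hz, rfl⟩
    have hx1 : k * z * k⁻¹ ≠ 1 := fun e => hz1 (conj_eq_one_iff.1 e)
    obtain ⟨l, hl, hlc, y, hy, e⟩ := h.tr i _ (hk hx) hx1
    have h1 : cj (l⁻¹ * k) (Z i) = Z i := by
      apply hTI
      intro hbot
      have h2 : y ∈ cj (l⁻¹ * k) (Z i) ⊓ Z i := by
        refine mem_inf.2 ⟨?_, hy⟩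
        rw [mem_cj]
        have e1 : (l⁻¹ * k)⁻¹ * y * (l⁻¹ * k) = k⁻¹ * (l * y * l⁻¹) * k := by group
        have e2 : k⁻¹ * (k * z * k⁻¹) * k = z := by group
        rw [e1, e, e2]
        exact hz
      rw [hbot, mem_bot] at h2
      rw [h2, mul_one, mul_inv_cancel] at e
      exact hx1 e.symm
    refine ⟨l, ?_, ?_, h.fix hl hlc i, h.fix hl hlc j⟩
    · have h2 := congrArg (cj l) h1
      rw [cj_cj, mul_inv_cancel_left] at h2
      exact h2.symm
    · exact mem_normalizer_iff_cj.1 (centralizer_le_normalizer _ (centralizer_le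
        ((h.fr.blk j).ZV.trans (h.fr.WjC i j p.ne)) hlc))
  · refine sSup_le ?_
    rintro u ⟨k, hk, rfl⟩
    exact ((cj_mono k (h.fr.blk j).ZV).trans (h.adj_le hji (mem_normalizer_iff_cj.2 hk.symm))).trans inf_le_left
  · rw [le_centralizer_iff]
    refine sSup_le ?_
    rintro u ⟨k, hk, rfl⟩
    exact ((cj_mono k (h.fr.blk j).ZV).trans (h.adj_le hji (mem_normalizer_iff_cj.2 hk.symm))).trans inf_le_right
  · intro x hx y hy
    exact (h.toIn i).comm x hx y (h.o2_le i hy)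

end three

end Bs

/-! ### Existence -/

section exist

open Cfsg.Agent.Omega.NatPair (ap ap_one exists_ap)
open Cfsg.Agent.Omega.FFThm (NatK)
open Cfsg.Agent.Omega.SQ1.FFOne
open Cfsg.Agent.Omega.FrameFF (cv)

variable [Finite G] {S : Sylow 2 G} {P : Subgroup G} {F : Type} [Field F] {k : ℕ}

theorem char_P (h : Hyp S P) : P ⊓ centralizer (o2 P : Set G) ≤ o2 P := h.star.isLoc.char2 S h.ctx.char2

/-- The parametrised natural module. -/
noncomputable def nat (h : HypJ S P) (hk : 0 < k) (N : NatK F (S : Subgroup G) P (zl (S : Subgroup G) P)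
    (cv (S : Subgroup G) P) k) :
    NatKB F (S : Subgroup G) P (zl (S : Subgroup G) P) (cv (S : Subgroup G) P) k :=
  natKB_of h.toHyp.syl (char_P h.toHyp) h.jnot hk N

/-- **The frame, from `HypJ` and `NatK` with `k ≥ 2`.** -/
theorem exists_bs [Finite F] [CharP F 2] (h : HypJ S P) (hk : 2 ≤ k)
    (N : NatK F (S : Subgroup G) P (zl (S : Subgroup G) P) (cv (S : Subgroup G) P) k) :
    ∃ L Z A : Fin k → Subgroup G,
      Bs S P L (Wn (nat h (by omega) N)) Z (Cn (nat h (by omega) N)) A (Nat.card F) (mm (S : Subgroup G)) ∧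
      (∀ i v, v ∈ Z i ↔ v ∈ Wn (nat h (by omega) N) i ∧ N.e v i 1 = 0) ∧
      (∀ i, L i ≤ Xn (nat h (by omega) N) i) ∧
      (∀ i A, ∃ l ∈ L i, ∃ A', (nat h (by omega) N).Acts l A' ∧ A' i = A) := by
  classical
  have hk0 : 0 < k := by omega
  obtain ⟨L, Z, A, hL, hA, hLA, hZ, hF⟩ := natFr h.toHyp.syl h.star.toIsMinPar (char_P h.toHyp) h.jnot hk0 N
    h.toHyp.cv (mx_sylow S)
  set M := nat h hk0 N with hM
  have hW : ∀ (g : G) (σ : Equiv.Perm (Fin k)), g ∈ P →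
      (∀ v ∈ zl (S : Subgroup G) P, ∀ i, N.e (g * v * g⁻¹) (σ i) = 0 ↔ N.e v i = 0) →
      ∀ i, cj g (Wn M i) = Wn M (σ i) ∧ cj g (Cn M i) = Cn M (σ i) := by
    intro g σ hg hσ i
    have hgv : ∀ x ∈ zl (S : Subgroup G) P, g⁻¹ * x * g ∈ zl (S : Subgroup G) P := by
      intro x hx
      have := M.Vn g⁻¹ (inv_mem hg) x hx
      rwa [inv_inv] at this
    have e0 : ∀ x : G, g * (g⁻¹ * x * g) * g⁻¹ = x := fun x => by group
    constructor
    · ext x
      rw [mem_cj]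
      constructor
      · rintro ⟨hx, hx'⟩
        have hxV : x ∈ zl (S : Subgroup G) P := by
          have := M.Vn g hg _ hx
          rwa [e0] at this
        refine ⟨hxV, fun j hj => ?_⟩
        have h1 := (hσ _ hx (σ.symm j)).2 (hx' _ fun e => hj (by rw [← e, Equiv.apply_symm_apply]))
        rwa [Equiv.apply_symm_apply, e0] at h1
      · rintro ⟨hx, hx'⟩
        refine ⟨hgv x hx, fun j hj => ?_⟩
        refine (hσ _ (hgv x hx) j).1 ?_
        rw [e0]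
        exact hx' _ fun e => hj (σ.injective e)
    · ext x
      rw [mem_cj]
      constructor
      · rintro ⟨hx, hx'⟩
        have hxV : x ∈ zl (S : Subgroup G) P := by
          have := M.Vn g hg _ hx
          rwa [e0] at this
        have h1 := (hσ _ hx i).2 hx'
        rw [e0] at h1
        exact ⟨hxV, h1⟩
      · rintro ⟨hx, hx'⟩
        refine ⟨hgv x hx, (hσ _ (hgv x hx) i).1 ?_⟩
        rw [e0]
        exact hx'
  have hsurj : ∀ i : Fin k, ∃ v ∈ Wn M i, N.e v i ≠ 0 := by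
    intro i
    obtain ⟨v, hv, e⟩ := N.surj (Function.update 0 i ![1, 0])
    refine ⟨v, ⟨hv, fun j hj => ?_⟩, ?_⟩
    · change N.e v j = 0
      rw [e, Function.update_of_ne hj]; rfl
    · rw [e, Function.update_self]
      intro h0
      have := congrFun h0 0
      simp at this
  refine ⟨L, Z, A, ?_, hZ, hL, hLA⟩
  refine
    { hyp := h
      fr := hF
      two := fun i => ?_
      LP := fun i => (hL i).trans fun x hx => hx.1
      AS := hA
      perm := fun g hg => ?_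
      trans := fun i j => ?_
      tr := fun i x hx hx1 => ?_ }
  · have h1 : Nontrivial (Fin k) := Fin.nontrivial_iff_two_le.2 hk
    exact exists_ne i
  · obtain ⟨σ, hσ⟩ := N.perm g hg
    exact ⟨σ, hW g σ hg hσ⟩
  · obtain ⟨t, ht, hij⟩ := N.trans i j
    have htP : t ∈ P := h.star.isLoc.le ht
    obtain ⟨σ, hσ⟩ := N.perm t htP
    have h1 := hW t σ htP hσ i
    have h2 : σ i = j := by
      by_contra hne
      obtain ⟨v, hv, hv0⟩ := hsurj (σ i)
      have h3 : v ∈ Cn M j := ⟨hv.1, hv.2 j (Ne.symm hne)⟩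
      obtain ⟨w, hw, rfl⟩ : ∃ w ∈ zl (S : Subgroup G) P, t * w * t⁻¹ = v := by
        refine ⟨t⁻¹ * v * t, ?_, by group⟩
        have := M.Vn t⁻¹ (inv_mem htP) v hv.1
        rwa [inv_inv] at this
      exact hv0 ((hσ w hw i).2 ((hij w hw).1 h3.2))
    exact ⟨t, ht, h2 ▸ h1.1⟩
  · have hxi : N.e x i ≠ 0 := by
      intro h0
      apply hx1
      refine nat_inj M h.toHyp.cv hx.1 (one_mem _) ?_
      rw [M.map_one]
      funext j
      by_cases hj : j = i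
      · rw [hj]; exact h0
      · exact hx.2 j hj
    obtain ⟨z, hz, e⟩ := N.surj (Function.update 0 i ![1, 0])
    have hzW : z ∈ Wn M i := ⟨hz, fun j hj => by change N.e z j = 0; rw [e, Function.update_of_ne hj]; rfl⟩
    have hzi : N.e z i = ![1, 0] := by rw [e, Function.update_self]
    have hzi0 : N.e z i ≠ 0 := by
      rw [hzi]
      intro h0
      have := congrFun h0 0
      simp at this
    obtain ⟨B, hB⟩ := exists_ap hzi0 hxi
    obtain ⟨l, hl, hlA, -⟩ := N.lift (Function.update 1 i B)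
    refine ⟨l, hl, mem_centralizer_iff.2 fun c hc => ?_, z, (hZ i z).2 ⟨hzW, by rw [hzi]; rfl⟩, ?_⟩
    · have h1 : l * c * l⁻¹ = c := by
        refine nat_inj M h.toHyp.cv (M.Vn l hl c hc.1) hc.1 ?_
        funext j
        change N.e (l * c * l⁻¹) j = N.e c j
        rw [hlA c hc.1 j]
        by_cases hj : j = i
        · have h0 : N.e c i = 0 := hc.2
          rw [hj, h0]
          exact Cfsg.Agent.Omega.NatPair.ext2 (by rw [Cfsg.Agent.Omega.NatPair.ap_zero']; simp)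
            (by rw [Cfsg.Agent.Omega.NatPair.ap_one']; simp)
        · rw [Function.update_of_ne hj, Pi.one_apply, ap_one]
      calc c * l = l * c * l⁻¹ * l := by rw [h1]
        _ = l * c := by group
    · refine nat_inj M h.toHyp.cv (M.Vn l hl z hz) hx.1 ?_
      funext j
      change N.e (l * z * l⁻¹) j = N.e x j
      rw [hlA z hz j]
      by_cases hj : j = i
      · rw [hj, Function.update_self, hB]
      · rw [Function.update_of_ne hj, Pi.one_apply, ap_one]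
        exact (hzW.2 j hj).trans (hx.2 j hj).symm

end exist

end Cfsg.Agent.Omega.NO3S.EThree.Frame

end

section


/-!
# NO-3S, `V_P` a sum of `k ≥ 2` natural modules: `N_G(B)` permutes the factors `W i`

* `Scal S P W Z C i` : the scalars of the `i`-th factor, `C_{P}(C i)` contains elements acting on `W i` like
  `diag(μ⁻¹, μ)`;
* `scal` : the natural modules have them;
* `Bs.le_of_triv` : an element of `N_G(V_P)` which is trivial on `Z_J` and `V_P / Z_J` lies in `B C_G(V_P)`;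
* `Bs.perm_W` : **`N_G(B)` permutes the `W i`** (`q = 2`: UNI+; `q ≥ 4`: scalars).
-/

set_option autoImplicit false
set_option linter.unusedSectionVars false

namespace Cfsg.Agent.Omega.NO3S.EThree.Frame

open Subgroup Cfsg Cfsg.Agent.ZN.ChoiceBase
open Cfsg.Agent.ZN (jj zj bau zc zl o2)
open Cfsg.Agent.ZN.ChoiceSit (Syl exists_syl syl_conj)
open Cfsg.Agent.Omega.OM Cfsg.Agent.Omega.OM.Uni
open scoped Pointwise

universe u

variable {G : Type u} [Group G]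

/-- The scalars of the factor `W i`. -/
structure Scal (S P : Subgroup G) {ι : Type} (W Z C : ι → Subgroup G) (i : ι) : Prop where
  surj : ∀ v ∈ W i, v ∉ Z i → ∀ z ∈ Z i, ∃ b ∈ bau S, b * v * b⁻¹ * v⁻¹ = z
  ex : ∀ v ∈ W i, v ∉ Z i → ∀ v' ∈ W i, v' ∉ Z i → ∃ h ∈ P, h ∈ centralizer (C i : Set G) ∧
    h ∈ normalizer (Z i : Set G) ∧
    (∀ b ∈ bau S, ∀ w ∈ W i, b * (h * w * h⁻¹) * b⁻¹ * (h * w * h⁻¹)⁻¹ = h⁻¹ * (b * w * b⁻¹ * w⁻¹) * h) ∧
    v'⁻¹ * (h * v * h⁻¹) ∈ Z i ∧ (v'⁻¹ * v ∉ Z i → ∀ w ∈ W i, h * w * h⁻¹ = w → w = 1)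

namespace Bs

section triv

variable [Finite G] {S : Sylow 2 G} {P : Subgroup G} {ι : Type} {L W Z C A : ι → Subgroup G} {q m : ℕ}
  (h : Bs S P L W Z C A q m)
include h

/-- `V_P` is centralised modulo... : an element of `N_G(V_P)` trivial on `Z_J` and on `V_P / Z_J` lies in
`B C_G(V_P)`. -/
theorem le_of_triv {y : G} (hy : y ∈ normalizer (zl (S : Subgroup G) P : Set G))
    (h1 : ∀ z ∈ zj (S : Subgroup G), y * z = z * y)
    (h2 : ∀ v ∈ zl (S : Subgroup G) P, y * v * y⁻¹ * v⁻¹ ∈ zj (S : Subgroup G)) :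
    ∃ b ∈ bau (S : Subgroup G), ∃ c ∈ centralizer (zl (S : Subgroup G) P : Set G), y = b * c := by
  have : Fact (Nat.Prime 2) := ⟨Nat.prime_two⟩
  set V : Subgroup G := zl (S : Subgroup G) P with hV
  set ZJ : Subgroup G := zj (S : Subgroup G) with hZJ
  have hsq : ∀ v ∈ V, v * v = 1 := fun v hv => by
    have := SQ1.Bau.elem_sq h.fr.el v hv
    rwa [pow_two] at this
  have hZV : ZJ ≤ V := h.fr.ZJV
  -- the group of these elements
  let Y : Subgroup G :=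
    { carrier := {y | y ∈ normalizer (V : Set G) ∧ (∀ z ∈ ZJ, y * z = z * y) ∧ ∀ v ∈ V, y * v * y⁻¹ * v⁻¹ ∈ ZJ}
      one_mem' := ⟨one_mem _, fun z _ => by simp, fun v _ => by simp⟩
      mul_mem' := by
        rintro a b ⟨ha, ha1, ha2⟩ ⟨hb, hb1, hb2⟩
        refine ⟨mul_mem ha hb, fun z hz => by rw [mul_assoc, hb1 z hz, ← mul_assoc, ha1 z hz, mul_assoc],
          fun v hv => ?_⟩
        have e : a * b * v * (a * b)⁻¹ * v⁻¹ = a * (b * v * b⁻¹ * v⁻¹) * a⁻¹ * (a * v * a⁻¹ * v⁻¹) := by group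
        rw [e]
        refine mul_mem ?_ (ha2 v hv)
        rw [ha1 _ (hb2 v hv), mul_inv_cancel_right]
        exact hb2 v hv
      inv_mem' := by
        rintro a ⟨ha, ha1, ha2⟩
        have hi : ∀ z ∈ ZJ, a⁻¹ * z = z * a⁻¹ := fun z hz => by
          rw [inv_mul_eq_iff_eq_mul, ← mul_assoc, ha1 z hz, mul_inv_cancel_right]
        refine ⟨inv_mem ha, hi, fun v hv => ?_⟩
        have e : a⁻¹ * v * a⁻¹⁻¹ * v⁻¹ = a⁻¹ * (a * v * a⁻¹ * v⁻¹)⁻¹ * a := by group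
        rw [e, hi _ (inv_mem (ha2 v hv)), inv_mul_cancel_right]
        exact inv_mem (ha2 v hv) }
  have hyY : y ∈ Y := ⟨hy, h1, h2⟩
  -- squares centralise `V`
  have hYsq : ∀ y ∈ Y, y * y ∈ centralizer (V : Set G) := by
    rintro y ⟨hy, h1, h2⟩
    rw [mem_centralizer_iff]
    intro v hv
    have hz := h2 v hv
    set z := y * v * y⁻¹ * v⁻¹ with hzd
    have e1 : y * v * y⁻¹ = z * v := by rw [hzd]; group
    have e2 : y * (y * v * y⁻¹) * y⁻¹ = v := by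
      rw [e1]
      have : y * (z * v) * y⁻¹ = (y * z) * y⁻¹ * (y * v * y⁻¹) := by group
      rw [this, e1, h1 z hz, mul_inv_cancel_right, ← mul_assoc, hsq z (hZV hz), one_mul]
    calc v * (y * y) = (y * (y * v * y⁻¹) * y⁻¹) * (y * y) := by rw [e2]
      _ = y * y * v := by group
  -- `S` normalises `Y`
  have hSV : (S : Subgroup G) ≤ normalizer (V : Set G) :=
    h.hyp.star.isLoc.le.trans (MinSimple.VModule.le_normalizer_zl _ _)
  have hSZ : (S : Subgroup G) ≤ normalizer (ZJ : Set G) := Cfsg.Agent.ZN.le_normalizer_zj _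
  have hconj : ∀ s ∈ (S : Subgroup G), ∀ y ∈ Y, s * y * s⁻¹ ∈ Y := by
    rintro s hs y ⟨hy, h1, h2⟩
    have hsV : ∀ v ∈ V, s⁻¹ * v * s ∈ V := fun v hv => by
      have := (mem_normalizer_iff.1 (inv_mem (hSV hs)) v).1 hv
      rwa [inv_inv] at this
    have hsZ : ∀ v ∈ ZJ, s⁻¹ * v * s ∈ ZJ := fun v hv => by
      have := (mem_normalizer_iff.1 (inv_mem (hSZ hs)) v).1 hv
      rwa [inv_inv] at this
    refine ⟨mul_mem (mul_mem (hSV hs) hy) (inv_mem (hSV hs)), fun z hz => ?_, fun v hv => ?_⟩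
    · have h3 := h1 _ (hsZ z hz)
      calc s * y * s⁻¹ * z = s * (y * (s⁻¹ * z * s)) * s⁻¹ := by group
        _ = s * ((s⁻¹ * z * s) * y) * s⁻¹ := by rw [h3]
        _ = z * (s * y * s⁻¹) := by group
    · have h3 := h2 _ (hsV v hv)
      have e : s * y * s⁻¹ * v * (s * y * s⁻¹)⁻¹ * v⁻¹ =
          s * (y * (s⁻¹ * v * s) * y⁻¹ * (s⁻¹ * v * s)⁻¹) * s⁻¹ := by group
      rw [e]
      exact (mem_normalizer_iff.1 (hSZ hs) _).1 h3
  have hSY : (S : Subgroup G) ≤ normalizer (Y : Set G) := by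
    intro s hs
    rw [mem_normalizer_iff]
    refine fun y => ⟨hconj s hs y, fun hy => ?_⟩
    have := hconj s⁻¹ (inv_mem hs) _ hy
    have e : s⁻¹ * (s * y * s⁻¹) * s⁻¹⁻¹ = y := by group
    rwa [e] at this
  -- the images in `N(V) / C(V)`
  set N : Subgroup G := normalizer (V : Set G) with hN
  set K : Subgroup G := centralizer (V : Set G) with hK
  have hKN : K ≤ N := centralizer_le_normalizer _
  have hYN : Y ≤ N := fun y hy => hy.1
  have hnor : (K.subgroupOf N).Normal := by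
    refine ⟨fun x hx g => ?_⟩
    rw [mem_subgroupOf] at hx ⊢
    have h3 : N ≤ normalizer (K : Set G) := Dich.norm_cent
    exact (mem_normalizer_iff.1 (h3 g.2) _).1 hx
  let φ : N →* N ⧸ K.subgroupOf N := QuotientGroup.mk' _
  have h3 : IsPGroup 2 (((S : Subgroup G).subgroupOf N).map φ) := by
    refine IsPGroup.map ?_ φ
    exact S.isPGroup'.comap_subtype
  have h4 : IsPGroup 2 ((Y.subgroupOf N).map φ) := by
    rintro ⟨x, hx⟩
    obtain ⟨y, hy, rfl⟩ := hx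
    refine ⟨1, Subtype.ext ?_⟩
    rw [pow_one]
    change φ y ^ 2 = 1
    rw [← map_pow, pow_two]
    change (QuotientGroup.mk' _) (y * y) = 1
    rw [QuotientGroup.mk'_apply, QuotientGroup.eq_one_iff, mem_subgroupOf]
    exact hYsq _ hy
  have hle : ((S : Subgroup G).subgroupOf N).map φ ≤ normalizer (((Y.subgroupOf N).map φ : Subgroup _) : Set _) := by
    rintro _ ⟨s, hs, rfl⟩
    rw [mem_normalizer_iff]
    have key : ∀ s : N, (s : G) ∈ (S : Subgroup G) → ∀ x ∈ (Y.subgroupOf N).map φ, φ s * x * (φ s)⁻¹ ∈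
        (Y.subgroupOf N).map φ := by
      rintro s hs _ ⟨y, hy, rfl⟩
      refine ⟨s * y * s⁻¹, ?_, by rw [map_mul, map_mul, map_inv]⟩
      exact hconj s hs y hy
    refine fun x => ⟨key s hs x, fun hx => ?_⟩
    have := key s⁻¹ (inv_mem hs) _ hx
    rw [map_inv] at this
    have e : (φ s)⁻¹ * (φ s * x * (φ s)⁻¹) * (φ s)⁻¹⁻¹ = x := by group
    rwa [e] at this
  have h5 : IsPGroup 2 (((S : Subgroup G).subgroupOf N).map φ ⊔ (Y.subgroupOf N).map φ : Subgroup _) :=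
    IsPGroup.to_sup_of_normal_right' h3 h4 hle
  -- the image of `S` is a Sylow subgroup
  have hmax : ∀ R : Subgroup (N ⧸ K.subgroupOf N), IsPGroup 2 R → ((S : Subgroup G).subgroupOf N).map φ ≤ R →
      R = ((S : Subgroup G).subgroupOf N).map φ := by
    intro R hR hle
    have h6 : ¬ 2 ∣ (((S : Subgroup G).subgroupOf N).map φ).index := by
      intro hd
      have h7 : (((S : Subgroup G).subgroupOf N).map φ).index ∣ ((S : Subgroup G).subgroupOf N).index :=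
        Subgroup.index_map_dvd _ (QuotientGroup.mk'_surjective _)
      have h8 := Cfsg.Agent.ZN.ChoiceSit.syl_not_dvd (T := (S : Subgroup G)) (X := N)
        ⟨hSV, S.isPGroup', fun _ _ hT hST => S.is_maximal' hT hST⟩
      exact h8 (hd.trans h7)
    symm
    refine le_antisymm hle ?_
    have h7 : (((S : Subgroup G).subgroupOf N).map φ).relIndex R ∣ (((S : Subgroup G).subgroupOf N).map φ).index :=
      Subgroup.relIndex_dvd_index_of_le hle
    obtain ⟨n, hn⟩ := IsPGroup.iff_card.1 hR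
    have h8 : (((S : Subgroup G).subgroupOf N).map φ).relIndex R ∣ 2 ^ n := hn ▸ Subgroup.relIndex_dvd_card _ _
    obtain ⟨a, -, ha⟩ := (Nat.dvd_prime_pow Nat.prime_two).1 h8
    rcases Nat.eq_zero_or_pos a with rfl | ha0
    · rw [pow_zero] at ha
      exact relIndex_eq_one.1 ha
    · exact absurd ((dvd_pow_self 2 ha0.ne').trans (ha ▸ h7)) h6
  have h6 := hmax _ h5 le_sup_left
  have h7 : φ ⟨y, hy⟩ ∈ ((S : Subgroup G).subgroupOf N).map φ := by
    rw [← h6]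
    exact mem_sup_right ⟨⟨y, hy⟩, hyY, rfl⟩
  obtain ⟨s, hs, e⟩ := h7
  have h8 : (s : G)⁻¹ * y ∈ K := by
    have e' : (QuotientGroup.mk' (K.subgroupOf N)) s = (QuotientGroup.mk' (K.subgroupOf N)) ⟨y, hy⟩ := e
    rw [QuotientGroup.mk'_apply, QuotientGroup.mk'_apply, QuotientGroup.eq, mem_subgroupOf] at e'
    exact e'
  refine ⟨s, mem_bau.2 ⟨hs, fun z hz => ?_⟩, (s : G)⁻¹ * y, h8, by group⟩
  -- `s = y c⁻¹` centralises `Z_J`
  have h9 : ((s : G)⁻¹ * y) * z = z * ((s : G)⁻¹ * y) := (mem_centralizer_iff.1 h8 z (hZV hz)).symm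
  have h10 := h1 z hz
  calc z * (s : G) = s * ((s : G)⁻¹ * z * s) := by group
    _ = s * ((s : G)⁻¹ * (z * y) * y⁻¹ * s) := by group
    _ = s * ((s : G)⁻¹ * (y * z) * y⁻¹ * s) := by rw [h10]
    _ = s * (((s : G)⁻¹ * y) * z * y⁻¹ * s) := by group
    _ = s * (z * ((s : G)⁻¹ * y) * y⁻¹ * s) := by rw [h9]
    _ = (s : G) * z := by group

end triv

section perm

variable [Finite G] {S : Sylow 2 G} {P : Subgroup G} {ι : Type} {L W Z C A : ι → Subgroup G} {q m : ℕ}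
  (h : Bs S P L W Z C A q m)
include h

/-- `Z_J ∩ C i` is generated by the other `Z j`. -/
theorem ZC_le [Finite ι] (i : ι) : zj (S : Subgroup G) ⊓ C i ≤ ⨆ j : {j : ι // j ≠ i}, Z j := by
  classical
  have := Fintype.ofFinite ι
  rintro v ⟨hvJ, hv⟩
  have hle : (⨆ j : {j : ι // j ≠ i}, Z j) ≤ zj (S : Subgroup G) ⊓ C i :=
    iSup_le fun j => le_inf (h.fr.Z_le j) ((h.fr.blk j).ZV.trans (h.fr.WjC i j j.2.symm))
  have key : ∀ s : Finset ι, i ∉ s → ∃ u ∈ ⨆ j : {j : ι // j ≠ i}, Z j, ∀ j ∈ s, u⁻¹ * v ∈ C j := by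
    intro s
    induction s using Finset.induction_on with
    | empty => exact fun _ => ⟨1, one_mem _, by simp⟩
    | insert j s hj ih =>
      intro hi
      have hji : j ≠ i := fun e => hi (e ▸ Finset.mem_insert_self _ _)
      obtain ⟨u, hu, h1⟩ := ih fun e => hi (Finset.mem_insert_of_mem e)
      obtain ⟨w, hw, c, hc, -, e⟩ := h.fr.split_ZJ j (mul_mem (inv_mem (hle hu).1) hvJ)
      refine ⟨u * w, mul_mem hu (mem_iSup_of_mem (⟨j, hji⟩ : {j : ι // j ≠ i}) hw), fun l hl => ?_⟩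
      have e1 : (u * w)⁻¹ * v = w⁻¹ * (u⁻¹ * v) := by group
      rw [e1]
      rcases Finset.mem_insert.1 hl with rfl | hl
      · rw [e]
        have : w⁻¹ * (w * c) = c := by group
        rwa [this]
      · have hlj : l ≠ j := fun e => hj (e ▸ hl)
        exact mul_mem (inv_mem (h.fr.WjC l j hlj ((h.fr.blk j).ZV hw))) (h1 l hl)
  obtain ⟨u, hu, h1⟩ := key (Finset.univ.erase i) (Finset.notMem_erase _ _)
  have h2 : u⁻¹ * v = 1 := by
    refine h.fr.C0 _ (mul_mem (inv_mem (h.fr.CV i (hle hu).2)) (h.fr.CV i hv)) fun j => ?_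
    by_cases hj : j = i
    · subst hj
      exact mul_mem (inv_mem (hle hu).2) hv
    · exact h1 j (Finset.mem_erase.2 ⟨hj, Finset.mem_univ _⟩)
  rw [← inv_mul_eq_one.1 h2]
  exact hu

theorem cj_inv_eq {g : G} {X Y : Subgroup G} (e : cj g X = Y) : cj g⁻¹ Y = X := by
  rw [← e, cj_inv_cj]

/-- the permutation of the `Z i` induced by `g ∈ N_G(B)` and by `g⁻¹` -/
theorem norm_inv [Finite ι] {g : G} (hg : g ∈ normalizer (bau (S : Subgroup G) : Set G)) {i j : ι}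
    (e : cj g (Z i) = Z j) : cj g (W i) ≤ W j ⊔ zj (S : Subgroup G) ∧ cj g⁻¹ (W j) ≤ W i ⊔ zj (S : Subgroup G) := by
  have key : ∀ g ∈ normalizer (bau (S : Subgroup G) : Set G), ∀ i j, cj g (Z i) = Z j →
      cj g (W i) ≤ W j ⊔ zj (S : Subgroup G) := by
    intro g hg i j e
    obtain ⟨j', h1, h2⟩ := (h.norm hg).2 i
    rw [e] at h1
    rwa [← h.Z_inj h1] at h2
  exact ⟨key g hg i j e, key g⁻¹ (inv_mem hg) j i (by rw [← e, cj_inv_cj])⟩

/-- `v ∈ W i`, `v ∉ Z i` is not in `Z_J`. -/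
theorem not_zj {i : ι} {v : G} (hv : v ∈ W i) (hvZ : v ∉ Z i) : v ∉ zj (S : Subgroup G) := fun hJ =>
  hvZ ((h.fr.blk i).toMd.mem_Z_iff.2 ⟨hv, ((h.fr.mem_ZJ v).1 hJ).2⟩)

/-- elements of `V_P` with the same commutators with `B` are congruent mod `Z_J` -/
theorem eq_mod {v w : G} (hv : v ∈ zl (S : Subgroup G) P) (hw : w ∈ zl (S : Subgroup G) P)
    (e : ∀ b ∈ bau (S : Subgroup G), b * v * b⁻¹ * v⁻¹ = b * w * b⁻¹ * w⁻¹) : w⁻¹ * v ∈ zj (S : Subgroup G) := by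
  refine (h.fr.mem_ZJ _).2 ⟨mul_mem (inv_mem hw) hv, fun b hb => ?_⟩
  have hbw : b * w * b⁻¹ ∈ zl (S : Subgroup G) P := (mem_normalizer_iff.1 (h.bau_norm hb) w).1 hw
  have e1 := e b hb
  have e2 : b * v * b⁻¹ = b * w * b⁻¹ * w⁻¹ * v := by rw [← e1]; group
  have e3 : b * (w⁻¹ * v) * b⁻¹ = (b * w * b⁻¹)⁻¹ * (b * v * b⁻¹) := by group
  have e4 : b * (w⁻¹ * v) * b⁻¹ = w⁻¹ * v := by
    rw [e3, e2]; group
  calc b * (w⁻¹ * v) = b * (w⁻¹ * v) * b⁻¹ * b := by group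
    _ = w⁻¹ * v * b := by rw [e4]

/-- commutators with `B` do not change mod `Z_J` -/
theorem comm_mul {v z b : G} (hz : z ∈ zj (S : Subgroup G)) (hb : b ∈ bau (S : Subgroup G)) :
    b * (v * z) * b⁻¹ * (v * z)⁻¹ = b * v * b⁻¹ * v⁻¹ := by
  have h1 : b * z = z * b := ((h.fr.mem_ZJ z).1 hz).2 b hb
  calc b * (v * z) * b⁻¹ * (v * z)⁻¹ = b * v * (z * b⁻¹) * z⁻¹ * v⁻¹ := by group
    _ = b * v * (b⁻¹ * (b * z) * b⁻¹) * z⁻¹ * v⁻¹ := by group
    _ = b * v * (b⁻¹ * (z * b) * b⁻¹) * z⁻¹ * v⁻¹ := by rw [h1]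
    _ = b * v * b⁻¹ * v⁻¹ := by group

/-- **`q ≥ 3`**: `g ∈ N_G(B)`, `g Z_i = Z_j` implies `g W_i = W_j`. -/
theorem cj_W_of_three [Finite ι] (hq : 2 < q) (hs : ∀ i, Scal (S : Subgroup G) P W Z C i) {n : G}
    (hn : n ∈ normalizer (bau (S : Subgroup G) : Set G)) {i j : ι} (e : cj n (Z i) = Z j) : cj n (W i) = W j := by
  classical
  set V : Subgroup G := zl (S : Subgroup G) P with hV
  set ZJ : Subgroup G := zj (S : Subgroup G) with hZJ
  set B : Subgroup G := bau (S : Subgroup G) with hB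
  obtain ⟨hnW, hnW'⟩ := h.norm_inv hn e
  have hnV : cj n V = V := (h.norm hn).1
  have hnJ : cj n ZJ = ZJ := mem_normalizer_iff_cj.1 (Dich.norm_zj _ hn)
  have hnB : ∀ b ∈ B, n⁻¹ * b * n ∈ B := fun b hb => (mem_normalizer_iff''.1 hn b).1 hb
  have hnJ' : ∀ z ∈ ZJ, n * z * n⁻¹ ∈ ZJ := fun z hz => hnJ ▸ ⟨z, hz, rfl⟩
  have hnV' : ∀ z ∈ V, n * z * n⁻¹ ∈ V := fun z hz => hnV ▸ ⟨z, hz, rfl⟩
  have hZV : ZJ ≤ V := h.fr.ZJV
  have hWV : ∀ i, W i ≤ V := h.fr.WV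
  have hVc : ∀ x ∈ V, ∀ y ∈ V, x * y = y * x := fun x hx y hy => h.fr.Vc hx hy
  -- elements of `n W_i`
  have hdec : ∀ w ∈ W i, ∃ w' ∈ W j, ∃ z ∈ ZJ, n * w * n⁻¹ = w' * z := by
    intro w hw
    exact SQ1.Bau.mem_sup_comm (fun a ha b hb => hVc a (hWV j ha) b (hZV hb)) (hnW ⟨w, hw, rfl⟩)
  -- two vectors
  obtain ⟨v₀, hv₀, hv₀Z⟩ : ∃ v ∈ W i, v ∉ Z i := by
    by_contra hcon
    push Not at hcon
    have h1 := (h.fr.blk i).card
    have h2 := Subgroup.card_le_of_le (show W i ≤ Z i from hcon)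
    have h3 : 0 < Nat.card (Z i) := Nat.card_pos
    nlinarith [(h.fr.blk i).one]
  obtain ⟨v₀', hv₀', hv₀Z', hvv⟩ : ∃ v ∈ W i, v ∉ Z i ∧ v⁻¹ * v₀ ∉ Z i := by
    by_contra hcon
    push Not at hcon
    -- `W i = Z i ∪ v₀ Z i`
    have h1 := (h.fr.blk i).card
    have h4 : (Z i).relIndex (W i) = q := by
      have h5 := Subgroup.relIndex_mul_relIndex ⊥ (Z i) (W i) bot_le (h.fr.blk i).ZV
      rw [Subgroup.relIndex_bot_left, Subgroup.relIndex_bot_left, h1] at h5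
      exact Nat.eq_of_mul_eq_mul_left Nat.card_pos h5
    have h6 : ∀ x : W i ⧸ (Z i).subgroupOf (W i), x = QuotientGroup.mk 1 ∨ x = QuotientGroup.mk ⟨v₀, hv₀⟩ := by
      intro x
      obtain ⟨⟨y, hy⟩, rfl⟩ := QuotientGroup.mk_surjective x
      by_cases hyZ : y ∈ Z i
      · left
        rw [QuotientGroup.eq, mem_subgroupOf]
        change y⁻¹ * 1 ∈ Z i
        rw [mul_one]; exact inv_mem hyZ
      · right
        rw [QuotientGroup.eq, mem_subgroupOf]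
        exact hcon y hy hyZ
    have h7 : Nat.card (W i ⧸ (Z i).subgroupOf (W i)) ≤ 2 := by
      have hsurj : Function.Surjective (fun t : Fin 2 => if t = 0 then
          (QuotientGroup.mk (1 : W i) : W i ⧸ (Z i).subgroupOf (W i)) else QuotientGroup.mk ⟨v₀, hv₀⟩) := by
        intro x
        rcases h6 x with h6 | h6
        · exact ⟨0, by rw [h6]; rfl⟩
        · exact ⟨1, by rw [h6]; rfl⟩
      have := Nat.card_le_card_of_surjective _ hsurj
      simpa using this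
    rw [Subgroup.relIndex, Subgroup.index_eq_card] at h4
    omega
  obtain ⟨a, haP, haC, haZ, ha1, ha2, -⟩ := (hs i).ex v₀ hv₀ hv₀Z v₀' hv₀' hv₀Z'
  obtain ⟨v, hv, z, hz, e1⟩ := hdec v₀ hv₀
  obtain ⟨v', hv', z', hz', e1'⟩ := hdec v₀' hv₀'
  have hnZJ : ∀ {x : G}, x ∈ W i → x ∉ Z i → n * x * n⁻¹ ∉ ZJ := by
    intro x hx hxZ hxJ
    apply h.not_zj hx hxZ
    have h1 : n * x * n⁻¹ ∈ cj n ZJ := by rw [hnJ]; exact hxJ
    rw [mem_cj] at h1
    have e2 : n⁻¹ * (n * x * n⁻¹) * n = x := by group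
    rwa [e2] at h1
  have hvZ : v ∉ Z j := fun h1 => hnZJ hv₀ hv₀Z (by rw [e1]; exact mul_mem (h.fr.Z_le j h1) hz)
  have hvZ' : v' ∉ Z j := fun h1 => hnZJ hv₀' hv₀Z' (by rw [e1']; exact mul_mem (h.fr.Z_le j h1) hz')
  have hvv' : v'⁻¹ * v ∉ Z j := by
    intro h1
    refine hnZJ (mul_mem (inv_mem hv₀') hv₀) hvv ?_
    have e2 : n * (v₀'⁻¹ * v₀) * n⁻¹ = (n * v₀' * n⁻¹)⁻¹ * (n * v₀ * n⁻¹) := by group
    have e3 : (v' * z')⁻¹ * (v * z) = z'⁻¹ * (v'⁻¹ * v) * z := by group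
    rw [e2, e1, e1', e3]
    exact mul_mem (mul_mem (inv_mem hz') (h.fr.Z_le j h1)) hz
  obtain ⟨a', haP', haC', haZ', ha1', ha2', ha3'⟩ := (hs j).ex v hv hvZ v' hv' hvZ'
  replace ha3' := ha3' hvv'
  -- `N_G(V)`
  have hPV : P ≤ normalizer (V : Set G) := MinSimple.VModule.le_normalizer_zl _ _
  have haV : ∀ x ∈ V, a * x * a⁻¹ ∈ V := fun x hx => (mem_normalizer_iff.1 (hPV haP) x).1 hx
  have haV' : ∀ x ∈ V, a' * x * a'⁻¹ ∈ V := fun x hx => (mem_normalizer_iff.1 (hPV haP') x).1 hx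
  -- `a'` normalises `ZJ`
  have haJ' : cj a' ZJ ≤ ZJ := by
    rintro _ ⟨x, hx, rfl⟩
    obtain ⟨w, hw, c, hc, hcJ, rfl⟩ := h.fr.split_ZJ j hx
    have e2 : a' * (w * c) * a'⁻¹ = (a' * w * a'⁻¹) * c := by
      have := mem_centralizer_iff.1 haC' c hc
      calc a' * (w * c) * a'⁻¹ = a' * w * (c * a'⁻¹) := by group
        _ = a' * w * (a'⁻¹ * (a' * c) * a'⁻¹) := by group
        _ = a' * w * (a'⁻¹ * (c * a') * a'⁻¹) := by rw [this]
        _ = (a' * w * a'⁻¹) * c := by group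
    change a' * (w * c) * a'⁻¹ ∈ ZJ
    rw [e2]
    exact mul_mem (h.fr.Z_le j ((mem_normalizer_iff.1 haZ' w).1 hw)) hcJ
  have haJ'eq : cj a' ZJ = ZJ := Subgroup.eq_of_le_of_card_ge haJ' (by rw [card_cj])
  have haJi' : ∀ x ∈ ZJ, a'⁻¹ * x * a' ∈ ZJ := by
    intro x hx
    have : x ∈ cj a' ZJ := by rw [haJ'eq]; exact hx
    exact mem_cj.1 this
  set t : G := n * a * n⁻¹ with ht
  -- `t` and `a'` centralise `ZJ ∩ C j`
  have htC : ∀ x ∈ ZJ, x ∈ C j → t * x = x * t := by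
    intro x hx hxC
    have h1 : ∀ l : {l : ι // l ≠ j}, Z l ≤ centralizer ({t} : Set G) := by
      rintro ⟨l, hl⟩ x hx
      obtain ⟨l', h2, -⟩ := (h.norm (inv_mem hn)).2 l
      have hl' : l' ≠ i := by
        rintro rfl
        have h3 := congrArg (cj n) h2
        rw [cj_cj_inv, e] at h3
        exact hl (h.Z_inj h3)
      have h3 : n⁻¹ * x * n ∈ Z l' := by
        rw [← h2]
        exact ⟨x, hx, by simp⟩
      have h4 := mem_centralizer_iff.1 haC _ (h.fr.WjC i l' hl'.symm ((h.fr.blk l').ZV h3))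
      rw [mem_centralizer_singleton_iff]
      calc x * t = n * ((n⁻¹ * x * n) * a) * n⁻¹ := by rw [ht]; group
        _ = n * (a * (n⁻¹ * x * n)) * n⁻¹ := by rw [h4]
        _ = t * x := by rw [ht]; group
    have h2 := (h.ZC_le j).trans (iSup_le h1) ⟨hx, hxC⟩
    exact (mem_centralizer_singleton_iff.1 h2).symm
  -- on `Z j`
  have htZ : ∀ x ∈ Z j, t⁻¹ * x * t = a'⁻¹ * x * a' := by
    intro x hx
    obtain ⟨b, hb, rfl⟩ := (hs j).surj v hv hvZ x hx
    have hb0 := hnB b hb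
    set b₀ : G := n⁻¹ * b * n with hb₀
    have e2 : b * v * b⁻¹ * v⁻¹ = n * (b₀ * v₀ * b₀⁻¹ * v₀⁻¹) * n⁻¹ := by
      rw [← h.comm_mul (v := v) hz hb, ← e1, hb₀]; group
    have e3 : a⁻¹ * (b₀ * v₀ * b₀⁻¹ * v₀⁻¹) * a = b₀ * v₀' * b₀⁻¹ * v₀'⁻¹ := by
      rw [← ha1 b₀ hb0 v₀ hv₀, ← h.comm_mul (v := v₀') (h.fr.Z_le i ha2) hb0]
      have : v₀' * (v₀'⁻¹ * (a * v₀ * a⁻¹)) = a * v₀ * a⁻¹ := by group
      rw [this]
    have e4 : n * (b₀ * v₀' * b₀⁻¹ * v₀'⁻¹) * n⁻¹ = b * v' * b⁻¹ * v'⁻¹ := by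
      rw [← h.comm_mul (v := v') hz' hb, ← e1', hb₀]; group
    have e5 : a'⁻¹ * (b * v * b⁻¹ * v⁻¹) * a' = b * v' * b⁻¹ * v'⁻¹ := by
      rw [← ha1' b hb v hv, ← h.comm_mul (v := v') (h.fr.Z_le j ha2') hb]
      have : v' * (v'⁻¹ * (a' * v * a'⁻¹)) = a' * v * a'⁻¹ := by group
      rw [this]
    rw [e5, e2, ← e4, ← e3, ht]
    group
  -- `y = a'⁻¹ t`
  set y : G := a'⁻¹ * t with hy
  have htV : t ∈ normalizer (V : Set G) := by
    rw [mem_normalizer_iff_cj, ht]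
    have hnn : n ∈ normalizer (V : Set G) := mem_normalizer_iff_cj.2 hnV
    exact mem_normalizer_iff_cj.1 (mul_mem (mul_mem hnn (hPV haP)) (inv_mem hnn))
  have hyV : y ∈ normalizer (V : Set G) := mul_mem (inv_mem (hPV haP')) htV
  have hy1 : ∀ x ∈ ZJ, y * x = x * y := by
    intro x hx
    obtain ⟨w, hw, c, hc, hcJ, rfl⟩ := h.fr.split_ZJ j hx
    have e2 : y * c = c * y := by
      have h1 := htC c hcJ hc
      have h2 := mem_centralizer_iff.1 haC' c hc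
      calc y * c = a'⁻¹ * (t * c) := by rw [hy]; group
        _ = a'⁻¹ * (c * t) := by rw [h1]
        _ = a'⁻¹ * (c * a') * a'⁻¹ * t := by group
        _ = a'⁻¹ * (a' * c) * a'⁻¹ * t := by rw [h2]
        _ = c * y := by rw [hy]; group
    have e3 : y * w = w * y := by
      have hw' : a' * w * a'⁻¹ ∈ Z j := (mem_normalizer_iff.1 haZ' w).1 hw
      have h1 := htZ _ hw'
      have h2 : a'⁻¹ * (a' * w * a'⁻¹) * a' = w := by group
      rw [h2] at h1
      calc y * w = y * (t⁻¹ * (a' * w * a'⁻¹) * t) := by rw [h1]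
        _ = w * y := by rw [hy]; group
    calc y * (w * c) = (y * w) * c := by group
      _ = w * (y * c) := by rw [e3]; group
      _ = w * c * y := by rw [e2]; group
  have hy2 : ∀ x ∈ V, y * x * y⁻¹ * x⁻¹ ∈ ZJ := by
    -- it is enough to compare `t x t⁻¹` and `a' x a'⁻¹`
    have hred : ∀ x ∈ V, (a' * x * a'⁻¹)⁻¹ * (t * x * t⁻¹) ∈ ZJ → y * x * y⁻¹ * x⁻¹ ∈ ZJ := by
      intro x hx hxJ
      have hxi := haJi' _ hxJ
      have e2 : a'⁻¹ * ((a' * x * a'⁻¹)⁻¹ * (t * x * t⁻¹)) * a' = x⁻¹ * (y * x * y⁻¹) := by rw [hy]; group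
      rw [e2] at hxi
      have hyx : y * x * y⁻¹ ∈ V := (mem_normalizer_iff.1 hyV x).1 hx
      rwa [hVc _ (inv_mem hx) _ hyx] at hxi
    have hmul : ∀ x ∈ V, ∀ x' ∈ V, y * x * y⁻¹ * x⁻¹ ∈ ZJ → y * x' * y⁻¹ * x'⁻¹ ∈ ZJ →
        y * (x * x') * y⁻¹ * (x * x')⁻¹ ∈ ZJ := by
      intro x hx x' hx' h1 h2
      have hyx : y * x' * y⁻¹ ∈ V := (mem_normalizer_iff.1 hyV x').1 hx'
      have e2 : y * (x * x') * y⁻¹ * (x * x')⁻¹ = (y * x * y⁻¹) * (y * x' * y⁻¹ * x'⁻¹) * x⁻¹ := by group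
      have hyx0 : y * x * y⁻¹ ∈ V := (mem_normalizer_iff.1 hyV x).1 hx
      rw [e2, hVc _ hyx0 _ (hZV h2), mul_assoc]
      exact mul_mem h2 h1
    intro x hx
    -- `x = n x₀ n⁻¹`
    obtain ⟨x₀, hx₀, rfl⟩ : ∃ x₀ ∈ V, n * x₀ * n⁻¹ = x := by
      have h1 : x ∈ cj n V := by rw [hnV]; exact hx
      exact ⟨_, mem_cj.1 h1, by group⟩
    obtain ⟨w, hw, c, hc, rfl⟩ := h.fr.WC i x₀ hx₀
    have e2 : n * (w * c) * n⁻¹ = (n * w * n⁻¹) * (n * c * n⁻¹) := by group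
    rw [e2]
    have hcV : c ∈ V := h.fr.CV i hc
    refine hmul _ (hnV' w (hWV i hw)) _ (hnV' c hcV) (hred _ (hnV' w (hWV i hw)) ?_) (hred _ (hnV' c hcV) ?_)
    · -- `w ∈ W i`
      obtain ⟨w', hw', z'', hz'', e3⟩ := hdec w hw
      have e4 : t * (n * w * n⁻¹) * t⁻¹ = n * (a * w * a⁻¹) * n⁻¹ := by rw [ht]; group
      have e5 : a' * (n * w * n⁻¹) * a'⁻¹ = (a' * w' * a'⁻¹) * (a' * z'' * a'⁻¹) := by rw [e3]; group
      have hz3 : a' * z'' * a'⁻¹ ∈ ZJ := haJ' ⟨z'', hz'', rfl⟩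
      refine h.eq_mod (by rw [e4]; exact hnV' _ (haV w (hWV i hw))) (haV' _ (hnV' w (hWV i hw))) fun b hb => ?_
      have hb0 := hnB b hb
      rw [e5, h.comm_mul hz3 hb, ha1' b hb w' hw', e4]
      set b₀ : G := n⁻¹ * b * n with hb₀
      have e6 : b * (n * (a * w * a⁻¹) * n⁻¹) * b⁻¹ * (n * (a * w * a⁻¹) * n⁻¹)⁻¹ =
          n * (b₀ * (a * w * a⁻¹) * b₀⁻¹ * (a * w * a⁻¹)⁻¹) * n⁻¹ := by rw [hb₀]; group
      have e7 : n * (a⁻¹ * (b₀ * w * b₀⁻¹ * w⁻¹) * a) * n⁻¹ = t⁻¹ * (b * (n * w * n⁻¹) * b⁻¹ * (n * w * n⁻¹)⁻¹) * t := by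
        rw [hb₀, ht]; group
      rw [e6, ha1 b₀ hb0 w hw, e7, e3, h.comm_mul hz'' hb]
      exact htZ _ ((h.fr.blk j).com b hb w' hw')
    · -- `c ∈ C i`
      have e4 : t * (n * c * n⁻¹) * t⁻¹ = n * c * n⁻¹ := by
        have := mem_centralizer_iff.1 haC c hc
        rw [ht]
        calc n * a * n⁻¹ * (n * c * n⁻¹) * (n * a * n⁻¹)⁻¹ = n * ((a * c) * a⁻¹) * n⁻¹ := by group
          _ = n * ((c * a) * a⁻¹) * n⁻¹ := by rw [this]
          _ = n * c * n⁻¹ := by group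
      rw [e4]
      -- `n c n⁻¹ ∈ C j ZJ`
      have hcJ : n * c * n⁻¹ ∈ C j ⊔ ZJ := by
        have h1 : cj n (⨆ l : {l : ι // l ≠ i}, W l) ≤ C j ⊔ ZJ := by
          have e5 : cj n (⨆ l : {l : ι // l ≠ i}, W l) = ⨆ l : {l : ι // l ≠ i}, cj n (W l) :=
            Subgroup.map_iSup _ _
          rw [e5]
          refine iSup_le fun l => ?_
          obtain ⟨l', h2, h3⟩ := (h.norm hn).2 l
          refine h3.trans (sup_le_sup_right (h.fr.WjC j l' fun h4 => l.2 ?_) _)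
          rw [← h4, ← e] at h2
          have h5 := congrArg (cj n⁻¹) h2
          rw [cj_inv_cj, cj_inv_cj] at h5
          exact h.Z_inj h5
        exact h1 ⟨c, h.C_le i hc, rfl⟩
      obtain ⟨c', hc', z'', hz'', e5⟩ := SQ1.Bau.mem_sup_comm
        (fun x hx y hy => hVc x (h.fr.CV j hx) y (hZV hy)) hcJ
      have e6 : a' * (n * c * n⁻¹) * a'⁻¹ = c' * (a' * z'' * a'⁻¹) := by
        have := mem_centralizer_iff.1 haC' c' hc'
        rw [e5]
        calc a' * (c' * z'') * a'⁻¹ = (a' * c') * z'' * a'⁻¹ := by group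
          _ = (c' * a') * z'' * a'⁻¹ := by rw [this]
          _ = c' * (a' * z'' * a'⁻¹) := by group
      rw [e6, e5]
      have e7 : (c' * (a' * z'' * a'⁻¹))⁻¹ * (c' * z'') = (a' * z'' * a'⁻¹)⁻¹ * z'' := by group
      rw [e7]
      exact mul_mem (inv_mem (haJ' ⟨z'', hz'', rfl⟩)) hz''
  obtain ⟨b, hb, c, hc, e8⟩ := h.le_of_triv hyV hy1 hy2
  -- `a'` normalises `U = n W_i`
  set U : Subgroup G := cj n (W i) with hU
  have hUV : U ≤ V := by
    rw [hU, ← hnV]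
    exact cj_mono n (hWV i)
  have haW : a ∈ normalizer (W i : Set G) := mem_normalizer_iff_cj.2 (h.fix haP haC i)
  have hBW : B ≤ normalizer (W i : Set G) := (h.fr.blk i).BL.trans (h.block i).LV
  have htU : t ∈ normalizer (U : Set G) := by
    rw [hU, ← cj_normalizer]
    exact ⟨a, haW, rfl⟩
  have hBU : B ≤ normalizer (U : Set G) := by
    have h1 := cj_mono n hBW
    rwa [cj_eq_of_mem_normalizer hn, cj_normalizer] at h1
  have hcU : c ∈ normalizer (U : Set G) := centralizer_le_normalizer _ (centralizer_le hUV hc)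
  have haU : a' ∈ normalizer (U : Set G) := by
    have e9 : a' = t * (b * c)⁻¹ := by rw [← e8, hy]; group
    rw [e9]
    exact mul_mem htU (inv_mem (mul_mem (hBU hb) hcU))
  -- `W j ≤ U`
  have hZU : Z j ≤ U := by
    rw [hU, ← e]
    exact cj_mono n (h.fr.blk i).ZV
  have key : ∀ w ∈ W j, a' * w * a'⁻¹ * w⁻¹ ∈ U := by
    intro w hw
    have h1 : n⁻¹ * w * n ∈ W i ⊔ ZJ := hnW' ⟨w, hw, by simp⟩
    obtain ⟨x, hx, z₁, hz₁, e9⟩ := SQ1.Bau.mem_sup_comm
        (fun x hx y hy => hVc x (hWV i hx) y (hZV hy)) h1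
    have e10 : w = (n * x * n⁻¹) * (n * z₁ * n⁻¹) := by
      have : w = n * (n⁻¹ * w * n) * n⁻¹ := by group
      rw [this, e9]; group
    have hxU : n * x * n⁻¹ ∈ U := ⟨x, hx, rfl⟩
    obtain ⟨z₂, hz₂, c₂, hc₂, hc₂J, e11⟩ := h.fr.split_ZJ j (hnJ' z₁ hz₁)
    have hu : (n * x * n⁻¹) * z₂ ∈ U := mul_mem hxU (hZU hz₂)
    set u : G := (n * x * n⁻¹) * z₂ with hud
    have e12 : w = u * c₂ := by rw [e10, e11, hud]; group
    have e13 : a' * w * a'⁻¹ * w⁻¹ = a' * u * a'⁻¹ * u⁻¹ := by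
      have h2 := mem_centralizer_iff.1 haC' c₂ hc₂
      rw [e12]
      calc a' * (u * c₂) * a'⁻¹ * (u * c₂)⁻¹ = a' * u * (c₂ * a'⁻¹) * c₂⁻¹ * u⁻¹ := by group
        _ = a' * u * (a'⁻¹ * (a' * c₂) * a'⁻¹) * c₂⁻¹ * u⁻¹ := by group
        _ = a' * u * (a'⁻¹ * (c₂ * a') * a'⁻¹) * c₂⁻¹ * u⁻¹ := by rw [h2]
        _ = a' * u * a'⁻¹ * u⁻¹ := by group
    rw [e13]
    exact mul_mem ((mem_normalizer_iff.1 haU u).1 hu) (inv_mem hu)
  have haWj : ∀ w ∈ W j, a' * w * a'⁻¹ ∈ W j := fun w hw =>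
    (mem_normalizer_iff.1 (mem_normalizer_iff_cj.2 (h.fix haP' haC' j)) w).1 hw
  have hle : W j ≤ U := by
    let f : W j → W j := fun w => ⟨a' * w * a'⁻¹ * (w : G)⁻¹, mul_mem (haWj w w.2) (inv_mem w.2)⟩
    have hf : Function.Injective f := by
      rintro ⟨w, hw⟩ ⟨w', hw'⟩ hww
      have e9 : a' * w * a'⁻¹ * w⁻¹ = a' * w' * a'⁻¹ * w'⁻¹ := congrArg Subtype.val hww
      have hx : w'⁻¹ * w = 1 := by
        refine ha3' _ (mul_mem (inv_mem hw') hw) ?_
        have e10 : a' * w * a'⁻¹ = a' * w' * a'⁻¹ * w'⁻¹ * w := by rw [← e9]; group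
        calc a' * (w'⁻¹ * w) * a'⁻¹ = (a' * w' * a'⁻¹)⁻¹ * (a' * w * a'⁻¹) := by group
          _ = w'⁻¹ * w := by rw [e10]; group
      exact Subtype.ext (inv_mul_eq_one.1 hx).symm
    intro w hw
    obtain ⟨x, hx⟩ := (Finite.injective_iff_surjective.1 hf) ⟨w, hw⟩
    have e9 : a' * (x : G) * a'⁻¹ * (x : G)⁻¹ = w := congrArg Subtype.val hx
    rw [← e9]
    exact key _ x.2
  symm
  refine Subgroup.eq_of_le_of_card_ge hle ?_
  rw [hU, card_cj, (h.fr.blk i).card, (h.fr.blk j).card, h.fr.cardZ, h.fr.cardZ]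

/-- `q = 2` -/
theorem cj_W_of_two [Finite ι] (hq : q = 2) {n : G}
    (hn : n ∈ normalizer (bau (S : Subgroup G) : Set G)) {i j : ι} (e : cj n (Z i) = Z j) : cj n (W i) = W j := by
  have hnV := (h.norm hn).1
  have hF := (h.fr.blk i).conj n
  rw [cj_eq_of_mem_normalizer hn] at hF
  obtain ⟨-, j', h1, -, h2⟩ := UniPlus.uniPlus' h.hyp.ctx.char2 h.fr h.bau_two (UniPlus.wc_bau S)
    (fun g hg w hw v hv => by
      rw [(h.norm hg).1] at hw
      exact h.fr.Vc hw hv) h.two hF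
  rw [e] at h1
  obtain rfl := h.Z_inj h1
  rcases h2 with ⟨-, -, h3⟩ | ⟨-, -, ⟨w', hw', w, hw, hne⟩, -⟩
  · exact (h3 hq).1
  · exfalso
    apply hne
    have h4 : w' ∈ zl (S : Subgroup G) P := by
      rw [← hnV]
      exact cj_mono n (h.fr.WV i) hw'
    exact h.fr.Vc h4 (h.fr.WV _ hw)

/-- **`g ∈ N_G(B)`, `g Z_i = Z_j` implies `g W_i = W_j`.** -/
theorem cj_W [Finite ι] (hs : 2 < q → ∀ i, Scal (S : Subgroup G) P W Z C i) {n : G}
    (hn : n ∈ normalizer (bau (S : Subgroup G) : Set G)) {i j : ι} (e : cj n (Z i) = Z j) : cj n (W i) = W j := by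
  rcases Nat.lt_or_ge 2 q with hq | hq
  · exact h.cj_W_of_three hq (hs hq) hn e
  · exact h.cj_W_of_two (le_antisymm hq (h.fr.blk i).one) hn e

/-- **`N_G(B)` permutes the `W i` and the `Z i`.** -/
theorem perm_W [Finite ι] (hs : 2 < q → ∀ i, Scal (S : Subgroup G) P W Z C i) {n : G}
    (hn : n ∈ normalizer (bau (S : Subgroup G) : Set G)) :
    ∃ σ : Equiv.Perm ι, ∀ i, cj n (W i) = W (σ i) ∧ cj n (Z i) = Z (σ i) := by
  choose f hf using fun i => (h.norm hn).2 i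
  have hinj : Function.Injective f := by
    intro i j hij
    have h1 := (hf i).1
    rw [hij, ← (hf j).1] at h1
    have h2 := congrArg (cj n⁻¹) h1
    rw [cj_inv_cj, cj_inv_cj] at h2
    exact h.Z_inj h2
  exact ⟨Equiv.ofBijective f (Finite.injective_iff_bijective.1 hinj),
    fun i => ⟨h.cj_W hs hn (hf i).1, (hf i).1⟩⟩

/-- A 2-group over `B` which normalises `Z i` normalises `W i`. -/
theorem norm_W_of_two [Finite ι] (hs : 2 < q → ∀ i, Scal (S : Subgroup G) P W Z C i) (i : ι) {R : Subgroup G}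
    (hR : IsPGroup 2 R) (hB : bau (S : Subgroup G) ≤ R) (hRn : R ≤ normalizer (Z i : Set G)) :
    R ≤ normalizer (W i : Set G) := fun r hr =>
  mem_normalizer_iff_cj.2 (h.cj_W hs (LemmaK.Main.le_normalizer_bau S hR hB hr) (mem_normalizer_iff_cj.1 (hRn hr)))

end perm

end Bs

/-! ### The scalars of the natural modules -/

section exist

open Cfsg.Agent.Omega.NatPair (ap ap_one exists_ap ext2 ap_zero' ap_one')
open Cfsg.Agent.Omega.FFThm (NatK ActsSL)
open Cfsg.Agent.Omega.SQ1.FFOne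
open Cfsg.Agent.Omega.FrameFF (cv)
open Cfsg.Agent.Lib.SL2Mat

variable [Finite G] {S : Sylow 2 G} {P : Subgroup G} {F : Type} [Field F] {k : ℕ}

theorem scal [Finite F] [CharP F 2] (h : HypJ S P) (hk : 0 < k)
    (N : NatK F (S : Subgroup G) P (zl (S : Subgroup G) P) (cv (S : Subgroup G) P) k)
    {Z : Fin k → Subgroup G} (hZ : ∀ i v, v ∈ Z i ↔ v ∈ Wn (nat h hk N) i ∧ N.e v i 1 = 0) (i : Fin k) :
    Scal (S : Subgroup G) P (Wn (nat h hk N)) Z (Cn (nat h hk N)) i := by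
  classical
  have hout := natOut h.toHyp.syl h.star.toIsMinPar (char_P h.toHyp) h.jnot hk N h.toHyp.cv
  set M := nat h hk N with hM
  have hup : ∀ b ∈ bau (S : Subgroup G), ∃ c : Fin k → F, ∀ v ∈ zl (S : Subgroup G) P, ∀ i,
      N.e (b * v * b⁻¹) i = ap (up (c i)) (N.e v i) := fun b hb => by
    obtain ⟨c, hc⟩ := hout.bau_up b hb
    exact ⟨c, hc.1⟩
  have hBP : bau (S : Subgroup G) ≤ P := (bau_le _).trans h.star.isLoc.le
  have hinj : ∀ v ∈ zl (S : Subgroup G) P, ∀ w ∈ zl (S : Subgroup G) P, N.e v = N.e w → v = w := fun v hv w hw e =>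
    nat_inj M h.toHyp.cv hv hw e
  have hinv : ∀ v ∈ zl (S : Subgroup G) P, N.e v⁻¹ = - N.e v := fun v hv => M.map_inv hv
  have hmul := N.mul
  have hone : N.e 1 = 0 := M.map_one
  -- commutators
  have hcomm : ∀ b ∈ bau (S : Subgroup G), ∀ c : Fin k → F, (∀ v ∈ zl (S : Subgroup G) P, ∀ i,
      N.e (b * v * b⁻¹) i = ap (up (c i)) (N.e v i)) → ∀ v ∈ zl (S : Subgroup G) P, ∀ j,
      N.e (b * v * b⁻¹ * v⁻¹) j = ![c j * N.e v j 1, 0] := by
    intro b hb c hc v hv j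
    rw [hmul _ (M.Vn b (hBP hb) v hv) _ (inv_mem hv), hinv v hv, Pi.add_apply, Pi.neg_apply, hc v hv j]
    apply ext2
    · rw [Pi.add_apply, Pi.neg_apply, ap_zero', up_00, up_01]
      simp
    · rw [Pi.add_apply, Pi.neg_apply, ap_one', up_10, up_11]
      simp
  have hnot : ∀ v ∈ Wn M i, v ∉ Z i → N.e v i 1 ≠ 0 := fun v hv hvZ h0 => hvZ ((hZ i v).2 ⟨hv, h0⟩)
  refine ⟨fun v hv hvZ z hz => ?_, fun v hv hvZ v' hv' hvZ' => ?_⟩
  · have hv1 := hnot v hv hvZ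
    obtain ⟨hzW, hz1⟩ := (hZ i z).1 hz
    obtain ⟨b, hb, hbc⟩ := hout.jj_up fun _ => N.e z i 0 / N.e v i 1
    have hbB := jj_le_bau (S : Subgroup G) hb
    refine ⟨b, hbB, hinj _ (mul_mem (M.Vn b (hBP hbB) v hv.1) (inv_mem hv.1)) _ hzW.1 ?_⟩
    funext j
    rw [hcomm b hbB _ hbc.1 v hv.1 j]
    by_cases hj : j = i
    · subst hj
      apply ext2
      · change N.e z j 0 / N.e v j 1 * N.e v j 1 = _
        rw [div_mul_cancel₀ _ hv1]
      · exact hz1.symm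
    · have h1 : N.e v j = 0 := hv.2 j hj
      have h2 : N.e z j = 0 := hzW.2 j hj
      rw [h1, h2]
      apply ext2 <;> simp
  · have hv1 := hnot v hv hvZ
    have hv1' := hnot v' hv' hvZ'
    set μ : F := N.e v' i 1 / N.e v i 1 with hμ
    have hμ0 : μ ≠ 0 := div_ne_zero hv1' hv1
    let D : Matrix.SpecialLinearGroup (Fin 2) F := ⟨!![μ⁻¹, 0; 0, μ], by
      rw [Matrix.det_fin_two_of, mul_zero, sub_zero, inv_mul_cancel₀ hμ0]⟩
    have hD0 : ∀ x : Fin 2 → F, ap D x 0 = μ⁻¹ * x 0 := fun x => by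
      rw [ap_zero']
      change μ⁻¹ * x 0 + 0 * x 1 = _
      rw [zero_mul, add_zero]
    have hD1 : ∀ x : Fin 2 → F, ap D x 1 = μ * x 1 := fun x => by
      rw [ap_one']
      change 0 * x 0 + μ * x 1 = _
      rw [zero_mul, zero_add]
    obtain ⟨a, haP, haA, -⟩ := N.lift (Function.update 1 i D)
    have ha : ∀ w ∈ zl (S : Subgroup G) P, N.e (a * w * a⁻¹) i = ap D (N.e w i) := fun w hw => by
      rw [haA w hw i, Function.update_self]
    have ha' : ∀ w ∈ zl (S : Subgroup G) P, ∀ j, j ≠ i → N.e (a * w * a⁻¹) j = N.e w j := fun w hw j hj => by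
      rw [haA w hw j, Function.update_of_ne hj, Pi.one_apply, ap_one]
    have haV : ∀ w ∈ zl (S : Subgroup G) P, a * w * a⁻¹ ∈ zl (S : Subgroup G) P := M.Vn a haP
    have haV' : ∀ w ∈ zl (S : Subgroup G) P, a⁻¹ * w * a ∈ zl (S : Subgroup G) P := fun w hw => by
      have := M.Vn a⁻¹ (inv_mem haP) w hw
      rwa [inv_inv] at this
    have hai : ∀ w ∈ zl (S : Subgroup G) P, N.e (a⁻¹ * w * a) i 0 = μ * N.e w i 0 ∧
        N.e (a⁻¹ * w * a) i 1 = μ⁻¹ * N.e w i 1 ∧ ∀ j, j ≠ i → N.e (a⁻¹ * w * a) j = N.e w j := by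
      intro w hw
      have e1 : a * (a⁻¹ * w * a) * a⁻¹ = w := by group
      have h1 := ha _ (haV' w hw)
      rw [e1] at h1
      refine ⟨?_, ?_, fun j hj => ?_⟩
      · rw [h1, hD0, ← mul_assoc, mul_inv_cancel₀ hμ0, one_mul]
      · rw [h1, hD1, ← mul_assoc, inv_mul_cancel₀ hμ0, one_mul]
      · have := ha' _ (haV' w hw) j hj
        rw [e1] at this
        exact this.symm
    have haW : ∀ w ∈ Wn M i, a * w * a⁻¹ ∈ Wn M i := fun w hw =>
      ⟨haV w hw.1, fun j hj => (ha' w hw.1 j hj).trans (hw.2 j hj)⟩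
    refine ⟨a, haP, mem_centralizer_iff.2 fun c hc => ?_, ?_, ?_, ?_, ?_⟩
    · have h1 : a * c * a⁻¹ = c := by
        refine hinj _ (haV c hc.1) _ hc.1 (funext fun j => ?_)
        by_cases hj : j = i
        · have h0 : N.e c i = 0 := hc.2
          rw [hj, ha c hc.1, h0]
          apply ext2
          · rw [hD0]; simp
          · rw [hD1]; simp
        · exact ha' c hc.1 j hj
      calc c * a = a * c * a⁻¹ * a := by rw [h1]
        _ = a * c := by group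
    · rw [mem_normalizer_iff_cj]
      refine Subgroup.eq_of_le_of_card_ge ?_ (by rw [card_cj])
      rintro _ ⟨z, hz, rfl⟩
      obtain ⟨hzW, hz1⟩ := (hZ i z).1 hz
      refine (hZ i _).2 ⟨haW z hzW, ?_⟩
      change N.e (a * z * a⁻¹) i 1 = 0
      rw [ha z hzW.1, hD1, hz1, mul_zero]
    · intro b hb w hw
      obtain ⟨c, hc⟩ := hup b hb
      have hx : b * w * b⁻¹ * w⁻¹ ∈ zl (S : Subgroup G) P := mul_mem (M.Vn b (hBP hb) w hw.1) (inv_mem hw.1)
      refine hinj _ (mul_mem (M.Vn b (hBP hb) _ (haV w hw.1)) (inv_mem (haV w hw.1))) _ (haV' _ hx) ?_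
      funext j
      rw [hcomm b hb c hc _ (haV w hw.1) j]
      obtain ⟨h1, h2, h3⟩ := hai _ hx
      by_cases hj : j = i
      · subst hj
        apply ext2
        · rw [h1, hcomm b hb c hc w hw.1 j, ha w hw.1, hD1]
          change c j * (μ * N.e w j 1) = μ * (c j * N.e w j 1)
          ring
        · rw [h2, hcomm b hb c hc w hw.1 j]
          change (0 : F) = μ⁻¹ * 0
          rw [mul_zero]
      · rw [h3 j hj, hcomm b hb c hc w hw.1 j, ha' w hw.1 j hj]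
    · refine (hZ i _).2 ⟨mul_mem (inv_mem hv') (haW v hv), ?_⟩
      rw [hmul _ (inv_mem hv'.1) _ (haV v hv.1), hinv v' hv'.1, Pi.add_apply, Pi.neg_apply, Pi.add_apply,
        Pi.neg_apply, ha v hv.1, hD1, hμ, div_mul_cancel₀ _ hv1, neg_add_cancel]
    · intro hne w hw hfix
      have hμ1 : μ ≠ 1 := by
        intro h1
        apply hne
        refine (hZ i _).2 ⟨mul_mem (inv_mem hv') hv, ?_⟩
        rw [hμ, div_eq_one_iff_eq hv1] at h1
        rw [hmul _ (inv_mem hv'.1) _ hv.1, hinv v' hv'.1, Pi.add_apply, Pi.neg_apply, Pi.add_apply,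
          Pi.neg_apply, h1, neg_add_cancel]
      have h1 := ha w hw.1
      rw [hfix] at h1
      refine hinj w hw.1 1 (one_mem _) ?_
      rw [hone]
      funext j
      by_cases hj : j = i
      · subst hj
        have h2 := congrFun h1 0
        have h3 := congrFun h1 1
        rw [hD0] at h2
        rw [hD1] at h3
        have h4 : (μ - 1) * N.e w j 1 = 0 := by rw [sub_mul, one_mul, ← h3, sub_self]
        have h5 : (μ - 1) * N.e w j 0 = 0 := by
          have : μ * N.e w j 0 = N.e w j 0 := by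
            conv_lhs => rw [h2]
            rw [← mul_assoc, mul_inv_cancel₀ hμ0, one_mul]
          rw [sub_mul, one_mul, this, sub_self]
        have hμ2 : μ - 1 ≠ 0 := sub_ne_zero.2 hμ1
        apply ext2
        · exact (mul_eq_zero.1 h5).resolve_left hμ2
        · exact (mul_eq_zero.1 h4).resolve_left hμ2
      · exact hw.2 j hj

end exist

end Cfsg.Agent.Omega.NO3S.EThree.Frame

end

section


/-!
# NO-3S, `V_P` a sum of `k ≥ 2` natural modules: the frame over a general pair `(B, Z_J)` (every level)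

As `Frame.lean`, with `B`, `ZJ` in place of `bau S`, `zj S` (stage `-1`); at stage `n` `ZJ = Ω₁(Z(nxt S K))`,
`B = C_S(ZJ)`.  Nothing here uses `J(S)`.

* `Fg B Q V ZJ L W Z C q` : `OM.Uni.Fr` without the offenders `A i`; `Fg.of_fr`;
* `Bg S P B ZJ L W Z C q` : the frame: `Hyp S P`, `Fg`, `B = C_S(ZJ)` weakly closed, `S ≤ N(ZJ)`, `N_G(B)` normalises
  `V_P`, permutes the `Z i` and `(W i)^g ≤ W j ZJ`; `Bg.of_bs` : stage `-1`;
* same names as for `Bs`: `toIn`, `lemK`, `o2_le`, `V_le`, `comm`, `norm`, `syl`, `syl_of_le`, `card_T`, `fus`,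
  `exists_partner`, `fix`, `adj_le`, `cj_s_Z`, `T_eq`, `syl_D`, `toPP`.
-/

set_option autoImplicit false
set_option linter.unusedSectionVars false

namespace Cfsg.Agent.Omega.NO3S.EThree.Frame

open Subgroup Cfsg Cfsg.Agent.ZN.ChoiceBase
open Cfsg.Agent.ZN (jj zj bau zc zl o2)
open Cfsg.Agent.ZN.ChoiceSit (Syl exists_syl syl_conj)
open Cfsg.Agent.Omega.OM Cfsg.Agent.Omega.OM.Uni
open Cfsg.Agent.Omega.OM.WeakCl (WC)
open Cfsg.Agent.Omega.NO3S (HypJ HypN Hyp)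
open scoped Pointwise

universe u

variable {G : Type u} [Group G]

/-- The frame `OM.Uni.Fr` without the offenders `A i`: `V = W i × C i = Ω₁Z(Q)`, `Q = C_B(V)`, `ZJ = C_V(B)`, `L i` is a
natural block over `B` with module `W i`. -/
structure Fg {ι : Type*} (B Q V ZJ : Subgroup G) (L W Z C : ι → Subgroup G) (q : ℕ) : Prop where
  blk : ∀ i, FB B (L i) (W i) (Z i) q
  cardZ : ∀ i, Nat.card (Z i) = q
  QB : Q ≤ B
  VQ : V ≤ Q
  el : IsElementaryAbelian 2 V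
  mem_Q : ∀ x ∈ B, (x ∈ Q ↔ ∀ v ∈ V, x * v = v * x)
  zcQ : ∀ x ∈ Q, x ^ 2 = 1 → (∀ y ∈ Q, x * y = y * x) → x ∈ V
  mem_ZJ : ∀ v, v ∈ ZJ ↔ v ∈ V ∧ ∀ b ∈ B, b * v = v * b
  LV : ∀ i, ∀ l ∈ L i, ∀ v ∈ V, l * v * l⁻¹ ∈ V
  LQ : ∀ i, ∀ l ∈ L i, ∀ x ∈ Q, l * x * l⁻¹ ∈ Q
  WV : ∀ i, W i ≤ V
  CV : ∀ i, C i ≤ V
  WC : ∀ i, ∀ v ∈ V, ∃ w ∈ W i, ∃ c ∈ C i, v = w * c
  dir : ∀ i, W i ⊓ C i = ⊥
  C0 : ∀ x ∈ V, (∀ i, x ∈ C i) → x = 1
  WjC : ∀ i j, i ≠ j → W j ≤ C i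
  BC : ∀ i, ∀ b ∈ B, ∀ c ∈ C i, b * c * b⁻¹ ∈ C i
  LC : ∀ i, ∀ l ∈ L i, ∀ z ∈ ZJ, z ∈ C i → l * z = z * l

namespace Fg

variable {ι : Type*} {B Q V ZJ : Subgroup G} {L W Z C : ι → Subgroup G} {q : ℕ}

theorem of_fr {A : ι → Subgroup G} {m : ℕ} (h : Fr B Q V ZJ L W Z C A q m) : Fg B Q V ZJ L W Z C q :=
  { h with }

variable (h : Fg B Q V ZJ L W Z C q)
include h

theorem Vc {v w : G} (hv : v ∈ V) (hw : w ∈ V) : v * w = w * v := SQ1.Bau.elem_comm h.el v hv w hw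

theorem Vsq {v : G} (hv : v ∈ V) : v ^ 2 = 1 := SQ1.Bau.elem_sq h.el v hv

theorem cQ {x : G} (hx : x ∈ Q) {v : G} (hv : v ∈ V) : x * v = v * x := (h.mem_Q x (h.QB hx)).1 hx v hv

theorem VB : V ≤ B := h.VQ.trans h.QB

theorem ZV (i : ι) : Z i ≤ V := (h.blk i).ZV.trans (h.WV i)

theorem ZJV : ZJ ≤ V := fun z hz => ((h.mem_ZJ z).1 hz).1

theorem Z_le (i : ι) : Z i ≤ ZJ := fun z hz => (h.mem_ZJ z).2 ⟨h.ZV i hz, fun b hb => (h.blk i).cZ b hb z hz⟩

theorem uniq {i : ι} {w w' c c' : G} (hw : w ∈ W i) (hw' : w' ∈ W i)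
    (hc : c ∈ C i) (hc' : c' ∈ C i) (e : w * c = w' * c') : w = w' ∧ c = c' := by
  have e1 : w'⁻¹ * w = c' * c⁻¹ := by
    calc w'⁻¹ * w = w'⁻¹ * (w * c) * c⁻¹ := by group
      _ = w'⁻¹ * (w' * c') * c⁻¹ := by rw [e]
      _ = c' * c⁻¹ := by group
  have h1 : w'⁻¹ * w ∈ W i ⊓ C i :=
    mem_inf.2 ⟨mul_mem (inv_mem hw') hw, by rw [e1]; exact mul_mem hc' (inv_mem hc)⟩
  rw [h.dir i, mem_bot] at h1
  have h2 : w = w' := (inv_mul_eq_one.1 h1).symm
  subst h2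
  exact ⟨rfl, mul_left_cancel e⟩

/-- the components of an element of `ZJ` lie in `Z i` and `ZJ` -/
theorem split_ZJ (i : ι) {z : G} (hz : z ∈ ZJ) : ∃ w ∈ Z i, ∃ c ∈ C i, c ∈ ZJ ∧ z = w * c := by
  obtain ⟨hzV, hzB⟩ := (h.mem_ZJ z).1 hz
  obtain ⟨w, hw, c, hc, e⟩ := h.WC i z hzV
  have key : ∀ b ∈ B, b * w * b⁻¹ = w ∧ b * c * b⁻¹ = c := by
    intro b hb
    refine h.uniq ((h.blk i).BV hb hw) hw (h.BC i b hb c hc) hc ?_
    have h1 := hzB b hb
    rw [← e]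
    calc b * w * b⁻¹ * (b * c * b⁻¹) = b * (w * c) * b⁻¹ := by group
      _ = b * z * b⁻¹ := by rw [← e]
      _ = z := by rw [h1]; group
  refine ⟨w, (h.blk i).mem_Z_iff.2 ⟨hw, fun b hb => ?_⟩, c, hc, (h.mem_ZJ c).2 ⟨h.CV i hc, fun b hb => ?_⟩, e⟩
  · exact mul_inv_eq_iff_eq_mul.1 (key b hb).1
  · exact mul_inv_eq_iff_eq_mul.1 (key b hb).2

/-- `Ω₁Z(B) = ZJ`. -/
theorem zcB : zc B = ZJ := by
  ext z
  rw [mem_zc, h.mem_ZJ]
  constructor
  · rintro ⟨h1, h2, h3⟩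
    have h4 : z ∈ Q := (h.mem_Q z h1).2 fun v hv => (h3 v (h.QB (h.VQ hv))).symm
    exact ⟨h.zcQ z h4 h2 fun y hy => (h3 y (h.QB hy)).symm, fun b hb => h3 b hb⟩
  · rintro ⟨h1, h2⟩
    exact ⟨h.QB (h.VQ h1), SQ1.Bau.elem_sq h.el z h1, h2⟩

end Fg

/-- The scalars of the factor `W i` (`Scal`, over `B`). -/
structure ScalG (B P : Subgroup G) {ι : Type} (W Z C : ι → Subgroup G) (i : ι) : Prop where
  surj : ∀ v ∈ W i, v ∉ Z i → ∀ z ∈ Z i, ∃ b ∈ B, b * v * b⁻¹ * v⁻¹ = z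
  ex : ∀ v ∈ W i, v ∉ Z i → ∀ v' ∈ W i, v' ∉ Z i → ∃ h ∈ P, h ∈ centralizer (C i : Set G) ∧
    h ∈ normalizer (Z i : Set G) ∧
    (∀ b ∈ B, ∀ w ∈ W i, b * (h * w * h⁻¹) * b⁻¹ * (h * w * h⁻¹)⁻¹ = h⁻¹ * (b * w * b⁻¹ * w⁻¹) * h) ∧
    v'⁻¹ * (h * v * h⁻¹) ∈ Z i ∧ (v'⁻¹ * v ∉ Z i → ∀ w ∈ W i, h * w * h⁻¹ = w → w = 1)

theorem Scal.toG {S P : Subgroup G} {ι : Type} {W Z C : ι → Subgroup G} {i : ι} (h : Scal S P W Z C i) :
    ScalG (bau S) P W Z C i := ⟨h.surj, h.ex⟩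

/-- **The frame of NO-3S, several natural blocks, over `(B, ZJ)`.** -/
structure Bg [Finite G] (S : Sylow 2 G) (P B ZJ : Subgroup G) {ι : Type} (L W Z C : ι → Subgroup G) (q : ℕ) :
    Prop where
  hyp : HypN S P
  fr : Fg B (o2 P) (zl (S : Subgroup G) P) ZJ L W Z C q
  /-- `B` is weakly closed -/
  wc : WC B
  eqB : B = (S : Subgroup G) ⊓ centralizer (ZJ : Set G)
  SZJ : (S : Subgroup G) ≤ normalizer (ZJ : Set G)
  two : ∀ i : ι, ∃ j, j ≠ i
  LP : ∀ i, L i ≤ P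
  perm : ∀ p ∈ P, ∃ σ : Equiv.Perm ι, ∀ i, cj p (W i) = W (σ i) ∧ cj p (C i) = C (σ i)
  trans : ∀ i j, ∃ s ∈ (S : Subgroup G), cj s (W i) = W j
  tr : ∀ i, ∀ x ∈ W i, x ≠ 1 → ∃ l ∈ P, l ∈ centralizer (C i : Set G) ∧ ∃ z ∈ Z i, l * z * l⁻¹ = x
  /-- the root group of the `i`-th block -/
  root : ∀ i, ∀ v ∈ W i, v ∉ Z i → ∀ z ∈ Z i, ∃ b ∈ B, b ∈ centralizer (C i : Set G) ∧ b * v * b⁻¹ * v⁻¹ = z
  /-- `N_G(B)` normalises `V_P`, permutes the `Z i` -/
  nrm : ∀ g ∈ normalizer (B : Set G), cj g (zl (S : Subgroup G) P) = zl (S : Subgroup G) P ∧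
    ∀ i, ∃ j, cj g (Z i) = Z j ∧ cj g (W i) ≤ W j ⊔ ZJ
  scal : 2 < q → ∀ i, ScalG B P W Z C i

namespace Bg

section one

variable [Finite G] {S : Sylow 2 G} {P : Subgroup G} {ι : Type} {B ZJ : Subgroup G}
  {L W Z C : ι → Subgroup G} {q : ℕ} (h : Bg S P B ZJ L W Z C q)
include h

theorem BS : B ≤ (S : Subgroup G) := h.eqB.le.trans inf_le_left

theorem bau_two : IsPGroup 2 B := S.isPGroup'.to_le h.BS

/-- `C_S(ZJ) ≤ B` -/
theorem mem_B {s : G} (hs : s ∈ (S : Subgroup G)) (hz : ∀ z ∈ ZJ, s * z = z * s) : s ∈ B := by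
  rw [h.eqB]
  exact ⟨hs, mem_centralizer_iff.2 fun z hz' => (hz z hz').symm⟩

/-- `C_S(V_P) ≤ B` -/
theorem cent_le : (S : Subgroup G) ⊓ centralizer (zl (S : Subgroup G) P : Set G) ≤ B := by
  rw [h.eqB]
  exact inf_le_inf_left _ (centralizer_le h.fr.ZJV)

theorem S_norm_B : (S : Subgroup G) ≤ normalizer (B : Set G) := by
  intro s hs
  rw [mem_normalizer_iff_cj]
  conv_lhs => rw [h.eqB]
  rw [cj_inf, cj_centralizer, cj_eq_of_mem_normalizer (h.SZJ hs),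
    cj_eq_of_mem_normalizer (Subgroup.le_normalizer hs), ← h.eqB]

theorem norm_ZJ : normalizer (B : Set G) ≤ normalizer (ZJ : Set G) := by
  rw [← h.fr.zcB]
  exact normalizer_le_of_cj (F := zc) LemmaK.Main.zc_cj B

/-- `B` is a Sylow 2-subgroup of `C_G(ZJ)`. -/
theorem syl_B : Syl B (centralizer (ZJ : Set G)) := WOneG.syl_B S h.eqB h.SZJ

/-- a 2-group over `B` normalises `B` -/
theorem le_norm_B {R : Subgroup G} (hR : IsPGroup 2 R) (hB : B ≤ R) : R ≤ normalizer (B : Set G) :=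
  UniPlus.WC.weakNormal h.wc R hR hB


theorem block (i : ι) : LemmaK.Block 2 (B) (L i) (W i) :=
  (h.fr.blk i).toBlock (h.fr.cardZ i) h.bau_two (UniPlus.WC.weakNormal h.wc)

theorem Z_ne (i : ι) : Z i ≠ ⊥ := by
  intro e
  have h1 := h.fr.cardZ i
  rw [e, card_bot] at h1
  exact absurd (h.fr.blk i).one (by omega)

theorem W_ne (i : ι) : W i ≠ ⊥ := fun e => h.Z_ne i (le_bot_iff.1 (e ▸ (h.fr.blk i).ZV))

theorem L_norm {i j : ι} (hij : j ≠ i) : L j ≤ normalizer (Z i : Set G) := by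
  refine le_trans (fun l hl => mem_centralizer_iff.2 fun z hz => ?_) (centralizer_le_normalizer _)
  exact (h.fr.LC j l hl z (h.fr.Z_le i hz) (h.fr.WjC j i hij ((h.fr.blk i).ZV hz))).symm

theorem Z_two (i : ι) : IsPGroup 2 (Z i) :=
  h.bau_two.to_le ((h.fr.blk i).ZV.trans (h.fr.blk i).VB)

theorem char_Z (i : ι) : normalizer (Z i : Set G) ⊓ centralizer (o2 (normalizer (Z i : Set G)) : Set G) ≤
    o2 (normalizer (Z i : Set G)) :=
  MinSimple.Basic.char2_normalizer h.hyp.ctx.char2 (h.Z_two i) (h.Z_ne i)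

/-- LEMMA K -/
theorem lemK {i j : ι} (hij : j ≠ i) :
    W j ≤ o2 (normalizer (Z i : Set G)) ⊓ centralizer (o2 (normalizer (Z i : Set G)) : Set G) := by
  have : Fact (Nat.Prime 2) := ⟨Nat.prime_two⟩
  have h2 : IsPGroup 2 (o2 (normalizer (Z i : Set G)) : Subgroup G) := MinSimple.VModule.o2_isPGroup _
  have h3 := MinSimple.VModule.le_normalizer_o2 (normalizer (Z i : Set G))
  refine le_inf ((h.block j).le_of_char (h.L_norm hij) h2 h3 (h.char_Z i)) ?_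
  rw [le_centralizer_iff]
  exact (h.block j).le_centralizer h2 ((h.L_norm hij).trans h3)

theorem C_le [Finite ι] (i : ι) : C i ≤ ⨆ j : {j : ι // j ≠ i}, W j := by
  classical
  have := Fintype.ofFinite ι
  intro v hv
  have hle : (⨆ j : {j : ι // j ≠ i}, W j) ≤ C i := iSup_le fun j => h.fr.WjC i j j.2.symm
  have key : ∀ s : Finset ι, i ∉ s → ∃ u ∈ ⨆ j : {j : ι // j ≠ i}, W j, ∀ j ∈ s, u⁻¹ * v ∈ C j := by
    intro s
    induction s using Finset.induction_on with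
    | empty => exact fun _ => ⟨1, one_mem _, by simp⟩
    | insert j s hj ih =>
      intro hi
      have hji : j ≠ i := fun e => hi (e ▸ Finset.mem_insert_self _ _)
      obtain ⟨u, hu, h1⟩ := ih fun e => hi (Finset.mem_insert_of_mem e)
      obtain ⟨w, hw, c, hc, e⟩ := h.fr.WC j (u⁻¹ * v) (mul_mem (inv_mem (h.fr.CV i (hle hu))) (h.fr.CV i hv))
      refine ⟨u * w, mul_mem hu (mem_iSup_of_mem (⟨j, hji⟩ : {j : ι // j ≠ i}) hw), fun l hl => ?_⟩
      have e1 : (u * w)⁻¹ * v = w⁻¹ * (u⁻¹ * v) := by group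
      rw [e1]
      rcases Finset.mem_insert.1 hl with rfl | hl
      · rw [e]
        have : w⁻¹ * (w * c) = c := by group
        rwa [this]
      · have hlj : l ≠ j := fun e => hj (e ▸ hl)
        exact mul_mem (inv_mem (h.fr.WjC l j hlj hw)) (h1 l hl)
  obtain ⟨u, hu, h1⟩ := key (Finset.univ.erase i) (Finset.notMem_erase _ _)
  have h2 : u⁻¹ * v = 1 := by
    refine h.fr.C0 _ (mul_mem (inv_mem (h.fr.CV i (hle hu))) (h.fr.CV i hv)) fun j => ?_
    by_cases hj : j = i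
    · subst hj
      exact mul_mem (inv_mem (hle hu)) hv
    · exact h1 j (Finset.mem_erase.2 ⟨hj, Finset.mem_univ _⟩)
  rw [← inv_mul_eq_one.1 h2]
  exact hu

theorem Z_cent_L (i : ι) {z : G} (hz : z ∈ Z i) (hz1 : z ≠ 1) : z ∉ centralizer (L i : Set G) := by
  intro hzc
  obtain ⟨l, hl, hne, -⟩ := (h.fr.blk i).exists_mv
  have h1 := (h.fr.blk i).nat_tri (h.fr.cardZ i) hl hne
  have h2 : z ∈ cj l (Z i) ⊓ Z i := by
    refine mem_inf.2 ⟨?_, hz⟩
    rw [mem_cj]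
    have h3 := mem_centralizer_iff.1 hzc l hl
    have h4 : l⁻¹ * z * l = z := by
      calc l⁻¹ * z * l = l⁻¹ * (z * l) := by group
        _ = l⁻¹ * (l * z) := by rw [h3]
        _ = z := by group
    rwa [h4]
  rw [h1, mem_bot] at h2
  exact hz1 h2

/-- an element of `L i` normalising `B` normalises `Z i` -/
theorem L_inf_norm (i : ι) {x : G} (hx : x ∈ L i) (hxB : x ∈ normalizer (B : Set G)) {z : G}
    (hz : z ∈ Z i) : x * z * x⁻¹ ∈ Z i := by
  refine (h.fr.blk i).toMd.mem_Z_iff.2 ⟨(h.fr.blk i).nV x hx z ((h.fr.blk i).ZV hz), fun b hb => ?_⟩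
  have hb' : x⁻¹ * b * x ∈ B := (mem_normalizer_iff''.1 hxB b).1 hb
  have h7 := congrArg (fun t => x * t * x⁻¹) ((h.fr.blk i).cZ _ hb' z hz)
  simpa [mul_assoc] using h7

/-- `N_{L i}(B)` is transitive on `Z i - 1`. -/
theorem tor (i : ι) {z z' : G} (hz : z ∈ Z i) (hz1 : z ≠ 1) (hz' : z' ∈ Z i) (hz1' : z' ≠ 1) :
    ∃ x ∈ L i, x ∈ normalizer (B : Set G) ∧ x * z * x⁻¹ = z' := by
  obtain ⟨x, hx, hxn, hxc⟩ := (h.fr.blk i).tor z hz (h.Z_cent_L i hz hz1) z' hz' (h.Z_cent_L i hz' hz1')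
  refine ⟨x, hx, hxn, ?_⟩
  have h5 : x * z * x⁻¹ * z'⁻¹ ∈ Z i := mul_mem (h.L_inf_norm i hx hxn hz) (inv_mem hz')
  by_contra hne
  exact h.Z_cent_L i h5 (fun e => hne (mul_inv_eq_one.1 e)) hxc

/-- The hypotheses of TEXT R1 (1). -/
theorem toIn [Finite ι] (i : ι) : WOneG.InG B ZJ (Z i) (W i) (L i ⊓ normalizer (B : Set G))
    (fun j : {j : ι // j ≠ i} => W j) where
  char := h.hyp.ctx.char2
  syl := h.syl_B
  sq := fun z hz => h.fr.Vsq (h.fr.ZV i hz)
  ne := h.Z_ne i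
  Z1J := h.fr.Z_le i
  ZJle := by
    intro z hz
    obtain ⟨w, hw, c, hc, -, rfl⟩ := h.fr.split_ZJ i hz
    exact mul_mem (mem_sup_left hw) (mem_sup_right (h.C_le i hc))
  K := fun j => h.lemK j.2
  NN := fun x hx => by
    rw [mem_normalizer_iff_cj]
    refine Subgroup.eq_of_le_of_card_ge ?_ (by rw [card_cj])
    rintro _ ⟨z, hz, rfl⟩
    exact h.L_inf_norm i hx.1 hx.2 hz
  irr := by
    intro U hU hn hU1 z hz
    obtain ⟨u, hu, hu1⟩ : ∃ u ∈ U, u ≠ 1 := by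
      by_contra hcon
      push Not at hcon
      exact hU1 ((eq_bot_iff_forall _).2 hcon)
    by_cases hz1 : z = 1
    · rw [hz1]; exact one_mem _
    obtain ⟨x, hx, hxn, rfl⟩ := h.tor i (hU hu) hu1 hz hz1
    exact (mem_normalizer_iff.1 (hn ⟨hx, hxn⟩) u).1 hu
  V1S := fun v hv => mem_centralizer_iff.2 fun z hz =>
    h.fr.Vc (h.fr.ZV i hz) (h.fr.WV i hv)
  comm := fun v hv b hb => by
    have h1 := (h.fr.blk i).com b hb v hv
    have e : v * b * v⁻¹ * b⁻¹ = (b * v * b⁻¹ * v⁻¹)⁻¹ := by group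
    rw [e]
    exact inv_mem h1

/-- `O₂(N_G(Z i)) ≤ B` -/
theorem o2_le [Finite ι] (i : ι) : o2 (normalizer (Z i : Set G)) ≤ B := (h.toIn i).W_le

theorem o2_cent [Finite ι] (i : ι) : o2 (normalizer (Z i : Set G)) ≤ centralizer (Z i : Set G) := (h.toIn i).W_cent

theorem W_le_o2 [Finite ι] (i : ι) : W i ≤ o2 (normalizer (Z i : Set G)) := (h.toIn i).V_le

/-- `V_P ≤ O₂(N_G(Z i))` -/
theorem V_le [Finite ι] (i : ι) : zl (S : Subgroup G) P ≤ o2 (normalizer (Z i : Set G)) := by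
  intro v hv
  obtain ⟨w, hw, c, hc, rfl⟩ := h.fr.WC i v hv
  exact (h.toIn i).V_le' (mul_mem (mem_sup_left hw) (mem_sup_right (h.C_le i hc)))

theorem bau_norm : B ≤ normalizer (zl (S : Subgroup G) P : Set G) :=
  h.BS.trans (h.hyp.star.isLoc.le.trans (MinSimple.VModule.le_normalizer_zl _ _))

/-- NOFF for the line `V_P`. -/
theorem noff {a b : G}
    (h1 : cj a (zl (S : Subgroup G) P) ≤ normalizer ((cj b (zl (S : Subgroup G) P) : Subgroup G) : Set G))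
    (h2 : cj b (zl (S : Subgroup G) P) ≤ normalizer ((cj a (zl (S : Subgroup G) P) : Subgroup G) : Set G)) :
    cj a (zl (S : Subgroup G) P) ≤ centralizer ((cj b (zl (S : Subgroup G) P) : Subgroup G) : Set G) :=
  NoFF.Lines.noff_lines h.hyp.geo.toSys (Set.mem_singleton P) (Set.mem_singleton P) h1 h2

/-- `⟨V_P^{N_G(Z i)}⟩` is abelian. -/
theorem comm [Finite ι] (i : ι) {a b : G} (ha : a ∈ normalizer (Z i : Set G)) (hb : b ∈ normalizer (Z i : Set G)) :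
    cj a (zl (S : Subgroup G) P) ≤ centralizer ((cj b (zl (S : Subgroup G) P) : Subgroup G) : Set G) := by
  refine (h.toIn i).W1_comm (h.V_le i) h.bau_norm (fun g h1 h2 => ?_) ha hb
  have h3 := h.noff (a := 1) (b := g) (by rwa [cj_one]) (by rwa [cj_one])
  rwa [cj_one] at h3

end one

/-! ### `N_G(B)`, Sylow subgroups, fusion -/

section two

variable [Finite G] {S : Sylow 2 G} {P : Subgroup G} {ι : Type} {B ZJ : Subgroup G}
  {L W Z C : ι → Subgroup G} {q : ℕ} (h : Bg S P B ZJ L W Z C q)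
include h

theorem W_inj {i j : ι} (e : W i = W j) : i = j := by
  by_contra hne
  apply h.W_ne i
  have h1 := h.fr.WjC i j hne
  rw [← e] at h1
  rw [← h.fr.dir i]
  exact (inf_eq_left.2 h1).symm

theorem W_disj {i j : ι} (hne : i ≠ j) : W i ⊓ W j = ⊥ :=
  le_bot_iff.1 ((inf_le_inf_left _ (h.fr.WjC i j hne)).trans (h.fr.dir i).le)

theorem Z_inj {i j : ι} (e : Z i = Z j) : i = j := by
  by_contra hne
  apply h.Z_ne i
  rw [eq_bot_iff, ← h.W_disj hne]
  exact le_inf (h.fr.blk i).ZV (e ▸ (h.fr.blk j).ZV)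

theorem Z_disj {i j : ι} (hne : i ≠ j) : Z i ⊓ Z j = ⊥ :=
  le_bot_iff.1 ((inf_le_inf (h.fr.blk i).ZV (h.fr.blk j).ZV).trans (h.W_disj hne).le)

/-- `g ∈ N_G(B)`, `g W_i = W_j` implies `g Z_i = Z_j`. -/
theorem cj_Z {g : G} (hg : g ∈ normalizer (B : Set G)) {i j : ι} (e : cj g (W i) = W j) :
    cj g (Z i) = Z j := by
  have key : ∀ (g : G), g ∈ normalizer (B : Set G) → ∀ i j, cj g (W i) = W j →
      cj g (Z i) ≤ Z j := by
    rintro g hg i j e _ ⟨z, hz, rfl⟩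
    refine (h.fr.blk j).toMd.mem_Z_iff.2 ⟨e ▸ ⟨z, (h.fr.blk i).ZV hz, rfl⟩, fun b hb => ?_⟩
    have hb' : g⁻¹ * b * g ∈ B := (mem_normalizer_iff''.1 hg b).1 hb
    have h7 := congrArg (fun t => g * t * g⁻¹) ((h.fr.blk i).cZ _ hb' z hz)
    simpa [mul_assoc] using h7
  refine Subgroup.eq_of_le_of_card_ge (key g hg i j e) ?_
  rw [card_cj, h.fr.cardZ, h.fr.cardZ]

theorem perm_S {s : G} (hs : s ∈ (S : Subgroup G)) : ∃ σ : Equiv.Perm ι, ∀ i, cj s (W i) = W (σ i) ∧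
    cj s (Z i) = Z (σ i) ∧ cj s (C i) = C (σ i) := by
  obtain ⟨σ, hσ⟩ := h.perm s (h.hyp.star.isLoc.le hs)
  exact ⟨σ, fun i => ⟨(hσ i).1, h.cj_Z (h.S_norm_B hs) (hσ i).1, (hσ i).2⟩⟩

/-- For `s ∈ S`: `s` normalises `Z i` iff it normalises `W i`. -/
theorem cj_Z_iff {s : G} (hs : s ∈ (S : Subgroup G)) {i j : ι} : cj s (Z i) = Z j ↔ cj s (W i) = W j := by
  refine ⟨fun e => ?_, h.cj_Z (h.S_norm_B hs)⟩
  obtain ⟨σ, hσ⟩ := h.perm_S hs
  have h1 := (hσ i).2.1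
  rw [e] at h1
  rw [h.Z_inj h1]
  exact (hσ i).1

theorem inf_normalizer (i : ι) :
    (S : Subgroup G) ⊓ normalizer (Z i : Set G) = (S : Subgroup G) ⊓ normalizer (W i : Set G) := by
  ext s
  constructor
  · rintro ⟨hs, hn⟩
    exact ⟨hs, mem_normalizer_iff_cj.2 ((h.cj_Z_iff hs).1 (mem_normalizer_iff_cj.1 hn))⟩
  · rintro ⟨hs, hn⟩
    exact ⟨hs, mem_normalizer_iff_cj.2 ((h.cj_Z_iff hs).2 (mem_normalizer_iff_cj.1 hn))⟩

theorem bau_le_T (i : ι) : B ≤ (S : Subgroup G) ⊓ normalizer (Z i : Set G) :=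
  le_inf h.BS (le_trans (fun b hb => mem_centralizer_iff.2 fun z hz => ((h.fr.blk i).cZ b hb z hz).symm)
    (centralizer_le_normalizer _))

/-- **(U1)** -/
theorem norm [Finite ι] {g : G} (hg : g ∈ normalizer (B : Set G)) :
    cj g (zl (S : Subgroup G) P) = zl (S : Subgroup G) P ∧
      ∀ i, ∃ j, cj g (Z i) = Z j ∧ cj g (W i) ≤ W j ⊔ ZJ :=
  h.nrm g hg

/-- `|N_S(Z i)|` does not depend on `i`. -/
theorem card_T (i j : ι) : Nat.card ((S : Subgroup G) ⊓ normalizer (Z i : Set G) : Subgroup G) =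
    Nat.card ((S : Subgroup G) ⊓ normalizer (Z j : Set G) : Subgroup G) := by
  obtain ⟨s, hs, e⟩ := h.trans i j
  have h1 : cj s ((S : Subgroup G) ⊓ normalizer (Z i : Set G)) = (S : Subgroup G) ⊓ normalizer (Z j : Set G) := by
    rw [cj_inf, cj_normalizer, (h.cj_Z_iff hs).2 e, cj_eq_of_mem_normalizer (Subgroup.le_normalizer hs)]
  rw [← h1, card_cj]

/-- A 2-subgroup of `N_G(Z i)` over `B` has order `≤ |N_S(Z i)|`. -/
theorem card_le [Finite ι] (i : ι) {R : Subgroup G} (hR : IsPGroup 2 R) (hB : B ≤ R)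
    (hRn : R ≤ normalizer (Z i : Set G)) :
    Nat.card R ≤ Nat.card ((S : Subgroup G) ⊓ normalizer (Z i : Set G) : Subgroup G) := by
  have h1 := h.le_norm_B hR hB
  obtain ⟨R', hR', hle⟩ := exists_syl hR h1
  have hS : Syl (S : Subgroup G) (normalizer (B : Set G)) :=
    ⟨h.S_norm_B, S.isPGroup', fun _ _ hT hST => S.is_maximal' hT hST⟩
  obtain ⟨x, hx, rfl⟩ := syl_conj hS hR'
  -- `x⁻¹ R x ≤ S ⊓ N(Z j)`
  obtain ⟨j, hj, -⟩ := (h.norm (inv_mem hx)).2 i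
  rw [h.card_T i j, ← card_cj x⁻¹ R]
  refine Subgroup.card_le_of_le (le_inf ?_ ?_)
  · have := cj_mono x⁻¹ hle
    rwa [cj_inv_cj] at this
  · have := cj_mono x⁻¹ hRn
    rwa [cj_normalizer, hj] at this

/-- **`N_S(Z i)` is a Sylow 2-subgroup of `N_G(Z i)`.** -/
theorem syl [Finite ι] (i : ι) : Syl ((S : Subgroup G) ⊓ normalizer (Z i : Set G)) (normalizer (Z i : Set G)) := by
  refine ⟨inf_le_right, S.isPGroup'.to_le inf_le_left, fun R hR h2 hle => ?_⟩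
  symm
  exact Subgroup.eq_of_le_of_card_ge hle (h.card_le i h2 ((h.bau_le_T i).trans hle) hR)

/-- The same for every subgroup of `N_G(Z i)` over `N_S(Z i)`. -/
theorem syl_of_le [Finite ι] (i : ι) {X : Subgroup G} (h1 : (S : Subgroup G) ⊓ normalizer (Z i : Set G) ≤ X)
    (h2 : X ≤ normalizer (Z i : Set G)) : Syl ((S : Subgroup G) ⊓ normalizer (Z i : Set G)) X :=
  ⟨h1, S.isPGroup'.to_le inf_le_left, fun R hR h3 hle => (h.syl i).2.2 R (hR.trans h2) h3 hle⟩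

/-- **(0.2)** An element of `Z_J` conjugate into `Z i` lies in some `Z j`. -/
theorem fus [Finite ι] {i : ι} {x g : G} (hx : x ∈ ZJ) (hg : g⁻¹ * x * g ∈ Z i) :
    ∃ j, x ∈ Z j := by
  -- `B`, `B^g ≤ C(x)`
  have hB1 : B ≤ centralizer ({x} : Set G) := fun b hb => by
    rw [mem_centralizer_singleton_iff]
    exact ((h.fr.mem_ZJ x).1 hx).2 b hb
  have hB2 : cj g (B) ≤ centralizer ({x} : Set G) := by
    rintro _ ⟨b, hb, rfl⟩
    rw [mem_centralizer_singleton_iff]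
    have h1 := (h.fr.blk i).cZ b hb _ hg
    have h2 := congrArg (fun t => g * t * g⁻¹) h1
    simpa [mul_assoc] using h2
  obtain ⟨R, hR, hBR⟩ := exists_syl h.bau_two hB1
  obtain ⟨R', hR', hBR'⟩ := exists_syl (isPGroup_cj g h.bau_two) hB2
  obtain ⟨c, hc, rfl⟩ := syl_conj hR hR'
  have h1 : cj (g * c⁻¹) (cj c B) = cj c B := by
    refine (h.wc.conj c) (cj c R) hR'.2.1 (cj_mono c hBR) (g * c⁻¹) ?_
    rw [cj_cj, inv_mul_cancel_right]
    exact hBR'
  rw [cj_cj, inv_mul_cancel_right] at h1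
  have hnB : c⁻¹ * g ∈ normalizer (B : Set G) := by
    rw [mem_normalizer_iff_cj, ← cj_cj, h1, cj_inv_cj]
  obtain ⟨j, hj1, -⟩ := (h.norm hnB).2 i
  refine ⟨j, ?_⟩
  have hz : (c⁻¹ * g) * (g⁻¹ * x * g) * (c⁻¹ * g)⁻¹ ∈ Z j := hj1 ▸ ⟨_, hg, rfl⟩
  have e2 : c⁻¹ * x * c = x := by
    have h1 := mem_centralizer_singleton_iff.1 (inv_mem hc)
    rw [h1]; group
  have e3 : c⁻¹ * g * (g⁻¹ * x * g) * (c⁻¹ * g)⁻¹ = x := by
    have : c⁻¹ * g * (g⁻¹ * x * g) * (c⁻¹ * g)⁻¹ = c⁻¹ * x * c := by group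
    rw [this, e2]
  rwa [e3] at hz

end two

end Bg

/-! ### Partners, the axioms `PG.PP` -/

namespace Bg

section three

variable [Finite G] {S : Sylow 2 G} {P : Subgroup G} {ι : Type} {B ZJ : Subgroup G}
  {L W Z C : ι → Subgroup G} {q : ℕ} (h : Bg S P B ZJ L W Z C q)
include h

theorem exists_partner (i : ι) : ∃ j s, Pa (S : Subgroup G) W i j s := by
  set T : Subgroup G := (S : Subgroup G) ⊓ normalizer (W i : Set G) with hT
  have hlt : T < (S : Subgroup G) := by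
    refine lt_of_le_of_ne inf_le_left fun e => ?_
    obtain ⟨j, hj⟩ := h.two i
    obtain ⟨s, hs, e1⟩ := h.trans i j
    have h1 : s ∈ T := e ▸ hs
    exact hj (h.W_inj (e1.symm.trans (mem_normalizer_iff_cj.1 h1.2)))
  obtain ⟨s, hs, hsn, hsT, hss⟩ := SporRec.MaxFix.exists_sq_mem S.isPGroup' hlt
  obtain ⟨σ, hσ⟩ := h.perm_S hs
  refine ⟨σ i, s, hs, fun e => hsT ⟨hs, mem_normalizer_iff_cj.2 ?_⟩, (hσ i).1, ?_, hsn⟩
  · rw [(hσ i).1, ← e]
  · rw [← (hσ i).1, cj_cj]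
    exact mem_normalizer_iff_cj.1 hss.2

/-- an element of `P ∩ C(C i)` fixes all `W j` -/
theorem fix {i : ι} {l : G} (hl : l ∈ P) (hlc : l ∈ centralizer (C i : Set G)) (j : ι) : cj l (W j) = W j := by
  classical
  have h1 : ∀ j, j ≠ i → cj l (W j) = W j := fun j hj =>
    mem_normalizer_iff_cj.1 (centralizer_le_normalizer _ (centralizer_le (h.fr.WjC i j hj.symm) hlc))
  obtain ⟨σ, hσ⟩ := h.perm l hl
  by_cases hj : j = i
  · subst hj
    have h2 : σ j = j := by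
      by_contra hne
      have h3 := (hσ (σ j)).1
      rw [h1 _ hne] at h3
      exact hne (σ.injective (h.W_inj h3).symm)
    have h3 := (hσ j).1
    rwa [h2] at h3
  · exact h1 j hj

/-- The neighbours of `Z i`. -/
theorem adj_le {i j : ι} (hij : j ≠ i) {k : G} (hk : k ∈ normalizer (Z i : Set G)) :
    cj k (W j) ≤ o2 (normalizer (Z i : Set G)) ⊓ centralizer (o2 (normalizer (Z i : Set G)) : Set G) := by
  have h1 := cj_mono k (h.lemK hij)
  rwa [cj_inf, cj_centralizer,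
    cj_eq_of_mem_normalizer (MinSimple.VModule.le_normalizer_o2 (normalizer (Z i : Set G)) hk)] at h1

variable {i j : ι} {s : G} (p : Pa (S : Subgroup G) W i j s)
include p

theorem cj_s_Z : cj s (Z i) = Z j := h.cj_Z (h.S_norm_B p.mem) p.ij

theorem cj_s_Z' : cj s (Z j) = Z i := h.cj_Z (h.S_norm_B p.mem) p.ji

/-- `N_S(Z j) = N_S(Z i)` for partners. -/
theorem T_eq : (S : Subgroup G) ⊓ normalizer (Z j : Set G) = (S : Subgroup G) ⊓ normalizer (Z i : Set G) := by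
  have h1 := mem_normalizer_iff_cj.1 p.nT
  rw [← h.inf_normalizer i, cj_inf, cj_normalizer, h.cj_s_Z p,
    cj_eq_of_mem_normalizer (Subgroup.le_normalizer p.mem)] at h1
  exact h1

theorem T_le : (S : Subgroup G) ⊓ normalizer (Z i : Set G) ≤ normalizer (Z i : Set G) ⊓ normalizer (Z j : Set G) :=
  le_inf inf_le_right ((h.T_eq p).ge.trans inf_le_right)

/-- `N_S(Z i)` is a Sylow 2-subgroup of `D_12 = N_G(Z i) ∩ N_G(Z j)`. -/
theorem syl_D [Finite ι] : Syl ((S : Subgroup G) ⊓ normalizer (Z i : Set G))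
    (normalizer (Z i : Set G) ⊓ normalizer (Z j : Set G)) :=
  h.syl_of_le i (h.T_le p) inf_le_left

/-- **The axioms `PG.PP`** of the points and lines (`PG/Base.lean`). -/
theorem toPP [Finite ι] (hTI : TI (Z i))
    (hnl : MinPar.NonLoc (normalizer (Z i : Set G)) (normalizer (Z j : Set G))) :
    PG.PP ![Z i, Z j] ![W i, W j] := by
  have hji : j ≠ i := p.ne.symm
  refine
    { swap := ⟨s, h.cj_s_Z p, h.cj_s_Z' p, p.ij, p.ji⟩
      ZU := (h.fr.blk i).ZV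
      sq := fun x hx => h.fr.Vsq (h.fr.ZV i hx)
      ne := h.Z_ne i
      tr := ?_
      N_le_Q := ?_
      Q_le_cent := ?_
      UQ := ?_
      nonLoc := hnl }
  · intro k hk
    change cj k (Z i) ≤ W i at hk
    change ∃ l : G, cj l (Z i) = cj k (Z i) ∧ cj l (Z j) = Z j ∧ cj l (W i) = W i ∧ cj l (W j) = W j
    obtain ⟨z, hz, hz1⟩ : ∃ x ∈ Z i, x ≠ 1 := by
      by_contra hcon
      push Not at hcon
      exact h.Z_ne i ((eq_bot_iff_forall _).2 hcon)
    have hx : k * z * k⁻¹ ∈ cj k (Z i) := ⟨z, hz, rfl⟩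
    have hx1 : k * z * k⁻¹ ≠ 1 := fun e => hz1 (conj_eq_one_iff.1 e)
    obtain ⟨l, hl, hlc, y, hy, e⟩ := h.tr i _ (hk hx) hx1
    have h1 : cj (l⁻¹ * k) (Z i) = Z i := by
      apply hTI
      intro hbot
      have h2 : y ∈ cj (l⁻¹ * k) (Z i) ⊓ Z i := by
        refine mem_inf.2 ⟨?_, hy⟩
        rw [mem_cj]
        have e1 : (l⁻¹ * k)⁻¹ * y * (l⁻¹ * k) = k⁻¹ * (l * y * l⁻¹) * k := by group
        have e2 : k⁻¹ * (k * z * k⁻¹) * k = z := by group
        rw [e1, e, e2]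
        exact hz
      rw [hbot, mem_bot] at h2
      rw [h2, mul_one, mul_inv_cancel] at e
      exact hx1 e.symm
    refine ⟨l, ?_, ?_, h.fix hl hlc i, h.fix hl hlc j⟩
    · have h2 := congrArg (cj l) h1
      rw [cj_cj, mul_inv_cancel_left] at h2
      exact h2.symm
    · exact mem_normalizer_iff_cj.1 (centralizer_le_normalizer _ (centralizer_le
        ((h.fr.blk j).ZV.trans (h.fr.WjC i j p.ne)) hlc))
  · refine sSup_le ?_
    rintro u ⟨k, hk, rfl⟩
    exact ((cj_mono k (h.fr.blk j).ZV).trans (h.adj_le hji (mem_normalizer_iff_cj.2 hk.symm))).trans inf_le_left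
  · rw [le_centralizer_iff]
    refine sSup_le ?_
    rintro u ⟨k, hk, rfl⟩
    exact ((cj_mono k (h.fr.blk j).ZV).trans (h.adj_le hji (mem_normalizer_iff_cj.2 hk.symm))).trans inf_le_right
  · intro x hx y hy
    exact (h.toIn i).comm x hx y (h.o2_le i hy)

end three

end Bg

/-! ### Stage `-1` -/

/-- **Stage `-1`: the frame over `(B(S), Z_J)`.** -/
theorem Bg.of_bs [Finite G] {S : Sylow 2 G} {P : Subgroup G} {ι : Type} [Finite ι]
    {L W Z C A : ι → Subgroup G} {q m : ℕ} (h : Bs S P L W Z C A q m)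
    (hs : 2 < q → ∀ i, Scal (S : Subgroup G) P W Z C i) :
    Bg S P (bau (S : Subgroup G)) (zj (S : Subgroup G)) L W Z C q where
  hyp := h.hyp.toHypN
  fr := Fg.of_fr h.fr
  wc := UniPlus.wc_bau S
  eqB := rfl
  SZJ := ZN.le_normalizer_zj _
  two := h.two
  LP := h.LP
  perm := h.perm
  trans := h.trans
  tr := h.tr
  root := by
    intro i v hv hvZ z hz
    obtain ⟨R, h1, h2, -, h4⟩ := (h.fr.blk i).toMd.relIndex_comm (h.fr.AB i) hv hvZ
    have h5 := (h.fr.A_full i).2.2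
    rw [← h5] at h4
    have h6 : Nat.card R = q := Nat.eq_of_mul_eq_mul_right Nat.card_pos h4
    have h7 : R = Z i := Subgroup.eq_of_le_of_card_ge h1 (by rw [h6, h.fr.cardZ])
    rw [← h7] at hz
    obtain ⟨x, hx, e⟩ := h2 z hz
    exact ⟨x, h.fr.AB i hx, mem_centralizer_iff.2 fun c hc => (h.fr.AC i x hx c hc).symm, e.symm⟩
  nrm := fun g hg => h.norm hg
  scal := fun hq i => (hs hq i).toG

end Cfsg.Agent.Omega.NO3S.EThree.Frame

end

section


/-!
# CARD #18791 "(E) = TWO CENTRES", `q = 2`, `k = 2`: the frame `TC.Fr` from the frame `Bg` (every level)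

* `OfBg.exists_sit` : `Bg S P B ZJ L W Z C 2` over `Fin 2` gives `KTwo.Sit S P T W v`, `Z i = {1, v i}`, `T = N_S(Z i)`;
* `OfBg.exists_fr` : with `uni` (the field of `TC.Fr`) and `NonLoc (C(v 0)) (C(v 1))`, literally `TC.Fr T W R v`.
-/

set_option autoImplicit false
set_option linter.unusedSectionVars false

namespace Cfsg.Agent.Omega.TC.OfBg

open Subgroup Cfsg Cfsg.Agent.ZN.ChoiceBase
open Cfsg.Agent.ZN (jj zj bau zc zl o2)
open Cfsg.Agent.ZN.ChoiceSit (Syl exists_syl syl_conj)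
open Cfsg.Agent.Omega.OM Cfsg.Agent.Omega.OM.Uni
open Cfsg.Agent.Omega.NO3S (HypJ HypN Hyp)
open Cfsg.Agent.Omega.NO3S.EThree.Frame
open Cfsg.Agent.Omega.MinPar (NonLoc)
open Cfsg.Agent.MinSimple.MinParabolic (IsMinPar)
open scoped Pointwise

universe u

variable {G : Type u} [Group G]

/-! ### Groups of order 2 -/

theorem normalizer_eq {Z : Subgroup G} {v : G} (hZ : ∀ x, x ∈ Z ↔ x = 1 ∨ x = v) (hv : v ≠ 1) :
    normalizer (Z : Set G) = centralizer ({v} : Set G) := by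
  apply le_antisymm
  · intro g hg
    have h1 : g * v * g⁻¹ ∈ Z := (mem_normalizer_iff.1 hg v).1 ((hZ v).2 (Or.inr rfl))
    rcases (hZ _).1 h1 with h2 | h2
    · exact absurd (conj_eq_one_iff.1 h2) hv
    · rw [mem_centralizer_singleton_iff]
      exact mul_inv_eq_iff_eq_mul.1 h2
  · intro g hg
    refine centralizer_le_normalizer _ (mem_centralizer_iff.2 fun x hx => ?_)
    rcases (hZ x).1 hx with rfl | rfl
    · simp
    · exact (mem_centralizer_singleton_iff.1 hg).symm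

theorem exists_gen [Finite G] {Z : Subgroup G} (h : Nat.card Z = 2) :
    ∃ v, v ≠ 1 ∧ ∀ x, x ∈ Z ↔ x = 1 ∨ x = v := by
  obtain ⟨v, hv, hv1⟩ : ∃ v ∈ Z, v ≠ 1 := by
    by_contra hcon
    push Not at hcon
    have : Z = ⊥ := (eq_bot_iff_forall _).2 hcon
    rw [this, card_bot] at h
    omega
  refine ⟨v, hv1, fun x => ⟨fun hx => ?_, ?_⟩⟩
  · by_contra hcon
    push Not at hcon
    have h1 : 2 < Nat.card Z := by
      have h3 : ({1, v, x} : Set G) ⊆ (Z : Set G) := by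
        rintro y (rfl | rfl | rfl)
        · exact one_mem Z
        · exact hv
        · exact hx
      have h4 : Set.ncard ({1, v, x} : Set G) = 3 := by
        rw [Set.ncard_eq_three]
        exact ⟨1, v, x, hv1.symm, hcon.1.symm, hcon.2.symm, rfl⟩
      have h5 := Set.ncard_le_ncard h3 (Set.toFinite _)
      have h6 : Set.ncard (Z : Set G) = Nat.card Z := rfl
      omega
    omega
  · rintro (rfl | rfl)
    · exact one_mem Z
    · exact hv

section

variable [Finite G] {S : Sylow 2 G} {P B ZJ : Subgroup G} {L W Z C : Fin 2 → Subgroup G}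
  (h : Bg S P B ZJ L W Z C 2)
include h

theorem C_le_W {i j : Fin 2} (hij : i ≠ j) : C i ≤ W j := by
  refine (h.C_le i).trans (iSup_le fun l => ?_)
  have : (l : Fin 2) = j := by
    have h1 := l.2
    have h2 : ∀ a b c : Fin 2, a ≠ b → c ≠ a → c = b := by decide
    exact h2 i j l hij h1
  rw [this]

theorem C_eq_W {i j : Fin 2} (hij : i ≠ j) : C i = W j := le_antisymm (C_le_W h hij) (h.fr.WjC i j hij)

theorem W_inf_ZJ (i : Fin 2) {x : G} (hx : x ∈ W i) (hz : x ∈ ZJ) : x ∈ Z i :=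
  (h.fr.blk i).toMd.mem_Z_iff.2 ⟨hx, fun b hb => ((h.fr.mem_ZJ x).1 hz).2 b hb⟩

/-- The elements of `ZJ`. -/
theorem mem_ZJ_iff {v : Fin 2 → G} (hv : ∀ i, ∀ x, x ∈ Z i ↔ x = 1 ∨ x = v i) {x : G} :
    x ∈ ZJ ↔ x = 1 ∨ x = v 0 ∨ x = v 1 ∨ x = v 0 * v 1 := by
  constructor
  · intro hx
    obtain ⟨w, hw, c, hc, hcz, rfl⟩ := h.fr.split_ZJ 0 hx
    have hc' : c ∈ Z 1 := W_inf_ZJ h 1 (C_le_W h (by decide) hc) hcz
    rcases (hv 0 w).1 hw with rfl | rfl <;> rcases (hv 1 c).1 hc' with rfl | rfl <;> simp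
  · have h0 : v 0 ∈ ZJ := h.fr.Z_le 0 ((hv 0 _).2 (Or.inr rfl))
    have h1 : v 1 ∈ ZJ := h.fr.Z_le 1 ((hv 1 _).2 (Or.inr rfl))
    rintro (rfl | rfl | rfl | rfl)
    · exact one_mem _
    · exact h0
    · exact h1
    · exact mul_mem h0 h1

theorem zc_le_ZJ {T : Subgroup G} (hTS : T ≤ (S : Subgroup G)) (hBT : B ≤ T) : zc T ≤ ZJ := by
  intro x hx
  obtain ⟨h1, h2, h3⟩ := mem_zc.1 hx
  have hZB : ZJ ≤ B := h.fr.ZJV.trans h.fr.VB
  have hxB : x ∈ B := h.mem_B (hTS h1) fun z hz => (h3 z (hBT (hZB hz))).symm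
  rw [← h.fr.zcB]
  exact mem_zc.2 ⟨hxB, h2, fun y hy => h3 y (hBT hy)⟩

theorem exists_sit_aux {v : Fin 2 → G} (hv1 : ∀ i, v i ≠ 1) (hv : ∀ i, ∀ x, x ∈ Z i ↔ x = 1 ∨ x = v i) :
    KTwo.Sit S P ((S : Subgroup G) ⊓ normalizer (Z 0 : Set G)) W v := by
  obtain ⟨j, s, p⟩ := h.exists_partner 0
  have hj : j = 1 := by
    have h1 := p.ne
    have h2 : ∀ a : Fin 2, 0 ≠ a → a = 1 := by decide
    exact h2 j h1
  subst hj
  have hT1 := h.T_eq p
  set T : Subgroup G := (S : Subgroup G) ⊓ normalizer (Z 0 : Set G) with hT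
  have hTi : ∀ i, T = (S : Subgroup G) ⊓ normalizer (Z i : Set G) := by
    intro i
    have h2 : ∀ a : Fin 2, a = 0 ∨ a = 1 := by decide
    rcases h2 i with rfl | rfl
    · rfl
    · exact hT1.symm
  have hN : ∀ i, normalizer (Z i : Set G) = centralizer ({v i} : Set G) := fun i => normalizer_eq (hv i) (hv1 i)
  have hvZ : ∀ i, v i ∈ Z i := fun i => (hv i _).2 (Or.inr rfl)
  have hTS : T ≤ (S : Subgroup G) := inf_le_left
  have hBT : B ≤ T := h.bau_le_T 0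
  have hZB : ZJ ≤ B := h.fr.ZJV.trans h.fr.VB
  have hTc : ∀ i, ∀ t ∈ T, t * v i * t⁻¹ = v i := by
    intro i t ht
    rw [hTi i, hN i] at ht
    have h1 := mem_centralizer_singleton_iff.1 ht.2
    rw [h1]; group
  have hss : ∀ i, s * v i * s⁻¹ ∈ Z (1 - i) := by
    intro i
    have h2 : ∀ a : Fin 2, a = 0 ∨ a = 1 := by decide
    rcases h2 i with rfl | rfl
    · have := h.cj_s_Z p
      have h3 : s * v 0 * s⁻¹ ∈ cj s (Z 0) := ⟨_, hvZ 0, rfl⟩
      rwa [this] at h3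
    · have := h.cj_s_Z' p
      have h3 : s * v 1 * s⁻¹ ∈ cj s (Z 1) := ⟨_, hvZ 1, rfl⟩
      rwa [this] at h3
  have hs0 : s * v 0 * s⁻¹ = v 1 := by
    have h3 := (hv 1 _).1 (hss 0)
    exact h3.resolve_left fun e => hv1 0 (conj_eq_one_iff.1 e)
  have hs1 : s * v 1 * s⁻¹ = v 0 := by
    have h3 := (hv 0 _).1 (hss 1)
    exact h3.resolve_left fun e => hv1 1 (conj_eq_one_iff.1 e)
  have hvc : v 0 * v 1 = v 1 * v 0 := h.fr.Vc (h.fr.ZV 0 (hvZ 0)) (h.fr.ZV 1 (hvZ 1))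
  have hv01 : v 0 ≠ v 1 := fun e => by
    have h3 : v 0 ∈ Z 0 ⊓ Z 1 := ⟨hvZ 0, e ▸ hvZ 1⟩
    rw [h.Z_disj (by decide), mem_bot] at h3
    exact hv1 0 h3
  have hzT : ∀ x, x ∈ zc T ↔ x = 1 ∨ x = v 0 ∨ x = v 1 ∨ x = v 0 * v 1 := by
    intro x
    rw [← mem_ZJ_iff h hv]
    refine ⟨fun hx => zc_le_ZJ h hTS hBT hx, fun hx => mem_zc.2 ⟨hBT (hZB hx), h.fr.Vsq (h.fr.ZJV hx), fun y hy => ?_⟩⟩
    rcases (mem_ZJ_iff h hv).1 hx with rfl | rfl | rfl | rfl
    · simp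
    · exact (mul_inv_eq_iff_eq_mul.1 (hTc 0 y hy))
    · exact (mul_inv_eq_iff_eq_mul.1 (hTc 1 y hy))
    · have h3 := mul_inv_eq_iff_eq_mul.1 (hTc 0 y hy)
      have h4 := mul_inv_eq_iff_eq_mul.1 (hTc 1 y hy)
      calc y * (v 0 * v 1) = y * v 0 * v 1 := by group
        _ = v 0 * (y * v 1) := by rw [h3]; group
        _ = v 0 * v 1 * y := by rw [h4]; group
  -- `S = T ∪ s T`
  have hST : ∀ x ∈ (S : Subgroup G), x ∉ T → s⁻¹ * x ∈ T := by
    intro x hx hxT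
    refine mem_inf.2 ⟨(S : Subgroup G).mul_mem (inv_mem p.mem) hx, ?_⟩
    obtain ⟨σ, hσ⟩ := h.perm_S hx
    have h3 : σ 0 = 1 := by
      have h2 : ∀ a : Fin 2, a ≠ 0 → a = 1 := by decide
      refine h2 _ fun e => hxT (mem_inf.2 ⟨hx, mem_normalizer_iff_cj.2 ?_⟩)
      rw [(hσ 0).2.1, e]
    rw [mem_normalizer_iff_cj, ← cj_cj, (hσ 0).2.1, h3, ← h.cj_s_Z p, cj_cj, inv_mul_cancel, cj_one]
  have hsT : s ∉ T := fun hs => by
    have h3 := mem_normalizer_iff_cj.1 hs.2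
    rw [h.cj_s_Z p] at h3
    exact absurd (h.Z_inj h3) (by decide)
  refine
    { hyp := h.hyp.toHyp
      T_eq := fun i => by rw [hTi i]; exact h.inf_normalizer i
      card_T := ?_
      le := h.fr.WV
      four := fun i => by rw [(h.fr.blk i).card, h.fr.cardZ i]
      inf := fun i j hij => h.W_disj hij
      sup := ?_
      mem := fun i => (h.fr.blk i).ZV (hvZ i)
      ne := hv1
      cen := hTc
      zT := hzT
      zS := ?_
      swap := ⟨s, p.mem, ?_, ?_⟩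
      perm := fun q hq => ?_
      tr := ?_
      gen := ?_
      syl := fun i => ?_
      sylN := fun i => ?_
      half := ?_ }
  · -- index 2
    have h3 : (T.subgroupOf (S : Subgroup G)).index = 2 := by
      rw [Subgroup.index_eq_two_iff]
      refine ⟨⟨s⁻¹, inv_mem p.mem⟩, fun x => ?_⟩
      have hx := x.2
      simp only [mem_subgroupOf, Subgroup.coe_mul]
      by_cases hxT : (x : G) ∈ T
      · refine Or.inr ⟨hxT, fun hc => hsT ?_⟩
        have h4 := mul_mem (inv_mem hc) hxT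
        have e : ((x : G) * s⁻¹)⁻¹ * x = s := by group
        rwa [e] at h4
      · refine Or.inl ⟨?_, hxT⟩
        have h4 := hST _ (inv_mem hx) fun hc => hxT (by simpa using inv_mem hc)
        have h5 : s⁻¹ * (x : G)⁻¹ = ((x : G) * s)⁻¹ := by group
        rw [h5] at h4
        have h6 : (x : G) * s ∈ T := by simpa using inv_mem h4
        have h7 : s * s ∈ T := by
          refine mem_inf.2 ⟨(S : Subgroup G).mul_mem p.mem p.mem, ?_⟩
          rw [mem_normalizer_iff_cj, ← cj_cj, h.cj_s_Z p, h.cj_s_Z' p]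
        have h8 := mul_mem h6 (inv_mem h7)
        have e : (x : G) * s * (s * s)⁻¹ = x * s⁻¹ := by group
        rwa [e] at h8
    have h4 := Subgroup.card_mul_index (T.subgroupOf (S : Subgroup G))
    rw [h3, Nat.card_congr (Subgroup.subgroupOfEquivOfLe hTS).toEquiv] at h4
    rw [← h4, mul_comm]
  · intro i j hij x hx
    obtain ⟨w, hw, c, hc, rfl⟩ := h.fr.WC i x hx
    exact mul_mem (mem_sup_left hw) (mem_sup_right (C_le_W h hij hc))
  · intro x
    constructor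
    · intro hx
      have hx' := mem_zc.1 hx
      have h3 : x ∈ ZJ := zc_le_ZJ h le_rfl h.BS hx
      have h4 := hx'.2.2 s p.mem
      rcases (mem_ZJ_iff h hv).1 h3 with rfl | rfl | rfl | rfl
      · exact Or.inl rfl
      · exfalso
        apply hv01
        rw [← hs0, h4]; group
      · exfalso
        apply hv01
        rw [← hs1, h4]; group
      · exact Or.inr rfl
    · have h01 : v 0 * v 1 ∈ zc (S : Subgroup G) := by
        have h3 : v 0 * v 1 ∈ ZJ := (mem_ZJ_iff h hv).2 (by simp)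
        refine mem_zc.2 ⟨hTS (hBT (hZB h3)), h.fr.Vsq (h.fr.ZJV h3), fun y hy => ?_⟩
        have key : ∀ t ∈ T, t * (v 0 * v 1) = v 0 * v 1 * t := fun t ht =>
          (mem_zc.1 ((hzT _).2 (Or.inr (Or.inr (Or.inr rfl))))).2.2 t ht
        by_cases hyT : y ∈ T
        · exact key y hyT
        · have h5 := key _ (hST y hy hyT)
          have h6 : s * (v 0 * v 1) = v 0 * v 1 * s := by
            calc s * (v 0 * v 1) = (s * v 0 * s⁻¹) * (s * v 1 * s⁻¹) * s := by group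
              _ = v 1 * v 0 * s := by rw [hs0, hs1]
              _ = v 0 * v 1 * s := by rw [hvc]
          calc y * (v 0 * v 1) = s * (s⁻¹ * y * (v 0 * v 1)) := by group
            _ = s * (v 0 * v 1) * (s⁻¹ * y) := by rw [h5]; group
            _ = v 0 * v 1 * y := by rw [h6]; group
      rintro (rfl | rfl)
      · exact one_mem _
      · exact h01
  · refine mem_inf.2 ⟨(S : Subgroup G).mul_mem p.mem p.mem, ?_⟩
    rw [mem_normalizer_iff_cj, ← cj_cj, h.cj_s_Z p, h.cj_s_Z' p]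
  · intro i j hij
    have h2 : ∀ a b : Fin 2, a ≠ b → (a = 0 ∧ b = 1) ∨ (a = 1 ∧ b = 0) := by decide
    rcases h2 i j hij with ⟨rfl, rfl⟩ | ⟨rfl, rfl⟩
    · exact ⟨p.ij, hs0⟩
    · exact ⟨p.ji, hs1⟩
  · obtain ⟨σ, hσ⟩ := h.perm q hq
    exact ⟨σ, fun i => (hσ i).1⟩
  · intro i j hij x hx hx1
    obtain ⟨l, hl, hlc, z, hz, e⟩ := h.tr i x hx hx1
    refine ⟨l, hl, centralizer_le (h.fr.WjC i j hij) hlc, h.fix hl hlc i, ?_⟩
    rcases (hv i z).1 hz with rfl | rfl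
    · exact absurd (by rw [← e]; group) hx1
    · exact e
  · intro K hK hKi
    set X : Subgroup G := ⨆ i, P ⊓ centralizer (W i : Set G) with hX
    have hXP : X ≤ P := iSup_le fun i => inf_le_left
    have hXn : P ≤ normalizer (X : Set G) := by
      intro q hq
      obtain ⟨σ, hσ⟩ := h.perm q hq
      apply Cfsg.Agent.ZN.ChoiceBase.mem_normalizer_of_cj_le
      change Subgroup.map _ _ ≤ _
      rw [hX, Subgroup.map_iSup]
      refine iSup_le fun i => le_trans ?_ (le_iSup _ (σ i))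
      have h3 : cj q (P ⊓ centralizer (W i : Set G)) = P ⊓ centralizer (W (σ i) : Set G) := by
        rw [cj_inf, cj_centralizer, (hσ i).1, cj_eq_of_mem_normalizer (Subgroup.le_normalizer hq)]
      exact h3.le
    rcases MinPar.IsPar.sup_eq_or_inf_le S h.hyp.star.toIsPar hXP hXn with h3 | h3
    · rw [← h3]
      exact sup_le (iSup_le fun i => hKi i) hK
    · exfalso
      obtain ⟨b, hb, w, hw, hne⟩ := (h.fr.blk 0).ne
      have hwZ : w ∉ Z 0 := fun hc => hne ((h.fr.blk 0).cZ b hb w hc)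
      obtain ⟨b', hb', hbc, e⟩ := h.root 0 w hw hwZ (v 0) (hvZ 0)
      have h4 : b' ∈ X := by
        refine mem_iSup_of_mem (1 : Fin 2) (mem_inf.2 ⟨h.hyp.star.isLoc.le (h.BS hb'), ?_⟩)
        exact centralizer_le (h.fr.WjC 0 1 (by decide)) hbc
      have h5 := h3 (mem_inf.2 ⟨h.BS hb', h4⟩)
      have h6 := h.fr.cQ h5 (h.fr.WV 0 hw)
      apply hv1 0
      rw [← e, h6]
      group
  · rw [hTi i, ← hN i]
    exact h.syl i
  · refine ⟨?_, S.isPGroup'.to_le hTS, fun R hR h2 hle => ?_⟩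
    · rw [hTi i, h.inf_normalizer i]
      exact inf_le_right
    · have h4 : R ≤ normalizer (Z i : Set G) := fun x hx =>
        mem_normalizer_iff_cj.2 (h.cj_Z (h.le_norm_B h2 (hBT.trans hle) hx) (mem_normalizer_iff_cj.1 (hR hx)))
      have h5 := h.syl i
      rw [← hTi i] at h5
      exact h5.2.2 R h4 h2 hle
  · intro i j hij
    have h3 := h.lemK (i := i) (j := j) hij.symm
    rw [hN i] at h3
    refine ⟨h3.trans inf_le_left, ?_⟩
    rw [le_centralizer_iff]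
    exact h3.trans inf_le_right

/-- **The situation `KTwo.Sit` from `Bg`**, at every level. -/
theorem exists_sit : ∃ v : Fin 2 → G, (∀ i, v i ≠ 1) ∧ (∀ i, ∀ x, x ∈ Z i ↔ x = 1 ∨ x = v i) ∧
    KTwo.Sit S P ((S : Subgroup G) ⊓ normalizer (Z 0 : Set G)) W v := by
  choose v hv1 hv using fun i => exists_gen (h.fr.cardZ i)
  exact ⟨v, hv1, hv, exists_sit_aux h hv1 hv⟩

end

/-- **`TC.Fr` from `KTwo.Sit`.** -/
theorem fr_of_sit [Finite G] {S : Sylow 2 G} {P T : Subgroup G} {U : Fin 2 → Subgroup G} {v : Fin 2 → G}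
    (D : KTwo.Sit S P T U v)
    (uni : ∀ i j, i ≠ j → ∀ R : Subgroup G, IsMinPar T R → R ≤ centralizer ({v j} : Set G) →
      ¬ R ≤ centralizer ({v i} : Set G) → R ≤ normalizer (U i : Set G))
    (nonloc : NonLoc (centralizer ({v 0} : Set G)) (centralizer ({v 1} : Set G))) :
    ∃ R : Fin 2 → Subgroup G, Fr T U R v := by
  have hother : ∀ i : Fin 2, ∃ j, i ≠ j := by decide
  have key : ∀ i : Fin 2, ∃ R : Subgroup G, IsMinPar T R ∧ (∀ j, R ≤ normalizer (U j : Set G)) ∧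
      (∀ j, i ≠ j → R ≤ centralizer ({v j} : Set G)) ∧ ¬ R ≤ centralizer ({v i} : Set G) := by
    intro i
    obtain ⟨j, hij⟩ := hother i
    set X : Subgroup G := normalizer (U i : Set G) ⊓ normalizer (U j : Set G) ⊓ centralizer ({v j} : Set G) with hX
    have hTX : T ≤ X := le_inf (le_inf (D.T_le_N i) (D.T_le_N j)) (D.T_le_C j)
    have huniq : ∀ a b c : Fin 2, a ≠ b → a ≠ c → b = c := by decide
    have hmem : ∀ x, x ∈ U i → x ∈ zc T → x = 1 ∨ x = v i := by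
      intro x hx hz
      have h2 : ∀ a b : Fin 2, a ≠ b → (a = 0 ∧ b = 1) ∨ (a = 1 ∧ b = 0) := by decide
      have hj : v j ∉ U i := fun hc => D.ne j (by
        have h3 : v j ∈ U i ⊓ U j := ⟨hc, D.mem j⟩
        rwa [D.inf i j hij, mem_bot] at h3)
      rcases h2 i j hij with ⟨rfl, rfl⟩ | ⟨rfl, rfl⟩
      · rcases (D.zT x).1 hz with rfl | rfl | rfl | rfl
        · exact Or.inl rfl
        · exact Or.inr rfl
        · exact absurd hx hj
        · refine absurd ?_ hj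
          have := mul_mem (inv_mem (D.mem 0)) hx
          rwa [inv_mul_cancel_left] at this
      · rcases (D.zT x).1 hz with rfl | rfl | rfl | rfl
        · exact Or.inl rfl
        · exact absurd hx hj
        · exact Or.inr rfl
        · refine absurd ?_ hj
          have := mul_mem hx (inv_mem (D.mem 1))
          rwa [mul_inv_cancel_right] at this
    have hNT : X ⊓ normalizer (T : Set G) ≤ centralizer ({v i} : Set G) := by
      rintro x ⟨hx, hxT⟩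
      have h3 : x * v i * x⁻¹ ∈ U i := (mem_normalizer_iff.1 hx.1.1 _).1 (D.mem i)
      have h4 : v i ∈ zc T := (D.zT _).2 (by
        have h2 : ∀ a : Fin 2, a = 0 ∨ a = 1 := by decide
        rcases h2 i with rfl | rfl <;> simp)
      have h5 : x * v i * x⁻¹ ∈ zc T :=
        (mem_normalizer_iff.1 (MinSimple.VModule.normalizer_le_normalizer_zc T hxT) _).1 h4
      rcases hmem _ h3 h5 with h6 | h6
      · exact absurd (conj_eq_one_iff.1 h6) (D.ne i)
      · rw [mem_centralizer_singleton_iff]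
        exact mul_inv_eq_iff_eq_mul.1 h6
    by_contra hcon
    push Not at hcon
    have hall : X ≤ centralizer ({v i} : Set G) := by
      refine MinSimple.MinParabolic.le_of_forall hTX hNT fun R hR hRX => ?_
      refine hcon R hR (fun a => ?_) fun a ha => ?_
      · by_cases hai : i = a
        · rw [← hai]
          exact hRX.trans (inf_le_left.trans inf_le_left)
        · rw [huniq i a j hai hij]
          exact hRX.trans (inf_le_left.trans inf_le_right)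
      · rw [huniq i a j ha hij]
        exact hRX.trans inf_le_right
    obtain ⟨x, hx, hx1, hxv⟩ : ∃ x ∈ U i, x ≠ 1 ∧ x ≠ v i := by
      by_contra hc
      push Not at hc
      have h3 : (U i : Set G) ⊆ {1, v i} := by
        intro y hy
        by_cases hy1 : y = 1
        · exact Or.inl hy1
        · exact Or.inr (hc y hy hy1)
      have h4 := Set.ncard_le_ncard h3 (Set.toFinite _)
      have h5 := Set.ncard_insert_le (1 : G) {v i}
      rw [Set.ncard_singleton] at h5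
      have h6 : Set.ncard (U i : Set G) = Nat.card (U i) := rfl
      rw [D.four i] at h6
      omega
    obtain ⟨l, hlP, hlc, hlU, hl⟩ := D.tr i j hij x hx hx1
    have hlX : l ∈ X := by
      refine mem_inf.2 ⟨mem_inf.2 ⟨mem_normalizer_iff_cj.2 hlU, ?_⟩, ?_⟩
      · exact centralizer_le_normalizer _ hlc
      · rw [mem_centralizer_singleton_iff]
        exact (mem_centralizer_iff.1 hlc _ (D.mem j)).symm
    have h3 := mem_centralizer_singleton_iff.1 (hall hlX)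
    apply hxv
    rw [← hl, h3]
    group
  choose R hR hRN hRC hRm using key
  exact ⟨R,
    { char2 := D.hyp.ctx.char2
      four := D.four
      sqV := fun i x hx => by rw [pow_two]; exact D.sq (D.le i hx)
      mem := D.mem
      ne := D.ne
      zT := D.zT
      syl := D.syl
      sylN := D.sylN
      par := hR
      PC := fun i j hij => hRC i j hij
      PN := fun i j => hRN i j
      mv := hRm
      noff := fun i j g g' h1 h2 => D.lift i j g g' h1 h2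
      uni := uni
      nonloc := nonloc }⟩

/-- **`TC.Fr` from `Bg`**, at every level: the extra inputs are `uni` and the nonlocal case. -/
theorem exists_fr [Finite G] {S : Sylow 2 G} {P B ZJ : Subgroup G} {L W Z C : Fin 2 → Subgroup G}
    (h : Bg S P B ZJ L W Z C 2)
    (uni : ∀ i j, i ≠ j → ∀ R : Subgroup G, IsMinPar ((S : Subgroup G) ⊓ normalizer (Z 0 : Set G)) R →
      R ≤ normalizer (Z j : Set G) → ¬ R ≤ normalizer (Z i : Set G) → R ≤ normalizer (W i : Set G))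
    (nonloc : NonLoc (normalizer (Z 0 : Set G)) (normalizer (Z 1 : Set G))) :
    ∃ (v : Fin 2 → G) (R : Fin 2 → Subgroup G), (∀ i, ∀ x, x ∈ Z i ↔ x = 1 ∨ x = v i) ∧
      KTwo.Sit S P ((S : Subgroup G) ⊓ normalizer (Z 0 : Set G)) W v ∧
      Fr ((S : Subgroup G) ⊓ normalizer (Z 0 : Set G)) W R v := by
  obtain ⟨v, hv1, hv, D⟩ := exists_sit h
  have hN : ∀ i, normalizer (Z i : Set G) = centralizer ({v i} : Set G) := fun i => normalizer_eq (hv i) (hv1 i)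
  obtain ⟨R, hR⟩ := fr_of_sit D (fun i j hij R hR h1 h2 => uni i j hij R hR (by rwa [hN j]) (by rwa [hN i]))
    (by rw [← hN 0, ← hN 1]; exact nonloc)
  exact ⟨v, R, hv, D, hR⟩

end Cfsg.Agent.Omega.TC.OfBg

end

section


/-!
# NO-3S, `V_P` a sum of `k ≥ 2` natural modules: supply of the fields of STEP F, `O₂(H₁/F₁) = 1`

* `Bs.stepF` : `StepF.Hyp S s (Z i) (W i) (P ⊓ C(C i)) F` from `Bs`, `Pa`, `TI` and the field `cov`;
* `Bs.core` : `R ≤ N_S(Z i)`, `F₁ R` normal in `H₁ = N_G(Z i)` (`F₁ = C_{H₁}(N₁)`) implies `R ≤ F₁`;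
* `Bs.NN_eq` : `N₁ = NN ![Z i, Z j] (Z i) = ⟨Z j ^ H₁⟩`.
-/

set_option autoImplicit false
set_option linter.unusedSectionVars false

namespace Cfsg.Agent.Omega.NO3S.EThree.Frame

open Subgroup Cfsg Cfsg.Agent.ZN.ChoiceBase
open Cfsg.Agent.ZN (jj zj bau zc zl o2)
open Cfsg.Agent.ZN.ChoiceSit (Syl exists_syl syl_conj)
open Cfsg.Agent.Omega.OM Cfsg.Agent.Omega.OM.Uni
open scoped Pointwise

universe u

variable {G : Type u} [Group G]

namespace Bs

section A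

variable [Finite G] {S : Sylow 2 G} {P : Subgroup G} {ι : Type} {L W Z C A : ι → Subgroup G} {q m : ℕ}
  (h : Bs S P L W Z C A q m) {i j : ι} {s : G} (p : Pa (S : Subgroup G) W i j s)
include h p

theorem s_sq : s * s ∈ normalizer (Z i : Set G) := by
  rw [mem_normalizer_iff_cj, ← cj_cj, h.cj_s_Z p, h.cj_s_Z' p]

/-- `k Z i ≤ W i` implies `k Z i = l Z i` with `l ∈ P ∩ C(C i)` (from TI). -/
theorem pts (hTI : TI (Z i)) {k : G} (hk : cj k (Z i) ≤ W i) :
    ∃ l ∈ P, l ∈ centralizer (C i : Set G) ∧ cj l (Z i) = cj k (Z i) := by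
  obtain ⟨z, hz, hz1⟩ : ∃ x ∈ Z i, x ≠ 1 := by
    by_contra hcon
    push Not at hcon
    exact h.Z_ne i ((eq_bot_iff_forall _).2 hcon)
  have hx : k * z * k⁻¹ ∈ cj k (Z i) := ⟨z, hz, rfl⟩
  have hx1 : k * z * k⁻¹ ≠ 1 := fun e => hz1 (conj_eq_one_iff.1 e)
  obtain ⟨l, hl, hlc, y, hy, e⟩ := h.tr i _ (hk hx) hx1
  have h1 : cj (l⁻¹ * k) (Z i) = Z i := by
    apply hTI
    intro hbot
    have h2 : y ∈ cj (l⁻¹ * k) (Z i) ⊓ Z i := by
      refine mem_inf.2 ⟨?_, hy⟩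
      rw [mem_cj]
      have e1 : (l⁻¹ * k)⁻¹ * y * (l⁻¹ * k) = k⁻¹ * (l * y * l⁻¹) * k := by group
      have e2 : k⁻¹ * (k * z * k⁻¹) * k = z := by group
      rw [e1, e, e2]
      exact hz
    rw [hbot, mem_bot] at h2
    rw [h2, mul_one, mul_inv_cancel] at e
    exact hx1 e.symm
  refine ⟨l, hl, hlc, ?_⟩
  have h2 := congrArg (cj l) h1
  rw [cj_cj, mul_inv_cancel_left] at h2
  exact h2.symm

/-- **The hypotheses of STEP F.** -/
theorem stepF [Finite ι] (hTI : TI (Z i)) {F : Subgroup G}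
    (hF : F ≤ normalizer (Z i : Set G) ⊓ normalizer (Z j : Set G))
    (hFn : normalizer (Z i : Set G) ≤ normalizer (F : Set G))
    (cov : ∀ x ∈ normalizer (Z i : Set G), ∃ c ∈ normalizer (Z i : Set G),
      ∃ k ∈ closure (((normalizer (Z i : Set G) ⊓ normalizer (StepF.cn s (Z i) : Set G) : Subgroup G) : Set G) ∪
        (StepF.cn s (P ⊓ centralizer (C i : Set G)) : Set G)),
      ∃ σ ∈ (S : Subgroup G), x = c * k ∧ StepF.cn (c * s) (Z i) = StepF.cn σ (Z i) ∧ StepF.cn c (W i) = W i) :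
    StepF.Hyp (S : Subgroup G) s (Z i) (W i) (P ⊓ centralizer (C i : Set G)) F where
  sS := p.mem
  ss := h.s_sq p
  ne := fun e => p.ne (h.Z_inj ((h.cj_s_Z p).symm.trans e)).symm
  ZV := (h.fr.blk i).ZV
  LV := fun l hl => h.fix hl.1 hl.2 i
  pts := fun g hg => by
    obtain ⟨l, hl, hlc, e⟩ := h.pts p hTI hg
    exact ⟨l, ⟨hl, hlc⟩, e.symm⟩
  blk := by
    rintro σ hσ hne l ⟨hl, hlc⟩ v hv
    obtain ⟨τ, hτ⟩ := h.perm_S hσ
    have h1 : τ i ≠ i := fun e => hne (by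
      have := (hτ i).2.1
      rw [e] at this
      exact this)
    have h2 : σ * l * σ⁻¹ ∈ centralizer (C (τ i) : Set G) := by
      rw [← (hτ i).2.2, ← cj_centralizer]
      exact ⟨l, hlc, rfl⟩
    exact (mem_centralizer_iff.1 h2 v (h.fr.WjC _ _ h1 hv)).symm
  FD := by
    have e : StepF.cn s (Z i) = Z j := h.cj_s_Z p
    rw [e]
    exact hF
  Fn := fun x hx f hf => (mem_normalizer_iff.1 (hFn hx) f).1 hf
  cov := cov
  ab := by
    intro σ hσ x hx a ha b hb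
    have e : StepF.cn s (Z i) = Z j := h.cj_s_Z p
    rw [e] at hx
    have h1 := h.comm j (one_mem _) hx
    rw [cj_one] at h1
    have hσV : σ * a * σ⁻¹ ∈ zl (S : Subgroup G) P := by
      have h2 : σ ∈ normalizer (zl (S : Subgroup G) P : Set G) :=
        MinSimple.VModule.le_normalizer_zl _ _ (h.hyp.star.isLoc.le hσ)
      exact (mem_normalizer_iff.1 h2 a).1 (h.fr.ZV i ha)
    have hxV : x * b * x⁻¹ ∈ cj x (zl (S : Subgroup G) P) := ⟨b, h.fr.ZV i hb, rfl⟩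
    exact (mem_centralizer_iff.1 (h1 hσV) _ hxV).symm

/-- `N₁ = ⟨Z j ^ N(Z i)⟩`. -/
theorem NN_eq : PG.NN ![Z i, Z j] (Z i) = ⨆ k : normalizer (Z i : Set G), cj (k : G) (Z j) := by
  apply le_antisymm
  · refine sSup_le ?_
    rintro u ⟨k, hk, rfl⟩
    have hk' : k ∈ normalizer (Z i : Set G) := mem_normalizer_iff_cj.2 hk.symm
    exact le_iSup (fun k : normalizer (Z i : Set G) => cj (k : G) (Z j)) ⟨k, hk'⟩
  · refine iSup_le fun k => le_sSup ⟨k, ?_, rfl⟩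
    exact (mem_normalizer_iff_cj.1 k.2).symm

/-- **`O₂(H₁ / F₁) = 1`.** -/
theorem core [Finite ι] {R : Subgroup G} (hR : R ≤ (S : Subgroup G) ⊓ normalizer (Z i : Set G))
    (hn : normalizer (Z i : Set G) ≤ normalizer ((PG.FF ![Z i, Z j] (Z i) ⊔ R : Subgroup G) : Set G)) :
    R ≤ PG.FF ![Z i, Z j] (Z i) := by
  have : Fact (Nat.Prime 2) := ⟨Nat.prime_two⟩
  set H : Subgroup G := normalizer (Z i : Set G) with hH
  set N : Subgroup G := PG.NN ![Z i, Z j] (Z i) with hN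
  set F : Subgroup G := PG.FF ![Z i, Z j] (Z i) with hF
  set T : Subgroup G := (S : Subgroup G) ⊓ H with hT
  set M : Subgroup G := F ⊔ R with hM
  have hFH : F ≤ H := inf_le_left
  have hMH : M ≤ H := sup_le hFH (hR.trans inf_le_right)
  have hFn : H ≤ normalizer (F : Set G) := PG.PP.HH_le_FF (Z i)
  have hNn : H ≤ normalizer (N : Set G) := PG.PP.HH_le_NN (Z i)
  set R₀ : Subgroup G := T ⊓ M with hR₀
  have hSylT : Syl T H := h.syl i
  -- `R₀` is Sylow in `M`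
  have hSyl : Syl R₀ M := by
    refine ⟨inf_le_right, hSylT.2.1.to_le inf_le_left, fun Q hQ h2 hle => ?_⟩
    obtain ⟨Q', hQ', hQQ'⟩ := exists_syl h2 (hQ.trans hMH)
    obtain ⟨x, hx, e⟩ := syl_conj hSylT hQ'
    have h1 : Q ≤ cj x R₀ := by
      rw [hR₀, cj_inf, e, cj_eq_of_mem_normalizer (hn hx)]
      exact le_inf hQQ' hQ
    symm
    exact Subgroup.eq_of_le_of_card_ge hle ((Subgroup.card_le_of_le h1).trans (card_cj _ _).le)
  -- Frattini
  have hfr : ∀ x ∈ H, ∃ f ∈ F, ∃ n ∈ H, n ∈ normalizer (R₀ : Set G) ∧ x = f * n := by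
    intro x hx
    have h1 : Syl (cj x R₀) M := by
      refine ⟨?_, isPGroup_cj x hSyl.2.1, fun Q hQ h2 hle => ?_⟩
      · have := cj_mono x hSyl.1
        rwa [cj_eq_of_mem_normalizer (hn hx)] at this
      · have h3 := cj_mono x⁻¹ hQ
        rw [cj_eq_of_mem_normalizer (hn (inv_mem hx))] at h3
        have h4 := hSyl.2.2 (cj x⁻¹ Q) h3 (isPGroup_cj _ h2) (cj_le_iff.1 hle)
        rw [← h4, cj_cj_inv]
    obtain ⟨y, hy, e⟩ := syl_conj hSyl h1
    -- `y = f r`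
    have hRF : R ≤ normalizer (F : Set G) := (hR.trans inf_le_right).trans hFn
    have hy' : y ∈ ((F ⊔ R : Subgroup G) : Set G) := hy
    rw [Subgroup.coe_mul_of_right_le_normalizer_left _ _ hRF, Set.mem_mul] at hy'
    obtain ⟨f, hf, r, hr, rfl⟩ := hy'
    have hr0 : r ∈ R₀ := ⟨hR hr, mem_sup_right hr⟩
    refine ⟨f, hf, f⁻¹ * x, mul_mem (inv_mem (hFH hf)) hx, ?_, by group⟩
    rw [mem_normalizer_iff_cj, ← cj_cj, ← e, cj_cj, inv_mul_cancel_left,
      cj_eq_of_mem_normalizer (Subgroup.le_normalizer hr0)]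
  -- `E = C_N(R₀)` is normalised by `H`
  set E : Subgroup G := N ⊓ centralizer (R₀ : Set G) with hE
  have hEn : H ≤ normalizer (E : Set G) := by
    intro x hx
    obtain ⟨f, hf, n, hnH, hnR, rfl⟩ := hfr x hx
    refine mul_mem ?_ ?_
    · refine centralizer_le_normalizer _ (centralizer_le ?_ hf.2)
      exact_mod_cast (inf_le_left : E ≤ N)
    · rw [mem_normalizer_iff_cj, hE, cj_inf, cj_centralizer, cj_eq_of_mem_normalizer (hNn hnH),
        cj_eq_of_mem_normalizer hnR]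
  have hZN : Z j ≤ N := by
    rw [hN, h.NN_eq p]
    have := le_iSup (fun k : normalizer (Z i : Set G) => cj (k : G) (Z j)) 1
    rwa [OneMemClass.coe_one, cj_one] at this
  -- `Z j ∩ E ≠ 1`
  have h1 : Z j ⊓ E ≠ ⊥ := by
    have h2 := PLocal.OffenderStep.inf_centralizer_ne_bot (Z j) T (h.Z_two j) hSylT.2.1
      ((h.T_le p).trans inf_le_right) (h.Z_ne j)
    intro hbot
    apply h2
    rw [eq_bot_iff, ← hbot]
    refine le_inf inf_le_left (le_inf (inf_le_left.trans hZN) (inf_le_right.trans (centralizer_le ?_)))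
    exact_mod_cast (inf_le_left : R₀ ≤ T)
  have h2 : Z j ≤ E := by
    refine le_trans ((h.toIn j).irr _ inf_le_left ?_ h1) inf_le_right
    intro x hx
    have hxH : x ∈ H := h.L_norm p.ne.symm hx.1
    rw [mem_normalizer_iff_cj, cj_inf, cj_eq_of_mem_normalizer ((h.toIn j).NN hx),
      cj_eq_of_mem_normalizer (hEn hxH)]
  have h3 : N ≤ E := by
    rw [hN, h.NN_eq p]
    refine iSup_le fun k => ?_
    have := cj_mono (k : G) h2
    rwa [cj_eq_of_mem_normalizer (hEn k.2)] at this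
  intro r hr
  refine ⟨(hR hr).2, ?_⟩
  have h4 : R₀ ≤ centralizer (N : Set G) := by
    rw [le_centralizer_iff]
    exact h3.trans inf_le_right
  exact h4 ⟨hR hr, mem_sup_right hr⟩

end A

end Bs

end Cfsg.Agent.Omega.NO3S.EThree.Frame

end

section


/-!
# NO-3S, `k ≥ 2` natural modules, the frame over `(B, ZJ)`: `N_G(B)` permutes the `W i`, supply of STEP F, `O₂(H₁/F₁) = 1`

`Scal.lean` and `FrameB.lean` over `Bg`:

* `Bg.le_of_triv` : an element of `N_G(V_P)` which is trivial on `ZJ` and `V_P / ZJ` lies in `B C_G(V_P)`;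
* `Bg.cj_W`, `Bg.perm_W` : `N_G(B)` permutes the `W i` (all `q`);
* `Bg.norm_W_of_two` : a 2-group over `B` which normalises `Z i` normalises `W i`;
* `Bg.stepF`, `Bg.NN_eq`, `Bg.core`.
-/

set_option autoImplicit false
set_option linter.unusedSectionVars false

namespace Cfsg.Agent.Omega.NO3S.EThree.Frame

open Subgroup Cfsg Cfsg.Agent.ZN.ChoiceBase
open Cfsg.Agent.ZN (jj zj bau zc zl o2)
open Cfsg.Agent.ZN.ChoiceSit (Syl exists_syl syl_conj)
open Cfsg.Agent.Omega.OM Cfsg.Agent.Omega.OM.Uni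
open scoped Pointwise

universe u

variable {G : Type u} [Group G]

namespace Bg

section triv

variable [Finite G] {S : Sylow 2 G} {P : Subgroup G} {ι : Type} {B ZJ : Subgroup G}
  {L W Z C : ι → Subgroup G} {q : ℕ} (h : Bg S P B ZJ L W Z C q)
include h

/-- `V_P` is centralised modulo... : an element of `N_G(V_P)` trivial on `Z_J` and on `V_P / Z_J` lies in
`B C_G(V_P)`. -/
theorem le_of_triv {y : G} (hy : y ∈ normalizer (zl (S : Subgroup G) P : Set G))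
    (h1 : ∀ z ∈ ZJ, y * z = z * y)
    (h2 : ∀ v ∈ zl (S : Subgroup G) P, y * v * y⁻¹ * v⁻¹ ∈ ZJ) :
    ∃ b ∈ B, ∃ c ∈ centralizer (zl (S : Subgroup G) P : Set G), y = b * c := by
  have : Fact (Nat.Prime 2) := ⟨Nat.prime_two⟩
  set V : Subgroup G := zl (S : Subgroup G) P with hV
  have hsq : ∀ v ∈ V, v * v = 1 := fun v hv => by
    have := SQ1.Bau.elem_sq h.fr.el v hv
    rwa [pow_two] at this
  have hZV : ZJ ≤ V := h.fr.ZJV
  -- the group of these elements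
  let Y : Subgroup G :=
    { carrier := {y | y ∈ normalizer (V : Set G) ∧ (∀ z ∈ ZJ, y * z = z * y) ∧ ∀ v ∈ V, y * v * y⁻¹ * v⁻¹ ∈ ZJ}
      one_mem' := ⟨one_mem _, fun z _ => by simp, fun v _ => by simp⟩
      mul_mem' := by
        rintro a b ⟨ha, ha1, ha2⟩ ⟨hb, hb1, hb2⟩
        refine ⟨mul_mem ha hb, fun z hz => by rw [mul_assoc, hb1 z hz, ← mul_assoc, ha1 z hz, mul_assoc],
          fun v hv => ?_⟩
        have e : a * b * v * (a * b)⁻¹ * v⁻¹ = a * (b * v * b⁻¹ * v⁻¹) * a⁻¹ * (a * v * a⁻¹ * v⁻¹) := by group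
        rw [e]
        refine mul_mem ?_ (ha2 v hv)
        rw [ha1 _ (hb2 v hv), mul_inv_cancel_right]
        exact hb2 v hv
      inv_mem' := by
        rintro a ⟨ha, ha1, ha2⟩
        have hi : ∀ z ∈ ZJ, a⁻¹ * z = z * a⁻¹ := fun z hz => by
          rw [inv_mul_eq_iff_eq_mul, ← mul_assoc, ha1 z hz, mul_inv_cancel_right]
        refine ⟨inv_mem ha, hi, fun v hv => ?_⟩
        have e : a⁻¹ * v * a⁻¹⁻¹ * v⁻¹ = a⁻¹ * (a * v * a⁻¹ * v⁻¹)⁻¹ * a := by group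
        rw [e, hi _ (inv_mem (ha2 v hv)), inv_mul_cancel_right]
        exact inv_mem (ha2 v hv) }
  have hyY : y ∈ Y := ⟨hy, h1, h2⟩
  -- squares centralise `V`
  have hYsq : ∀ y ∈ Y, y * y ∈ centralizer (V : Set G) := by
    rintro y ⟨hy, h1, h2⟩
    rw [mem_centralizer_iff]
    intro v hv
    have hz := h2 v hv
    set z := y * v * y⁻¹ * v⁻¹ with hzd
    have e1 : y * v * y⁻¹ = z * v := by rw [hzd]; group
    have e2 : y * (y * v * y⁻¹) * y⁻¹ = v := by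
      rw [e1]
      have : y * (z * v) * y⁻¹ = (y * z) * y⁻¹ * (y * v * y⁻¹) := by group
      rw [this, e1, h1 z hz, mul_inv_cancel_right, ← mul_assoc, hsq z (hZV hz), one_mul]
    calc v * (y * y) = (y * (y * v * y⁻¹) * y⁻¹) * (y * y) := by rw [e2]
      _ = y * y * v := by group
  -- `S` normalises `Y`
  have hSV : (S : Subgroup G) ≤ normalizer (V : Set G) :=
    h.hyp.star.isLoc.le.trans (MinSimple.VModule.le_normalizer_zl _ _)
  have hSZ : (S : Subgroup G) ≤ normalizer (ZJ : Set G) := h.SZJ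
  have hconj : ∀ s ∈ (S : Subgroup G), ∀ y ∈ Y, s * y * s⁻¹ ∈ Y := by
    rintro s hs y ⟨hy, h1, h2⟩
    have hsV : ∀ v ∈ V, s⁻¹ * v * s ∈ V := fun v hv => by
      have := (mem_normalizer_iff.1 (inv_mem (hSV hs)) v).1 hv
      rwa [inv_inv] at this
    have hsZ : ∀ v ∈ ZJ, s⁻¹ * v * s ∈ ZJ := fun v hv => by
      have := (mem_normalizer_iff.1 (inv_mem (hSZ hs)) v).1 hv
      rwa [inv_inv] at this
    refine ⟨mul_mem (mul_mem (hSV hs) hy) (inv_mem (hSV hs)), fun z hz => ?_, fun v hv => ?_⟩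
    · have h3 := h1 _ (hsZ z hz)
      calc s * y * s⁻¹ * z = s * (y * (s⁻¹ * z * s)) * s⁻¹ := by group
        _ = s * ((s⁻¹ * z * s) * y) * s⁻¹ := by rw [h3]
        _ = z * (s * y * s⁻¹) := by group
    · have h3 := h2 _ (hsV v hv)
      have e : s * y * s⁻¹ * v * (s * y * s⁻¹)⁻¹ * v⁻¹ =
          s * (y * (s⁻¹ * v * s) * y⁻¹ * (s⁻¹ * v * s)⁻¹) * s⁻¹ := by group
      rw [e]
      exact (mem_normalizer_iff.1 (hSZ hs) _).1 h3
  have hSY : (S : Subgroup G) ≤ normalizer (Y : Set G) := by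
    intro s hs
    rw [mem_normalizer_iff]
    refine fun y => ⟨hconj s hs y, fun hy => ?_⟩
    have := hconj s⁻¹ (inv_mem hs) _ hy
    have e : s⁻¹ * (s * y * s⁻¹) * s⁻¹⁻¹ = y := by group
    rwa [e] at this
  -- the images in `N(V) / C(V)`
  set N : Subgroup G := normalizer (V : Set G) with hN
  set K : Subgroup G := centralizer (V : Set G) with hK
  have hKN : K ≤ N := centralizer_le_normalizer _
  have hYN : Y ≤ N := fun y hy => hy.1
  have hnor : (K.subgroupOf N).Normal := by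
    refine ⟨fun x hx g => ?_⟩
    rw [mem_subgroupOf] at hx ⊢
    have h3 : N ≤ normalizer (K : Set G) := Dich.norm_cent
    exact (mem_normalizer_iff.1 (h3 g.2) _).1 hx
  let φ : N →* N ⧸ K.subgroupOf N := QuotientGroup.mk' _
  have h3 : IsPGroup 2 (((S : Subgroup G).subgroupOf N).map φ) := by
    refine IsPGroup.map ?_ φ
    exact S.isPGroup'.comap_subtype
  have h4 : IsPGroup 2 ((Y.subgroupOf N).map φ) := by
    rintro ⟨x, hx⟩
    obtain ⟨y, hy, rfl⟩ := hx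
    refine ⟨1, Subtype.ext ?_⟩
    rw [pow_one]
    change φ y ^ 2 = 1
    rw [← map_pow, pow_two]
    change (QuotientGroup.mk' _) (y * y) = 1
    rw [QuotientGroup.mk'_apply, QuotientGroup.eq_one_iff, mem_subgroupOf]
    exact hYsq _ hy
  have hle : ((S : Subgroup G).subgroupOf N).map φ ≤ normalizer (((Y.subgroupOf N).map φ : Subgroup _) : Set _) := by
    rintro _ ⟨s, hs, rfl⟩
    rw [mem_normalizer_iff]
    have key : ∀ s : N, (s : G) ∈ (S : Subgroup G) → ∀ x ∈ (Y.subgroupOf N).map φ, φ s * x * (φ s)⁻¹ ∈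
        (Y.subgroupOf N).map φ := by
      rintro s hs _ ⟨y, hy, rfl⟩
      refine ⟨s * y * s⁻¹, ?_, by rw [map_mul, map_mul, map_inv]⟩
      exact hconj s hs y hy
    refine fun x => ⟨key s hs x, fun hx => ?_⟩
    have := key s⁻¹ (inv_mem hs) _ hx
    rw [map_inv] at this
    have e : (φ s)⁻¹ * (φ s * x * (φ s)⁻¹) * (φ s)⁻¹⁻¹ = x := by group
    rwa [e] at this
  have h5 : IsPGroup 2 (((S : Subgroup G).subgroupOf N).map φ ⊔ (Y.subgroupOf N).map φ : Subgroup _) :=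
    IsPGroup.to_sup_of_normal_right' h3 h4 hle
  -- the image of `S` is a Sylow subgroup
  have hmax : ∀ R : Subgroup (N ⧸ K.subgroupOf N), IsPGroup 2 R → ((S : Subgroup G).subgroupOf N).map φ ≤ R →
      R = ((S : Subgroup G).subgroupOf N).map φ := by
    intro R hR hle
    have h6 : ¬ 2 ∣ (((S : Subgroup G).subgroupOf N).map φ).index := by
      intro hd
      have h7 : (((S : Subgroup G).subgroupOf N).map φ).index ∣ ((S : Subgroup G).subgroupOf N).index :=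
        Subgroup.index_map_dvd _ (QuotientGroup.mk'_surjective _)
      have h8 := Cfsg.Agent.ZN.ChoiceSit.syl_not_dvd (T := (S : Subgroup G)) (X := N)
        ⟨hSV, S.isPGroup', fun _ _ hT hST => S.is_maximal' hT hST⟩
      exact h8 (hd.trans h7)
    symm
    refine le_antisymm hle ?_
    have h7 : (((S : Subgroup G).subgroupOf N).map φ).relIndex R ∣ (((S : Subgroup G).subgroupOf N).map φ).index :=
      Subgroup.relIndex_dvd_index_of_le hle
    obtain ⟨n, hn⟩ := IsPGroup.iff_card.1 hR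
    have h8 : (((S : Subgroup G).subgroupOf N).map φ).relIndex R ∣ 2 ^ n := hn ▸ Subgroup.relIndex_dvd_card _ _
    obtain ⟨a, -, ha⟩ := (Nat.dvd_prime_pow Nat.prime_two).1 h8
    rcases Nat.eq_zero_or_pos a with rfl | ha0
    · rw [pow_zero] at ha
      exact relIndex_eq_one.1 ha
    · exact absurd ((dvd_pow_self 2 ha0.ne').trans (ha ▸ h7)) h6
  have h6 := hmax _ h5 le_sup_left
  have h7 : φ ⟨y, hy⟩ ∈ ((S : Subgroup G).subgroupOf N).map φ := by
    rw [← h6]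
    exact mem_sup_right ⟨⟨y, hy⟩, hyY, rfl⟩
  obtain ⟨s, hs, e⟩ := h7
  have h8 : (s : G)⁻¹ * y ∈ K := by
    have e' : (QuotientGroup.mk' (K.subgroupOf N)) s = (QuotientGroup.mk' (K.subgroupOf N)) ⟨y, hy⟩ := e
    rw [QuotientGroup.mk'_apply, QuotientGroup.mk'_apply, QuotientGroup.eq, mem_subgroupOf] at e'
    exact e'
  refine ⟨s, h.mem_B hs fun z hz => ?_, (s : G)⁻¹ * y, h8, by group⟩
  -- `s = y c⁻¹` centralises `Z_J`
  have h9 : ((s : G)⁻¹ * y) * z = z * ((s : G)⁻¹ * y) := (mem_centralizer_iff.1 h8 z (hZV hz)).symm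
  have h10 := h1 z hz
  symm
  calc z * (s : G) = s * ((s : G)⁻¹ * z * s) := by group
    _ = s * ((s : G)⁻¹ * (z * y) * y⁻¹ * s) := by group
    _ = s * ((s : G)⁻¹ * (y * z) * y⁻¹ * s) := by rw [h10]
    _ = s * (((s : G)⁻¹ * y) * z * y⁻¹ * s) := by group
    _ = s * (z * ((s : G)⁻¹ * y) * y⁻¹ * s) := by rw [h9]
    _ = (s : G) * z := by group

end triv

section perm

variable [Finite G] {S : Sylow 2 G} {P : Subgroup G} {ι : Type} {B ZJ : Subgroup G}
  {L W Z C : ι → Subgroup G} {q : ℕ} (h : Bg S P B ZJ L W Z C q)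
include h

/-- `Z_J ∩ C i` is generated by the other `Z j`. -/
theorem ZC_le [Finite ι] (i : ι) : ZJ ⊓ C i ≤ ⨆ j : {j : ι // j ≠ i}, Z j := by
  classical
  have := Fintype.ofFinite ι
  rintro v ⟨hvJ, hv⟩
  have hle : (⨆ j : {j : ι // j ≠ i}, Z j) ≤ ZJ ⊓ C i :=
    iSup_le fun j => le_inf (h.fr.Z_le j) ((h.fr.blk j).ZV.trans (h.fr.WjC i j j.2.symm))
  have key : ∀ s : Finset ι, i ∉ s → ∃ u ∈ ⨆ j : {j : ι // j ≠ i}, Z j, ∀ j ∈ s, u⁻¹ * v ∈ C j := by
    intro s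
    induction s using Finset.induction_on with
    | empty => exact fun _ => ⟨1, one_mem _, by simp⟩
    | insert j s hj ih =>
      intro hi
      have hji : j ≠ i := fun e => hi (e ▸ Finset.mem_insert_self _ _)
      obtain ⟨u, hu, h1⟩ := ih fun e => hi (Finset.mem_insert_of_mem e)
      obtain ⟨w, hw, c, hc, -, e⟩ := h.fr.split_ZJ j (mul_mem (inv_mem (hle hu).1) hvJ)
      refine ⟨u * w, mul_mem hu (mem_iSup_of_mem (⟨j, hji⟩ : {j : ι // j ≠ i}) hw), fun l hl => ?_⟩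
      have e1 : (u * w)⁻¹ * v = w⁻¹ * (u⁻¹ * v) := by group
      rw [e1]
      rcases Finset.mem_insert.1 hl with rfl | hl
      · rw [e]
        have : w⁻¹ * (w * c) = c := by group
        rwa [this]
      · have hlj : l ≠ j := fun e => hj (e ▸ hl)
        exact mul_mem (inv_mem (h.fr.WjC l j hlj ((h.fr.blk j).ZV hw))) (h1 l hl)
  obtain ⟨u, hu, h1⟩ := key (Finset.univ.erase i) (Finset.notMem_erase _ _)
  have h2 : u⁻¹ * v = 1 := by
    refine h.fr.C0 _ (mul_mem (inv_mem (h.fr.CV i (hle hu).2)) (h.fr.CV i hv)) fun j => ?_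
    by_cases hj : j = i
    · subst hj
      exact mul_mem (inv_mem (hle hu).2) hv
    · exact h1 j (Finset.mem_erase.2 ⟨hj, Finset.mem_univ _⟩)
  rw [← inv_mul_eq_one.1 h2]
  exact hu

theorem cj_inv_eq {g : G} {X Y : Subgroup G} (e : cj g X = Y) : cj g⁻¹ Y = X := by
  rw [← e, cj_inv_cj]

/-- the permutation of the `Z i` induced by `g ∈ N_G(B)` and by `g⁻¹` -/
theorem norm_inv [Finite ι] {g : G} (hg : g ∈ normalizer (B : Set G)) {i j : ι}
    (e : cj g (Z i) = Z j) : cj g (W i) ≤ W j ⊔ ZJ ∧ cj g⁻¹ (W j) ≤ W i ⊔ ZJ := by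
  have key : ∀ g ∈ normalizer (B : Set G), ∀ i j, cj g (Z i) = Z j →
      cj g (W i) ≤ W j ⊔ ZJ := by
    intro g hg i j e
    obtain ⟨j', h1, h2⟩ := (h.norm hg).2 i
    rw [e] at h1
    rwa [← h.Z_inj h1] at h2
  exact ⟨key g hg i j e, key g⁻¹ (inv_mem hg) j i (by rw [← e, cj_inv_cj])⟩

/-- `v ∈ W i`, `v ∉ Z i` is not in `Z_J`. -/
theorem not_zj {i : ι} {v : G} (hv : v ∈ W i) (hvZ : v ∉ Z i) : v ∉ ZJ := fun hJ =>
  hvZ ((h.fr.blk i).toMd.mem_Z_iff.2 ⟨hv, ((h.fr.mem_ZJ v).1 hJ).2⟩)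

/-- elements of `V_P` with the same commutators with `B` are congruent mod `Z_J` -/
theorem eq_mod {v w : G} (hv : v ∈ zl (S : Subgroup G) P) (hw : w ∈ zl (S : Subgroup G) P)
    (e : ∀ b ∈ B, b * v * b⁻¹ * v⁻¹ = b * w * b⁻¹ * w⁻¹) : w⁻¹ * v ∈ ZJ := by
  refine (h.fr.mem_ZJ _).2 ⟨mul_mem (inv_mem hw) hv, fun b hb => ?_⟩
  have hbw : b * w * b⁻¹ ∈ zl (S : Subgroup G) P := (mem_normalizer_iff.1 (h.bau_norm hb) w).1 hw
  have e1 := e b hb
  have e2 : b * v * b⁻¹ = b * w * b⁻¹ * w⁻¹ * v := by rw [← e1]; group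
  have e3 : b * (w⁻¹ * v) * b⁻¹ = (b * w * b⁻¹)⁻¹ * (b * v * b⁻¹) := by group
  have e4 : b * (w⁻¹ * v) * b⁻¹ = w⁻¹ * v := by
    rw [e3, e2]; group
  calc b * (w⁻¹ * v) = b * (w⁻¹ * v) * b⁻¹ * b := by group
    _ = w⁻¹ * v * b := by rw [e4]

/-- commutators with `B` do not change mod `Z_J` -/
theorem comm_mul {v z b : G} (hz : z ∈ ZJ) (hb : b ∈ B) :
    b * (v * z) * b⁻¹ * (v * z)⁻¹ = b * v * b⁻¹ * v⁻¹ := by
  have h1 : b * z = z * b := ((h.fr.mem_ZJ z).1 hz).2 b hb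
  calc b * (v * z) * b⁻¹ * (v * z)⁻¹ = b * v * (z * b⁻¹) * z⁻¹ * v⁻¹ := by group
    _ = b * v * (b⁻¹ * (b * z) * b⁻¹) * z⁻¹ * v⁻¹ := by group
    _ = b * v * (b⁻¹ * (z * b) * b⁻¹) * z⁻¹ * v⁻¹ := by rw [h1]
    _ = b * v * b⁻¹ * v⁻¹ := by group

/-- **`q ≥ 3`**: `g ∈ N_G(B)`, `g Z_i = Z_j` implies `g W_i = W_j`. -/
theorem cj_W_of_three [Finite ι] (hq : 2 < q) (hs : ∀ i, ScalG B P W Z C i) {n : G}
    (hn : n ∈ normalizer (B : Set G)) {i j : ι} (e : cj n (Z i) = Z j) : cj n (W i) = W j := by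
  classical
  set V : Subgroup G := zl (S : Subgroup G) P with hV
  obtain ⟨hnW, hnW'⟩ := h.norm_inv hn e
  have hnV : cj n V = V := (h.norm hn).1
  have hnJ : cj n ZJ = ZJ := mem_normalizer_iff_cj.1 (h.norm_ZJ hn)
  have hnB : ∀ b ∈ B, n⁻¹ * b * n ∈ B := fun b hb => (mem_normalizer_iff''.1 hn b).1 hb
  have hnJ' : ∀ z ∈ ZJ, n * z * n⁻¹ ∈ ZJ := fun z hz => hnJ ▸ ⟨z, hz, rfl⟩
  have hnV' : ∀ z ∈ V, n * z * n⁻¹ ∈ V := fun z hz => hnV ▸ ⟨z, hz, rfl⟩
  have hZV : ZJ ≤ V := h.fr.ZJV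
  have hWV : ∀ i, W i ≤ V := h.fr.WV
  have hVc : ∀ x ∈ V, ∀ y ∈ V, x * y = y * x := fun x hx y hy => h.fr.Vc hx hy
  -- elements of `n W_i`
  have hdec : ∀ w ∈ W i, ∃ w' ∈ W j, ∃ z ∈ ZJ, n * w * n⁻¹ = w' * z := by
    intro w hw
    exact SQ1.Bau.mem_sup_comm (fun a ha b hb => hVc a (hWV j ha) b (hZV hb)) (hnW ⟨w, hw, rfl⟩)
  -- two vectors
  obtain ⟨v₀, hv₀, hv₀Z⟩ : ∃ v ∈ W i, v ∉ Z i := by
    by_contra hcon
    push Not at hcon
    have h1 := (h.fr.blk i).card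
    have h2 := Subgroup.card_le_of_le (show W i ≤ Z i from hcon)
    have h3 : 0 < Nat.card (Z i) := Nat.card_pos
    nlinarith [(h.fr.blk i).one]
  obtain ⟨v₀', hv₀', hv₀Z', hvv⟩ : ∃ v ∈ W i, v ∉ Z i ∧ v⁻¹ * v₀ ∉ Z i := by
    by_contra hcon
    push Not at hcon
    -- `W i = Z i ∪ v₀ Z i`
    have h1 := (h.fr.blk i).card
    have h4 : (Z i).relIndex (W i) = q := by
      have h5 := Subgroup.relIndex_mul_relIndex ⊥ (Z i) (W i) bot_le (h.fr.blk i).ZV
      rw [Subgroup.relIndex_bot_left, Subgroup.relIndex_bot_left, h1] at h5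
      exact Nat.eq_of_mul_eq_mul_left Nat.card_pos h5
    have h6 : ∀ x : W i ⧸ (Z i).subgroupOf (W i), x = QuotientGroup.mk 1 ∨ x = QuotientGroup.mk ⟨v₀, hv₀⟩ := by
      intro x
      obtain ⟨⟨y, hy⟩, rfl⟩ := QuotientGroup.mk_surjective x
      by_cases hyZ : y ∈ Z i
      · left
        rw [QuotientGroup.eq, mem_subgroupOf]
        change y⁻¹ * 1 ∈ Z i
        rw [mul_one]; exact inv_mem hyZ
      · right
        rw [QuotientGroup.eq, mem_subgroupOf]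
        exact hcon y hy hyZ
    have h7 : Nat.card (W i ⧸ (Z i).subgroupOf (W i)) ≤ 2 := by
      have hsurj : Function.Surjective (fun t : Fin 2 => if t = 0 then
          (QuotientGroup.mk (1 : W i) : W i ⧸ (Z i).subgroupOf (W i)) else QuotientGroup.mk ⟨v₀, hv₀⟩) := by
        intro x
        rcases h6 x with h6 | h6
        · exact ⟨0, by rw [h6]; rfl⟩
        · exact ⟨1, by rw [h6]; rfl⟩
      have := Nat.card_le_card_of_surjective _ hsurj
      simpa using this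
    rw [Subgroup.relIndex, Subgroup.index_eq_card] at h4
    omega
  obtain ⟨a, haP, haC, haZ, ha1, ha2, -⟩ := (hs i).ex v₀ hv₀ hv₀Z v₀' hv₀' hv₀Z'
  obtain ⟨v, hv, z, hz, e1⟩ := hdec v₀ hv₀
  obtain ⟨v', hv', z', hz', e1'⟩ := hdec v₀' hv₀'
  have hnZJ : ∀ {x : G}, x ∈ W i → x ∉ Z i → n * x * n⁻¹ ∉ ZJ := by
    intro x hx hxZ hxJ
    apply h.not_zj hx hxZ
    have h1 : n * x * n⁻¹ ∈ cj n ZJ := by rw [hnJ]; exact hxJ
    rw [mem_cj] at h1
    have e2 : n⁻¹ * (n * x * n⁻¹) * n = x := by group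
    rwa [e2] at h1
  have hvZ : v ∉ Z j := fun h1 => hnZJ hv₀ hv₀Z (by rw [e1]; exact mul_mem (h.fr.Z_le j h1) hz)
  have hvZ' : v' ∉ Z j := fun h1 => hnZJ hv₀' hv₀Z' (by rw [e1']; exact mul_mem (h.fr.Z_le j h1) hz')
  have hvv' : v'⁻¹ * v ∉ Z j := by
    intro h1
    refine hnZJ (mul_mem (inv_mem hv₀') hv₀) hvv ?_
    have e2 : n * (v₀'⁻¹ * v₀) * n⁻¹ = (n * v₀' * n⁻¹)⁻¹ * (n * v₀ * n⁻¹) := by group
    have e3 : (v' * z')⁻¹ * (v * z) = z'⁻¹ * (v'⁻¹ * v) * z := by group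
    rw [e2, e1, e1', e3]
    exact mul_mem (mul_mem (inv_mem hz') (h.fr.Z_le j h1)) hz
  obtain ⟨a', haP', haC', haZ', ha1', ha2', ha3'⟩ := (hs j).ex v hv hvZ v' hv' hvZ'
  replace ha3' := ha3' hvv'
  -- `N_G(V)`
  have hPV : P ≤ normalizer (V : Set G) := MinSimple.VModule.le_normalizer_zl _ _
  have haV : ∀ x ∈ V, a * x * a⁻¹ ∈ V := fun x hx => (mem_normalizer_iff.1 (hPV haP) x).1 hx
  have haV' : ∀ x ∈ V, a' * x * a'⁻¹ ∈ V := fun x hx => (mem_normalizer_iff.1 (hPV haP') x).1 hx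
  -- `a'` normalises `ZJ`
  have haJ' : cj a' ZJ ≤ ZJ := by
    rintro _ ⟨x, hx, rfl⟩
    obtain ⟨w, hw, c, hc, hcJ, rfl⟩ := h.fr.split_ZJ j hx
    have e2 : a' * (w * c) * a'⁻¹ = (a' * w * a'⁻¹) * c := by
      have := mem_centralizer_iff.1 haC' c hc
      calc a' * (w * c) * a'⁻¹ = a' * w * (c * a'⁻¹) := by group
        _ = a' * w * (a'⁻¹ * (a' * c) * a'⁻¹) := by group
        _ = a' * w * (a'⁻¹ * (c * a') * a'⁻¹) := by rw [this]
        _ = (a' * w * a'⁻¹) * c := by group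
    change a' * (w * c) * a'⁻¹ ∈ ZJ
    rw [e2]
    exact mul_mem (h.fr.Z_le j ((mem_normalizer_iff.1 haZ' w).1 hw)) hcJ
  have haJ'eq : cj a' ZJ = ZJ := Subgroup.eq_of_le_of_card_ge haJ' (by rw [card_cj])
  have haJi' : ∀ x ∈ ZJ, a'⁻¹ * x * a' ∈ ZJ := by
    intro x hx
    have : x ∈ cj a' ZJ := by rw [haJ'eq]; exact hx
    exact mem_cj.1 this
  set t : G := n * a * n⁻¹ with ht
  -- `t` and `a'` centralise `ZJ ∩ C j`
  have htC : ∀ x ∈ ZJ, x ∈ C j → t * x = x * t := by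
    intro x hx hxC
    have h1 : ∀ l : {l : ι // l ≠ j}, Z l ≤ centralizer ({t} : Set G) := by
      rintro ⟨l, hl⟩ x hx
      obtain ⟨l', h2, -⟩ := (h.norm (inv_mem hn)).2 l
      have hl' : l' ≠ i := by
        rintro rfl
        have h3 := congrArg (cj n) h2
        rw [cj_cj_inv, e] at h3
        exact hl (h.Z_inj h3)
      have h3 : n⁻¹ * x * n ∈ Z l' := by
        rw [← h2]
        exact ⟨x, hx, by simp⟩
      have h4 := mem_centralizer_iff.1 haC _ (h.fr.WjC i l' hl'.symm ((h.fr.blk l').ZV h3))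
      rw [mem_centralizer_singleton_iff]
      calc x * t = n * ((n⁻¹ * x * n) * a) * n⁻¹ := by rw [ht]; group
        _ = n * (a * (n⁻¹ * x * n)) * n⁻¹ := by rw [h4]
        _ = t * x := by rw [ht]; group
    have h2 := (h.ZC_le j).trans (iSup_le h1) ⟨hx, hxC⟩
    exact (mem_centralizer_singleton_iff.1 h2).symm
  -- on `Z j`
  have htZ : ∀ x ∈ Z j, t⁻¹ * x * t = a'⁻¹ * x * a' := by
    intro x hx
    obtain ⟨b, hb, rfl⟩ := (hs j).surj v hv hvZ x hx
    have hb0 := hnB b hb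
    set b₀ : G := n⁻¹ * b * n with hb₀
    have e2 : b * v * b⁻¹ * v⁻¹ = n * (b₀ * v₀ * b₀⁻¹ * v₀⁻¹) * n⁻¹ := by
      rw [← h.comm_mul (v := v) hz hb, ← e1, hb₀]; group
    have e3 : a⁻¹ * (b₀ * v₀ * b₀⁻¹ * v₀⁻¹) * a = b₀ * v₀' * b₀⁻¹ * v₀'⁻¹ := by
      rw [← ha1 b₀ hb0 v₀ hv₀, ← h.comm_mul (v := v₀') (h.fr.Z_le i ha2) hb0]
      have : v₀' * (v₀'⁻¹ * (a * v₀ * a⁻¹)) = a * v₀ * a⁻¹ := by group
      rw [this]
    have e4 : n * (b₀ * v₀' * b₀⁻¹ * v₀'⁻¹) * n⁻¹ = b * v' * b⁻¹ * v'⁻¹ := by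
      rw [← h.comm_mul (v := v') hz' hb, ← e1', hb₀]; group
    have e5 : a'⁻¹ * (b * v * b⁻¹ * v⁻¹) * a' = b * v' * b⁻¹ * v'⁻¹ := by
      rw [← ha1' b hb v hv, ← h.comm_mul (v := v') (h.fr.Z_le j ha2') hb]
      have : v' * (v'⁻¹ * (a' * v * a'⁻¹)) = a' * v * a'⁻¹ := by group
      rw [this]
    rw [e5, e2, ← e4, ← e3, ht]
    group
  -- `y = a'⁻¹ t`
  set y : G := a'⁻¹ * t with hy
  have htV : t ∈ normalizer (V : Set G) := by
    rw [mem_normalizer_iff_cj, ht]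
    have hnn : n ∈ normalizer (V : Set G) := mem_normalizer_iff_cj.2 hnV
    exact mem_normalizer_iff_cj.1 (mul_mem (mul_mem hnn (hPV haP)) (inv_mem hnn))
  have hyV : y ∈ normalizer (V : Set G) := mul_mem (inv_mem (hPV haP')) htV
  have hy1 : ∀ x ∈ ZJ, y * x = x * y := by
    intro x hx
    obtain ⟨w, hw, c, hc, hcJ, rfl⟩ := h.fr.split_ZJ j hx
    have e2 : y * c = c * y := by
      have h1 := htC c hcJ hc
      have h2 := mem_centralizer_iff.1 haC' c hc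
      calc y * c = a'⁻¹ * (t * c) := by rw [hy]; group
        _ = a'⁻¹ * (c * t) := by rw [h1]
        _ = a'⁻¹ * (c * a') * a'⁻¹ * t := by group
        _ = a'⁻¹ * (a' * c) * a'⁻¹ * t := by rw [h2]
        _ = c * y := by rw [hy]; group
    have e3 : y * w = w * y := by
      have hw' : a' * w * a'⁻¹ ∈ Z j := (mem_normalizer_iff.1 haZ' w).1 hw
      have h1 := htZ _ hw'
      have h2 : a'⁻¹ * (a' * w * a'⁻¹) * a' = w := by group
      rw [h2] at h1
      calc y * w = y * (t⁻¹ * (a' * w * a'⁻¹) * t) := by rw [h1]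
        _ = w * y := by rw [hy]; group
    calc y * (w * c) = (y * w) * c := by group
      _ = w * (y * c) := by rw [e3]; group
      _ = w * c * y := by rw [e2]; group
  have hy2 : ∀ x ∈ V, y * x * y⁻¹ * x⁻¹ ∈ ZJ := by
    -- it is enough to compare `t x t⁻¹` and `a' x a'⁻¹`
    have hred : ∀ x ∈ V, (a' * x * a'⁻¹)⁻¹ * (t * x * t⁻¹) ∈ ZJ → y * x * y⁻¹ * x⁻¹ ∈ ZJ := by
      intro x hx hxJ
      have hxi := haJi' _ hxJ
      have e2 : a'⁻¹ * ((a' * x * a'⁻¹)⁻¹ * (t * x * t⁻¹)) * a' = x⁻¹ * (y * x * y⁻¹) := by rw [hy]; group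
      rw [e2] at hxi
      have hyx : y * x * y⁻¹ ∈ V := (mem_normalizer_iff.1 hyV x).1 hx
      rwa [hVc _ (inv_mem hx) _ hyx] at hxi
    have hmul : ∀ x ∈ V, ∀ x' ∈ V, y * x * y⁻¹ * x⁻¹ ∈ ZJ → y * x' * y⁻¹ * x'⁻¹ ∈ ZJ →
        y * (x * x') * y⁻¹ * (x * x')⁻¹ ∈ ZJ := by
      intro x hx x' hx' h1 h2
      have hyx : y * x' * y⁻¹ ∈ V := (mem_normalizer_iff.1 hyV x').1 hx'
      have e2 : y * (x * x') * y⁻¹ * (x * x')⁻¹ = (y * x * y⁻¹) * (y * x' * y⁻¹ * x'⁻¹) * x⁻¹ := by group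
      have hyx0 : y * x * y⁻¹ ∈ V := (mem_normalizer_iff.1 hyV x).1 hx
      rw [e2, hVc _ hyx0 _ (hZV h2), mul_assoc]
      exact mul_mem h2 h1
    intro x hx
    -- `x = n x₀ n⁻¹`
    obtain ⟨x₀, hx₀, rfl⟩ : ∃ x₀ ∈ V, n * x₀ * n⁻¹ = x := by
      have h1 : x ∈ cj n V := by rw [hnV]; exact hx
      exact ⟨_, mem_cj.1 h1, by group⟩
    obtain ⟨w, hw, c, hc, rfl⟩ := h.fr.WC i x₀ hx₀
    have e2 : n * (w * c) * n⁻¹ = (n * w * n⁻¹) * (n * c * n⁻¹) := by group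
    rw [e2]
    have hcV : c ∈ V := h.fr.CV i hc
    refine hmul _ (hnV' w (hWV i hw)) _ (hnV' c hcV) (hred _ (hnV' w (hWV i hw)) ?_) (hred _ (hnV' c hcV) ?_)
    · -- `w ∈ W i`
      obtain ⟨w', hw', z'', hz'', e3⟩ := hdec w hw
      have e4 : t * (n * w * n⁻¹) * t⁻¹ = n * (a * w * a⁻¹) * n⁻¹ := by rw [ht]; group
      have e5 : a' * (n * w * n⁻¹) * a'⁻¹ = (a' * w' * a'⁻¹) * (a' * z'' * a'⁻¹) := by rw [e3]; group
      have hz3 : a' * z'' * a'⁻¹ ∈ ZJ := haJ' ⟨z'', hz'', rfl⟩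
      refine h.eq_mod (by rw [e4]; exact hnV' _ (haV w (hWV i hw))) (haV' _ (hnV' w (hWV i hw))) fun b hb => ?_
      have hb0 := hnB b hb
      rw [e5, h.comm_mul hz3 hb, ha1' b hb w' hw', e4]
      set b₀ : G := n⁻¹ * b * n with hb₀
      have e6 : b * (n * (a * w * a⁻¹) * n⁻¹) * b⁻¹ * (n * (a * w * a⁻¹) * n⁻¹)⁻¹ =
          n * (b₀ * (a * w * a⁻¹) * b₀⁻¹ * (a * w * a⁻¹)⁻¹) * n⁻¹ := by rw [hb₀]; group
      have e7 : n * (a⁻¹ * (b₀ * w * b₀⁻¹ * w⁻¹) * a) * n⁻¹ = t⁻¹ * (b * (n * w * n⁻¹) * b⁻¹ * (n * w * n⁻¹)⁻¹) * t := by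
        rw [hb₀, ht]; group
      rw [e6, ha1 b₀ hb0 w hw, e7, e3, h.comm_mul hz'' hb]
      exact htZ _ ((h.fr.blk j).com b hb w' hw')
    · -- `c ∈ C i`
      have e4 : t * (n * c * n⁻¹) * t⁻¹ = n * c * n⁻¹ := by
        have := mem_centralizer_iff.1 haC c hc
        rw [ht]
        calc n * a * n⁻¹ * (n * c * n⁻¹) * (n * a * n⁻¹)⁻¹ = n * ((a * c) * a⁻¹) * n⁻¹ := by group
          _ = n * ((c * a) * a⁻¹) * n⁻¹ := by rw [this]
          _ = n * c * n⁻¹ := by group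
      rw [e4]
      -- `n c n⁻¹ ∈ C j ZJ`
      have hcJ : n * c * n⁻¹ ∈ C j ⊔ ZJ := by
        have h1 : cj n (⨆ l : {l : ι // l ≠ i}, W l) ≤ C j ⊔ ZJ := by
          have e5 : cj n (⨆ l : {l : ι // l ≠ i}, W l) = ⨆ l : {l : ι // l ≠ i}, cj n (W l) :=
            Subgroup.map_iSup _ _
          rw [e5]
          refine iSup_le fun l => ?_
          obtain ⟨l', h2, h3⟩ := (h.norm hn).2 l
          refine h3.trans (sup_le_sup_right (h.fr.WjC j l' fun h4 => l.2 ?_) _)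
          rw [← h4, ← e] at h2
          have h5 := congrArg (cj n⁻¹) h2
          rw [cj_inv_cj, cj_inv_cj] at h5
          exact h.Z_inj h5
        exact h1 ⟨c, h.C_le i hc, rfl⟩
      obtain ⟨c', hc', z'', hz'', e5⟩ := SQ1.Bau.mem_sup_comm
        (fun x hx y hy => hVc x (h.fr.CV j hx) y (hZV hy)) hcJ
      have e6 : a' * (n * c * n⁻¹) * a'⁻¹ = c' * (a' * z'' * a'⁻¹) := by
        have := mem_centralizer_iff.1 haC' c' hc'
        rw [e5]
        calc a' * (c' * z'') * a'⁻¹ = (a' * c') * z'' * a'⁻¹ := by group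
          _ = (c' * a') * z'' * a'⁻¹ := by rw [this]
          _ = c' * (a' * z'' * a'⁻¹) := by group
      rw [e6, e5]
      have e7 : (c' * (a' * z'' * a'⁻¹))⁻¹ * (c' * z'') = (a' * z'' * a'⁻¹)⁻¹ * z'' := by group
      rw [e7]
      exact mul_mem (inv_mem (haJ' ⟨z'', hz'', rfl⟩)) hz''
  obtain ⟨b, hb, c, hc, e8⟩ := h.le_of_triv hyV hy1 hy2
  -- `a'` normalises `U = n W_i`
  set U : Subgroup G := cj n (W i) with hU
  have hUV : U ≤ V := by
    rw [hU, ← hnV]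
    exact cj_mono n (hWV i)
  have haW : a ∈ normalizer (W i : Set G) := mem_normalizer_iff_cj.2 (h.fix haP haC i)
  have hBW : B ≤ normalizer (W i : Set G) := (h.fr.blk i).BL.trans (h.block i).LV
  have htU : t ∈ normalizer (U : Set G) := by
    rw [hU, ← cj_normalizer]
    exact ⟨a, haW, rfl⟩
  have hBU : B ≤ normalizer (U : Set G) := by
    have h1 := cj_mono n hBW
    rwa [cj_eq_of_mem_normalizer hn, cj_normalizer] at h1
  have hcU : c ∈ normalizer (U : Set G) := centralizer_le_normalizer _ (centralizer_le hUV hc)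
  have haU : a' ∈ normalizer (U : Set G) := by
    have e9 : a' = t * (b * c)⁻¹ := by rw [← e8, hy]; group
    rw [e9]
    exact mul_mem htU (inv_mem (mul_mem (hBU hb) hcU))
  -- `W j ≤ U`
  have hZU : Z j ≤ U := by
    rw [hU, ← e]
    exact cj_mono n (h.fr.blk i).ZV
  have key : ∀ w ∈ W j, a' * w * a'⁻¹ * w⁻¹ ∈ U := by
    intro w hw
    have h1 : n⁻¹ * w * n ∈ W i ⊔ ZJ := hnW' ⟨w, hw, by simp⟩
    obtain ⟨x, hx, z₁, hz₁, e9⟩ := SQ1.Bau.mem_sup_comm
        (fun x hx y hy => hVc x (hWV i hx) y (hZV hy)) h1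
    have e10 : w = (n * x * n⁻¹) * (n * z₁ * n⁻¹) := by
      have : w = n * (n⁻¹ * w * n) * n⁻¹ := by group
      rw [this, e9]; group
    have hxU : n * x * n⁻¹ ∈ U := ⟨x, hx, rfl⟩
    obtain ⟨z₂, hz₂, c₂, hc₂, hc₂J, e11⟩ := h.fr.split_ZJ j (hnJ' z₁ hz₁)
    have hu : (n * x * n⁻¹) * z₂ ∈ U := mul_mem hxU (hZU hz₂)
    set u : G := (n * x * n⁻¹) * z₂ with hud
    have e12 : w = u * c₂ := by rw [e10, e11, hud]; group
    have e13 : a' * w * a'⁻¹ * w⁻¹ = a' * u * a'⁻¹ * u⁻¹ := by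
      have h2 := mem_centralizer_iff.1 haC' c₂ hc₂
      rw [e12]
      calc a' * (u * c₂) * a'⁻¹ * (u * c₂)⁻¹ = a' * u * (c₂ * a'⁻¹) * c₂⁻¹ * u⁻¹ := by group
        _ = a' * u * (a'⁻¹ * (a' * c₂) * a'⁻¹) * c₂⁻¹ * u⁻¹ := by group
        _ = a' * u * (a'⁻¹ * (c₂ * a') * a'⁻¹) * c₂⁻¹ * u⁻¹ := by rw [h2]
        _ = a' * u * a'⁻¹ * u⁻¹ := by group
    rw [e13]
    exact mul_mem ((mem_normalizer_iff.1 haU u).1 hu) (inv_mem hu)
  have haWj : ∀ w ∈ W j, a' * w * a'⁻¹ ∈ W j := fun w hw =>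
    (mem_normalizer_iff.1 (mem_normalizer_iff_cj.2 (h.fix haP' haC' j)) w).1 hw
  have hle : W j ≤ U := by
    let f : W j → W j := fun w => ⟨a' * w * a'⁻¹ * (w : G)⁻¹, mul_mem (haWj w w.2) (inv_mem w.2)⟩
    have hf : Function.Injective f := by
      rintro ⟨w, hw⟩ ⟨w', hw'⟩ hww
      have e9 : a' * w * a'⁻¹ * w⁻¹ = a' * w' * a'⁻¹ * w'⁻¹ := congrArg Subtype.val hww
      have hx : w'⁻¹ * w = 1 := by
        refine ha3' _ (mul_mem (inv_mem hw') hw) ?_
        have e10 : a' * w * a'⁻¹ = a' * w' * a'⁻¹ * w'⁻¹ * w := by rw [← e9]; group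
        calc a' * (w'⁻¹ * w) * a'⁻¹ = (a' * w' * a'⁻¹)⁻¹ * (a' * w * a'⁻¹) := by group
          _ = w'⁻¹ * w := by rw [e10]; group
      exact Subtype.ext (inv_mul_eq_one.1 hx).symm
    intro w hw
    obtain ⟨x, hx⟩ := (Finite.injective_iff_surjective.1 hf) ⟨w, hw⟩
    have e9 : a' * (x : G) * a'⁻¹ * (x : G)⁻¹ = w := congrArg Subtype.val hx
    rw [← e9]
    exact key _ x.2
  symm
  refine Subgroup.eq_of_le_of_card_ge hle ?_
  rw [hU, card_cj, (h.fr.blk i).card, (h.fr.blk j).card, h.fr.cardZ, h.fr.cardZ]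

/-- `q = 2` -/
theorem cj_W_of_two [Finite ι] (hq : q = 2) {n : G}
    (hn : n ∈ normalizer (B : Set G)) {i j : ι} (e : cj n (Z i) = Z j) : cj n (W i) = W j := by
  subst hq
  have h1 : UniPlus.NB B (L j) (W j) (Z j) 2 := ⟨h.fr.blk j, h.fr.cardZ j⟩
  have h2 : UniPlus.NB B (cj n (L i)) (cj n (W i)) (Z j) 2 := by
    have h3 := (h.fr.blk i).conj n
    rw [cj_eq_of_mem_normalizer hn, e] at h3
    exact ⟨h3, h.fr.cardZ j⟩
  refine (UniPlus.uni_two h.wc h.bau_two h1 h2 ?_).1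
  rw [h.fr.zcB]
  exact (h.norm_inv hn e).1

/-- **`g ∈ N_G(B)`, `g Z_i = Z_j` implies `g W_i = W_j`.** -/
theorem cj_W [Finite ι] {n : G} (hn : n ∈ normalizer (B : Set G)) {i j : ι} (e : cj n (Z i) = Z j) : cj n (W i) = W j := by
  rcases Nat.lt_or_ge 2 q with hq | hq
  · exact h.cj_W_of_three hq (h.scal hq) hn e
  · exact h.cj_W_of_two (le_antisymm hq (h.fr.blk i).one) hn e

/-- **`N_G(B)` permutes the `W i` and the `Z i`.** -/
theorem perm_W [Finite ι] {n : G} (hn : n ∈ normalizer (B : Set G)) :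
    ∃ σ : Equiv.Perm ι, ∀ i, cj n (W i) = W (σ i) ∧ cj n (Z i) = Z (σ i) := by
  choose f hf using fun i => (h.norm hn).2 i
  have hinj : Function.Injective f := by
    intro i j hij
    have h1 := (hf i).1
    rw [hij, ← (hf j).1] at h1
    have h2 := congrArg (cj n⁻¹) h1
    rw [cj_inv_cj, cj_inv_cj] at h2
    exact h.Z_inj h2
  exact ⟨Equiv.ofBijective f (Finite.injective_iff_bijective.1 hinj),
    fun i => ⟨h.cj_W hn (hf i).1, (hf i).1⟩⟩

/-- A 2-group over `B` which normalises `Z i` normalises `W i`. -/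
theorem norm_W_of_two [Finite ι] (i : ι) {R : Subgroup G}
    (hR : IsPGroup 2 R) (hB : B ≤ R) (hRn : R ≤ normalizer (Z i : Set G)) :
    R ≤ normalizer (W i : Set G) := fun r hr =>
  mem_normalizer_iff_cj.2 (h.cj_W (h.le_norm_B hR hB hr) (mem_normalizer_iff_cj.1 (hRn hr)))

end perm

end Bg

namespace Bg

section A

variable [Finite G] {S : Sylow 2 G} {P : Subgroup G} {ι : Type} {B ZJ : Subgroup G}
  {L W Z C : ι → Subgroup G} {q : ℕ} (h : Bg S P B ZJ L W Z C q) {i j : ι} {s : G} (p : Pa (S : Subgroup G) W i j s)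
include h p

theorem s_sq : s * s ∈ normalizer (Z i : Set G) := by
  rw [mem_normalizer_iff_cj, ← cj_cj, h.cj_s_Z p, h.cj_s_Z' p]

/-- `k Z i ≤ W i` implies `k Z i = l Z i` with `l ∈ P ∩ C(C i)` (from TI). -/
theorem pts (hTI : TI (Z i)) {k : G} (hk : cj k (Z i) ≤ W i) :
    ∃ l ∈ P, l ∈ centralizer (C i : Set G) ∧ cj l (Z i) = cj k (Z i) := by
  obtain ⟨z, hz, hz1⟩ : ∃ x ∈ Z i, x ≠ 1 := by
    by_contra hcon
    push Not at hcon
    exact h.Z_ne i ((eq_bot_iff_forall _).2 hcon)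
  have hx : k * z * k⁻¹ ∈ cj k (Z i) := ⟨z, hz, rfl⟩
  have hx1 : k * z * k⁻¹ ≠ 1 := fun e => hz1 (conj_eq_one_iff.1 e)
  obtain ⟨l, hl, hlc, y, hy, e⟩ := h.tr i _ (hk hx) hx1
  have h1 : cj (l⁻¹ * k) (Z i) = Z i := by
    apply hTI
    intro hbot
    have h2 : y ∈ cj (l⁻¹ * k) (Z i) ⊓ Z i := by
      refine mem_inf.2 ⟨?_, hy⟩
      rw [mem_cj]
      have e1 : (l⁻¹ * k)⁻¹ * y * (l⁻¹ * k) = k⁻¹ * (l * y * l⁻¹) * k := by group
      have e2 : k⁻¹ * (k * z * k⁻¹) * k = z := by group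
      rw [e1, e, e2]
      exact hz
    rw [hbot, mem_bot] at h2
    rw [h2, mul_one, mul_inv_cancel] at e
    exact hx1 e.symm
  refine ⟨l, hl, hlc, ?_⟩
  have h2 := congrArg (cj l) h1
  rw [cj_cj, mul_inv_cancel_left] at h2
  exact h2.symm

/-- **The hypotheses of STEP F.** -/
theorem stepF [Finite ι] (hTI : TI (Z i)) {F : Subgroup G}
    (hF : F ≤ normalizer (Z i : Set G) ⊓ normalizer (Z j : Set G))
    (hFn : normalizer (Z i : Set G) ≤ normalizer (F : Set G))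
    (cov : ∀ x ∈ normalizer (Z i : Set G), ∃ c ∈ normalizer (Z i : Set G),
      ∃ k ∈ closure (((normalizer (Z i : Set G) ⊓ normalizer (StepF.cn s (Z i) : Set G) : Subgroup G) : Set G) ∪
        (StepF.cn s (P ⊓ centralizer (C i : Set G)) : Set G)),
      ∃ σ ∈ (S : Subgroup G), x = c * k ∧ StepF.cn (c * s) (Z i) = StepF.cn σ (Z i) ∧ StepF.cn c (W i) = W i) :
    StepF.Hyp (S : Subgroup G) s (Z i) (W i) (P ⊓ centralizer (C i : Set G)) F where
  sS := p.mem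
  ss := h.s_sq p
  ne := fun e => p.ne (h.Z_inj ((h.cj_s_Z p).symm.trans e)).symm
  ZV := (h.fr.blk i).ZV
  LV := fun l hl => h.fix hl.1 hl.2 i
  pts := fun g hg => by
    obtain ⟨l, hl, hlc, e⟩ := h.pts p hTI hg
    exact ⟨l, ⟨hl, hlc⟩, e.symm⟩
  blk := by
    rintro σ hσ hne l ⟨hl, hlc⟩ v hv
    obtain ⟨τ, hτ⟩ := h.perm_S hσ
    have h1 : τ i ≠ i := fun e => hne (by
      have := (hτ i).2.1
      rw [e] at this
      exact this)
    have h2 : σ * l * σ⁻¹ ∈ centralizer (C (τ i) : Set G) := by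
      rw [← (hτ i).2.2, ← cj_centralizer]
      exact ⟨l, hlc, rfl⟩
    exact (mem_centralizer_iff.1 h2 v (h.fr.WjC _ _ h1 hv)).symm
  FD := by
    have e : StepF.cn s (Z i) = Z j := h.cj_s_Z p
    rw [e]
    exact hF
  Fn := fun x hx f hf => (mem_normalizer_iff.1 (hFn hx) f).1 hf
  cov := cov
  ab := by
    intro σ hσ x hx a ha b hb
    have e : StepF.cn s (Z i) = Z j := h.cj_s_Z p
    rw [e] at hx
    have h1 := h.comm j (one_mem _) hx
    rw [cj_one] at h1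
    have hσV : σ * a * σ⁻¹ ∈ zl (S : Subgroup G) P := by
      have h2 : σ ∈ normalizer (zl (S : Subgroup G) P : Set G) :=
        MinSimple.VModule.le_normalizer_zl _ _ (h.hyp.star.isLoc.le hσ)
      exact (mem_normalizer_iff.1 h2 a).1 (h.fr.ZV i ha)
    have hxV : x * b * x⁻¹ ∈ cj x (zl (S : Subgroup G) P) := ⟨b, h.fr.ZV i hb, rfl⟩
    exact (mem_centralizer_iff.1 (h1 hσV) _ hxV).symm

/-- `N₁ = ⟨Z j ^ N(Z i)⟩`. -/
theorem NN_eq : PG.NN ![Z i, Z j] (Z i) = ⨆ k : normalizer (Z i : Set G), cj (k : G) (Z j) := by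
  apply le_antisymm
  · refine sSup_le ?_
    rintro u ⟨k, hk, rfl⟩
    have hk' : k ∈ normalizer (Z i : Set G) := mem_normalizer_iff_cj.2 hk.symm
    exact le_iSup (fun k : normalizer (Z i : Set G) => cj (k : G) (Z j)) ⟨k, hk'⟩
  · refine iSup_le fun k => le_sSup ⟨k, ?_, rfl⟩
    exact (mem_normalizer_iff_cj.1 k.2).symm

/-- **`O₂(H₁ / F₁) = 1`.** -/
theorem core [Finite ι] {R : Subgroup G} (hR : R ≤ (S : Subgroup G) ⊓ normalizer (Z i : Set G))
    (hn : normalizer (Z i : Set G) ≤ normalizer ((PG.FF ![Z i, Z j] (Z i) ⊔ R : Subgroup G) : Set G)) :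
    R ≤ PG.FF ![Z i, Z j] (Z i) := by
  have : Fact (Nat.Prime 2) := ⟨Nat.prime_two⟩
  set H : Subgroup G := normalizer (Z i : Set G) with hH
  set N : Subgroup G := PG.NN ![Z i, Z j] (Z i) with hN
  set F : Subgroup G := PG.FF ![Z i, Z j] (Z i) with hF
  set T : Subgroup G := (S : Subgroup G) ⊓ H with hT
  set M : Subgroup G := F ⊔ R with hM
  have hFH : F ≤ H := inf_le_left
  have hMH : M ≤ H := sup_le hFH (hR.trans inf_le_right)
  have hFn : H ≤ normalizer (F : Set G) := PG.PP.HH_le_FF (Z i)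
  have hNn : H ≤ normalizer (N : Set G) := PG.PP.HH_le_NN (Z i)
  set R₀ : Subgroup G := T ⊓ M with hR₀
  have hSylT : Syl T H := h.syl i
  -- `R₀` is Sylow in `M`
  have hSyl : Syl R₀ M := by
    refine ⟨inf_le_right, hSylT.2.1.to_le inf_le_left, fun Q hQ h2 hle => ?_⟩
    obtain ⟨Q', hQ', hQQ'⟩ := exists_syl h2 (hQ.trans hMH)
    obtain ⟨x, hx, e⟩ := syl_conj hSylT hQ'
    have h1 : Q ≤ cj x R₀ := by
      rw [hR₀, cj_inf, e, cj_eq_of_mem_normalizer (hn hx)]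
      exact le_inf hQQ' hQ
    symm
    exact Subgroup.eq_of_le_of_card_ge hle ((Subgroup.card_le_of_le h1).trans (card_cj _ _).le)
  -- Frattini
  have hfr : ∀ x ∈ H, ∃ f ∈ F, ∃ n ∈ H, n ∈ normalizer (R₀ : Set G) ∧ x = f * n := by
    intro x hx
    have h1 : Syl (cj x R₀) M := by
      refine ⟨?_, isPGroup_cj x hSyl.2.1, fun Q hQ h2 hle => ?_⟩
      · have := cj_mono x hSyl.1
        rwa [cj_eq_of_mem_normalizer (hn hx)] at this
      · have h3 := cj_mono x⁻¹ hQ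
        rw [cj_eq_of_mem_normalizer (hn (inv_mem hx))] at h3
        have h4 := hSyl.2.2 (cj x⁻¹ Q) h3 (isPGroup_cj _ h2) (cj_le_iff.1 hle)
        rw [← h4, cj_cj_inv]
    obtain ⟨y, hy, e⟩ := syl_conj hSyl h1
    -- `y = f r`
    have hRF : R ≤ normalizer (F : Set G) := (hR.trans inf_le_right).trans hFn
    have hy' : y ∈ ((F ⊔ R : Subgroup G) : Set G) := hy
    rw [Subgroup.coe_mul_of_right_le_normalizer_left _ _ hRF, Set.mem_mul] at hy'
    obtain ⟨f, hf, r, hr, rfl⟩ := hy'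
    have hr0 : r ∈ R₀ := ⟨hR hr, mem_sup_right hr⟩
    refine ⟨f, hf, f⁻¹ * x, mul_mem (inv_mem (hFH hf)) hx, ?_, by group⟩
    rw [mem_normalizer_iff_cj, ← cj_cj, ← e, cj_cj, inv_mul_cancel_left,
      cj_eq_of_mem_normalizer (Subgroup.le_normalizer hr0)]
  -- `E = C_N(R₀)` is normalised by `H`
  set E : Subgroup G := N ⊓ centralizer (R₀ : Set G) with hE
  have hEn : H ≤ normalizer (E : Set G) := by
    intro x hx
    obtain ⟨f, hf, n, hnH, hnR, rfl⟩ := hfr x hx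
    refine mul_mem ?_ ?_
    · refine centralizer_le_normalizer _ (centralizer_le ?_ hf.2)
      exact_mod_cast (inf_le_left : E ≤ N)
    · rw [mem_normalizer_iff_cj, hE, cj_inf, cj_centralizer, cj_eq_of_mem_normalizer (hNn hnH),
        cj_eq_of_mem_normalizer hnR]
  have hZN : Z j ≤ N := by
    rw [hN, h.NN_eq p]
    have := le_iSup (fun k : normalizer (Z i : Set G) => cj (k : G) (Z j)) 1
    rwa [OneMemClass.coe_one, cj_one] at this
  -- `Z j ∩ E ≠ 1`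
  have h1 : Z j ⊓ E ≠ ⊥ := by
    have h2 := PLocal.OffenderStep.inf_centralizer_ne_bot (Z j) T (h.Z_two j) hSylT.2.1
      ((h.T_le p).trans inf_le_right) (h.Z_ne j)
    intro hbot
    apply h2
    rw [eq_bot_iff, ← hbot]
    refine le_inf inf_le_left (le_inf (inf_le_left.trans hZN) (inf_le_right.trans (centralizer_le ?_)))
    exact_mod_cast (inf_le_left : R₀ ≤ T)
  have h2 : Z j ≤ E := by
    refine le_trans ((h.toIn j).irr _ inf_le_left ?_ h1) inf_le_right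
    intro x hx
    have hxH : x ∈ H := h.L_norm p.ne.symm hx.1
    rw [mem_normalizer_iff_cj, cj_inf, cj_eq_of_mem_normalizer ((h.toIn j).NN hx),
      cj_eq_of_mem_normalizer (hEn hxH)]
  have h3 : N ≤ E := by
    rw [hN, h.NN_eq p]
    refine iSup_le fun k => ?_
    have := cj_mono (k : G) h2
    rwa [cj_eq_of_mem_normalizer (hEn k.2)] at this
  intro r hr
  refine ⟨(hR hr).2, ?_⟩
  have h4 : R₀ ≤ centralizer (N : Set G) := by
    rw [le_centralizer_iff]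
    exact h3.trans inf_le_right
  exact h4 ⟨hR hr, mem_sup_right hr⟩

end A

end Bg

end Cfsg.Agent.Omega.NO3S.EThree.Frame

end

section


/-!
# `SylU` : a Sylow 2-subgroup of `N_G(Z i)` over `B` normalises the line (input of THEOREM N #23328 / #23934 (a))
-/

set_option autoImplicit false
set_option linter.unusedSectionVars false

namespace Cfsg.Agent.Omega.NO3S.EThree

open Subgroup Cfsg Cfsg.Agent.ZN.ChoiceBase
open Cfsg.Agent.ZN.ChoiceSit (Syl)
open Cfsg.Agent.Omega.NO3S.EThree.Frame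

universe u

variable {G : Type u} [Group G]

/-- `N_G(Z i)` has a Sylow 2-subgroup over `B` which normalises `U i`. -/
def SylU {ι : Type} (Z U : ι → Subgroup G) (B : Subgroup G) : Prop :=
  ∀ i, ∃ T : Subgroup G, Syl T (normalizer (Z i : Set G)) ∧ B ≤ T ∧ T ≤ normalizer (U i : Set G)

/-- the same for every `X` with `N_S(Z i) ≤ X ≤ N_G(Z i)`, and for `C_G(Z i)` -/
theorem Bg.sylU_of_le [Finite G] {S : Sylow 2 G} {P : Subgroup G} {ι : Type} [Finite ι] {B ZJ : Subgroup G}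
    {L W Z C : ι → Subgroup G} {q : ℕ} (h : Bg S P B ZJ L W Z C q) (i : ι) {X : Subgroup G}
    (h1 : (S : Subgroup G) ⊓ normalizer (Z i : Set G) ≤ X) (h2 : X ≤ normalizer (Z i : Set G)) :
    ∃ T : Subgroup G, Syl T X ∧ B ≤ T ∧ T ≤ normalizer (W i : Set G) ∧ T ≤ (S : Subgroup G) :=
  ⟨_, h.syl_of_le i h1 h2, h.bau_le_T i, (h.inf_normalizer i).le.trans inf_le_right, inf_le_left⟩

/-- **`SylU` from `Bg`.** -/
theorem SylU.of_bg [Finite G] {S : Sylow 2 G} {P : Subgroup G} {ι : Type} [Finite ι] {B ZJ : Subgroup G}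
    {L W Z C : ι → Subgroup G} {q : ℕ} (h : Bg S P B ZJ L W Z C q) : SylU Z W B := fun i =>
  ⟨_, h.syl i, h.bau_le_T i, (h.inf_normalizer i).le.trans inf_le_right⟩

/-- Sylow 2-subgroups of a normal subgroup. -/
theorem SylU.inf_syl [Finite G] {T H N : Subgroup G} (hT : Syl T H) (hN : N ≤ H) (hn : H ≤ normalizer (N : Set G)) :
    Syl (T ⊓ N) N := by
  refine ⟨inf_le_right, hT.2.1.to_le inf_le_left, ?_⟩
  intro R hR h2 hTR
  obtain ⟨S, hS, hRS⟩ := Cfsg.Agent.ZN.ChoiceSit.exists_syl h2 (hR.trans hN)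
  obtain ⟨x, hx, e⟩ := Cfsg.Agent.ZN.ChoiceSit.syl_conj hS hT
  have h1 : cj x R ≤ T ⊓ N := by
    rintro _ ⟨r, hr, rfl⟩
    refine ⟨?_, ?_⟩
    · rw [← e]
      exact ⟨r, hRS hr, rfl⟩
    · exact (mem_normalizer_iff.1 (hn hx) r).1 (hR hr)
  have h3 := Subgroup.card_le_of_le h1
  rw [card_cj] at h3
  exact (Subgroup.eq_of_le_of_card_ge hTR h3).symm

/-- **A Sylow 2-subgroup of a normal subgroup `X` of `N_G(Z i)` with `B ≤ X` (e.g. `C_G(Z i)`) over `B`,
normalising the line.** -/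
theorem SylU.of_normal [Finite G] {ι : Type} {Z U : ι → Subgroup G} {B : Subgroup G} (h : SylU Z U B) (i : ι)
    {X : Subgroup G} (hB : B ≤ X) (hX : X ≤ normalizer (Z i : Set G))
    (hn : normalizer (Z i : Set G) ≤ normalizer (X : Set G)) :
    ∃ T : Subgroup G, Syl T X ∧ B ≤ T ∧ T ≤ normalizer (U i : Set G) := by
  obtain ⟨T, hT, hBT, hTU⟩ := h i
  exact ⟨T ⊓ X, SylU.inf_syl hT hX hn, le_inf hBT hB, inf_le_left.trans hTU⟩

/-- `X = C_G(Z i)` -/
theorem SylU.cent [Finite G] {ι : Type} {Z U : ι → Subgroup G} {B : Subgroup G} (h : SylU Z U B) (i : ι)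
    (hB : B ≤ centralizer (Z i : Set G)) : ∃ T : Subgroup G, Syl T (centralizer (Z i : Set G)) ∧ B ≤ T ∧
      T ≤ normalizer (U i : Set G) := by
  refine h.of_normal i hB (centralizer_le_normalizer _) ?_
  intro g hg
  rw [mem_normalizer_iff_cj, cj_centralizer, cj_eq_of_mem_normalizer hg]

end Cfsg.Agent.Omega.NO3S.EThree

end
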