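import Cfsg.Agent.Mrg.Omega.NO3S.EThree.Frame
import Cfsg.Agent.Mrg.Omega.NO3S.EThree.TEnd
import Cfsg.Agent.Mrg.Omega.NO3S.EThree.ExactB

section


/-!
# NO-3S, case (E), `[N_1, N_2] ≤ Z_1Z_2`, over the frame `Bg` (all `q`, every level)

* `Bg.core_sq` : a subgroup `J ⊴ N_G(Z i)` with `y² ∈ C(N_1)` for all `y ∈ J` centralises `N_1`;
* `Bg.toTQL` : two blocks, TI, nonlocal, `1 ≠ [N_1, N_2] ≤ Z_1Z_2` give `TQL`;
* `Bg.comm_false` : this is impossible.
-/

set_option autoImplicit false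
set_option linter.unusedSectionVars false

namespace Cfsg.Agent.Omega.NO3S.EThree.Frame

open Subgroup Cfsg Cfsg.Agent.ZN.ChoiceBase
open Cfsg.Agent.ZN (jj zj bau zc zl o2)
open Cfsg.Agent.ZN.ChoiceSit (Syl exists_syl syl_conj syl_not_dvd)
open Cfsg.Agent.Omega.OM Cfsg.Agent.Omega.OM.Uni
open Cfsg.Agent.Omega.MinPar (NonLoc)
open scoped Pointwise

universe u

variable {G : Type u} [Group G]

/-- `|F ⊔ X : F| = |X : F ∩ X|` for `X ≤ N(F)` -/
theorem relIndex_sup_nor {F X : Subgroup G} (h : X ≤ normalizer (F : Set G)) :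
    F.relIndex (F ⊔ X) = F.relIndex X := by
  have hF : F ≤ F ⊔ X := le_sup_left
  have hX : X ≤ F ⊔ X := le_sup_right
  have hn : (F.subgroupOf (F ⊔ X)).Normal := by
    rw [← normalizer_eq_top_iff, eq_top_iff]
    have h1 : F ⊔ X ≤ normalizer (F : Set G) := sup_le Subgroup.le_normalizer h
    rintro ⟨x, hx⟩ -
    rw [mem_normalizer_iff]
    rintro ⟨y, hy⟩
    simp only [mem_subgroupOf]
    exact mem_normalizer_iff.1 (h1 hx) y
  have h1 := relIndex_sup_left (X.subgroupOf (F ⊔ X)) (F.subgroupOf (F ⊔ X))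
  have h2 : F.subgroupOf (F ⊔ X) ⊔ X.subgroupOf (F ⊔ X) = (F ⊔ X).subgroupOf (F ⊔ X) :=
    (subgroupOf_sup hF hX).symm
  rw [h2] at h1
  rwa [relIndex_subgroupOf le_rfl, relIndex_subgroupOf hX] at h1

namespace Bg

section A

variable [Finite G] {S : Sylow 2 G} {P : Subgroup G} {ι : Type} {B ZJ : Subgroup G}
  {L W Z C : ι → Subgroup G} {q : ℕ} (h : Bg S P B ZJ L W Z C q) {i j : ι} {s : G} (p : Pa (S : Subgroup G) W i j s)
include h p

/-- A subgroup `J ⊴ H₁` with `y² ∈ C(N₁)` for all `y ∈ J` centralises `N₁`. -/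
theorem core_sq [Finite ι] {J : Subgroup G} (hJ : J ≤ normalizer (Z i : Set G))
    (hn : normalizer (Z i : Set G) ≤ normalizer (J : Set G))
    (hsq : ∀ y ∈ J, y * y ∈ centralizer (PG.NN ![Z i, Z j] (Z i) : Set G)) :
    J ≤ centralizer (PG.NN ![Z i, Z j] (Z i) : Set G) := by
  have : Fact (Nat.Prime 2) := ⟨Nat.prime_two⟩
  set H : Subgroup G := normalizer (Z i : Set G) with hH
  set F : Subgroup G := PG.FF ![Z i, Z j] (Z i) with hF
  set T : Subgroup G := (S : Subgroup G) ⊓ H with hT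
  set M : Subgroup G := F ⊔ J with hM
  have hFH : F ≤ H := inf_le_left
  have hMH : M ≤ H := sup_le hFH hJ
  have hFn : H ≤ normalizer (F : Set G) := PG.PP.HH_le_FF (Z i)
  have hMn : H ≤ normalizer (M : Set G) := by
    intro x hx
    rw [mem_normalizer_iff_cj, hM]
    refine (conj_sup' x F J).trans ?_
    exact congrArg₂ (· ⊔ ·) (cj_eq_of_mem_normalizer (hFn hx)) (cj_eq_of_mem_normalizer (hn hx))
  have hTH : T ≤ H := inf_le_right
  -- `|M : F|` is a power of 2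
  have h1 : ∃ n, F.relIndex M = 2 ^ n := by
    rw [hM, relIndex_sup_nor (hJ.trans hFn)]
    have hnor : (F.subgroupOf J).Normal := by
      rw [← normalizer_eq_top_iff, eq_top_iff]
      rintro ⟨x, hx⟩ -
      rw [mem_normalizer_iff]
      rintro ⟨y, hy⟩
      simp only [mem_subgroupOf]
      exact mem_normalizer_iff.1 (hFn (hJ hx)) y
    have h2 : IsPGroup 2 (J ⧸ F.subgroupOf J) := by
      intro x
      obtain ⟨y, rfl⟩ := QuotientGroup.mk'_surjective _ x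
      refine ⟨1, ?_⟩
      rw [← map_pow, pow_one, pow_two, QuotientGroup.mk'_apply, QuotientGroup.eq_one_iff, mem_subgroupOf]
      exact ⟨hJ (y * y).2, hsq y y.2⟩
    obtain ⟨n, hn⟩ := IsPGroup.iff_card.1 h2
    exact ⟨n, by rw [relIndex, index, hn]⟩
  -- `|M : T ∩ M|` is odd
  have h2 : ¬ 2 ∣ (T ⊓ M).relIndex M := by
    rw [inf_relIndex_right]
    intro hd
    apply syl_not_dvd (h.syl i)
    refine hd.trans ?_
    have h3 : T.relIndex M ∣ T.relIndex H := by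
      have h4 : T.relIndex M = T.relIndex (M ⊔ T) := by
        have e1 : M.relIndex (M ⊔ T) = M.relIndex T := relIndex_sup_nor (hTH.trans hMn)
        have e2 := relIndex_mul_relIndex (T ⊓ M) M (M ⊔ T) inf_le_right le_sup_left
        have e3 := relIndex_mul_relIndex (T ⊓ M) T (M ⊔ T) inf_le_left le_sup_right
        rw [inf_relIndex_right, e1] at e2
        rw [inf_relIndex_left, mul_comm, ← e2] at e3
        exact (Nat.eq_of_mul_eq_mul_right (Nat.pos_of_dvd_of_pos (relIndex_dvd_card M T) Nat.card_pos)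
          (by rw [mul_comm, ← e3, mul_comm])).symm
      rw [h4, ← relIndex_mul_relIndex T (M ⊔ T) H le_sup_right (sup_le hMH hTH)]
      exact dvd_mul_right _ _
    exact h3
  -- `F ⊔ (T ∩ M) = M`
  have h3 : F ⊔ (T ⊓ M) = M := by
    refine le_antisymm (sup_le le_sup_left inf_le_right) ?_
    rw [← relIndex_eq_one]
    obtain ⟨n, hn⟩ := h1
    have e1 : (F ⊔ (T ⊓ M)).relIndex M ∣ 2 ^ n := hn ▸ relIndex_dvd_of_le_left _ le_sup_left
    have e2 : (F ⊔ (T ⊓ M)).relIndex M ∣ (T ⊓ M).relIndex M := relIndex_dvd_of_le_left _ le_sup_right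
    obtain ⟨a, -, ha⟩ := (Nat.dvd_prime_pow Nat.prime_two).1 e1
    rcases Nat.eq_zero_or_pos a with rfl | ha0
    · simpa using ha
    · exact absurd ((dvd_pow_self 2 ha0.ne').trans (ha ▸ e2)) h2
  have h4 : T ⊓ M ≤ F := h.core p (R := T ⊓ M) inf_le_left (by rw [← hF, h3]; exact hMn)
  have h5 : M ≤ F := by
    rw [← h3]
    exact sup_le le_rfl h4
  exact (le_sup_right.trans h5).trans inf_le_right

theorem toTQL [Finite ι] (h2 : ∀ l : ι, l = i ∨ l = j) (hTI : TI (Z i))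
    (hnl : NonLoc (normalizer (Z i : Set G)) (normalizer (Z j : Set G)))
    (com : ∀ n ∈ PG.NN ![Z i, Z j] (Z i), ∀ t ∈ PG.NN ![Z i, Z j] (Z j), n * t * n⁻¹ * t⁻¹ ∈ Z i ⊔ Z j)
    (nc : ¬ PG.NN ![Z i, Z j] (Z i) ≤ centralizer (PG.NN ![Z i, Z j] (Z j) : Set G)) :
    TQL ![Z i, Z j] ![W i, W j] B := by
  have PP' := h.toPP p hTI hnl
  have hsZ : cj s (Z i) = Z j := h.cj_s_Z p
  have ti : ∀ a b : Subgroup G, PG.IsPt ![Z i, Z j] a → PG.IsPt ![Z i, Z j] b → ∀ x ∈ a, x ∈ b → x ≠ 1 → a = b := by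
    rintro _ _ ⟨k, rfl⟩ ⟨l, rfl⟩ x hx hx' hx1
    have h1 : cj (l⁻¹ * k) (Z i) = Z i := by
      apply hTI
      intro hbot
      have h3 : l⁻¹ * x * l ∈ cj (l⁻¹ * k) (Z i) ⊓ Z i := by
        refine mem_inf.2 ⟨?_, mem_cj.1 hx'⟩
        rw [mem_cj]
        have e : (l⁻¹ * k)⁻¹ * (l⁻¹ * x * l) * (l⁻¹ * k) = k⁻¹ * x * k := by group
        rw [e]
        exact mem_cj.1 hx
      rw [hbot, mem_bot] at h3
      apply hx1
      have e : x = l * (l⁻¹ * x * l) * l⁻¹ := by group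
      rw [e, h3]; group
    have h3 := congrArg (cj l) h1
    rw [cj_cj, mul_inv_cancel_left] at h3
    exact h3
  have hNZ : Z i ⊔ Z j ≤ ZJ := sup_le (h.fr.Z_le i) (h.fr.Z_le j)
  have hpi : PG.IsPt ![Z i, Z j] (Z i) := ⟨1, by rw [map_one, one_smul]; rfl⟩
  have hpj : PG.IsPt ![Z i, Z j] (Z j) := ⟨s, hsZ.symm⟩
  have Q0 : TQ0 ![Z i, Z j] ![W i, W j] := by
    refine
      { toPP := PP'
        ti := ti
        fus := ?_
        self := ?_
        com := com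
        nc := nc
        pts := ?_
        cardU := ?_
        UQ' := h.W_le_o2 i }
    · rintro a ⟨g, rfl⟩ x hx hx' hx1
      change x ∈ Z i ⊔ Z j at hx'
      obtain ⟨l, hl⟩ := h.fus (hNZ hx') (mem_cj.1 hx)
      rcases h2 l with rfl | rfl
      · left
        exact ti _ _ ⟨g, rfl⟩ hpi x hx hl hx1
      · right
        exact ti _ _ ⟨g, rfl⟩ hpj x hx hl hx1
    · exact PP'.N_le_Q.trans (h.o2_cent i)
    · intro x hx hx1
      obtain ⟨l, hl, hlc, y, hy, e⟩ := h.tr i x hx hx1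
      refine ⟨cj l (Z i), ⟨l, rfl⟩, ?_, ?_⟩
      · change cj l (Z i) ≤ W i
        rw [← h.fix hl hlc i]
        exact cj_mono l (h.fr.blk i).ZV
      · rw [← e]
        exact ⟨y, hy, rfl⟩
    · change Nat.card (W i) = Nat.card (Z i) ^ 2
      rw [(h.fr.blk i).card, h.fr.cardZ i, pow_two]
  refine
    { toTQ := Q0.toTQ
      core := fun J hJ hn hsq => h.core_sq p hJ hn hsq
      B2 := h.bau_two
      B0 := (h.bau_le_T i).trans inf_le_right
      B1 := (h.bau_le_T j).trans inf_le_right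
      BU := fun x hx b hb => (h.fr.blk i).com b hb x hx
      Bfix := ?_
      ab := ?_ }
  · intro n hn hfix
    change n ∈ PG.NN ![Z i, Z j] (Z i) at hn
    change n ∈ Z i ⊔ Z j
    have hnB : n ∈ B := h.o2_le i (PP'.N_le_Q hn)
    have hn2 : n ^ 2 = 1 := NoFF.Lines.Geo.sq_of_comm (PP'.NN_comm hpi)
      (ι := {u : Subgroup G // PG.Adj ![Z i, Z j] (Z i) u}) (B := fun u => (u : Subgroup G)) (fun u => u.2.le_NN)
      (sSup_le fun u hu => le_iSup (fun u : {u : Subgroup G // PG.Adj ![Z i, Z j] (Z i) u} => (u : Subgroup G))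
        ⟨u, hu⟩) (fun u => PP'.ZsqConj (PP'.adj_pt u.2)) n hn
    have hz : n ∈ ZJ := by
      rw [← h.fr.zcB, mem_zc]
      refine ⟨hnB, hn2, fun b hb => ?_⟩
      exact mul_inv_eq_iff_eq_mul.1 (hfix b hb)
    obtain ⟨w, hw, c, hc, hcJ, rfl⟩ := h.fr.split_ZJ i hz
    refine mul_mem (mem_sup_left hw) (mem_sup_right ?_)
    obtain ⟨w', hw', c', hc', -, e⟩ := h.fr.split_ZJ j hcJ
    -- `c' ∈ C i ⊓ C j = 1`
    have h3 : c' ∈ C i := by
      have : c' = w'⁻¹ * c := by rw [e]; group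
      rw [this]
      exact mul_mem (inv_mem (h.fr.WjC i j p.ne ((h.fr.blk j).ZV hw') : _)) hc
    have h4 : c' = 1 := h.fr.C0 _ (h.fr.CV i h3) fun l => by
      rcases h2 l with rfl | rfl
      · exact h3
      · exact hc'
    rw [e, h4, mul_one]
    exact hw'
  · rintro _ _ ⟨k, hk, rfl⟩ ⟨k', hk', rfl⟩
    have e1 : k ∈ normalizer (Z i : Set G) := mem_normalizer_iff_cj.2 hk.symm
    have e2 : k' ∈ normalizer (Z i : Set G) := mem_normalizer_iff_cj.2 hk'.symm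
    refine le_trans (cj_mono k (h.fr.WV i)) ((h.comm i e1 e2).trans (centralizer_le ?_))
    exact cj_mono k' (h.fr.WV i)

/-- **`1 ≠ [N_1, N_2] ≤ Z_1Z_2` is impossible (two blocks, all `q`, radical or not).** -/
theorem comm_false [Finite ι] (h2 : ∀ l : ι, l = i ∨ l = j) (hTI : TI (Z i))
    (hnl : NonLoc (normalizer (Z i : Set G)) (normalizer (Z j : Set G)))
    (com : ∀ n ∈ PG.NN ![Z i, Z j] (Z i), ∀ t ∈ PG.NN ![Z i, Z j] (Z j), n * t * n⁻¹ * t⁻¹ ∈ Z i ⊔ Z j)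
    (nc : ¬ PG.NN ![Z i, Z j] (Z i) ≤ centralizer (PG.NN ![Z i, Z j] (Z j) : Set G)) : False :=
  (h.toTQL p h2 hTI hnl com nc).false

/-- `[N_1, N_2] ≤ Z_1Z_2` implies `[N_1, N_2] = 1`. -/
theorem comm_of_le [Finite ι] (h2 : ∀ l : ι, l = i ∨ l = j) (hTI : TI (Z i))
    (hnl : NonLoc (normalizer (Z i : Set G)) (normalizer (Z j : Set G)))
    (com : ∀ n ∈ PG.NN ![Z i, Z j] (Z i), ∀ t ∈ PG.NN ![Z i, Z j] (Z j), n * t * n⁻¹ * t⁻¹ ∈ Z i ⊔ Z j) :
    PG.NN ![Z i, Z j] (Z i) ≤ centralizer (PG.NN ![Z i, Z j] (Z j) : Set G) := by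
  by_contra nc
  exact h.comm_false p h2 hTI hnl com nc

/-- `[N_1, N_2] ≠ 1` implies `N_1 ∩ N_2 ≰ Z_1Z_2`. -/
theorem not_inter_le [Finite ι] (h2 : ∀ l : ι, l = i ∨ l = j) (hTI : TI (Z i))
    (hnl : NonLoc (normalizer (Z i : Set G)) (normalizer (Z j : Set G)))
    (nc : ¬ PG.NN ![Z i, Z j] (Z i) ≤ centralizer (PG.NN ![Z i, Z j] (Z j) : Set G)) :
    ¬ PG.NN ![Z i, Z j] (Z i) ⊓ PG.NN ![Z i, Z j] (Z j) ≤ Z i ⊔ Z j := by
  intro hle
  have PP' := h.toPP p hTI hnl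
  have hA : PG.Adj ![Z i, Z j] (Z i) (Z j) := ⟨1, by rw [map_one, one_smul]; rfl, by rw [map_one, one_smul]; rfl⟩
  have hA' := PP'.adj_symm hA
  refine nc (h.comm_of_le p h2 hTI hnl fun n hn t ht => hle (mem_inf.2 ⟨?_, ?_⟩))
  · have h1 : t ∈ normalizer (PG.NN ![Z i, Z j] (Z i) : Set G) :=
      PG.PP.HH_le_NN (Z i) (PP'.QQ_le_HH hA (PP'.NN_le_QQ hA'.pt ht))
    have h3 : t * n⁻¹ * t⁻¹ ∈ PG.NN ![Z i, Z j] (Z i) := (mem_normalizer_iff.1 h1 _).1 (inv_mem hn)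
    have e : n * t * n⁻¹ * t⁻¹ = n * (t * n⁻¹ * t⁻¹) := by group
    rw [e]
    exact mul_mem hn h3
  · have h1 : n ∈ normalizer (PG.NN ![Z i, Z j] (Z j) : Set G) :=
      PG.PP.HH_le_NN (Z j) (PP'.QQ_le_HH hA' (PP'.NN_le_QQ hA.pt hn))
    exact mul_mem ((mem_normalizer_iff.1 h1 _).1 ht) (inv_mem ht)

end A

end Bg

end Cfsg.Agent.Omega.NO3S.EThree.Frame

end

section


/-!
# NO-3S, case (E), `k = 2`, all `q`: the frame `FQ` from the frame `Bg` (every level)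

`FQ.of_bg : Bg S P B ZJ L W Z C q → TI (Z 0) → NonLoc (N(Z 0)) (N(Z 1)) → FQ Z W B q` (`ι = Fin 2`).
-/

set_option autoImplicit false
set_option linter.unusedSectionVars false

namespace Cfsg.Agent.Omega.NO3S.EThree

open Subgroup Cfsg Cfsg.Agent.ZN.ChoiceBase
open Cfsg.Agent.ZN (zc zl o2)
open Cfsg.Agent.ZN.ChoiceSit (Syl)
open Cfsg.Agent.Omega.OM Cfsg.Agent.Omega.OM.Uni
open Cfsg.Agent.Omega.NO3S (HypJ HypN Hyp)
open Cfsg.Agent.Omega.NO3S.EThree.Frame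
open scoped Pointwise

universe u

variable {G : Type u} [Group G]

namespace BgQ

theorem other {i j : Fin 2} (hij : i ≠ j) : j = 1 - i := by
  have h2 : ∀ a b : Fin 2, a ≠ b → b = 1 - a := by decide
  exact h2 i j hij

variable [Finite G] {S : Sylow 2 G} {P B ZJ : Subgroup G} {L W Z C : Fin 2 → Subgroup G} {q : ℕ}
  (h : Bg S P B ZJ L W Z C q)
include h

theorem C_le_W {i j : Fin 2} (hij : i ≠ j) : C i ≤ W j := by
  refine (h.C_le i).trans (iSup_le fun l => ?_)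
  have : (l : Fin 2) = j := by
    have h1 := l.2
    have h2 : ∀ a b c : Fin 2, a ≠ b → c ≠ a → c = b := by decide
    exact h2 i j l hij h1
  rw [this]

theorem C_eq_W {i j : Fin 2} (hij : i ≠ j) : C i = W j := le_antisymm (C_le_W h hij) (h.fr.WjC i j hij)

theorem W_inf_ZJ (i : Fin 2) {x : G} (hx : x ∈ W i) (hz : x ∈ ZJ) : x ∈ Z i :=
  (h.fr.blk i).toMd.mem_Z_iff.2 ⟨hx, fun b hb => ((h.fr.mem_ZJ x).1 hz).2 b hb⟩

theorem ZJ_eq : ZJ = Z 0 ⊔ Z 1 := by
  apply le_antisymm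
  · intro z hz
    obtain ⟨w, hw, c, hc, hcz, rfl⟩ := h.fr.split_ZJ 0 hz
    exact mul_mem (mem_sup_left hw) (mem_sup_right (W_inf_ZJ h 1 (C_le_W h (by decide) hc) hcz))
  · exact sup_le (h.fr.Z_le 0) (h.fr.Z_le 1)

theorem V_eq : zl (S : Subgroup G) P = W 0 ⊔ W 1 := by
  apply le_antisymm
  · intro v hv
    obtain ⟨w, hw, c, hc, rfl⟩ := h.fr.WC 0 v hv
    exact mul_mem (mem_sup_left hw) (mem_sup_right (C_le_W h (by decide) hc))
  · exact sup_le (h.fr.WV 0) (h.fr.WV 1)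

theorem cent_iff {x : G} : (∀ v ∈ zl (S : Subgroup G) P, x * v = v * x) ↔ ∀ i, x ∈ centralizer (W i : Set G) := by
  constructor
  · intro hx i
    exact mem_centralizer_iff.2 fun w hw => (hx w (h.fr.WV i hw)).symm
  · intro hx v hv
    obtain ⟨w, hw, c, hc, rfl⟩ := h.fr.WC 0 v hv
    have h1 := mem_centralizer_iff.1 (hx 0) w hw
    have h2 := mem_centralizer_iff.1 (hx 1) c (C_le_W h (by decide) hc)
    have c1 : Commute x w := h1.symm
    have c2 : Commute x c := h2.symm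
    exact (c1.mul_right c2).eq

theorem mem_Q_iff {x : G} : x ∈ o2 P ↔ x ∈ B ∧ ∀ i, x ∈ centralizer (W i : Set G) := by
  constructor
  · intro hx
    exact ⟨h.fr.QB hx, (cent_iff h).1 ((h.fr.mem_Q x (h.fr.QB hx)).1 hx)⟩
  · rintro ⟨hx, h1⟩
    exact (h.fr.mem_Q x hx).2 ((cent_iff h).2 h1)

theorem Q_eq {i j : Fin 2} (hij : i ≠ j) :
    B ⊓ centralizer (W i : Set G) ⊓ centralizer (W j : Set G) = o2 P := by
  ext x
  rw [mem_Q_iff h]
  constructor
  · rintro ⟨⟨h1, h2⟩, h3⟩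
    refine ⟨h1, fun l => ?_⟩
    have h4 : ∀ a b c : Fin 2, a ≠ b → c = a ∨ c = b := by decide
    rcases h4 i j l hij with rfl | rfl
    · exact h2
    · exact h3
  · rintro ⟨h1, h2⟩
    exact ⟨⟨h1, h2 i⟩, h2 j⟩

theorem cj_W_L {i : Fin 2} {l : G} (hl : l ∈ L i) : cj l (W i) = W i := by
  refine Subgroup.eq_of_le_of_card_ge ?_ (by rw [card_cj])
  rintro _ ⟨w, hw, rfl⟩
  exact (h.fr.blk i).nV l hl w hw

theorem mvl {i j : Fin 2} (hij : i ≠ j) : ∃ l : G, MulAut.conj l • W i = W i ∧ MulAut.conj l • Z i ⊓ Z i = ⊥ ∧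
    l ∈ centralizer (Z j : Set G) ∧
    MulAut.conj l • (B ⊓ centralizer (W i : Set G)) = B ⊓ centralizer (W i : Set G) ∧
    MulAut.conj l • (B ⊓ centralizer (W i : Set G) ⊓ centralizer (W j : Set G)) =
      B ⊓ centralizer (W i : Set G) ⊓ centralizer (W j : Set G) := by
  obtain ⟨l, hl, hne, -⟩ := (h.fr.blk i).exists_mv
  refine ⟨l, cj_W_L h hl, (h.fr.blk i).nat_tri (h.fr.cardZ i) hl hne, ?_, ?_, ?_⟩
  · exact mem_centralizer_iff.2 fun z hz =>
      (h.fr.LC i l hl z (h.fr.Z_le j hz) (h.fr.WjC i j hij ((h.fr.blk j).ZV hz))).symm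
  · change cj l _ = _
    refine Subgroup.eq_of_le_of_card_ge ?_ (by rw [card_cj])
    have h1 : cj l (centralizer (W i : Set G)) = centralizer (W i : Set G) := by
      rw [cj_centralizer, cj_W_L h hl]
    rintro _ ⟨x, ⟨hx, hxc⟩, rfl⟩
    refine mem_inf.2 ⟨?_, ?_⟩
    · exact (h.fr.blk i).cor l hl x hx fun v hv => (mem_centralizer_iff.1 hxc v hv).symm
    · rw [← h1]
      exact ⟨x, hxc, rfl⟩
  · change cj l _ = _
    rw [Q_eq h hij]
    refine Subgroup.eq_of_le_of_card_ge ?_ (by rw [card_cj])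
    rintro _ ⟨x, hx, rfl⟩
    exact h.fr.LQ i l hl x hx

theorem tor {i j : Fin 2} (hij : i ≠ j) {x : G} (hx : x ∈ W i) (hxZ : x ∉ Z i) {y : G} (hy : y ∈ W i)
    (hyZ : y ∉ Z i) : ∃ t : G, t ∈ centralizer (W j : Set G) ∧
    MulAut.conj t • Z i = Z i ∧ MulAut.conj t • W i = W i ∧ y⁻¹ * (t * x * t⁻¹) ∈ Z i := by
  rcases Nat.lt_or_ge 2 q with hq | hq
  · obtain ⟨t, htP, htC, htZ, -, ht, -⟩ := (h.scal hq i).ex x hx hxZ y hy hyZ
    refine ⟨t, ?_, mem_normalizer_iff_cj.1 htZ, h.fix htP htC i, ht⟩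
    rwa [C_eq_W h hij] at htC
  · refine ⟨1, one_mem _, by simp, by simp, ?_⟩
    have hq2 : q = 2 := le_antisymm hq (h.fr.blk i).one
    rw [one_mul, inv_one, mul_one]
    have hZ2 : Nat.card (Z i) = 2 := by rw [h.fr.cardZ i, hq2]
    have hW : Nat.card (W i) = 4 := by rw [(h.fr.blk i).card, hZ2, hq2]
    have h3 : (Z i).relIndex (W i) = 2 := by
      have h5 : Nat.card (Z i) * (Z i).relIndex (W i) = Nat.card (W i) := by
        have h6 := Subgroup.card_mul_index ((Z i).subgroupOf (W i))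
        rwa [Nat.card_congr (Subgroup.subgroupOfEquivOfLe (h.fr.blk i).ZV).toEquiv] at h6
      rw [hZ2, hW] at h5
      omega
    have h6 := Subgroup.mul_mem_iff_of_index_two (H := (Z i).subgroupOf (W i)) h3
      (a := (⟨y, hy⟩ : W i)⁻¹) (b := ⟨x, hx⟩)
    have h7 : ((⟨y, hy⟩ : W i)⁻¹ * ⟨x, hx⟩) ∈ (Z i).subgroupOf (W i) := by
      rw [h6]
      constructor
      · intro h8
        exact absurd ((mem_subgroupOf.1 (inv_mem_iff.1 h8))) hyZ
      · intro h8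
        exact absurd (mem_subgroupOf.1 h8) hxZ
    exact mem_subgroupOf.1 h7

theorem ti (hTI : TI (Z 0)) {a b : Subgroup G} (ha : PG.IsPt Z a) (hb : PG.IsPt Z b) {x : G} (hxa : x ∈ a)
    (hxb : x ∈ b) (hx : x ≠ 1) : a = b := by
  obtain ⟨g, rfl⟩ := ha
  obtain ⟨k, rfl⟩ := hb
  change cj g (Z 0) = cj k (Z 0)
  have h1 : cj (k⁻¹ * g) (Z 0) = Z 0 := by
    apply hTI
    intro hbot
    have h2 : k⁻¹ * x * k ∈ cj (k⁻¹ * g) (Z 0) ⊓ Z 0 := by
      refine mem_inf.2 ⟨?_, mem_cj.1 hxb⟩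
      rw [mem_cj]
      have e : (k⁻¹ * g)⁻¹ * (k⁻¹ * x * k) * (k⁻¹ * g) = g⁻¹ * x * g := by group
      rw [e]
      exact mem_cj.1 hxa
    rw [hbot, mem_bot] at h2
    apply hx
    have e : x = k * (k⁻¹ * x * k) * k⁻¹ := by group
    rw [e, h2]; group
  have h3 := congrArg (cj k) h1
  rwa [cj_cj, mul_inv_cancel_left] at h3

theorem isPt (j : Fin 2) : PG.IsPt Z (Z j) := by
  have h2 : ∀ a : Fin 2, a = 0 ∨ a = 1 := by decide
  rcases h2 j with rfl | rfl
  · exact ⟨1, by simp⟩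
  · obtain ⟨j, s, p⟩ := h.exists_partner 0
    have hj : j = 1 := by
      have h1 := p.ne
      have h2 : ∀ a : Fin 2, 0 ≠ a → a = 1 := by decide
      exact h2 j h1
    subst hj
    exact ⟨s, (h.cj_s_Z p).symm⟩

end BgQ

open BgQ in
/-- **The frame `FQ` from `Bg`** (every level). -/
theorem FQ.of_bg [Finite G] {S : Sylow 2 G} {P B ZJ : Subgroup G} {L W Z C : Fin 2 → Subgroup G} {q : ℕ}
    (h : Bg S P B ZJ L W Z C q) (hTI : TI (Z 0))
    (hnl : MinPar.NonLoc (normalizer (Z 0 : Set G)) (normalizer (Z 1 : Set G))) : FQ Z W B q := by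
  obtain ⟨j, s, p⟩ := h.exists_partner 0
  have hj : j = 1 := by
    have h1 := p.ne
    have h2 : ∀ a : Fin 2, 0 ≠ a → a = 1 := by decide
    exact h2 j h1
  subst hj
  have hPP := h.toPP p hTI hnl
  have e1 : ∀ F : Fin 2 → Subgroup G, ![F 0, F 1] = F := by
    intro F
    funext i
    have h2 : ∀ a : Fin 2, a = 0 ∨ a = 1 := by decide
    rcases h2 i with rfl | rfl <;> rfl
  rw [e1 Z, e1 W] at hPP
  exact
    { toPP := hPP
      cardZ := h.fr.cardZ
      cardU := fun i => by rw [(h.fr.blk i).card, h.fr.cardZ i, pow_two]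
      ZU' := fun i => (h.fr.blk i).ZV
      sqU := fun i x hx => h.fr.Vsq (h.fr.WV i hx)
      inf := h.W_disj (by decide)
      ti := fun a b ha hb x hxa hxb hx => BgQ.ti h hTI ha hb hxa hxb hx
      fus := by
        intro a ha x hxa hxJ hx
        obtain ⟨g, rfl⟩ := ha
        rw [← ZJ_eq h] at hxJ
        obtain ⟨l, hl⟩ := h.fus (i := 0) hxJ (mem_cj.1 hxa)
        have h3 := BgQ.ti h hTI ⟨g, rfl⟩ (isPt h l) hxa hl hx
        have h2 : ∀ a : Fin 2, a = 0 ∨ a = 1 := by decide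
        rcases h2 l with rfl | rfl
        · exact Or.inl h3
        · exact Or.inr h3
      cen := fun i => h.o2_cent i
      UQ' := fun i => h.W_le_o2 i
      half := fun i j hij => by
        have h3 := h.lemK (i := i) (j := j) hij.symm
        exact ⟨h3.trans inf_le_left, h3.trans inf_le_right⟩
      ab := by
        rintro a l l' ⟨k, rfl, rfl⟩ ⟨k', hk', rfl⟩
        have h3 : k⁻¹ * k' ∈ normalizer (Z 0 : Set G) := by
          rw [mem_normalizer_iff_cj]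
          have h4 : cj k (Z 0) = cj k' (Z 0) := hk'
          rw [← cj_cj, ← h4, cj_inv_cj]
        have h4 := h.comm 0 (a := 1) (b := k⁻¹ * k') (one_mem _) h3
        rw [cj_one] at h4
        have h5 : W 0 ≤ centralizer (cj (k⁻¹ * k') (W 0) : Set G) :=
          (h.fr.WV 0).trans (h4.trans (centralizer_le (cj_mono _ (h.fr.WV 0))))
        have h6 := cj_mono k h5
        rw [cj_centralizer, cj_cj, mul_inv_cancel_left] at h6
        exact h6
      syl := by rw [← ZJ_eq h]; exact h.syl_B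
      swB := ⟨s, mem_normalizer_iff_cj.1 (h.S_norm_B p.mem), h.cj_s_Z p, h.cj_s_Z' p, p.ij, p.ji⟩
      com := fun i b hb x hx => (h.fr.blk i).com b hb x hx
      free := fun i b hb x hx hxZ e => mem_centralizer_iff.2 fun u hu =>
        ((h.fr.blk i).free b hb x hx hxZ e u hu).symm
      root := fun i j hij x hx hxZ z hz => by
        obtain ⟨b, hb, hbc, e⟩ := h.root i x hx hxZ z hz
        exact ⟨b, hb, by rwa [C_eq_W h hij] at hbc, e⟩
      zB := fun x hx hx2 hc => by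
        rw [← ZJ_eq h, ← h.fr.zcB]
        exact mem_zc.2 ⟨hx, hx2, hc⟩
      zQ := fun x hx hxU hx2 hc => by
        rw [← V_eq h]
        refine h.fr.zcQ x ((mem_Q_iff h).2 ⟨hx, hxU⟩) hx2 fun y hy => ?_
        obtain ⟨h3, h4⟩ := (mem_Q_iff h).1 hy
        exact (hc y h3 h4).symm
      mvl := fun i j hij => BgQ.mvl h hij
      tor := fun i j hij x hx hxZ y hy hyZ => BgQ.tor h hij hx hxZ hy hyZ }

end Cfsg.Agent.Omega.NO3S.EThree

end

section


/-!
# THEOREM N (#23328), the field `zS` of `NV` (helper381's interface #23934), over the frame `Bg`, every level, every `k`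

`S_i = C_B(V_i)`:

* `hZO` : an involution of `Z(S_i)` lies in `V_i Z_J`;
* `zS`  : if moreover `[x, L_j] ≤ Z_i` (`j ≠ i`, `L_j := P ∩ C(C j)`), then `x ∈ V_i (Z_J ∩ C j)`;
* `zS_two` : `k = 2`, in the literal form of `NV.zS` with `L' = C_G(V_i)`: `x ∈ V_i`; `sylU` : `N_S(Z i)`.
-/

set_option autoImplicit false
set_option linter.unusedSectionVars false

namespace Cfsg.Agent.Omega.TCQ.R.ZS

open Subgroup Cfsg Cfsg.Agent.ZN.ChoiceBase
open Cfsg.Agent.ZN (zc zl o2)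
open Cfsg.Agent.ZN.ChoiceSit (Syl)
open Cfsg.Agent.Omega.OM Cfsg.Agent.Omega.OM.Uni
open Cfsg.Agent.Omega.NO3S.EThree.Frame
open scoped Pointwise

universe u

variable {G : Type u} [Group G] [Finite G] {S : Sylow 2 G} {P : Subgroup G} {ι : Type} {B ZJ : Subgroup G}
  {L W Z C : ι → Subgroup G} {q : ℕ} (h : Bg S P B ZJ L W Z C q)
include h

/-- **(hZO)** -/
theorem hZO' (i : ι) {x : G} (hx : x ∈ B) (_hxi : x ∈ centralizer (W i : Set G)) (hx2 : x ^ 2 = 1)
    (hc : ∀ t ∈ B, t ∈ centralizer (W i : Set G) → t * x = x * t) :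
    ∃ w ∈ W i, ∃ c ∈ C i, c ∈ ZJ ∧ x = w * c := by
  have hVS : ∀ v ∈ zl (S : Subgroup G) P, v ∈ centralizer (W i : Set G) := fun v hv =>
    mem_centralizer_iff.2 fun w hw => h.fr.Vc (h.fr.WV i hw) hv
  have hxQ : x ∈ o2 P := (h.fr.mem_Q x hx).2 fun v hv => (hc v (h.fr.VB hv) (hVS v hv)).symm
  have hxV : x ∈ zl (S : Subgroup G) P := by
    refine h.fr.zcQ x hxQ hx2 fun y hy => (hc y (h.fr.QB hy) ?_).symm
    exact mem_centralizer_iff.2 fun w hw => (h.fr.cQ hy (h.fr.WV i hw)).symm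
  obtain ⟨w, hw, c, hci, e⟩ := h.fr.WC i x hxV
  refine ⟨w, hw, c, hci, (h.fr.mem_ZJ c).2 ⟨h.fr.CV i hci, fun b hb => ?_⟩, e⟩
  -- an element of `S_i` centralises `c`
  have key : ∀ t ∈ B, t ∈ centralizer (W i : Set G) → t * c = c * t := by
    intro t ht htc
    have h1 : Commute t x := hc t ht htc
    have h2 : Commute t w := (mem_centralizer_iff.1 htc w hw).symm
    have h3 : c = w⁻¹ * x := by rw [e]; group
    rw [h3]
    exact (h2.inv_right.mul_right h1).eq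
  -- decompose `b`
  by_cases hWZ : ∃ v ∈ W i, v ∉ Z i
  · obtain ⟨v, hv, hvZ⟩ := hWZ
    obtain ⟨b', hb', hb'C, e'⟩ := h.root i v hv hvZ _ ((h.fr.blk i).com b hb v hv)
    have h4 : (b'⁻¹ * b) * v = v * (b'⁻¹ * b) := by
      have h5 : b' * v * b'⁻¹ = b * v * b⁻¹ := mul_right_cancel e'
      calc (b'⁻¹ * b) * v = b'⁻¹ * (b * v * b⁻¹) * b := by group
        _ = b'⁻¹ * (b' * v * b'⁻¹) * b := by rw [h5]
        _ = v * (b'⁻¹ * b) := by group
    have h6 : b'⁻¹ * b ∈ centralizer (W i : Set G) := mem_centralizer_iff.2 fun u hu =>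
      ((h.fr.blk i).free _ (mul_mem (inv_mem hb') hb) v hv hvZ h4 u hu).symm
    have h7 : Commute (b'⁻¹ * b) c := key _ (mul_mem (inv_mem hb') hb) h6
    have h8 : Commute b' c := (mem_centralizer_iff.1 hb'C c hci).symm
    have h9 : Commute (b' * (b'⁻¹ * b)) c := h8.mul_left h7
    rw [mul_inv_cancel_left] at h9
    exact h9.eq
  · push Not at hWZ
    refine key b hb (mem_centralizer_iff.2 fun u hu => ?_)
    exact ((h.fr.blk i).cZ b hb u (hWZ u hu)).symm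

theorem hZO (i : ι) {x : G} (hx : x ∈ B) (hxi : x ∈ centralizer (W i : Set G)) (hx2 : x ^ 2 = 1)
    (hc : ∀ t ∈ B, t ∈ centralizer (W i : Set G) → t * x = x * t) : x ∈ W i ⊔ ZJ := by
  obtain ⟨w, hw, c, -, hcZ, rfl⟩ := hZO' h i hx hxi hx2 hc
  exact mul_mem (mem_sup_left hw) (mem_sup_right hcZ)

omit h in
/-- three cosets -/
theorem exists_third {W Z : Subgroup G} {v : G} (hc : 2 * Nat.card Z < Nat.card W) :
    ∃ v' ∈ W, v' ∉ Z ∧ v'⁻¹ * v ∉ Z := by
  classical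
  by_contra hcon
  push Not at hcon
  have h1 : Function.Injective (fun w : W => if hw : (w : G) ∈ Z then ((⟨w, hw⟩ : Z), true)
      else ((⟨(w : G)⁻¹ * v, hcon w w.2 hw⟩ : Z), false)) := by
    intro a b hab
    dsimp only at hab
    split_ifs at hab with h2 h3 h3
    · have h4 : (⟨(a : G), h2⟩ : Z) = ⟨(b : G), h3⟩ := congrArg Prod.fst hab
      exact Subtype.ext (Subtype.mk.inj h4)
    · exact absurd (congrArg Prod.snd hab) (by simp)
    · exact absurd (congrArg Prod.snd hab) (by simp)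
    · have h4 : (a : G)⁻¹ * v = (b : G)⁻¹ * v := congrArg Subtype.val (congrArg Prod.fst hab)
      exact Subtype.ext (inv_injective (mul_right_cancel h4))
  have h2 := Nat.card_le_card_of_injective _ h1
  rw [Nat.card_prod, Nat.card_eq_fintype_card (α := Bool), Fintype.card_bool] at h2
  omega

/-- `P ∩ C(C j)` has no fixed point on `Z j`. -/
theorem no_fix (j : ι) {z : G} (hz : z ∈ Z j)
    (hf : ∀ g ∈ P, g ∈ centralizer (C j : Set G) → g * z * g⁻¹ = z) : z = 1 := by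
  by_contra hz1
  have hq : Nat.card (Z j) = q := h.fr.cardZ j
  have hW : Nat.card (W j) = q * q := by rw [(h.fr.blk j).card, hq]
  have h2 : 2 ≤ q := by
    rw [← hq]
    exact Subgroup.one_lt_card_iff_ne_bot _ |>.2 (h.Z_ne j)
  rcases Nat.lt_or_ge 2 q with h3 | h3
  · obtain ⟨v, hv, hvZ⟩ : ∃ v ∈ W j, v ∉ Z j := by
      by_contra hcon
      push Not at hcon
      have h4 := Subgroup.card_le_of_le (show W j ≤ Z j from hcon)
      rw [hq, hW] at h4
      nlinarith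
    obtain ⟨v', hv', hv'Z, hvv⟩ := exists_third (W := W j) (Z := Z j) (v := v) (by rw [hq, hW]; nlinarith)
    obtain ⟨t, htP, htC, -, -, -, ht⟩ := (h.scal h3 j).ex v hv hvZ v' hv' hv'Z
    exact hz1 (ht hvv z ((h.fr.blk j).ZV hz) (hf t htP htC))
  · have hq2 : q = 2 := le_antisymm h3 h2
    obtain ⟨x, hx, hxZ⟩ : ∃ v ∈ W j, v ∉ Z j := by
      by_contra hcon
      push Not at hcon
      have h4 := Subgroup.card_le_of_le (show W j ≤ Z j from hcon)
      rw [hq, hW] at h4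
      nlinarith
    obtain ⟨l, hl, hlc, z', hz', e⟩ := h.tr j x hx (fun e => hxZ (e ▸ one_mem _))
    have h5 : z' = z := by
      by_contra hne
      have hz'1 : z' ≠ 1 := by
        rintro rfl
        rw [mul_one, mul_inv_cancel] at e
        exact hxZ (e ▸ one_mem _)
      have h6 : Nat.card (Z j) = 2 := by rw [hq, hq2]
      classical
      have : Fintype (Z j) := Fintype.ofFinite _
      rw [Nat.card_eq_fintype_card] at h6
      have h7 : (Finset.univ : Finset (Z j)).card = 2 := h6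
      have h8 : ({1, ⟨z, hz⟩, ⟨z', hz'⟩} : Finset (Z j)).card = 3 := by
        rw [Finset.card_eq_three]
        exact ⟨1, ⟨z, hz⟩, ⟨z', hz'⟩, fun e => hz1 (congrArg Subtype.val e).symm,
          fun e => hz'1 (congrArg Subtype.val e).symm, fun e => hne (congrArg Subtype.val e).symm, rfl⟩
      have h9 := Finset.card_le_univ ({1, ⟨z, hz⟩, ⟨z', hz'⟩} : Finset (Z j))
      rw [h8] at h9
      omega
    subst h5
    rw [hf l hl hlc] at e
    exact hxZ (e ▸ hz')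

/-- **(zS)** -/
theorem zS' {i j : ι} (hij : i ≠ j) {x : G} (hx : x ∈ B) (hxi : x ∈ centralizer (W i : Set G)) (hx2 : x ^ 2 = 1)
    (hc : ∀ t ∈ B, t ∈ centralizer (W i : Set G) → t * x = x * t)
    (hL : ∀ g ∈ P, g ∈ centralizer (C j : Set G) → g * x * g⁻¹ * x⁻¹ ∈ Z i) :
    ∃ w ∈ W i, ∃ c ∈ C j, c ∈ ZJ ∧ x = w * c := by
  obtain ⟨w, hw, c, hci, hcZ, e⟩ := hZO' h i hx hxi hx2 hc
  obtain ⟨z, hz, d, hd, hdZ, e'⟩ := h.fr.split_ZJ j hcZ
  have hwC : w ∈ C j := h.fr.WjC j i hij.symm hw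
  have hz1 : z = 1 := by
    refine no_fix h j hz fun g hg hgc => ?_
    have h1 : Commute g w := (mem_centralizer_iff.1 hgc w hwC).symm
    have h2 : Commute g d := (mem_centralizer_iff.1 hgc d hd).symm
    have hzW : g * z * g⁻¹ ∈ W j := by
      have h3 := h.fix hg hgc j
      rw [← h3]
      exact ⟨z, (h.fr.blk j).ZV hz, rfl⟩
    have hgzV := h.fr.WV j hzW
    have h4 : g * x * g⁻¹ * x⁻¹ = g * z * g⁻¹ * z⁻¹ := by
      have e3 : g * x * g⁻¹ = w * (g * z * g⁻¹) * d := by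
        have e1 : g * w = w * g := h1.eq
        have e2 : d * g⁻¹ = g⁻¹ * d := h2.symm.inv_right.eq
        calc g * x * g⁻¹ = g * w * z * (d * g⁻¹) := by rw [e, e']; group
          _ = w * g * z * (g⁻¹ * d) := by rw [e1, e2]
          _ = w * (g * z * g⁻¹) * d := by group
      have e4 : w * (g * z * g⁻¹) = (g * z * g⁻¹) * w := h.fr.Vc (h.fr.WV i hw) hgzV
      have e5 : w * z⁻¹ = z⁻¹ * w := h.fr.Vc (h.fr.WV i hw) (inv_mem (h.fr.ZV j hz))
      rw [e3, e4, e, e']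
      calc g * z * g⁻¹ * w * d * (w * (z * d))⁻¹ = g * z * g⁻¹ * (w * z⁻¹) * w⁻¹ := by group
        _ = g * z * g⁻¹ * z⁻¹ := by rw [e5]; group
    have h5 := hL g hg hgc
    rw [h4] at h5
    have h6 : g * z * g⁻¹ * z⁻¹ ∈ W j ⊓ C j := mem_inf.2
      ⟨mul_mem hzW (inv_mem ((h.fr.blk j).ZV hz)), h.fr.WjC j i hij.symm ((h.fr.blk i).ZV h5)⟩
    rw [h.fr.dir j, mem_bot] at h6
    exact mul_inv_eq_one.1 h6
  refine ⟨w, hw, d, hd, hdZ, ?_⟩
  rw [e, e', hz1, one_mul]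

theorem zS {i j : ι} (hij : i ≠ j) {x : G} (hx : x ∈ B) (hxi : x ∈ centralizer (W i : Set G)) (hx2 : x ^ 2 = 1)
    (hc : ∀ t ∈ B, t ∈ centralizer (W i : Set G) → t * x = x * t)
    (hL : ∀ g ∈ P, g ∈ centralizer (C j : Set G) → g * x * g⁻¹ * x⁻¹ ∈ Z i) : x ∈ W i ⊔ (ZJ ⊓ C j) := by
  obtain ⟨w, hw, c, hc1, hc2, rfl⟩ := zS' h hij hx hxi hx2 hc hL
  exact mul_mem (mem_sup_left hw) (mem_sup_right (mem_inf.2 ⟨hc2, hc1⟩))

omit h in
/-- **(zS)**, `k = 2`, in the form of the field `NV.zS` (`S = C_B(V_i)`, `L' = C_G(V_i)`, `Zc = Z_i`). -/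
theorem zS_two {L W Z C : Fin 2 → Subgroup G} (h : Bg S P B ZJ L W Z C q) (i : Fin 2) :
    ∀ x ∈ B ⊓ centralizer (W i : Set G), x ^ 2 = 1 → (∀ t ∈ B ⊓ centralizer (W i : Set G), t * x = x * t) →
      (∀ g ∈ centralizer (W i : Set G), g * x * g⁻¹ * x⁻¹ ∈ Z i) → x ∈ W i := by
  obtain ⟨j, hij⟩ : ∃ j : Fin 2, i ≠ j := by revert i; decide
  intro x hx hx2 hc hL
  have hC : C j = W i := Cfsg.Agent.Omega.NO3S.EThree.BgQ.C_eq_W h hij.symm
  obtain ⟨w, hw, c, hcj, -, rfl⟩ := zS' h hij (mem_inf.1 hx).1 (mem_inf.1 hx).2 hx2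
    (fun t ht htc => hc t (mem_inf.2 ⟨ht, htc⟩)) fun g _ hg => hL g (by rwa [← hC])
  exact mul_mem hw (hC ▸ hcj)

/-- 483's `SylU` : `N_S(Z i)` is Sylow in `N_G(Z i)`, contains `B` and normalises `V_i` (every level). -/
theorem sylU [Finite ι] (i : ι) : ∃ T : Subgroup G, Syl T (normalizer (Z i : Set G)) ∧ B ≤ T ∧
    T ≤ normalizer (W i : Set G) :=
  ⟨(S : Subgroup G) ⊓ normalizer (Z i : Set G), h.syl i, h.bau_le_T i, by
    rw [h.inf_normalizer i]; exact inf_le_right⟩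

end Cfsg.Agent.Omega.TCQ.R.ZS

end
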