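import Cfsg.Agent.Mrg.Omega.TC.Int
import Cfsg.Agent.Mrg.Omega.NO3S.EThree.ExactB

section


/-!
# A full root group on a line: the cores of FIX and of THEOREM I, all `q` (helper997 #20474 (1), (4))

`Rt A E Z₁ x` : the elementary abelian group `A` induces on `E` the full root group with centre `Z₁`, `x ≤ E`,
`x ∩ Z₁ = 1`, `|x| = |Z₁|`.

* `Rt.fix` : `n ∈ Q`, `[n, Q] ≤ x`, `A`, `A_0 = C_A(E)` offend on the elementary abelian groups `≥ E` in `F` : `[n, Q] = 1`;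
* `Rt.int` : `A ≤ O` exact on `N ≥ E`, (NO) and the lifting for `O` on `N`: `[n, R] ≤ x Z₂` implies `[n, R] ≤ Z₂`.
-/

set_option autoImplicit false
set_option linter.unusedSectionVars false

namespace Cfsg.Agent.Omega.NO3S.EThree

open Subgroup Cfsg Cfsg.Agent.ZN
open Cfsg.Agent.Omega.NoFF.Basic (comm_symm)
open Cfsg.Agent.Omega.NO3S.EThree.ExactA (eab_iff eab_mono)
open Cfsg.Agent.Omega.OM.PG.Int (Ex rix_ne)
open Cfsg.Agent.Omega.OM.PG.Peel (Nob Exa exa_peel)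
open scoped Pointwise

universe u

variable {G : Type u} [Group G]

section count

variable [Finite G]

theorem relIndex_le_of {H A M : Subgroup G} (f : G → G) (h1 : ∀ a ∈ A, f a ∈ M)
    (h2 : ∀ a ∈ A, ∀ a' ∈ A, f a = f a' → a⁻¹ * a' ∈ H) : H.relIndex A ≤ Nat.card M := by
  classical
  have key : Function.Injective (fun c : A ⧸ H.subgroupOf A => (⟨f (c.out : A), h1 _ (c.out).2⟩ : M)) := by
    intro c c' e
    have e' : f (c.out : A) = f (c'.out : A) := congrArg Subtype.val e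
    have h3 := h2 _ (c.out).2 _ (c'.out).2 e'
    have h4 : (QuotientGroup.mk c.out : A ⧸ H.subgroupOf A) = QuotientGroup.mk c'.out :=
      QuotientGroup.eq.2 (mem_subgroupOf.2 (by simpa using h3))
    rwa [QuotientGroup.out_eq', QuotientGroup.out_eq'] at h4
  exact Nat.card_le_card_of_injective _ key

theorem le_relIndex_of {H D M : Subgroup G} (f : G → G) (h1 : ∀ z ∈ M, ∃ y ∈ D, f y = z)
    (h2 : ∀ y ∈ D, ∀ y' ∈ D, y⁻¹ * y' ∈ H → f y = f y') : Nat.card M ≤ H.relIndex D := by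
  classical
  choose! g hg hfg using h1
  have key : Function.Injective
      (fun z : M => (QuotientGroup.mk (⟨g z, hg z z.2⟩ : D) : D ⧸ H.subgroupOf D)) := by
    intro z z' e
    have h3 := QuotientGroup.eq.1 e
    have h4 := h2 _ (hg z z.2) _ (hg z' z'.2) (by simpa [mem_subgroupOf] using h3)
    rw [hfg z z.2, hfg z' z'.2] at h4
    exact Subtype.ext h4
  exact Nat.card_le_card_of_injective _ key

end count

/-- `A` induces on `E` the full root group with centre `Z₁`; `x ≤ E` with `x ∩ Z₁ = 1`, `|x| = |Z₁|`. -/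
structure Rt (A E Z₁ x : Subgroup G) : Prop where
  Ae : IsElementaryAbelian 2 A
  Ee : IsElementaryAbelian 2 E
  ZE : Z₁ ≤ E
  xE : x ≤ E
  disj : ∀ e ∈ x, e ∈ Z₁ → e = 1
  com : ∀ a ∈ A, ∀ e ∈ E, a * e * a⁻¹ * e⁻¹ ∈ Z₁
  free : ∀ a ∈ A, ∀ e ∈ x, e ≠ 1 → a * e = e * a → a ∈ centralizer (E : Set G)
  full : ∀ e ∈ x, e ≠ 1 → ∀ z ∈ Z₁, ∃ a ∈ A, a * e * a⁻¹ * e⁻¹ = z
  nob : (centralizer (E : Set G)).relIndex A ≤ (centralizer (A : Set G)).relIndex E
  card : Nat.card x = Nat.card Z₁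
  mv : ¬ A ≤ centralizer (E : Set G)

namespace Rt

variable {A E Z₁ x : Subgroup G} (h : Rt A E Z₁ x)
include h

theorem cE {a b : G} (ha : a ∈ E) (hb : b ∈ E) : a * b = b * a :=
  mem_centralizer_iff.1 ((eab_iff.1 h.Ee).1 hb) a ha

theorem sE {a : G} (ha : a ∈ E) : a * a = 1 := by rw [← pow_two]; exact (eab_iff.1 h.Ee).2 a ha

theorem iE {a : G} (ha : a ∈ E) : a⁻¹ = a := inv_eq_of_mul_eq_one_right (h.sE ha)

theorem cA {a b : G} (ha : a ∈ A) (hb : b ∈ A) : a * b = b * a :=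
  mem_centralizer_iff.1 ((eab_iff.1 h.Ae).1 hb) a ha

theorem conjE {a e : G} (ha : a ∈ A) (he : e ∈ E) : a * e * a⁻¹ ∈ E := by
  have h1 := mul_mem (h.ZE (h.com a ha e he)) he
  rwa [inv_mul_cancel_right] at h1

/-- `x^a ∩ x = 1` for `a ∈ A - C(E)` -/
theorem sep {a e e' : G} (ha : a ∈ A) (he : e ∈ x) (he' : e' ∈ x) (hae : a * e' * a⁻¹ = e) :
    e = 1 ∨ a ∈ centralizer (E : Set G) := by
  have h1 := h.com a ha e' (h.xE he')
  rw [hae] at h1
  have h2 := h.disj _ (mul_mem he (inv_mem he')) h1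
  have h3 : e = e' := mul_inv_eq_one.1 h2
  by_cases h4 : e' = 1
  · exact Or.inl (h3.trans h4)
  · refine Or.inr (h.free a ha e' he' h4 ?_)
    rw [h3] at hae
    exact mul_inv_eq_iff_eq_mul.1 hae

variable [Finite G]

/-- **FIX, core.** -/
theorem fix {Q F : Subgroup G} {n : G} (hA0 : A ⊓ centralizer (E : Set G) ≤ Q) (hQE : Q ≤ centralizer (E : Set G))
    (hAQ : ∀ a ∈ A, ∀ b ∈ Q, a⁻¹ * b * a ∈ Q) (hFQ : F ≤ Q) (hEF : E ≤ F)
    (hnF : ∀ a ∈ A, a * n * a⁻¹ ∈ F) (hn2 : n * n = 1)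
    (hx : ∀ b ∈ Q, n * b * n⁻¹ * b⁻¹ ∈ x)
    (off1 : ∀ X : Subgroup G, IsElementaryAbelian 2 X → E ≤ X → X ≤ F →
      (centralizer (A : Set G)).relIndex X ≤ (centralizer (X : Set G)).relIndex A)
    (off2 : ∀ X : Subgroup G, IsElementaryAbelian 2 X → E ≤ X → X ≤ F →
      (centralizer ((A ⊓ centralizer (E : Set G) : Subgroup G) : Set G)).relIndex X ≤
        (centralizer (X : Set G)).relIndex (A ⊓ centralizer (E : Set G) : Subgroup G)) :
    ∀ b ∈ Q, n * b * n⁻¹ * b⁻¹ = 1 := by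
  classical
  set A0 : Subgroup G := A ⊓ centralizer (E : Set G) with hA0d
  have hnF1 : n ∈ F := by have := hnF 1 (one_mem _); simpa using this
  have hnQ : ∀ a ∈ A, a * n * a⁻¹ ∈ Q := fun a ha => hFQ (hnF a ha)
  have cQE : ∀ b ∈ Q, ∀ e ∈ E, b * e = e * b := fun b hb e he => (mem_centralizer_iff.1 (hQE hb) e he).symm
  have ni : n⁻¹ = n := inv_eq_of_mul_eq_one_right hn2
  -- `[n^a, b] ∈ x^a`
  have hxa : ∀ a ∈ A, ∀ b ∈ Q, ∃ e ∈ x, (a * n * a⁻¹) * b * (a * n * a⁻¹)⁻¹ * b⁻¹ = a * e * a⁻¹ := by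
    intro a ha b hb
    refine ⟨_, hx _ (hAQ a ha b hb), by group⟩
  -- they commute
  have hcom : ∀ a ∈ A, ∀ b ∈ A, (a * n * a⁻¹) * (b * n * b⁻¹) = (b * n * b⁻¹) * (a * n * a⁻¹) := by
    intro a ha b hb
    obtain ⟨e, he, h1⟩ := hxa a ha _ (hnQ b hb)
    obtain ⟨e', he', h2⟩ := hxa b hb _ (hnQ a ha)
    have h3 : a * e * a⁻¹ = (b * e' * b⁻¹)⁻¹ := by rw [← h1, ← h2]; group
    have hc : b⁻¹ * a ∈ A := mul_mem (inv_mem hb) ha
    have h4 : (b⁻¹ * a) * e * (b⁻¹ * a)⁻¹ = e' := by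
      calc (b⁻¹ * a) * e * (b⁻¹ * a)⁻¹ = b⁻¹ * (a * e * a⁻¹) * b := by group
        _ = e'⁻¹ := by rw [h3]; group
        _ = e' := h.iE (h.xE he')
    rcases h.sep hc he' he h4 with h5 | h5
    · rw [h5] at h2
      have h6 : (b * n * b⁻¹) * (a * n * a⁻¹) * (b * n * b⁻¹)⁻¹ * (a * n * a⁻¹)⁻¹ = 1 := by rw [h2]; group
      have h7 := mul_inv_eq_one.1 h6
      exact (mul_inv_eq_iff_eq_mul.1 h7).symm
    · have hc0 : b⁻¹ * a ∈ Q := hA0 ⟨hc, h5⟩
      have h6 := hx _ hc0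
      set e₀ := n * (b⁻¹ * a) * n⁻¹ * (b⁻¹ * a)⁻¹ with he₀
      have h7 : (b⁻¹ * a) * n * (b⁻¹ * a)⁻¹ = e₀⁻¹ * n := by rw [he₀]; group
      have h8 : a * n * a⁻¹ = (b * e₀⁻¹ * b⁻¹) * (b * n * b⁻¹) := by
        calc a * n * a⁻¹ = b * ((b⁻¹ * a) * n * (b⁻¹ * a)⁻¹) * b⁻¹ := by group
          _ = _ := by rw [h7]; group
      have h9 : b * e₀⁻¹ * b⁻¹ ∈ E := h.conjE hb (inv_mem (h.xE h6))
      have h10 := cQE _ (hnQ b hb) _ h9
      rw [h8]
      calc (b * e₀⁻¹ * b⁻¹) * (b * n * b⁻¹) * (b * n * b⁻¹) = ((b * e₀⁻¹ * b⁻¹) * (b * n * b⁻¹)) * (b * n * b⁻¹) := rfl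
        _ = ((b * n * b⁻¹) * (b * e₀⁻¹ * b⁻¹)) * (b * n * b⁻¹) := by rw [h10]
        _ = _ := by group
  -- the group `X`
  set gens : Set G := (E : Set G) ∪ {y | ∃ a ∈ A, y = a * n * a⁻¹} with hgens
  set X : Subgroup G := closure gens with hX
  have hgc : ∀ y ∈ gens, ∀ y' ∈ gens, y * y' = y' * y := by
    rintro y (hy | ⟨a, ha, rfl⟩) y' (hy' | ⟨a', ha', rfl⟩)
    · exact h.cE hy hy'
    · exact (cQE _ (hnQ a' ha') _ hy).symm
    · exact cQE _ (hnQ a ha) _ hy'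
    · exact hcom a ha a' ha'
  have hXg : X ≤ centralizer gens := by
    rw [hX, closure_le]
    intro y hy
    exact mem_centralizer_iff.2 fun y' hy' => hgc y' hy' y hy
  have hXc : X ≤ centralizer (X : Set G) := by
    rw [le_centralizer_iff, hX, closure_le]
    intro y hy
    exact mem_centralizer_iff.2 fun y' hy' => (mem_centralizer_iff.1 (hXg hy') y hy).symm
  have hXs : ∀ y ∈ X, y ^ 2 = 1 := by
    intro y hy
    rw [hX] at hy
    induction hy using closure_induction with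
    | mem y hy =>
      rcases hy with hy | ⟨a, ha, rfl⟩
      · rw [pow_two]; exact h.sE hy
      · rw [pow_two]
        calc a * n * a⁻¹ * (a * n * a⁻¹) = a * (n * n) * a⁻¹ := by group
          _ = 1 := by rw [hn2]; group
    | one => exact one_pow _
    | mul y y' hy hy' h1 h2 =>
      have h3 : y * y' = y' * y := (mem_centralizer_iff.1 (hXc (hX ▸ hy)) y' (hX ▸ hy')).symm
      rw [(show Commute y y' from h3).mul_pow, h1, h2, one_mul]
    | inv y _ h1 => rw [inv_pow, h1, inv_one]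
  have hXe : IsElementaryAbelian 2 X := eab_iff.2 ⟨hXc, hXs⟩
  have hEX : E ≤ X := fun e he => subset_closure (Or.inl he)
  have hnX : ∀ a ∈ A, a * n * a⁻¹ ∈ X := fun a ha => subset_closure (Or.inr ⟨a, ha, rfl⟩)
  have hnX1 : n ∈ X := by have := hnX 1 (one_mem _); simpa using this
  have hXF : X ≤ F := by
    rw [hX, closure_le]
    rintro y (hy | ⟨a, ha, rfl⟩)
    · exact hEF hy
    · exact hnF a ha
  -- an element of `A0` which centralises `n` centralises `X`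
  have hcX : ∀ b ∈ A0, b * n = n * b → b ∈ centralizer (X : Set G) := by
    intro b hb hbn
    have h1 : X ≤ centralizer ({b} : Set G) := by
      rw [hX, closure_le]
      rintro y (hy | ⟨a, ha, rfl⟩)
      · rw [SetLike.mem_coe, mem_centralizer_singleton_iff]
        exact mem_centralizer_iff.1 hb.2 y hy
      · rw [SetLike.mem_coe, mem_centralizer_singleton_iff]
        have h2 := h.cA ha hb.1
        have h3 : a⁻¹ * b = b * a⁻¹ := by
          calc a⁻¹ * b = a⁻¹ * (b * a) * a⁻¹ := by group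
            _ = a⁻¹ * (a * b) * a⁻¹ := by rw [h2]
            _ = b * a⁻¹ := by group
        calc a * n * a⁻¹ * b = a * n * (a⁻¹ * b) := by group
          _ = a * (n * b) * a⁻¹ := by rw [h3]; group
          _ = (a * b) * n * a⁻¹ := by rw [← hbn]; group
          _ = b * (a * n * a⁻¹) := by rw [h2]; group
    exact mem_centralizer_iff.2 fun y hy => mem_centralizer_singleton_iff.1 (h1 hy)
  by_cases hω : ∀ b ∈ A0, n * b * n⁻¹ * b⁻¹ = 1
  · -- `ω = 0`
    have h1 : A0 ≤ centralizer (X : Set G) := by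
      intro b hb
      refine hcX b hb ?_
      have h2 := mul_inv_eq_one.1 (hω b hb)
      exact (mul_inv_eq_iff_eq_mul.1 h2).symm
    have h2 : (centralizer (X : Set G)).relIndex A ≤ (centralizer (E : Set G)).relIndex A := by
      rw [← inf_relIndex_left A (centralizer (E : Set G))]
      exact relIndex_le_of_le_left h1 index_ne_zero_of_finite
    have h3 := (off1 X hXe hEX hXF).trans (h2.trans h.nob)
    obtain ⟨u, hu, k, -, hk, e⟩ := TC.le_sup_of_relIndex hEX h3 hXc hnX1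
    obtain ⟨a, ha, haE⟩ := SetLike.not_le_iff_exists.1 h.mv
    have hak : a * k = k * a := mem_centralizer_iff.1 hk a ha
    set z := a * u * a⁻¹ * u⁻¹ with hz
    have hzE : z ∈ E := h.ZE (h.com a ha u hu)
    have h4 : a * n * a⁻¹ = z * n := by
      calc a * n * a⁻¹ = a * u * (k * a⁻¹) := by rw [e]; group
        _ = a * u * (a⁻¹ * k) := by
          have : k * a⁻¹ = a⁻¹ * k := by
            calc k * a⁻¹ = a⁻¹ * (a * k) * a⁻¹ := by group
              _ = a⁻¹ * (k * a) * a⁻¹ := by rw [hak]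
              _ = a⁻¹ * k := by group
          rw [this]
        _ = z * (u * k) := by rw [hz]; group
        _ = z * n := by rw [← e]
    intro b hb
    obtain ⟨e', he', h5⟩ := hxa a ha b hb
    have h6 : (a * n * a⁻¹) * b * (a * n * a⁻¹)⁻¹ * b⁻¹ = n * b * n⁻¹ * b⁻¹ := by
      rw [h4]
      have hzn : z * (n * b * n⁻¹ * b⁻¹) = (n * b * n⁻¹ * b⁻¹) * z := h.cE hzE (h.xE (hx b hb))
      have hzb := cQE b hb z hzE
      have hbz : b * z⁻¹ = z⁻¹ * b := by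
        calc b * z⁻¹ = z⁻¹ * (z * b) * z⁻¹ := by group
          _ = z⁻¹ * (b * z) * z⁻¹ := by rw [hzb]
          _ = z⁻¹ * b := by group
      calc z * n * b * (z * n)⁻¹ * b⁻¹ = z * (n * b * n⁻¹ * b⁻¹) * (b * z⁻¹) * b⁻¹ := by group
        _ = (n * b * n⁻¹ * b⁻¹) * z * (z⁻¹ * b) * b⁻¹ := by rw [hzn, hbz]
        _ = n * b * n⁻¹ * b⁻¹ := by group
    rw [h6] at h5
    exact (h.sep ha (hx b hb) he' h5.symm).resolve_right haE
  · -- `ω ≠ 0`
    exfalso
    push Not at hω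
    obtain ⟨b₀, hb₀, hne⟩ := hω
    have hsub : ∀ b ∈ A0, b ∈ Q := fun b hb => hA0 hb
    -- the commutators of `n^a n⁻¹`
    have key : ∀ a ∈ A, ∀ b ∈ A0, (a * n * a⁻¹ * n) * b * (a * n * a⁻¹ * n)⁻¹ * b⁻¹ =
        a * (n * b * n⁻¹ * b⁻¹) * a⁻¹ * (n * b * n⁻¹ * b⁻¹)⁻¹ := by
      intro a ha b hb
      have hab := h.cA ha hb.1
      set e := n * b * n⁻¹ * b⁻¹ with he
      have heE : e ∈ E := h.xE (hx b (hsub b hb))
      have h1 : n * b * n⁻¹ = e * b := by rw [he]; group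
      have h2 : (a * n * a⁻¹) * e = e * (a * n * a⁻¹) := cQE _ (hnQ a ha) e heE
      have h3 : (a * n * a⁻¹) * b * (a * n * a⁻¹)⁻¹ = a * e * a⁻¹ * b := by
        have h4 : a⁻¹ * b * a = b := by
          calc a⁻¹ * b * a = a⁻¹ * (b * a) := by group
            _ = a⁻¹ * (a * b) := by rw [hab]
            _ = b := by group
        calc (a * n * a⁻¹) * b * (a * n * a⁻¹)⁻¹ = a * (n * (a⁻¹ * b * a) * n⁻¹) * a⁻¹ := by group
          _ = a * (e * b) * a⁻¹ := by rw [h4, h1]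
          _ = a * e * (b * a⁻¹) := by group
          _ = a * e * (a⁻¹ * b) := by
            have : b * a⁻¹ = a⁻¹ * b := by
              calc b * a⁻¹ = a⁻¹ * (a * b) * a⁻¹ := by group
                _ = a⁻¹ * (b * a) * a⁻¹ := by rw [hab]
                _ = a⁻¹ * b := by group
            rw [this]
          _ = a * e * a⁻¹ * b := by group
      have h5 : (a * e * a⁻¹) * e = e * (a * e * a⁻¹) := h.cE (h.conjE ha heE) heE
      calc (a * n * a⁻¹ * n) * b * (a * n * a⁻¹ * n)⁻¹ * b⁻¹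
          = (a * n * a⁻¹) * (n * b * n⁻¹) * (a * n * a⁻¹)⁻¹ * b⁻¹ := by group
        _ = ((a * n * a⁻¹) * e) * b * (a * n * a⁻¹)⁻¹ * b⁻¹ := by rw [h1]; group
        _ = e * ((a * n * a⁻¹) * b * (a * n * a⁻¹)⁻¹) * b⁻¹ := by rw [h2]; group
        _ = e * (a * e * a⁻¹) := by rw [h3]; group
        _ = (a * e * a⁻¹) * e := h5.symm
        _ = a * e * a⁻¹ * e⁻¹ := by rw [h.iE heE]
    set e₀ := n * b₀ * n⁻¹ * b₀⁻¹ with he₀
    have he₀x : e₀ ∈ x := hx b₀ (hsub b₀ hb₀)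
    let X1 : Subgroup G :=
      { carrier := {y | y ∈ X ∧ ∀ b ∈ A0, y * b * y⁻¹ * b⁻¹ ∈ Z₁}
        one_mem' := ⟨one_mem _, fun b _ => by simp⟩
        mul_mem' := by
          rintro y y' ⟨h1, h2⟩ ⟨h3, h4⟩
          refine ⟨mul_mem h1 h3, fun b hb => ?_⟩
          have e : y * y' * b * (y * y')⁻¹ * b⁻¹ = y * (y' * b * y'⁻¹ * b⁻¹) * y⁻¹ * (y * b * y⁻¹ * b⁻¹) := by group
          have h5 : y * (y' * b * y'⁻¹ * b⁻¹) * y⁻¹ = y' * b * y'⁻¹ * b⁻¹ := by
            have h6 := mem_centralizer_iff.1 (hXc h1) _ (hEX (h.ZE (h4 b hb)))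
            rw [← h6, mul_inv_cancel_right]
          rw [e, h5]
          exact mul_mem (h4 b hb) (h2 b hb)
        inv_mem' := by
          rintro y ⟨h1, h2⟩
          refine ⟨inv_mem h1, fun b hb => ?_⟩
          have e : y⁻¹ * b * y⁻¹⁻¹ * b⁻¹ = y⁻¹ * (y * b * y⁻¹ * b⁻¹)⁻¹ * y := by group
          have h6 := mem_centralizer_iff.1 (hXc h1) _ (hEX (h.ZE (inv_mem (h2 b hb))))
          rw [e, mul_assoc, h6, inv_mul_cancel_left]
          exact inv_mem (h2 b hb) }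
    have hX1 : X1 ≤ X := fun y hy => hy.1
    set C : Subgroup G := X ⊓ centralizer (A0 : Set G) with hC
    have hCX1 : C ≤ X1 := by
      rintro y ⟨h1, h2⟩
      refine ⟨h1, fun b hb => ?_⟩
      have e : y * b * y⁻¹ * b⁻¹ = 1 := by rw [← mem_centralizer_iff.1 h2 b hb]; group
      rw [e]; exact one_mem _
    have h1 := relIndex_mul_relIndex C X1 X hCX1 hX1
    have h2 : C.relIndex X = (centralizer (A0 : Set G)).relIndex X := inf_relIndex_left _ _
    have h3 : 2 ≤ X1.relIndex X := by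
      have h4 := rix_ne X1 X
      have h5 : X1.relIndex X ≠ 1 := by
        intro h5
        have h6 : n ∈ X1 := relIndex_eq_one.1 h5 hnX1
        exact hne (h.disj _ he₀x (h6.2 b₀ hb₀))
      omega
    have h4 : Nat.card Z₁ ≤ C.relIndex X1 := by
      refine le_relIndex_of (fun y => y * b₀ * y⁻¹ * b₀⁻¹) ?_ ?_
      · intro z hz
        obtain ⟨a, ha, e⟩ := h.full e₀ he₀x hne z hz
        refine ⟨a * n * a⁻¹ * n, ⟨mul_mem (hnX a ha) hnX1, fun b hb => ?_⟩, ?_⟩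
        · rw [key a ha b hb]
          exact h.com a ha _ (h.xE (hx b (hsub b hb)))
        · rw [key a ha b₀ hb₀]
          exact e
      · intro y _ y' _ hyy
        have h5 := mem_centralizer_iff.1 hyy.2 b₀ hb₀
        have e : y' = y * (y⁻¹ * y') := by group
        change y * b₀ * y⁻¹ * b₀⁻¹ = y' * b₀ * y'⁻¹ * b₀⁻¹
        rw [e]
        have h6 : (y⁻¹ * y') * b₀ * (y⁻¹ * y')⁻¹ = b₀ := by rw [← h5]; group
        calc y * b₀ * y⁻¹ * b₀⁻¹ = y * ((y⁻¹ * y') * b₀ * (y⁻¹ * y')⁻¹) * y⁻¹ * b₀⁻¹ := by rw [h6]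
          _ = _ := by group
    have h5 := off2 X hXe hEX hXF
    have h6 : (centralizer (X : Set G)).relIndex A0 ≤ Nat.card x := by
      refine relIndex_le_of (fun b => n * b * n⁻¹ * b⁻¹) (fun b hb => hx b (hsub b hb)) ?_
      intro b hb b' hb' hbb
      refine hcX _ (mul_mem (inv_mem hb) hb') ?_
      have h7 : b * n⁻¹ * b⁻¹ = b' * n⁻¹ * b'⁻¹ := by
        have h8 : n * (b * n⁻¹ * b⁻¹) = n * (b' * n⁻¹ * b'⁻¹) := by
          calc n * (b * n⁻¹ * b⁻¹) = n * b * n⁻¹ * b⁻¹ := by group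
            _ = n * b' * n⁻¹ * b'⁻¹ := hbb
            _ = _ := by group
        exact mul_left_cancel h8
      rw [ni] at h7
      calc b⁻¹ * b' * n = b⁻¹ * (b' * n * b'⁻¹) * b' := by group
        _ = b⁻¹ * (b * n * b⁻¹) * b' := by rw [h7]
        _ = n * (b⁻¹ * b') := by group
    rw [h.card] at h6
    have h7 : 0 < Nat.card Z₁ := Nat.card_pos
    have h8 : Nat.card Z₁ * 2 ≤ Nat.card Z₁ := by
      calc Nat.card Z₁ * 2 ≤ C.relIndex X1 * X1.relIndex X := Nat.mul_le_mul h4 h3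
        _ = (centralizer (A0 : Set G)).relIndex X := by rw [h1, h2]
        _ ≤ _ := h5.trans h6
    omega

/-- **THEOREM I, core.** -/
theorem int {N O Z₂ R : Subgroup G} {n : G} (hN : IsElementaryAbelian 2 N) (hEN : E ≤ N)
    (hNO : ∀ B : Subgroup G, IsElementaryAbelian 2 B → B ≤ O →
      (centralizer (N : Set G)).relIndex B ≤ (centralizer (B : Set G)).relIndex N)
    (hLift : ∀ B : Subgroup G, IsElementaryAbelian 2 B → B ≤ O → Ex B N → ∀ n ∈ N,
      (∀ b ∈ B, n * b * n⁻¹ * b⁻¹ ∈ Z₂) → n ∈ centralizer (B : Set G))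
    (hAO : A ≤ O) (hAe : Ex A N) (hAN : ∀ a ∈ A, ∀ m ∈ N, a * m * a⁻¹ ∈ N)
    (hAZ : ∀ a ∈ A, ∀ z ∈ Z₂, a * z = z * a) (hEZ : ∀ e ∈ E, e ∈ Z₂ → e = 1) (hZN : Z₂ ≤ N)
    (hA0 : A ⊓ centralizer (E : Set G) ≤ R) (hRE : R ≤ centralizer (E : Set G))
    (hAR : ∀ a ∈ A, ∀ b ∈ R, a⁻¹ * b * a ∈ R)
    (hn : n ∈ N) (hx : ∀ b ∈ R, ∃ e ∈ x, ∃ z ∈ Z₂, n * b * n⁻¹ * b⁻¹ = e * z) :
    ∀ b ∈ R, n * b * n⁻¹ * b⁻¹ ∈ Z₂ := by
  classical
  obtain ⟨hNc, hNs⟩ := eab_iff.1 hN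
  have cN : ∀ p ∈ N, ∀ q ∈ N, p * q = q * p := fun p hp q hq => (mem_centralizer_iff.1 (hNc hq) p hp)
  have sN : ∀ p ∈ N, p * p = 1 := fun p hp => by rw [← pow_two]; exact hNs p hp
  have iN : ∀ p ∈ N, p⁻¹ = p := fun p hp => inv_eq_of_mul_eq_one_right (sN p hp)
  set A0 : Subgroup G := A ⊓ centralizer (E : Set G) with hA0d
  have hA0A : A0 ≤ A := inf_le_left
  have hA0e : IsElementaryAbelian 2 A0 := eab_mono h.Ae hA0A
  have cRE : ∀ b ∈ R, ∀ e ∈ E, b * e = e * b := fun b hb e he => (mem_centralizer_iff.1 (hRE hb) e he).symm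
  obtain ⟨hEx0, hle⟩ := exa_peel (N := N) (V := E) (B := A) hEN hAe h.nob (hNO A0 hA0e (hA0A.trans hAO))
  by_cases hp : ∀ b ∈ A0, n * b * n⁻¹ * b⁻¹ ∈ Z₂
  · -- `p = 0`
    have h1 := hLift A0 hA0e (hA0A.trans hAO) hEx0 n hn hp
    have h2 : n ∈ E ⊔ (N ⊓ centralizer (A : Set G)) := hle ⟨hn, h1⟩
    obtain ⟨u, hu, k, hk, e⟩ := OM.KTwo.exists_mul_of_mem_sup
      (((inf_le_left : N ⊓ centralizer (A : Set G) ≤ N).trans (hNc.trans (centralizer_le hEN))).trans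
        (centralizer_le_normalizer _)) h2
    obtain ⟨a, ha, haE⟩ := SetLike.not_le_iff_exists.1 h.mv
    have hak : a * k = k * a := mem_centralizer_iff.1 hk.2 a ha
    set z := a * u * a⁻¹ * u⁻¹ with hz
    have hzE : z ∈ E := h.ZE (h.com a ha u hu)
    have h4 : a * n * a⁻¹ = z * n := by
      calc a * n * a⁻¹ = a * u * (k * a⁻¹) := by rw [e]; group
        _ = a * u * (a⁻¹ * k) := by
          have : k * a⁻¹ = a⁻¹ * k := by
            calc k * a⁻¹ = a⁻¹ * (a * k) * a⁻¹ := by group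
              _ = a⁻¹ * (k * a) * a⁻¹ := by rw [hak]
              _ = a⁻¹ * k := by group
          rw [this]
        _ = z * (u * k) := by rw [hz]; group
        _ = z * n := by rw [← e]
    intro b hb
    obtain ⟨e₁, he₁, z₁, hz₁, h5⟩ := hx b hb
    obtain ⟨e₂, he₂, z₂, hz₂, h6⟩ := hx _ (hAR a ha b hb)
    have h7 : (a * n * a⁻¹) * b * (a * n * a⁻¹)⁻¹ * b⁻¹ = a * e₂ * a⁻¹ * z₂ := by
      calc (a * n * a⁻¹) * b * (a * n * a⁻¹)⁻¹ * b⁻¹ = a * (n * (a⁻¹ * b * a) * n⁻¹ * (a⁻¹ * b * a)⁻¹) * a⁻¹ := by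
            group
        _ = a * e₂ * (z₂ * a⁻¹) := by rw [h6]; group
        _ = a * e₂ * (a⁻¹ * z₂) := by
          have h8 := hAZ a⁻¹ (inv_mem ha) z₂ hz₂
          rw [h8]
        _ = _ := by group
    have h8 : (a * n * a⁻¹) * b * (a * n * a⁻¹)⁻¹ * b⁻¹ = n * b * n⁻¹ * b⁻¹ := by
      rw [h4]
      have hcN : n * b * n⁻¹ * b⁻¹ ∈ N := by
        rw [h5]
        exact mul_mem (hEN (h.xE he₁)) (hZN hz₁)
      have hzn : z * (n * b * n⁻¹ * b⁻¹) = (n * b * n⁻¹ * b⁻¹) * z := cN _ (hEN hzE) _ hcN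
      have hzb := cRE b hb z hzE
      have hbz : b * z⁻¹ = z⁻¹ * b := by
        calc b * z⁻¹ = z⁻¹ * (z * b) * z⁻¹ := by group
          _ = z⁻¹ * (b * z) * z⁻¹ := by rw [hzb]
          _ = z⁻¹ * b := by group
      calc z * n * b * (z * n)⁻¹ * b⁻¹ = z * (n * b * n⁻¹ * b⁻¹) * (b * z⁻¹) * b⁻¹ := by group
        _ = (n * b * n⁻¹ * b⁻¹) * z * (z⁻¹ * b) * b⁻¹ := by rw [hzn, hbz]
        _ = n * b * n⁻¹ * b⁻¹ := by group
    rw [h8, h5] at h7
    have h9 : (a * e₂ * a⁻¹)⁻¹ * e₁ = z₂ * z₁⁻¹ := by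
      calc (a * e₂ * a⁻¹)⁻¹ * e₁ = (a * e₂ * a⁻¹)⁻¹ * (e₁ * z₁) * z₁⁻¹ := by group
        _ = z₂ * z₁⁻¹ := by rw [h7]; group
    have h10 : (a * e₂ * a⁻¹)⁻¹ * e₁ = 1 := by
      refine hEZ _ (mul_mem (inv_mem (h.conjE ha (h.xE he₂))) (h.xE he₁)) ?_
      rw [h9]
      exact mul_mem hz₂ (inv_mem hz₁)
    have h11 : a * e₂ * a⁻¹ = e₁ := inv_mul_eq_one.1 h10
    have h12 := (h.sep ha he₁ he₂ h11).resolve_right haE
    rw [h5, h12, one_mul]
    exact hz₁
  · -- `p ≠ 0`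
    exfalso
    push Not at hp
    obtain ⟨b₀, hb₀, hne⟩ := hp
    obtain ⟨e₀, he₀, z₀, hz₀, h0⟩ := hx b₀ (hA0 hb₀)
    have he₀1 : e₀ ≠ 1 := by
      intro h1
      apply hne
      rw [h0, h1, one_mul]
      exact hz₀
    -- the commutators of `n^a n`
    have key : ∀ a ∈ A, ∀ b ∈ A0, ∀ e ∈ x, ∀ z ∈ Z₂, n * b * n⁻¹ * b⁻¹ = e * z →
        (a * n * a⁻¹ * n) * b * (a * n * a⁻¹ * n)⁻¹ * b⁻¹ = a * e * a⁻¹ * e⁻¹ := by
      intro a ha b hb e he z hz h1
      have hab := h.cA ha hb.1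
      have heE : e ∈ E := h.xE he
      have h1' : n * b * n⁻¹ = e * z * b := by rw [← h1]; group
      have hbE : ∀ y ∈ E, b * y = y * b := fun y hy => (mem_centralizer_iff.1 hb.2 y hy).symm
      have hba : b * a⁻¹ = a⁻¹ * b := by
        calc b * a⁻¹ = a⁻¹ * (a * b) * a⁻¹ := by group
          _ = a⁻¹ * (b * a) * a⁻¹ := by rw [hab]
          _ = a⁻¹ * b := by group
      have h3 : (a * n * a⁻¹) * b * (a * n * a⁻¹)⁻¹ = a * e * a⁻¹ * z * b := by
        have h4 : a⁻¹ * b * a = b := by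
          calc a⁻¹ * b * a = a⁻¹ * (b * a) := by group
            _ = a⁻¹ * (a * b) := by rw [hab]
            _ = b := by group
        have h5 := hAZ a⁻¹ (inv_mem ha) z hz
        calc (a * n * a⁻¹) * b * (a * n * a⁻¹)⁻¹ = a * (n * (a⁻¹ * b * a) * n⁻¹) * a⁻¹ := by group
          _ = a * (e * z * b) * a⁻¹ := by rw [h4, h1']
          _ = a * e * z * (b * a⁻¹) := by group
          _ = a * e * (z * a⁻¹) * b := by rw [hba]; group
          _ = a * e * a⁻¹ * z * b := by rw [← h5]; group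
      have hnaN : a * n * a⁻¹ ∈ N := hAN a ha n hn
      have hezN : e * z ∈ N := mul_mem (hEN heE) (hZN hz)
      have h2 : (a * n * a⁻¹) * (e * z) = (e * z) * (a * n * a⁻¹) := cN _ hnaN _ hezN
      have haeN : a * e * a⁻¹ ∈ N := hEN (h.conjE ha heE)
      have h5 : (e * z) * (a * e * a⁻¹) = (a * e * a⁻¹) * (e * z) := cN _ hezN _ haeN
      have h6 : e * z * z = e := by rw [mul_assoc, sN z (hZN hz), mul_one]
      calc (a * n * a⁻¹ * n) * b * (a * n * a⁻¹ * n)⁻¹ * b⁻¹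
          = (a * n * a⁻¹) * (n * b * n⁻¹) * (a * n * a⁻¹)⁻¹ * b⁻¹ := by group
        _ = ((a * n * a⁻¹) * (e * z)) * b * (a * n * a⁻¹)⁻¹ * b⁻¹ := by rw [h1']; group
        _ = (e * z) * ((a * n * a⁻¹) * b * (a * n * a⁻¹)⁻¹) * b⁻¹ := by rw [h2]; group
        _ = ((e * z) * (a * e * a⁻¹)) * z := by rw [h3]; group
        _ = a * e * a⁻¹ * (e * z * z) := by rw [h5]; group
        _ = a * e * a⁻¹ * e⁻¹ := by rw [h6, h.iE heE]
    -- `B_p`
    let Bp : Subgroup G :=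
      { carrier := {b | b ∈ A0 ∧ n * b * n⁻¹ * b⁻¹ ∈ Z₂}
        one_mem' := ⟨one_mem _, by simp⟩
        mul_mem' := by
          rintro b b' ⟨h1, h2⟩ ⟨h3, h4⟩
          refine ⟨mul_mem h1 h3, ?_⟩
          have h5 : b * (n * b' * n⁻¹ * b'⁻¹) * b⁻¹ = n * b' * n⁻¹ * b'⁻¹ := by
            rw [hAZ b h1.1 _ h4, mul_inv_cancel_right]
          have e : n * (b * b') * n⁻¹ * (b * b')⁻¹ =
              (n * b * n⁻¹ * b⁻¹) * (b * (n * b' * n⁻¹ * b'⁻¹) * b⁻¹) := by group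
          rw [e, h5]
          exact mul_mem h2 h4
        inv_mem' := by
          rintro b ⟨h1, h2⟩
          refine ⟨inv_mem h1, ?_⟩
          have e : n * b⁻¹ * n⁻¹ * b⁻¹⁻¹ = b⁻¹ * (n * b * n⁻¹ * b⁻¹)⁻¹ * b := by group
          have h5 := hAZ b h1.1 _ (inv_mem h2)
          rw [e, mul_assoc, ← h5, inv_mul_cancel_left]
          exact inv_mem h2 }
    have hBpA0 : Bp ≤ A0 := fun b hb => hb.1
    have hBpe : IsElementaryAbelian 2 Bp := eab_mono hA0e hBpA0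
    have hBpO : Bp ≤ O := (hBpA0.trans hA0A).trans hAO
    let D' : Subgroup G :=
      { carrier := {y | (y ∈ N ∧ y ∈ centralizer (Bp : Set G)) ∧ ∀ b ∈ A0, y * b * y⁻¹ * b⁻¹ ∈ Z₁}
        one_mem' := ⟨⟨one_mem _, one_mem _⟩, fun b _ => by simp⟩
        mul_mem' := by
          rintro y y' ⟨⟨h1, h1'⟩, h2⟩ ⟨⟨h3, h3'⟩, h4⟩
          refine ⟨⟨mul_mem h1 h3, mul_mem h1' h3'⟩, fun b hb => ?_⟩
          have e : y * y' * b * (y * y')⁻¹ * b⁻¹ = y * (y' * b * y'⁻¹ * b⁻¹) * y⁻¹ * (y * b * y⁻¹ * b⁻¹) := by group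
          have h5 : y * (y' * b * y'⁻¹ * b⁻¹) * y⁻¹ = y' * b * y'⁻¹ * b⁻¹ := by
            rw [cN _ h1 _ (hEN (h.ZE (h4 b hb))), mul_inv_cancel_right]
          rw [e, h5]
          exact mul_mem (h4 b hb) (h2 b hb)
        inv_mem' := by
          rintro y ⟨⟨h1, h1'⟩, h2⟩
          refine ⟨⟨inv_mem h1, inv_mem h1'⟩, fun b hb => ?_⟩
          have e : y⁻¹ * b * y⁻¹⁻¹ * b⁻¹ = y⁻¹ * (y * b * y⁻¹ * b⁻¹)⁻¹ * y := by group
          have h6 := cN _ (hEN (h.ZE (inv_mem (h2 b hb)))) _ h1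
          rw [e, mul_assoc, h6, inv_mul_cancel_left]
          exact inv_mem (h2 b hb) }
    set CB : Subgroup G := N ⊓ centralizer (Bp : Set G) with hCB
    set CA : Subgroup G := N ⊓ centralizer (A0 : Set G) with hCA
    have hD'CB : D' ≤ CB := fun y hy => hy.1
    have hCACB : CA ≤ CB := inf_le_inf_left _ (centralizer_le hBpA0)
    have hCAD' : CA ≤ D' := by
      intro y hy
      refine ⟨hCACB hy, fun b hb => ?_⟩
      have e : y * b * y⁻¹ * b⁻¹ = 1 := by rw [← mem_centralizer_iff.1 hy.2 b hb]; group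
      rw [e]; exact one_mem _
    have h1 : Nat.card Z₁ ≤ CA.relIndex D' := by
      refine le_relIndex_of (fun y => y * b₀ * y⁻¹ * b₀⁻¹) ?_ ?_
      · intro z hz
        obtain ⟨a, ha, e⟩ := h.full e₀ he₀ he₀1 z hz
        refine ⟨a * n * a⁻¹ * n, ⟨⟨mul_mem (hAN a ha n hn) hn, ?_⟩, fun b hb => ?_⟩, ?_⟩
        · refine mem_centralizer_iff.2 fun b hb => ?_
          have h2 := key a ha b hb.1 1 (one_mem _) _ hb.2 (by rw [one_mul])
          simp only [mul_one, mul_inv_cancel, inv_one] at h2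
          have h3 := mul_inv_eq_one.1 h2
          exact (mul_inv_eq_iff_eq_mul.1 h3).symm
        · obtain ⟨e₁, he₁, z₁, hz₁, h5⟩ := hx b (hA0 hb)
          rw [key a ha b hb e₁ he₁ z₁ hz₁ h5]
          exact h.com a ha _ (h.xE he₁)
        · rw [key a ha b₀ hb₀ e₀ he₀ z₀ hz₀ h0]
          exact e
      · intro y _ y' _ hyy
        have h5 := mem_centralizer_iff.1 hyy.2 b₀ hb₀
        have e : y' = y * (y⁻¹ * y') := by group
        change y * b₀ * y⁻¹ * b₀⁻¹ = y' * b₀ * y'⁻¹ * b₀⁻¹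
        rw [e]
        have h6 : (y⁻¹ * y') * b₀ * (y⁻¹ * y')⁻¹ = b₀ := by rw [← h5]; group
        calc y * b₀ * y⁻¹ * b₀⁻¹ = y * ((y⁻¹ * y') * b₀ * (y⁻¹ * y')⁻¹) * y⁻¹ * b₀⁻¹ := by rw [h6]
          _ = _ := by group
    have h2 : Bp.relIndex A0 ≤ Nat.card x := by
      choose! f hf g hg hfg using hx
      refine relIndex_le_of f (fun b hb => hf b (hA0 hb)) ?_
      intro b hb b' hb' hbb
      refine ⟨mul_mem (inv_mem hb) hb', ?_⟩
      have h3 := hfg b (hA0 hb)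
      have h4 := hfg b' (hA0 hb')
      have h5 : n * (b⁻¹ * b') * n⁻¹ * (b⁻¹ * b')⁻¹ =
          b⁻¹ * ((n * b * n⁻¹ * b⁻¹)⁻¹ * (n * b' * n⁻¹ * b'⁻¹)) * b := by
        group
      have h6 : (n * b * n⁻¹ * b⁻¹)⁻¹ * (n * b' * n⁻¹ * b'⁻¹) = (g b)⁻¹ * g b' := by
        rw [h3, h4, hbb]; group
      rw [h5, h6]
      have h7 : (g b)⁻¹ * g b' ∈ Z₂ := mul_mem (inv_mem (hg b (hA0 hb))) (hg b' (hA0 hb'))
      rw [mul_assoc, ← hAZ b hb.1 _ h7, inv_mul_cancel_left]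
      exact h7
    rw [h.card] at h2
    -- the indices
    have f0 : (centralizer (N : Set G)).relIndex A0 = (centralizer (A0 : Set G)).relIndex N := hEx0
    have hcNB : A0 ⊓ centralizer (N : Set G) ≤ Bp := by
      rintro b ⟨hb1, hb2⟩
      refine ⟨hb1, ?_⟩
      have e : n * b * n⁻¹ * b⁻¹ = 1 := by rw [mem_centralizer_iff.1 hb2 n hn]; group
      rw [e]; exact one_mem _
    have f1 : (centralizer (N : Set G)).relIndex Bp * Bp.relIndex A0 = (centralizer (N : Set G)).relIndex A0 := by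
      have g1 := relIndex_mul_relIndex _ _ _ hcNB hBpA0
      have g2 : (A0 ⊓ centralizer (N : Set G)).relIndex A0 = (centralizer (N : Set G)).relIndex A0 :=
        inf_relIndex_left _ _
      have g3 : (A0 ⊓ centralizer (N : Set G)).relIndex Bp = (centralizer (N : Set G)).relIndex Bp := by
        have g4 : A0 ⊓ centralizer (N : Set G) = Bp ⊓ centralizer (N : Set G) :=
          le_antisymm (le_inf hcNB inf_le_right) (inf_le_inf_right _ hBpA0)
        rw [g4]; exact inf_relIndex_left _ _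
      rw [g2, g3] at g1
      exact g1
    have f2 : CA.relIndex CB * (centralizer (Bp : Set G)).relIndex N = (centralizer (A0 : Set G)).relIndex N := by
      have g1 := relIndex_mul_relIndex _ _ _ hCACB (inf_le_left : CB ≤ N)
      have g2 : CA.relIndex N = (centralizer (A0 : Set G)).relIndex N := inf_relIndex_left _ _
      have g3 : CB.relIndex N = (centralizer (Bp : Set G)).relIndex N := inf_relIndex_left _ _
      rw [g2, g3] at g1
      exact g1
    have f3 : CA.relIndex D' * D'.relIndex CB = CA.relIndex CB := relIndex_mul_relIndex _ _ _ hCAD' hD'CB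
    have f4 := hNO Bp hBpe hBpO
    have p1 : 0 < Nat.card Z₁ := Nat.card_pos
    have p2 := Nat.pos_of_ne_zero (rix_ne (centralizer (Bp : Set G)) N)
    have p3 := Nat.pos_of_ne_zero (rix_ne D' CB)
    set q := Nat.card Z₁
    set β := (centralizer (N : Set G)).relIndex Bp
    set κ := (centralizer (Bp : Set G)).relIndex N
    set r := Bp.relIndex A0
    set s := CA.relIndex D'
    set t := D'.relIndex CB
    have f5 : β * r = s * t * κ := by rw [f1, f0, ← f2, ← f3]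
    have f6 : β * r ≤ κ * q := Nat.mul_le_mul f4 h2
    have f7 : q * t * κ ≤ s * t * κ := Nat.mul_le_mul_right _ (Nat.mul_le_mul_right _ h1)
    have ht1 : t = 1 := by
      have g1 : (q * κ) * t ≤ (q * κ) * 1 := by
        calc (q * κ) * t = q * t * κ := by ring
          _ ≤ s * t * κ := f7
          _ ≤ κ * q := by rw [← f5]; exact f6
          _ = (q * κ) * 1 := by ring
      have g2 := Nat.le_of_mul_le_mul_left g1 (Nat.mul_pos p1 p2)
      omega
    have hβκ : β = κ := by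
      refine le_antisymm f4 ?_
      rw [ht1, mul_one] at f7 f5
      have g1 : κ * q ≤ β * q := by
        calc κ * q = q * κ := by ring
          _ ≤ s * κ := by simpa using f7
          _ = β * r := f5.symm
          _ ≤ β * q := Nat.mul_le_mul_left _ h2
      exact Nat.le_of_mul_le_mul_right g1 p1
    have h3 : n ∈ centralizer (Bp : Set G) := hLift Bp hBpe hBpO hβκ n hn fun b hb => hb.2
    have h4 : CB ≤ D' := relIndex_eq_one.1 ht1
    have h5 := (h4 ⟨hn, h3⟩).2 b₀ hb₀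
    rw [h0] at h5
    have h6 : z₀ ∈ E := by
      have := mul_mem (inv_mem (h.xE he₀)) (h.ZE h5)
      rwa [inv_mul_cancel_left] at this
    have h7 := hEZ z₀ h6 hz₀
    rw [h7, mul_one] at h5
    exact he₀1 (h.disj _ he₀ h5)

end Rt

end Cfsg.Agent.Omega.NO3S.EThree

end

section


/-!
# The frame `FQ` of TEXT Q4: basic facts

* `FQ.pt`, `FQ.adj` : `Z i` is a point, `Z i ~ Z j`; `FQ.U_le_N` : `U j ≤ N_i`; `FQ.Q_le_O`, `FQ.O_le_B`;
* `FQ.rt` : a `Rt` from an elementary abelian `A ≤ B` moving `U i` with `|A : C_A(U i)| ≥ |U i : C_{U i}(A)|`;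
* `FQ.rt_AA` : a `Rt` from `A ∈ AA Y`, `U i ≤ Y ≤ B`.
-/

set_option autoImplicit false
set_option linter.unusedSectionVars false

namespace Cfsg.Agent.Omega.NO3S.EThree

open Subgroup Cfsg Cfsg.Agent.ZN Cfsg.Agent.Omega.MinPar
open Cfsg.Agent.Omega.NoFF.Basic (conj_conj mem_conj conj_le_iff conj_le_centralizer comm_symm comm_mono)
open Cfsg.Agent.Omega.NOThreeL.Pair (conj_eq_of_mem)
open Cfsg.Agent.Omega.OM.PG
open Cfsg.Agent.Omega.OM.PG.Int (Ex rix_ne)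
open Cfsg.Agent.Omega.OM.PG.Peel (Nob Exa)
open Cfsg.Agent.Omega.NO3S.EThree.ExactA (eab_iff eab_mono eab_sup swp)
open Cfsg.Agent.ZN.ChoiceSit (Syl o2_le_syl)
open Cfsg.Agent.ZN.ChoiceBase (AA)
open Cfsg.Agent.Omega.NO3S.ML (card_mul_relIndex card_sup_mul_of_comm)
open scoped Pointwise

universe u

variable {G : Type u} [Group G]

theorem fin_two_or {i j : Fin 2} (h : i ≠ j) (k : Fin 2) : k = i ∨ k = j := by
  revert i j k; decide

theorem fin_two_ex (i : Fin 2) : ∃ j : Fin 2, i ≠ j := by revert i; decide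

theorem fin_two_pair {i j : Fin 2} (h : i ≠ j) : (i = 0 ∧ j = 1) ∨ (i = 1 ∧ j = 0) := by
  revert i j; decide

/-- the cosets of `H` in `K N`, `N ≤ H` -/
theorem relIndex_sup_le [Finite G] {H K N : Subgroup G} (hN : N ≤ H) (hK : N ≤ normalizer (K : Set G)) :
    H.relIndex (K ⊔ N) ≤ H.relIndex K := by
  classical
  have hdec : ∀ y ∈ K ⊔ N, ∃ k ∈ K, ∃ n ∈ N, y = k * n := fun y hy => OM.KTwo.exists_mul_of_mem_sup hK hy
  choose! k hk n hn e using hdec
  have key : Function.Injective (fun c : (K ⊔ N : Subgroup G) ⧸ H.subgroupOf (K ⊔ N) =>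
      (QuotientGroup.mk (⟨k (c.out : (K ⊔ N : Subgroup G)), hk _ (c.out).2⟩ : K) : K ⧸ H.subgroupOf K)) := by
    intro c c' e1
    have h3 := QuotientGroup.eq.1 e1
    have h3' : (k (c.out : (K ⊔ N : Subgroup G)))⁻¹ * k (c'.out : (K ⊔ N : Subgroup G)) ∈ H := by
      simpa [mem_subgroupOf] using h3
    have h4 : ((c.out : (K ⊔ N : Subgroup G)) : G)⁻¹ * (c'.out : (K ⊔ N : Subgroup G)) ∈ H := by
      have e2 := e _ (c.out).2
      have e3 := e _ (c'.out).2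
      have h5 : ((c.out : (K ⊔ N : Subgroup G)) : G)⁻¹ * (c'.out : (K ⊔ N : Subgroup G)) =
          (n (c.out : (K ⊔ N : Subgroup G)))⁻¹ * ((k (c.out : (K ⊔ N : Subgroup G)))⁻¹ *
            k (c'.out : (K ⊔ N : Subgroup G))) * n (c'.out : (K ⊔ N : Subgroup G)) := by
        calc ((c.out : (K ⊔ N : Subgroup G)) : G)⁻¹ * (c'.out : (K ⊔ N : Subgroup G))
            = (k (c.out : (K ⊔ N : Subgroup G)) * n (c.out : (K ⊔ N : Subgroup G)))⁻¹ *
              (k (c'.out : (K ⊔ N : Subgroup G)) * n (c'.out : (K ⊔ N : Subgroup G))) := by rw [← e2, ← e3]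
          _ = _ := by group
      rw [h5]
      exact mul_mem (mul_mem (inv_mem (hN (hn _ (c.out).2))) h3') (hN (hn _ (c'.out).2))
    have h6 : (QuotientGroup.mk c.out : (K ⊔ N : Subgroup G) ⧸ H.subgroupOf (K ⊔ N)) = QuotientGroup.mk c'.out :=
      QuotientGroup.eq.2 (mem_subgroupOf.2 (by simpa using h4))
    rwa [QuotientGroup.out_eq', QuotientGroup.out_eq'] at h6
  exact Nat.card_le_card_of_injective _ key

namespace FQ

variable {Z U : Fin 2 → Subgroup G} {B : Subgroup G} {q : ℕ}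

section basic

variable (D : FQ Z U B q)
include D

theorem pt (i : Fin 2) : IsPt Z (Z i) := by
  rcases fin_two_or (by decide : (0 : Fin 2) ≠ 1) i with h | h
  · rw [h]; exact ⟨1, by rw [map_one, one_smul]⟩
  · rw [h]
    obtain ⟨s, h0, -, -, -⟩ := D.swap
    exact ⟨s, h0.symm⟩

theorem adj {i j : Fin 2} (hij : i ≠ j) : Adj Z (Z i) (Z j) := by
  have h01 : Adj Z (Z 0) (Z 1) := ⟨1, by rw [map_one, one_smul], by rw [map_one, one_smul]⟩
  have h2 := fin_two_pair hij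
  rcases h2 with ⟨rfl, rfl⟩ | ⟨rfl, rfl⟩
  · exact h01
  · exact D.adj_symm h01

theorem ln (i : Fin 2) : LnOn Z U (Z i) (U i) := by
  rcases fin_two_or (by decide : (0 : Fin 2) ≠ 1) i with h | h
  · rw [h]; exact ⟨1, by rw [map_one, one_smul], by rw [map_one, one_smul]⟩
  · rw [h]
    obtain ⟨s, h0, -, h1, -⟩ := D.swap
    exact ⟨s, h0.symm, h1.symm⟩

theorem eU (i : Fin 2) : IsElementaryAbelian 2 (U i) := eab_iff.2 ⟨D.ab _ _ _ (D.ln i) (D.ln i), D.sqU i⟩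

theorem eZ (i : Fin 2) : IsElementaryAbelian 2 (Z i) := eab_mono (D.eU i) (D.ZU' i)

theorem B2 : IsPGroup 2 B := D.syl.2.1

theorem B_le : B ≤ centralizer ((Z 0 ⊔ Z 1 : Subgroup G) : Set G) := D.syl.1

theorem Z_le_sup (i : Fin 2) : Z i ≤ Z 0 ⊔ Z 1 := by
  rcases fin_two_or (by decide : (0 : Fin 2) ≠ 1) i with h | h
  · rw [h]; exact le_sup_left
  · rw [h]; exact le_sup_right

theorem D_le_cent (i : Fin 2) : centralizer ((Z 0 ⊔ Z 1 : Subgroup G) : Set G) ≤ centralizer (Z i : Set G) :=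
  centralizer_le (D.Z_le_sup i)

theorem D_le_HH (i : Fin 2) : centralizer ((Z 0 ⊔ Z 1 : Subgroup G) : Set G) ≤ HH (Z i) :=
  (D.D_le_cent i).trans (centralizer_le_normalizer _)

theorem B_le_HH (i : Fin 2) : B ≤ HH (Z i) := D.B_le.trans (D.D_le_HH i)

theorem cBZ (i : Fin 2) {b z : G} (hb : b ∈ B) (hz : z ∈ Z i) : b * z = z * b :=
  (mem_centralizer_iff.1 (D.D_le_cent i (D.B_le hb)) z hz).symm

theorem Q_le_D (i : Fin 2) : QQ (Z i) ≤ centralizer ((Z 0 ⊔ Z 1 : Subgroup G) : Set G) := by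
  rw [le_centralizer_iff]
  have key : ∀ k, Z k ≤ centralizer (QQ (Z i) : Set G) := by
    intro k
    by_cases hik : i = k
    · rw [← hik]; exact comm_symm (D.cen i)
    · exact (D.ZU' k).trans (D.half i k hik).2
  exact sup_le (key 0) (key 1)

theorem Q_le_O (i : Fin 2) : QQ (Z i) ≤ OO Z :=
  MinSimple.VModule.le_o2 (D.Q_le_D i) (MinSimple.VModule.o2_isPGroup _) ((D.D_le_HH i).trans (MinSimple.VModule.le_normalizer_o2 _))

theorem NQ (i : Fin 2) : NN Z (Z i) ≤ QQ (Z i) := D.NN_le_QQ (D.pt i)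

theorem N_le_O (i : Fin 2) : NN Z (Z i) ≤ OO Z := (D.NQ i).trans (D.Q_le_O i)

theorem N_comm (i : Fin 2) : NN Z (Z i) ≤ centralizer (NN Z (Z i) : Set G) := D.NN_comm (D.pt i)

theorem Q_cent_N (i : Fin 2) : QQ (Z i) ≤ centralizer (NN Z (Z i) : Set G) := D.QQ_le_cent (D.pt i)

theorem N_eab (i : Fin 2) : IsElementaryAbelian 2 (NN Z (Z i)) := by
  refine eab_iff.2 ⟨D.N_comm i, ?_⟩
  refine NoFF.Lines.Geo.sq_of_comm (D.N_comm i) (ι := {u : Subgroup G // Adj Z (Z i) u})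
    (B := fun u => (u : Subgroup G)) (fun u => u.2.le_NN) ?_ fun u => D.ZsqConj (D.adj_pt u.2)
  exact sSup_le fun u hu => le_iSup (fun u : {u : Subgroup G // Adj Z (Z i) u} => (u : Subgroup G)) ⟨u, hu⟩

theorem HH_norm_N (i : Fin 2) : HH (Z i) ≤ normalizer (NN Z (Z i) : Set G) := PP.HH_le_NN (Z i)

theorem B_norm_N (i : Fin 2) {b n : G} (hb : b ∈ B) (hn : n ∈ NN Z (Z i)) : b * n * b⁻¹ ∈ NN Z (Z i) :=
  (mem_normalizer_iff.1 (D.HH_norm_N i (D.B_le_HH i hb)) n).1 hn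

theorem B_norm_U (i : Fin 2) {b x : G} (hb : b ∈ B) (hx : x ∈ U i) : b * x * b⁻¹ ∈ U i := by
  have h1 := mul_mem (D.ZU' i (D.com i b hb x hx)) hx
  rwa [inv_mul_cancel_right] at h1

theorem B_le_NU (i : Fin 2) : B ≤ normalizer (U i : Set G) := by
  intro b hb
  rw [mem_normalizer_iff]
  intro x
  refine ⟨D.B_norm_U i hb, fun hx => ?_⟩
  have := D.B_norm_U i (inv_mem hb) hx
  have e : b⁻¹ * (b * x * b⁻¹) * b⁻¹⁻¹ = x := by group
  rwa [e] at this

/-! ### `X_i = W_i N_i` -/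

section XW

open Cfsg.Agent.Omega.OM.PG.Peel (XW)

theorem ln_conj {i : Fin 2} {l : Subgroup G} (h : LnOn Z U (Z i) l) :
    ∃ c ∈ HH (Z i), l = MulAut.conj c • U i := by
  obtain ⟨k, hk, rfl⟩ := h
  obtain ⟨k₀, hk₀, hU⟩ := D.ln i
  have h1 : MulAut.conj k₀⁻¹ • U i = U 0 := by rw [hU, inv_conj_conj]
  have h2 : MulAut.conj k₀⁻¹ • Z i = Z 0 := by rw [hk₀, inv_conj_conj]
  refine ⟨k * k₀⁻¹, ChoiceBase.mem_normalizer_iff_cj.2 ?_, ?_⟩
  · change MulAut.conj (k * k₀⁻¹) • Z i = Z i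
    rw [← conj_conj, h2, ← hk]
  · rw [← conj_conj, h1]

theorem ln_le_Q {i : Fin 2} {l : Subgroup G} (h : LnOn Z U (Z i) l) : l ≤ QQ (Z i) := by
  obtain ⟨c, hc, rfl⟩ := D.ln_conj h
  have h1 : MulAut.conj c • QQ (Z i) = QQ (Z i) :=
    conj_eq_of_mem (MinSimple.VModule.le_normalizer_o2 _ hc)
  rw [← h1]
  exact conj_le_iff.2 (D.UQ' i)

theorem XW_le_Q (i : Fin 2) : XW Z U (Z i) ≤ QQ (Z i) :=
  sup_le (D.NQ i) (iSup_le fun l => D.ln_le_Q l.2)

theorem XW_comm (i : Fin 2) : XW Z U (Z i) ≤ centralizer (XW Z U (Z i) : Set G) := by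
  have hN : XW Z U (Z i) ≤ centralizer (NN Z (Z i) : Set G) := (D.XW_le_Q i).trans (D.Q_cent_N i)
  refine sup_le (comm_symm hN) (iSup_le fun l => comm_symm (sup_le ?_ (iSup_le fun l' => ?_)))
  · exact comm_symm ((D.ln_le_Q l.2).trans (D.Q_cent_N i))
  · exact D.ab _ _ _ l'.2 l.2

theorem XW_eab (i : Fin 2) : IsElementaryAbelian 2 (XW Z U (Z i)) := by
  refine eab_iff.2 ⟨D.XW_comm i, ?_⟩
  refine NoFF.Lines.Geo.sq_of_comm (D.XW_comm i) (ι := Option {l : Subgroup G // LnOn Z U (Z i) l})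
    (B := fun o => o.elim (NN Z (Z i)) fun l => (l : Subgroup G)) ?_ ?_ ?_
  · rintro (_ | l)
    · exact le_sup_left
    · exact (le_iSup (fun l : {l : Subgroup G // LnOn Z U (Z i) l} => (l : Subgroup G)) l).trans le_sup_right
  · refine sup_le ?_ (iSup_le fun l => ?_)
    · exact le_iSup (fun o : Option {l : Subgroup G // LnOn Z U (Z i) l} =>
        (o.elim (NN Z (Z i)) fun l => (l : Subgroup G) : Subgroup G)) none
    · exact le_iSup (fun o : Option {l : Subgroup G // LnOn Z U (Z i) l} =>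
        (o.elim (NN Z (Z i)) fun l => (l : Subgroup G) : Subgroup G)) (some l)
  · rintro (_ | l)
    · exact (eab_iff.1 (D.N_eab i)).2
    · obtain ⟨c, -, e⟩ := D.ln_conj l.2
      intro x hx
      have hx' : x ∈ MulAut.conj c • U i := e ▸ hx
      exact NoFF.Lines.Geo.conj_sq (D.sqU i) c x hx'

/-- the groups `X_a` -/
theorem xf : OM.PG.Peel.XF Z (XW Z U) := OM.PG.Peel.xf D.toPP (D.XW_eab 0) (D.XW_le_Q 0)

end XW

end basic

section fin

variable [Finite G] (D : FQ Z U B q)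
include D

theorem O_le_B : OO Z ≤ B := o2_le_syl D.syl

theorem U_le_B (i : Fin 2) : U i ≤ B := (D.UQ' i).trans ((D.Q_le_O i).trans D.O_le_B)

theorem U_le_O (i : Fin 2) : U i ≤ OO Z := (D.UQ' i).trans (D.Q_le_O i)

theorem q_pos : 0 < q := by
  rw [← D.cardZ 0]; exact Nat.card_pos

/-- `x = (Z i)^l` is a complement of `Z i` in `U i`. -/
theorem sup_eq {i : Fin 2} {l : G} (h1 : MulAut.conj l • U i = U i) (h2 : MulAut.conj l • Z i ⊓ Z i = ⊥) :
    Z i ⊔ MulAut.conj l • Z i = U i := by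
  have hle : MulAut.conj l • Z i ≤ U i := by
    rw [← h1]; exact conj_le_iff.2 (D.ZU' i)
  refine Subgroup.eq_of_le_of_card_ge (sup_le (D.ZU' i) hle) ?_
  have h3 := card_sup_mul_of_comm (K := Z i) (L := MulAut.conj l • Z i)
    fun a ha b hb => mem_centralizer_iff.1 ((eab_iff.1 (D.eU i)).1 (hle hb)) a (D.ZU' i ha)
  have h4 : Nat.card (MulAut.conj l • Z i : Subgroup G) = Nat.card (Z i) :=
    (Nat.card_congr (Subgroup.equivSMul (MulAut.conj l) (Z i)).toEquiv).symm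
  have h5 : Z i ⊓ MulAut.conj l • Z i = ⊥ := by rw [inf_comm]; exact h2
  rw [h5, card_bot, mul_one, h4, D.cardZ i, ← pow_two] at h3
  rw [h3, D.cardU i]

/-- `U j ≤ N_i` -/
theorem U_le_N {i j : Fin 2} (hij : i ≠ j) : U j ≤ NN Z (Z i) := by
  obtain ⟨l, h1, h2, h3, -, -⟩ := D.mvl j i hij.symm
  rw [← D.sup_eq h1 h2]
  refine sup_le (D.adj hij).le_NN ?_
  have h4 : MulAut.conj l • Z i = Z i := conj_eq_of_mem (centralizer_le_normalizer _ h3)
  have h5 := (D.adj hij).conj l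
  rw [h4] at h5
  exact h5.le_NN

theorem exists_ne_Z (i : Fin 2) : ∃ x ∈ U i, x ∉ Z i := by
  obtain ⟨l, h1, h2, -⟩ : ∃ l : G, MulAut.conj l • U i = U i ∧ MulAut.conj l • Z i ⊓ Z i = ⊥ ∧ True := by
    have h0 : ∃ j : Fin 2, i ≠ j := by revert i; decide
    obtain ⟨j, hij⟩ := h0
    obtain ⟨l, h1, h2, -⟩ := D.mvl i j hij
    exact ⟨l, h1, h2, trivial⟩
  by_contra hcon
  push Not at hcon
  have h3 : MulAut.conj l • Z i ≤ Z i := by
    have : MulAut.conj l • Z i ≤ U i := by rw [← h1]; exact conj_le_iff.2 (D.ZU' i)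
    exact this.trans hcon
  rw [inf_eq_left.2 h3] at h2
  have h4 : Z i = ⊥ := by
    have h5 := congrArg (fun X => MulAut.conj l⁻¹ • X) h2
    simp only [inv_conj_conj] at h5
    rw [h5]
    simp
  obtain ⟨k, hk⟩ := D.pt i
  apply D.ne
  have h5 := congrArg (fun X => MulAut.conj k⁻¹ • X) (hk.symm.trans h4)
  simp only [inv_conj_conj] at h5
  rw [h5]
  simp

/-- `C_{U i}(A) = Z i` if `A ≤ B` moves `U i`. -/
theorem cent_U {i : Fin 2} {A : Subgroup G} (hAB : A ≤ B) (hmv : ¬ A ≤ centralizer (U i : Set G)) :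
    U i ⊓ centralizer (A : Set G) = Z i := by
  refine le_antisymm ?_ (le_inf (D.ZU' i) fun z hz => mem_centralizer_iff.2 fun a ha => D.cBZ i (hAB ha) hz)
  rintro x ⟨hx, hxA⟩
  by_contra hxZ
  apply hmv
  intro a ha
  exact D.free i a (hAB ha) x hx hxZ (mem_centralizer_iff.1 hxA a ha)

theorem rel_U {i : Fin 2} {A : Subgroup G} (hAB : A ≤ B) (hmv : ¬ A ≤ centralizer (U i : Set G)) :
    (centralizer (A : Set G)).relIndex (U i) = q := by
  have h1 := D.cent_U hAB hmv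
  have h2 : (centralizer (A : Set G)).relIndex (U i) = (Z i).relIndex (U i) := by
    rw [← inf_relIndex_left, h1]
  have h3 := card_mul_relIndex (D.ZU' i)
  rw [D.cardZ, D.cardU, pow_two] at h3
  rw [h2]
  exact Nat.eq_of_mul_eq_mul_left D.q_pos h3

theorem rel_A {i : Fin 2} {A : Subgroup G} (hAB : A ≤ B) : (centralizer (U i : Set G)).relIndex A ≤ q := by
  obtain ⟨x, hx, hxZ⟩ := D.exists_ne_Z i
  rw [← D.cardZ i]
  refine relIndex_le_of (fun a => a * x * a⁻¹ * x⁻¹) (fun a ha => D.com i a (hAB ha) x hx) ?_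
  intro a ha a' ha' e
  refine D.free i _ (hAB (mul_mem (inv_mem ha) ha')) x hx hxZ ?_
  have e' : a * x * a⁻¹ * x⁻¹ = a' * x * a'⁻¹ * x⁻¹ := e
  have h1 : a * x * a⁻¹ = a' * x * a'⁻¹ := mul_right_cancel e'
  calc a⁻¹ * a' * x = a⁻¹ * (a' * x * a'⁻¹) * a' := by group
    _ = a⁻¹ * (a * x * a⁻¹) * a' := by rw [h1]
    _ = x * (a⁻¹ * a') := by group

/-- **The full root group.** -/
theorem rt {i : Fin 2} {A : Subgroup G} {l : G} (hA : IsElementaryAbelian 2 A) (hAB : A ≤ B)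
    (hmv : ¬ A ≤ centralizer (U i : Set G)) (hf : q ≤ (centralizer (U i : Set G)).relIndex A)
    (h1 : MulAut.conj l • U i = U i) (h2 : MulAut.conj l • Z i ⊓ Z i = ⊥) :
    Rt A (U i) (Z i) (MulAut.conj l • Z i) where
  Ae := hA
  Ee := D.eU i
  ZE := D.ZU' i
  xE := by rw [← h1]; exact conj_le_iff.2 (D.ZU' i)
  disj := fun e he heZ => by
    have h3 : e ∈ MulAut.conj l • Z i ⊓ Z i := ⟨he, heZ⟩
    rwa [h2, mem_bot] at h3
  com := fun a ha e he => D.com i a (hAB ha) e he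
  free := fun a ha e he he1 hae => by
    have hxE : MulAut.conj l • Z i ≤ U i := by rw [← h1]; exact conj_le_iff.2 (D.ZU' i)
    refine D.free i a (hAB ha) e (hxE he) (fun heZ => he1 ?_) hae
    have h3 : e ∈ MulAut.conj l • Z i ⊓ Z i := ⟨he, heZ⟩
    rwa [h2, mem_bot] at h3
  full := fun e he he1 z hz => by
    classical
    have hxE : MulAut.conj l • Z i ≤ U i := by rw [← h1]; exact conj_le_iff.2 (D.ZU' i)
    have heZ : e ∉ Z i := fun heZ => he1 (by
      have h3 : e ∈ MulAut.conj l • Z i ⊓ Z i := ⟨he, heZ⟩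
      rwa [h2, mem_bot] at h3)
    set H : Subgroup G := centralizer (U i : Set G) with hH
    let f : A ⧸ H.subgroupOf A → Z i := fun c =>
      ⟨((c.out : A) : G) * e * ((c.out : A) : G)⁻¹ * e⁻¹, D.com i _ (hAB (c.out).2) e (hxE he)⟩
    have hfi : Function.Injective f := by
      intro c c' hcc
      have e1 : ((c.out : A) : G) * e * ((c.out : A) : G)⁻¹ * e⁻¹ =
          ((c'.out : A) : G) * e * ((c'.out : A) : G)⁻¹ * e⁻¹ := congrArg Subtype.val hcc
      have e2 := mul_right_cancel e1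
      have e3 : ((c.out : A) : G)⁻¹ * (c'.out : A) * e = e * (((c.out : A) : G)⁻¹ * (c'.out : A)) := by
        calc ((c.out : A) : G)⁻¹ * (c'.out : A) * e
            = ((c.out : A) : G)⁻¹ * (((c'.out : A) : G) * e * ((c'.out : A) : G)⁻¹) * (c'.out : A) := by group
          _ = ((c.out : A) : G)⁻¹ * (((c.out : A) : G) * e * ((c.out : A) : G)⁻¹) * (c'.out : A) := by rw [e2]
          _ = _ := by group
      have h3 := D.free i _ (hAB (mul_mem (inv_mem (c.out).2) (c'.out).2)) e (hxE he) heZ e3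
      have h4 : (QuotientGroup.mk c.out : A ⧸ H.subgroupOf A) = QuotientGroup.mk c'.out :=
        QuotientGroup.eq.2 (mem_subgroupOf.2 (by simpa using h3))
      rwa [QuotientGroup.out_eq', QuotientGroup.out_eq'] at h4
    have hcard : Nat.card (Z i) ≤ Nat.card (A ⧸ H.subgroupOf A) := by
      rw [D.cardZ i]; exact hf
    obtain ⟨c, hc⟩ := (hfi.bijective_of_nat_card_le hcard).2 ⟨z, hz⟩
    exact ⟨_, (c.out).2, congrArg Subtype.val hc⟩
  nob := by
    rw [D.rel_U hAB hmv]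
    exact D.rel_A hAB
  card := (Nat.card_congr (Subgroup.equivSMul (MulAut.conj l) (Z i)).toEquiv).symm
  mv := hmv

theorem nob_U {i : Fin 2} {A : Subgroup G} (hAB : A ≤ B) (hmv : ¬ A ≤ centralizer (U i : Set G)) :
    (centralizer (U i : Set G)).relIndex A ≤ (centralizer (A : Set G)).relIndex (U i) := by
  rw [D.rel_U hAB hmv]
  exact D.rel_A hAB

/-- A member of `AA Y` moving `U i ≤ Y ≤ B` induces the full root group. -/
theorem rt_AA {i : Fin 2} {A Y : Subgroup G} {l : G} (hY : Y ≤ B) (hUY : U i ≤ Y) (hA : A ∈ AA Y)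
    (hmv : ¬ A ≤ centralizer (U i : Set G)) (h1 : MulAut.conj l • U i = U i)
    (h2 : MulAut.conj l • Z i ⊓ Z i = ⊥) :
    Rt A (U i) (Z i) (MulAut.conj l • Z i) ∧ (A ⊓ centralizer (U i : Set G)) ⊔ U i ∈ AA Y ∧
      (centralizer (U i : Set G)).relIndex A = q := by
  have hAB : A ≤ B := hA.2.1.trans hY
  obtain ⟨h3, -, h4⟩ := swp (D.eU i) hUY hA (D.nob_U hAB hmv)
  have h5 := h3.trans (D.rel_U hAB hmv)
  exact ⟨D.rt hA.1 hAB hmv h5.ge h1 h2, h4, h5⟩

end fin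

end FQ

end Cfsg.Agent.Omega.NO3S.EThree

end
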