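import Cfsg.Agent.Mrg.Omega.NO3S.EThree.TiNegY
import Cfsg.Agent.Mrg.Omega.OM.WeakCl
import Cfsg.Agent.Mrg.Omega.OM.PG.ExactQ
import Cfsg.Agent.MinSimple.MinParabolic
import Cfsg.Agent.Mrg.Omega.OM.SWQ.TiFour

section


/-!
# NO-3S, case (E), `k = 2`, all `q`, every stage: LEMMA 0 and STEP F over the frame `FQ` (helper997 #19092)

`D : FQ Z U B q`, `hwc : WC B`, `hU : UniQ Z U B` (the minimal parabolics of `C(Z i)` over one Sylow group `T ≥ B` which
move `Z j` normalise `U j`).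

* `gen` : `N(Z i)` is generated by `N(Z i) ∩ N(Z j)` and `N(Z i) ∩ N(U j)`;
* `lem0` : `K ≤ C(Z i)` normal in `N(Z i)`, a 2-element of `K` moves `N_i` : `N(Z i) = K (N(Z 0) ∩ N(Z 1))`;
* `l0 : PcQ.L0 Z`;
* `done` : such a `K` does not normalise `U i`.
-/

set_option autoImplicit false
set_option linter.unusedSectionVars false

namespace Cfsg.Agent.Omega.NO3S.EThree

open Subgroup Cfsg Cfsg.Agent.ZN.ChoiceBase
open Cfsg.Agent.ZN (zc zl o2)
open Cfsg.Agent.ZN.ChoiceSit (Syl syl_not_dvd exists_syl syl_conj)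
open Cfsg.Agent.Omega.OM
open Cfsg.Agent.Omega.OM.WeakCl (WC)
open Cfsg.Agent.Omega.OM.PG
open Cfsg.Agent.Omega.MinPar (NonLoc)
open Cfsg.Agent.Omega.NoFF.Basic (conj_conj mem_conj conj_le_iff)
open Cfsg.Agent.Omega.NOThreeL.Pair (conj_eq_of_mem)
open Cfsg.Agent.MinSimple.MinParabolic (IsMinPar le_of_forall)
open scoped Pointwise

universe u

variable {G : Type u} [Group G]

/-- `UNI` over `FQ` -/
def UniQ (Z U : Fin 2 → Subgroup G) (B : Subgroup G) : Prop :=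
  ∀ i j : Fin 2, i ≠ j → ∃ T : Subgroup G, B ≤ T ∧ Syl T (centralizer (Z i : Set G)) ∧
    ∀ R : Subgroup G, IsMinPar T R → R ≤ centralizer (Z i : Set G) → ¬ R ≤ normalizer (Z j : Set G) →
      R ≤ normalizer (U j : Set G)

theorem mem_of_conj_eq {A : Subgroup G} {g : G} (h : MulAut.conj g • A = A) : g ∈ normalizer (A : Set G) :=
  mem_normalizer_iff_cj.2 h

theorem inv_mul_mem {A : Subgroup G} {g k : G} (h : MulAut.conj g • A = MulAut.conj k • A) :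
    g⁻¹ * k ∈ normalizer (A : Set G) := by
  apply mem_of_conj_eq
  rw [← conj_conj, ← h, conj_conj, inv_mul_cancel, map_one, one_smul]

/-- A 2-group normalising a 2-group `Y ≠ 1` fixes an element `≠ 1` of `Y`. -/
theorem exists_fixQ [Finite G] {T Y : Subgroup G} (hT : IsPGroup 2 T) (hY : IsPGroup 2 Y) (hne : Y ≠ ⊥)
    (hn : T ≤ normalizer (Y : Set G)) : ∃ y ∈ Y, y ≠ 1 ∧ y ∈ centralizer (T : Set G) := by
  have : Fact (Nat.Prime 2) := ⟨Nat.prime_two⟩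
  let a : MulAction T Y :=
    { smul := fun t y => ⟨t * y * (t : G)⁻¹, (mem_normalizer_iff.1 (hn t.2) y).1 y.2⟩
      one_smul := fun y => Subtype.ext (by change ((1 : T) : G) * y * ((1 : T) : G)⁻¹ = y; simp)
      mul_smul := fun s t y => Subtype.ext (by
        change ((s * t : T) : G) * y * ((s * t : T) : G)⁻¹ = s * (t * y * (t : G)⁻¹) * (s : G)⁻¹
        rw [Subgroup.coe_mul]; group) }
  have hd : 2 ∣ Nat.card Y := by
    obtain ⟨n, hn⟩ := IsPGroup.iff_card.1 hY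
    rcases Nat.eq_zero_or_pos n with h0 | h0
    · exact absurd (Subgroup.card_eq_one.1 (by rw [hn, h0, pow_zero])) hne
    · rw [hn]; exact dvd_pow_self 2 h0.ne'
  have h1 : (1 : Y) ∈ MulAction.fixedPoints T Y := by
    rw [MulAction.mem_fixedPoints]
    intro t
    exact Subtype.ext (by change (t : G) * ((1 : Y) : G) * (t : G)⁻¹ = ((1 : Y) : G); simp)
  obtain ⟨b, hb, hb1⟩ := hT.exists_fixed_point_of_prime_dvd_card_of_fixed_point Y hd h1
  refine ⟨b, b.2, fun h0 => hb1 (Subtype.ext h0.symm), mem_centralizer_iff.2 fun t ht => ?_⟩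
  have h2 : t * (b : G) * t⁻¹ = b := congrArg Subtype.val ((MulAction.mem_fixedPoints.1 hb) ⟨t, ht⟩)
  calc t * (b : G) = t * b * t⁻¹ * t := by group
    _ = b * t := by rw [h2]

namespace FQ

variable [Finite G] {Z U : Fin 2 → Subgroup G} {B : Subgroup G} {q : ℕ} (D : FQ Z U B q) {i j : Fin 2}
include D

theorem Z_ne (hij : i ≠ j) : Z i ≠ Z j := by
  intro e
  have key : Z 0 = Z 1 := by
    rcases fin_two_pair hij with ⟨rfl, rfl⟩ | ⟨rfl, rfl⟩
    · exact e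
    · exact e.symm
  apply D.ne
  have h1 : Z 0 ≤ U 0 ⊓ U 1 := le_inf (D.ZU' 0) (key.le.trans (D.ZU' 1))
  rw [D.inf] at h1
  exact le_bot_iff.1 h1

/-- `N(B) ∩ N(Z i) ≤ N(Z j)` -/
theorem norm_B (hij : i ≠ j) {g : G} (hgB : g ∈ normalizer (B : Set G)) (hgi : g ∈ HH (Z i)) : g ∈ HH (Z j) := by
  have h0 : Z j ≠ ⊥ := by
    intro e
    obtain ⟨k, hk⟩ := D.pt j
    apply D.ne
    have h5 := congrArg (fun A => MulAut.conj k⁻¹ • A) (hk.symm.trans e)
    simp only [inv_conj_conj] at h5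
    rw [h5]
    exact map_bot _
  obtain ⟨⟨z, hz⟩, hz1⟩ := (Subgroup.ne_bot_iff_exists_ne_one).1 h0
  have hz1' : z ≠ 1 := fun h => hz1 (Subtype.ext h)
  have hzB : z ∈ B := D.U_le_B j (D.ZU' j hz)
  have h1 : g * z * g⁻¹ ∈ Z 0 ⊔ Z 1 := by
    refine D.zB _ ((mem_normalizer_iff.1 hgB z).1 hzB) ?_ fun b hb => ?_
    · rw [conj_pow, D.sqU j z (D.ZU' j hz), mul_one, mul_inv_cancel]
    · have hb' : g⁻¹ * b * g ∈ B := by
        have := (mem_normalizer_iff.1 (inv_mem hgB) b).1 hb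
        rwa [inv_inv] at this
      have h2 := D.cBZ j hb' hz
      calc b * (g * z * g⁻¹) = g * ((g⁻¹ * b * g) * z) * g⁻¹ := by group
        _ = g * (z * (g⁻¹ * b * g)) * g⁻¹ := by rw [h2]
        _ = g * z * g⁻¹ * b := by group
  have h2 : g * z * g⁻¹ ∈ MulAut.conj g • Z j := ⟨z, hz, rfl⟩
  have h3 := D.fus _ ((D.pt j).conj g) _ h2 h1 fun e => hz1' (conj_eq_one_iff.1 e)
  have h4 : MulAut.conj g • Z j = Z i ∨ MulAut.conj g • Z j = Z j := by
    rcases fin_two_pair hij with ⟨rfl, rfl⟩ | ⟨rfl, rfl⟩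
    · exact h3
    · exact h3.symm
  rcases h4 with h4 | h4
  · exfalso
    apply D.Z_ne hij
    have h5 : MulAut.conj g • Z i = Z i := conj_eq_of_mem hgi
    have h6 := congrArg (fun A => MulAut.conj g⁻¹ • A) (h4.trans h5.symm)
    simp only [inv_conj_conj] at h6
    exact h6.symm
  · exact mem_of_conj_eq h4

/-- `N(T) ∩ N(Z i) ≤ N(Z j)` for a 2-group `T ≥ B` -/
theorem norm_T (hwc : WC B) (hij : i ≠ j) {T : Subgroup G} (hT : IsPGroup 2 T) (hBT : B ≤ T) {g : G}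
    (hgT : g ∈ normalizer (T : Set G)) (hgi : g ∈ HH (Z i)) : g ∈ HH (Z j) := by
  refine D.norm_B hij ?_ hgi
  rw [mem_normalizer_iff_cj]
  refine hwc T hT hBT g ?_
  rintro _ ⟨b, hb, rfl⟩
  exact (mem_normalizer_iff.1 hgT b).1 (hBT hb)

theorem T_le (hwc : WC B) (hij : i ≠ j) {T : Subgroup G} (hT : IsPGroup 2 T) (hBT : B ≤ T)
    (hTi : T ≤ HH (Z i)) : T ≤ HH (Z j) := fun _ ht =>
  D.norm_T hwc hij hT hBT (Subgroup.le_normalizer ht) (hTi ht)

theorem B_le_cent (i : Fin 2) : B ≤ centralizer (Z i : Set G) := D.B_le.trans (D.D_le_cent i)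

/-- **generation** -/
theorem gen (hwc : WC B) (hU : UniQ Z U B) (hij : i ≠ j) {Y : Subgroup G} (h1 : HH (Z i) ⊓ HH (Z j) ≤ Y)
    (h2 : HH (Z i) ⊓ normalizer (U j : Set G) ≤ Y) : HH (Z i) ≤ Y := by
  obtain ⟨T, hBT, hT, hUT⟩ := hU i j hij
  have hCi : centralizer (Z i : Set G) ≤ HH (Z i) := centralizer_le_normalizer _
  have hC : centralizer (Z i : Set G) ≤ Y := by
    refine le_of_forall (S := T) hT.1 ?_ ?_
    · rintro g ⟨hg, hgT⟩
      exact h1 ⟨hCi hg, D.norm_T hwc hij hT.2.1 hBT hgT (hCi hg)⟩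
    · intro R hR hRC
      by_cases hRj : R ≤ normalizer (Z j : Set G)
      · exact fun r hr => h1 ⟨hCi (hRC hr), hRj hr⟩
      · exact fun r hr => h2 ⟨hCi (hRC hr), hUT R hR hRC hRj hr⟩
  intro c hc
  -- Frattini
  have hcC : cj c (centralizer (Z i : Set G)) = centralizer (Z i : Set G) := by
    rw [cj_centralizer]
    have h3 : cj c (Z i) = Z i := mem_normalizer_iff_cj.1 hc
    rw [h3]
  have hT' : Syl (cj c T) (centralizer (Z i : Set G)) := by
    refine ⟨?_, hT.2.1.map _, ?_⟩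
    · have := cj_mono c hT.1
      rwa [hcC] at this
    · intro Q hQ hQ2 hTQ
      have h3 : T ≤ cj c⁻¹ Q := by
        have := cj_mono c⁻¹ hTQ
        rwa [cj_inv_cj] at this
      have h4 : cj c⁻¹ Q ≤ centralizer (Z i : Set G) := by
        have h5 := cj_mono c⁻¹ hQ
        have h6 : cj c⁻¹ (centralizer (Z i : Set G)) = centralizer (Z i : Set G) := by
          conv_lhs => rw [← hcC]
          rw [cj_inv_cj]
        rwa [h6] at h5
      have h5 := hT.2.2 _ h4 (hQ2.map _) h3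
      rw [← h5, cj_cj, mul_inv_cancel, cj_one]
  obtain ⟨x, hx, e⟩ := syl_conj hT' hT
  have h3 : x * c ∈ normalizer (T : Set G) := by
    rw [mem_normalizer_iff_cj, ← cj_cj, e]
  have h4 : x * c ∈ HH (Z i) := mul_mem (hCi hx) hc
  have h5 := mul_mem (inv_mem (hC hx)) (h1 ⟨h4, D.norm_T hwc hij hT.2.1 hBT h3 h4⟩)
  rwa [inv_mul_cancel_left] at h5

/-- a 2-element which normalises all points of `U j` centralises `U j` -/
theorem cent_of_points {x : G} (hx : IsPGroup 2 (zpowers x))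
    (h : ∀ e ∈ normalizer (U j : Set G), x ∈ normalizer ((MulAut.conj e • Z j : Subgroup G) : Set G)) :
    x ∈ centralizer (U j : Set G) := by
  obtain ⟨k, hjk⟩ := fin_two_ex j
  obtain ⟨l, hlU, hlZ, -⟩ := D.mvl j k hjk
  -- `x` centralises every point
  have key : ∀ e ∈ normalizer (U j : Set G), ∀ w ∈ MulAut.conj e • Z j, x * w = w * x := by
    intro e he w hw
    have hyU : ∀ e ∈ normalizer (U j : Set G), MulAut.conj e • Z j ≤ U j := by
      intro e he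
      have h2 := conj_le_iff (g := e) |>.2 (D.ZU' j)
      rwa [conj_eq_of_mem he] at h2
    have hel : e * l ∈ normalizer (U j : Set G) := mul_mem he (mem_of_conj_eq hlU)
    have hP : IsPGroup 2 (MulAut.conj (e * l) • Z j : Subgroup G) :=
      ((D.B2.to_le (D.U_le_B j)).to_le (hyU _ hel))
    have hne : (MulAut.conj (e * l) • Z j : Subgroup G) ≠ ⊥ := by
      intro h0
      apply D.Z_bot j
      have h5 := congrArg (fun A => MulAut.conj (e * l)⁻¹ • A) h0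
      simp only [inv_conj_conj] at h5
      rw [h5]
      exact map_bot _
    obtain ⟨a, ha, ha1, hax⟩ := exists_fixQ hx hP hne (by rw [zpowers_le]; exact h _ hel)
    have hax' : x * a = a * x := mem_centralizer_iff.1 hax x (mem_zpowers x)
    have hwU : w ∈ U j := hyU e he hw
    have haU : a ∈ U j := hyU _ hel ha
    obtain ⟨e', he', z, hz, e1⟩ := D.cov hjk (mul_mem hwU haU)
    have h1 : w * a ∈ MulAut.conj e' • Z j := ⟨z, hz, e1.symm⟩
    have h2 : x * (w * a) * x⁻¹ ∈ MulAut.conj e' • Z j := (mem_normalizer_iff.1 (h e' he') _).1 h1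
    have h3 : x * w * x⁻¹ * w⁻¹ ∈ MulAut.conj e' • Z j := by
      have h4 := mul_mem h2 (inv_mem h1)
      have e2 : x * (w * a) * x⁻¹ * (w * a)⁻¹ = x * w * x⁻¹ * w⁻¹ := by
        calc x * (w * a) * x⁻¹ * (w * a)⁻¹ = x * w * x⁻¹ * (x * a) * x⁻¹ * a⁻¹ * w⁻¹ := by group
          _ = x * w * x⁻¹ * (a * x) * x⁻¹ * a⁻¹ * w⁻¹ := by rw [hax']
          _ = x * w * x⁻¹ * w⁻¹ := by group
      rwa [e2] at h4
    have h4 : x * w * x⁻¹ * w⁻¹ ∈ MulAut.conj e • Z j :=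
      mul_mem ((mem_normalizer_iff.1 (h e he) _).1 hw) (inv_mem hw)
    by_cases h5 : x * w * x⁻¹ * w⁻¹ = 1
    · calc x * w = (x * w * x⁻¹ * w⁻¹) * (w * x) := by group
        _ = w * x := by rw [h5, one_mul]
    · exfalso
      have h6 := D.ti _ _ ((D.pt j).conj e) ((D.pt j).conj e') _ h4 h3 h5
      rw [← h6] at h1
      have h7 : a ∈ MulAut.conj e • Z j := by
        have := mul_mem (inv_mem hw) h1
        rwa [inv_mul_cancel_left] at this
      have h8 : (MulAut.conj (e * l) • Z j) ⊓ (MulAut.conj e • Z j) = (⊥ : Subgroup G) := by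
        rw [← conj_conj, ← Subgroup.smul_inf, hlZ]
        exact map_bot _
      have h9 : a ∈ (MulAut.conj (e * l) • Z j) ⊓ (MulAut.conj e • Z j) := ⟨ha, h7⟩
      rw [h8, mem_bot] at h9
      exact ha1 h9
  refine mem_centralizer_iff.2 fun v hv => ?_
  obtain ⟨e, he, z, hz, rfl⟩ := D.cov hjk hv
  exact (key e he _ ⟨z, hz, rfl⟩).symm

/-- transitivity on the points of `U i`, fixing `Z j` -/
theorem tr2 (hij : i ≠ j) {e : G} (he : e ∈ normalizer (U i : Set G)) :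
    ∃ g : G, MulAut.conj g • Z i = MulAut.conj e • Z i ∧ MulAut.conj g • Z j = Z j ∧ MulAut.conj g • U i = U i := by
  obtain ⟨s, s0, s1, s2, s3⟩ := D.swap
  rcases fin_two_pair hij with ⟨rfl, rfl⟩ | ⟨rfl, rfl⟩
  · have h1 : MulAut.conj e • Z 0 ≤ U 0 := by
      have h2 := conj_le_iff (g := e) |>.2 (D.ZU' 0)
      rwa [conj_eq_of_mem he] at h2
    obtain ⟨l, h2, h3, h4, -⟩ := D.tr e h1
    exact ⟨l, h2, h3, h4⟩
  · have es : MulAut.conj s⁻¹ • U 1 = U 0 := by rw [← s2, inv_conj_conj]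
    have ez : MulAut.conj s⁻¹ • Z 1 = Z 0 := by rw [← s0, inv_conj_conj]
    have ez0 : MulAut.conj s⁻¹ • Z 0 = Z 1 := by rw [← s1, inv_conj_conj]
    have h1 : MulAut.conj (s⁻¹ * e * s) • Z 0 ≤ U 0 := by
      have hk : MulAut.conj (s⁻¹ * e * s) • U 0 = U 0 := by
        rw [← conj_conj, ← conj_conj, s2, conj_eq_of_mem he, es]
      have h2 := conj_le_iff (g := s⁻¹ * e * s) |>.2 (D.ZU' 0)
      rwa [hk] at h2
    obtain ⟨l, h2, h3, h4, -⟩ := D.tr _ h1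
    refine ⟨s * l * s⁻¹, ?_, ?_, ?_⟩
    · rw [← conj_conj, ez, ← conj_conj, h2, conj_conj]
      have e1 : s * (s⁻¹ * e * s) = e * s := by group
      rw [e1, ← conj_conj, s0]
    · rw [← conj_conj, ez0, ← conj_conj, h3, s1]
    · rw [← conj_conj, es, ← conj_conj, h4, s2]

/-- a group `R ≥ B` normalising `U i`, not `Z i`, is transitive on the points of `U i` -/
theorem trans_of (hij : i ≠ j) {R : Subgroup G} (hBR : B ≤ R) (hRU : R ≤ normalizer (U i : Set G))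
    (hRm : ¬ R ≤ normalizer (Z i : Set G)) {k : G} (hk : k ∈ normalizer (U i : Set G)) :
    ∃ r ∈ R, MulAut.conj r • Z i = MulAut.conj k • Z i := by
  by_cases hk0 : MulAut.conj k • Z i = Z i
  · exact ⟨1, one_mem _, by rw [hk0, map_one, one_smul]⟩
  obtain ⟨r₀, hr₀, hr₀n⟩ := SetLike.not_le_iff_exists.1 hRm
  have hdis : ∀ g : G, ¬ MulAut.conj g • Z i = Z i → MulAut.conj g • Z i ⊓ Z i = ⊥ := by
    intro g hg
    rw [eq_bot_iff]
    rintro x ⟨hx, hx'⟩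
    by_contra hx1
    exact hg (D.ti _ _ ((D.pt i).conj g) (D.pt i) x hx hx' hx1)
  obtain ⟨⟨z, hz⟩, hz1⟩ := (Subgroup.ne_bot_iff_exists_ne_one).1 (D.Z_bot i)
  have hz1' : z ≠ 1 := fun h => hz1 (Subtype.ext h)
  -- `v = z^{r₀}`
  have hvU : r₀ * z * r₀⁻¹ ∈ U i := (mem_normalizer_iff.1 (hRU hr₀) z).1 (D.ZU' i hz)
  have hvZ : r₀ * z * r₀⁻¹ ∉ Z i := fun h => hr₀n (D.ti_mem hz hz1' h)
  set v := r₀ * z * r₀⁻¹ with hv
  -- `v = z' y'`
  have hsup := D.sup_eq (conj_eq_of_mem hk) (hdis k hk0)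
  have hvs : v ∈ Z i ⊔ MulAut.conj k • Z i := by rw [hsup]; exact hvU
  have hyU : MulAut.conj k • Z i ≤ U i := by
    have h2 := conj_le_iff (g := k) |>.2 (D.ZU' i)
    rwa [conj_eq_of_mem hk] at h2
  obtain ⟨z', hz', y', hy', e⟩ := OM.KTwo.exists_mul_of_mem_sup (F := Z i) (N := MulAut.conj k • Z i)
    (fun y hy => centralizer_le_normalizer _ (mem_centralizer_iff.2 fun x hx => D.Uc i (D.ZU' i hx) (hyU hy))) hvs
  obtain ⟨b, hb, -, hbv⟩ := D.root i j hij v hvU hvZ z'⁻¹ (inv_mem hz')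
  have h1 : b * v * b⁻¹ = y' := by
    calc b * v * b⁻¹ = (b * v * b⁻¹ * v⁻¹) * v := by group
      _ = z'⁻¹ * (z' * y') := by rw [hbv, e]
      _ = y' := by group
  refine ⟨b * r₀, mul_mem (hBR hb) hr₀, ?_⟩
  refine D.ti _ _ ((D.pt i).conj _) ((D.pt i).conj _) y' ⟨z, hz, ?_⟩ hy' ?_
  · change b * r₀ * z * (b * r₀)⁻¹ = y'
    rw [← h1, hv]; group
  · rintro rfl
    apply hvZ
    rw [e, mul_one]
    exact hz'

/-- the points of `N_i` -/
theorem adj_iff (hij : i ≠ j) {u : Subgroup G} : Adj Z (Z i) u ↔ ∃ y ∈ HH (Z i), u = MulAut.conj y • Z j := by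
  obtain ⟨s, s0, s1, -, -⟩ := D.swap
  constructor
  · rintro ⟨k, h1, rfl⟩
    rcases fin_two_pair hij with ⟨rfl, rfl⟩ | ⟨rfl, rfl⟩
    · exact ⟨k, mem_of_conj_eq h1.symm, rfl⟩
    · refine ⟨k * s, mem_of_conj_eq ?_, ?_⟩
      · rw [← conj_conj, s1, ← h1]
      · rw [← conj_conj, s0]
  · rintro ⟨y, hy, rfl⟩
    have h1 := (D.adj hij).conj y
    rwa [conj_eq_of_mem hy] at h1

/-- **LEMMA 0** -/
theorem lem0 (hwc : WC B) (hU : UniQ Z U B) (hij : i ≠ j) {K : Subgroup G} (hKC : K ≤ centralizer (Z i : Set G))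
    (hKn : HH (Z i) ≤ normalizer (K : Set G))
    (hmv : ∃ x ∈ K, IsPGroup 2 (zpowers x) ∧ x ∉ centralizer (NN Z (Z i) : Set G)) :
    HH (Z i) ≤ K ⊔ (HH (Z i) ⊓ HH (Z j)) := by
  obtain ⟨T, hBT, hT, hUT⟩ := hU i j hij
  have hCi : centralizer (Z i : Set G) ≤ HH (Z i) := centralizer_le_normalizer _
  have hTi : T ≤ HH (Z i) := hT.1.trans hCi
  have hTj : T ≤ HH (Z j) := D.T_le hwc hij hT.2.1 hBT hTi
  -- `K` moves `Z j`
  have hKj : ¬ K ≤ HH (Z j) := by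
    intro hKj
    obtain ⟨x, hxK, hx2, hxN⟩ := hmv
    apply hxN
    -- all points of `N_i` are normalised by `K`
    have hpt : ∀ u, Adj Z (Z i) u → K ≤ normalizer (u : Set G) := by
      intro u hu
      obtain ⟨y, hy, rfl⟩ := (D.adj_iff hij).1 hu
      intro k hk
      have h1 : y⁻¹ * k * y ∈ K := by
        have := (mem_normalizer_iff.1 (hKn (inv_mem hy)) k).1 hk
        rwa [inv_inv] at this
      apply mem_of_conj_eq
      have h2 : MulAut.conj (y⁻¹ * k * y) • Z j = Z j := conj_eq_of_mem (hKj h1)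
      calc MulAut.conj k • MulAut.conj y • Z j = MulAut.conj y • MulAut.conj (y⁻¹ * k * y) • Z j := by
            rw [conj_conj, conj_conj]; congr 2; group
        _ = MulAut.conj y • Z j := by rw [h2]
    have hle : NN Z (Z i) ≤ centralizer ((zpowers x : Subgroup G) : Set G) := by
      refine sSup_le fun u hu => ?_
      obtain ⟨y, hy, rfl⟩ := (D.adj_iff hij).1 hu
      have h1 : y⁻¹ * x * y ∈ K := by
        have := (mem_normalizer_iff.1 (hKn (inv_mem hy)) x).1 hxK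
        rwa [inv_inv] at this
      have h2 : IsPGroup 2 (zpowers (y⁻¹ * x * y)) := by
        have h3 : zpowers (y⁻¹ * x * y) = (zpowers x).map (MulAut.conj y⁻¹).toMonoidHom := by
          rw [MonoidHom.map_zpowers]
          congr 1
          change y⁻¹ * x * y = y⁻¹ * x * y⁻¹⁻¹
          rw [inv_inv]
        rw [h3]
        exact hx2.map _
      have h3 : y⁻¹ * x * y ∈ centralizer (U j : Set G) := by
        refine D.cent_of_points h2 fun e he => ?_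
        obtain ⟨g, hg1, hg2, -⟩ : ∃ g : G, MulAut.conj g • Z j = MulAut.conj e • Z j ∧ MulAut.conj g • Z i = Z i ∧
            MulAut.conj g • U j = U j := D.tr2 hij.symm he
        rw [← hg1]
        exact hpt _ ((D.adj_iff hij).2 ⟨g, mem_of_conj_eq hg2, rfl⟩) h1
      rintro _ ⟨z, hz, rfl⟩
      refine mem_centralizer_iff.2 ?_
      rintro _ ⟨m, rfl⟩
      have h4 : z * (y⁻¹ * x * y) = y⁻¹ * x * y * z := mem_centralizer_iff.1 h3 z (D.ZU' j hz)
      have h5 : Commute x (y * z * y⁻¹) := by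
        change x * (y * z * y⁻¹) = y * z * y⁻¹ * x
        calc x * (y * z * y⁻¹) = y * (y⁻¹ * x * y * z) * y⁻¹ := by group
          _ = y * (z * (y⁻¹ * x * y)) * y⁻¹ := by rw [h4]
          _ = y * z * y⁻¹ * x := by group
      exact (h5.zpow_left m).eq
    exact mem_centralizer_iff.2 fun n hn => (mem_centralizer_iff.1 (hle hn) x (mem_zpowers x)).symm
  have hTn : T ≤ normalizer (K : Set G) := hTi.trans hKn
  -- a minimal parabolic `R ≤ K T` moving `Z j`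
  obtain ⟨R, hR, hRX, hRm⟩ : ∃ R : Subgroup G, IsMinPar T R ∧ R ≤ K ⊔ T ∧ ¬ R ≤ normalizer (Z j : Set G) := by
    by_contra hcon
    push Not at hcon
    apply hKj
    refine le_trans le_sup_left (le_of_forall (S := T) (X := K ⊔ T) le_sup_right ?_ fun R hR hRX => hcon R hR hRX)
    rintro g ⟨hg, hgT⟩
    exact D.norm_T hwc hij hT.2.1 hBT hgT ((sup_le (hKC.trans hCi) hTi) hg)
  have hRC : R ≤ centralizer (Z i : Set G) := hRX.trans (sup_le hKC hT.1)
  have hRN := hUT R hR hRC hRm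
  refine D.gen hwc hU hij le_sup_right ?_
  rintro y ⟨hyi, hyU⟩
  obtain ⟨r, hr, h2⟩ := D.trans_of hij.symm (hBT.trans hR.le) hRN hRm hyU
  have h3 : r⁻¹ * y ∈ HH (Z j) := inv_mul_mem h2
  have h4 : r⁻¹ * y ∈ HH (Z i) := mul_mem (inv_mem (hCi (hRC hr))) hyi
  have h5 : r ∈ K ⊔ (HH (Z i) ⊓ HH (Z j)) := (sup_le_sup_left (le_inf hTi hTj) K) (hRX hr)
  have h6 := mul_mem h5 (mem_sup_right (S := K) (show r⁻¹ * y ∈ HH (Z i) ⊓ HH (Z j) from ⟨h4, h3⟩))
  rwa [mul_inv_cancel_left] at h6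

/-- **STEP F** : if `N(Z i) = (N(Z 0) ∩ N(Z 1)) (N(Z i) ∩ N(U i))`, then `N(Z i)` normalises `N_j`. -/
theorem stepF (hwc : WC B) (hU : UniQ Z U B) (hij : i ≠ j)
    (h : ∀ c ∈ HH (Z i), ∃ d ∈ HH (Z i) ⊓ HH (Z j), ∃ n ∈ normalizer (U i : Set G), c = d * n) : False := by
  -- `N(Z i) m ⊆ N(Z j) N(Z i)` for `m ∈ N(U i) ∩ N(Z j)`
  have hM : ∀ m ∈ HH (Z j) ⊓ normalizer (U i : Set G), ∀ c ∈ HH (Z i), ∃ x ∈ HH (Z j), ∃ c' ∈ HH (Z i),
      c * m = x * c' := by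
    rintro m ⟨hm, hmU⟩ c hc
    obtain ⟨d, hd, n, hn, rfl⟩ := h c hc
    obtain ⟨g, hg1, hg2, -⟩ := D.tr2 hij (mul_mem hn hmU)
    refine ⟨d * g, mul_mem hd.2 (mem_of_conj_eq hg2), g⁻¹ * (n * m), inv_mul_mem hg1, by group⟩
  have hD : ∀ m ∈ HH (Z j) ⊓ HH (Z i), ∀ c ∈ HH (Z i), ∃ x ∈ HH (Z j), ∃ c' ∈ HH (Z i), c * m = x * c' :=
    fun m hm c hc => ⟨1, one_mem _, c * m, mul_mem hc hm.2, by group⟩
  let Y : Subgroup G :=
    { carrier := {y | (∀ c ∈ HH (Z i), ∃ x ∈ HH (Z j), ∃ c' ∈ HH (Z i), c * y = x * c') ∧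
        (∀ c ∈ HH (Z i), ∃ x ∈ HH (Z j), ∃ c' ∈ HH (Z i), c * y⁻¹ = x * c')}
      one_mem' := ⟨fun c hc => ⟨1, one_mem _, c, hc, by group⟩, fun c hc => ⟨1, one_mem _, c, hc, by group⟩⟩
      mul_mem' := by
        rintro x y ⟨hx, hx'⟩ ⟨hy, hy'⟩
        constructor
        · intro c hc
          obtain ⟨x₁, hx₁, c₁, hc₁, e₁⟩ := hx c hc
          obtain ⟨x₂, hx₂, c₂, hc₂, e₂⟩ := hy c₁ hc₁
          refine ⟨x₁ * x₂, mul_mem hx₁ hx₂, c₂, hc₂, ?_⟩
          calc c * (x * y) = c * x * y := by group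
            _ = x₁ * (c₁ * y) := by rw [e₁]; group
            _ = x₁ * x₂ * c₂ := by rw [e₂]; group
        · intro c hc
          obtain ⟨x₁, hx₁, c₁, hc₁, e₁⟩ := hy' c hc
          obtain ⟨x₂, hx₂, c₂, hc₂, e₂⟩ := hx' c₁ hc₁
          refine ⟨x₁ * x₂, mul_mem hx₁ hx₂, c₂, hc₂, ?_⟩
          calc c * (x * y)⁻¹ = c * y⁻¹ * x⁻¹ := by group
            _ = x₁ * (c₁ * x⁻¹) := by rw [e₁]; group
            _ = x₁ * x₂ * c₂ := by rw [e₂]; group
      inv_mem' := by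
        rintro x ⟨hx, hx'⟩
        exact ⟨hx', by rw [inv_inv]; exact hx⟩ }
  have hY : HH (Z j) ≤ Y := by
    refine D.gen hwc hU hij.symm ?_ ?_
    · intro m hm
      exact ⟨hD m hm, hD m⁻¹ (inv_mem hm)⟩
    · intro m hm
      exact ⟨hM m hm, hM m⁻¹ (inv_mem hm)⟩
  have key : ∀ c ∈ HH (Z i), MulAut.conj c • NN Z (Z j) ≤ NN Z (Z j) := by
    intro c hc
    have h0 : NN Z (Z j) ≤ MulAut.conj c⁻¹ • NN Z (Z j) := by
      refine sSup_le fun u hu => ?_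
      obtain ⟨y, hy, rfl⟩ := (D.adj_iff hij.symm).1 hu
      obtain ⟨x, hx, c', hc', e⟩ := (hY hy).1 c hc
      have h1 : MulAut.conj c • (MulAut.conj y • Z i) ≤ NN Z (Z j) := by
        rw [conj_conj, e, ← conj_conj, conj_eq_of_mem hc']
        exact ((D.adj_iff hij.symm).2 ⟨x, hx, rfl⟩).le_NN
      have h2 := conj_le_iff (g := c⁻¹) |>.2 h1
      rwa [inv_conj_conj] at h2
    have h2 := conj_le_iff (g := c) |>.2 h0
    rwa [conj_inv_conj] at h2
  have hi : HH (Z i) ≤ normalizer (NN Z (Z j) : Set G) := by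
    intro c hc
    refine mem_of_conj_eq (le_antisymm (key c hc) ?_)
    have h2 := conj_le_iff (g := c) |>.2 (key c⁻¹ (inv_mem hc))
    rwa [conj_inv_conj] at h2
  have hj : HH (Z j) ≤ normalizer (NN Z (Z j) : Set G) := D.HH_norm_N j
  have h2 : IsPGroup 2 (NN Z (Z j)) := D.B2.to_le ((D.N_le_O j).trans D.O_le_B)
  have h3 : NN Z (Z j) = ⊥ := by
    rcases fin_two_pair hij with ⟨rfl, rfl⟩ | ⟨rfl, rfl⟩
    · exact D.nonLoc _ h2 hi hj
    · exact D.nonLoc _ h2 hj hi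
  have h4 : Z i ≤ NN Z (Z j) := (D.adj hij.symm).le_NN
  rw [h3] at h4
  exact D.Z_bot i (le_bot_iff.1 h4)

/-- **`done`** (NV.done, hdone of helper649). -/
theorem done (hwc : WC B) (hU : UniQ Z U B) {K : Subgroup G} (hKC : K ≤ centralizer (Z i : Set G))
    (hKn : HH (Z i) ≤ normalizer (K : Set G))
    (hmv : ∃ x ∈ K, IsPGroup 2 (zpowers x) ∧ x ∉ centralizer (NN Z (Z i) : Set G)) :
    ¬ K ≤ normalizer (U i : Set G) := by
  intro hKU
  obtain ⟨j, hij⟩ := fin_two_ex i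
  refine D.stepF hwc hU hij fun c hc => ?_
  have h1 := D.lem0 hwc hU hij hKC hKn hmv hc
  obtain ⟨x, hx, d, hd, rfl⟩ := OM.KTwo.exists_mul_of_mem_sup (F := K) (N := HH (Z i) ⊓ HH (Z j))
    (inf_le_left.trans hKn) h1
  refine ⟨d, hd, d⁻¹ * x * d, hKU ?_, by group⟩
  have := (mem_normalizer_iff.1 (hKn (inv_mem hd.1)) x).1 hx
  rwa [inv_inv] at this

/-- **LEMMA 0** in the form `PcQ.L0`. -/
theorem l0 (hwc : WC B) (hU : UniQ Z U B) : PcQ.L0 Z := by
  intro K hKC hKn hmv u u' hu hu'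
  obtain ⟨y, hy, rfl⟩ := (D.adj_iff (by decide : (0 : Fin 2) ≠ 1)).1 hu
  obtain ⟨y', hy', rfl⟩ := (D.adj_iff (by decide : (0 : Fin 2) ≠ 1)).1 hu'
  have h1 := D.lem0 hwc hU (by decide : (0 : Fin 2) ≠ 1) hKC hKn hmv
  obtain ⟨x₁, hx₁, d₁, hd₁, e₁⟩ := OM.KTwo.exists_mul_of_mem_sup (F := K) (N := HH (Z 0) ⊓ HH (Z 1))
    (inf_le_left.trans hKn) (h1 hy)
  obtain ⟨x₂, hx₂, d₂, hd₂, e₂⟩ := OM.KTwo.exists_mul_of_mem_sup (F := K) (N := HH (Z 0) ⊓ HH (Z 1))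
    (inf_le_left.trans hKn) (h1 hy')
  refine ⟨x₂ * x₁⁻¹, mul_mem hx₂ (inv_mem hx₁), ?_⟩
  have a1 : MulAut.conj y • Z 1 = MulAut.conj x₁ • Z 1 := by
    rw [e₁, ← conj_conj, conj_eq_of_mem hd₁.2]
  have a2 : MulAut.conj y' • Z 1 = MulAut.conj x₂ • Z 1 := by
    rw [e₂, ← conj_conj, conj_eq_of_mem hd₂.2]
  rw [a1, a2, conj_conj]
  congr 2
  group

end FQ

end Cfsg.Agent.Omega.NO3S.EThree

end

section


/-!
# Row (7): `TiIn` (all stages, `q ≥ 4`)
-/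

set_option autoImplicit false

namespace Cfsg.Agent.Omega.NO3S.EThree.TiInQ

open Cfsg.Agent.Omega.OM
open Cfsg.Agent.Omega.Frame (Cls)
open Cfsg.Agent.Omega.NO3S.EThree.Row7 (TiIn)
open Cfsg.Agent.Omega.NO3S.EThree.TiNeg (TiLev tiIn_of)

universe u

/-- TI or (4F) at the stages `n ≥ 0`. -/
theorem tiLev (K : Cls.{u}) : TiLev K :=
  fun _ _ _ _ _ _ _ _ _ _ _ _ _ _ hq hj h _ => h.ti_levF hj (by omega)

/-- **`TiIn`.** -/
theorem tiIn (hFF : FFThm.Stmt.{u}) (K : Cls.{u}) : TiIn K := tiIn_of hFF (tiLev K)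

end Cfsg.Agent.Omega.NO3S.EThree.TiInQ

end
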