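import Cfsg.Agent.Mrg.Omega.NO3S.EThree.RtQ
import Cfsg.Agent.Mrg.Omega.IId.SideOf
import Cfsg.Agent.Mrg.Omega.TC.Crit
import Cfsg.Agent.Mrg.Omega.EK3.Rank
import Cfsg.Agent.Mrg.Omega.IId.KOne
import Cfsg.Agent.Mrg.Omega.OM.PG.Base

section


/-!
# THEOREM I for all `q` (`k = 2`; helper997 #20474 (4), helper452 #22256)

`D : FQ Z U B q`, `O = OO Z = O₂(C_G(Z 0 Z 1))`.

* `FQ.lift` : (0) LIFTING; `FQ.exact_AA` : members of `AA O` are exact on `N_i`;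
* `FQ.exists_moves` : some `A ∈ AA O` moves `N_i`; `FQ.exists_mv` : with THEOREM G some `A ∈ AA O` moves `U i`;
* `FQ.int_one` : `A ∈ AA O` moves `U i`, `n ∈ N_j`, `[n, B] ≤ Z 0 Z 1` : `n = u c`, `u ∈ U i`, `[c, A] = 1`, `[c, B] ≤ Z j`;
* `FQ.inter` : **THEOREM I** : if members of `AA O` move `U 0`, `U 1` then `N_0 ∩ N_1 ≤ Z 0 Z 1` (`Z i ≤ N_i`).
No LEMMA FIX, no swap, every level.
-/

set_option autoImplicit false
set_option linter.unusedSectionVars false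

namespace Cfsg.Agent.Omega.NO3S.EThree

open Subgroup Cfsg Cfsg.Agent.ZN Cfsg.Agent.Omega.MinPar
open Cfsg.Agent.Omega.NoFF.Basic (conj_conj mem_conj conj_le_iff conj_le_centralizer comm_symm comm_mono)
open Cfsg.Agent.Omega.NOThreeL.Pair (conj_eq_of_mem)
open Cfsg.Agent.Omega.OM.PG
open Cfsg.Agent.Omega.OM.PG.Int (Ex rix_ne)
open Cfsg.Agent.Omega.OM.PG.Peel (Nob Exa)
open Cfsg.Agent.Omega.NO3S.EThree.ExactA (eab_iff eab_mono eab_sup swp)
open Cfsg.Agent.ZN.ChoiceSit (Syl o2_le_syl)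
open Cfsg.Agent.ZN.ChoiceBase (AA mm mm_eq mem_AA_iff AA_nonempty card_le_mm cj_mem_AA mm_cj mm_mono jj_eq_of_jj_le)
open Cfsg.Agent.Omega.NO3S.ML (card_mul_relIndex card_sup_mul_of_comm)
open scoped Pointwise

universe u

variable {G : Type u} [Group G]

namespace FQ

variable {Z U : Fin 2 → Subgroup G} {B : Subgroup G} {q : ℕ} [Finite G] (D : FQ Z U B q)
include D

/-- **(0) LIFTING.** -/
theorem lift (hQ : NoQQ Z) {i : Fin 2} {A : Subgroup G} (hA : IsElementaryAbelian 2 A) (hAO : A ≤ OO Z)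
    (hE : Ex A (NN Z (Z i))) {n : G} (hn : n ∈ NN Z (Z i)) (h : ∀ b ∈ A, n * b * n⁻¹ * b⁻¹ ∈ Z i) :
    n ∈ centralizer (A : Set G) := by
  have hz : ∀ m ∈ NN Z (Z i), ∀ z ∈ Z i, m * z * m⁻¹ = z := by
    intro m hm z hz
    have h1 := mem_centralizer_iff.1 (D.cen i (D.NQ i hm)) z hz
    rw [← h1, mul_inv_cancel_right]
  let K : Subgroup G :=
    { carrier := {m | m ∈ NN Z (Z i) ∧ ∀ b ∈ A, m * b * m⁻¹ * b⁻¹ ∈ Z i}
      one_mem' := ⟨one_mem _, fun b _ => by simp⟩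
      mul_mem' := by
        rintro m m' ⟨h1, h2⟩ ⟨h3, h4⟩
        refine ⟨mul_mem h1 h3, fun b hb => ?_⟩
        have e : m * m' * b * (m * m')⁻¹ * b⁻¹ = m * (m' * b * m'⁻¹ * b⁻¹) * m⁻¹ * (m * b * m⁻¹ * b⁻¹) := by group
        rw [e, hz m h1 _ (h4 b hb)]
        exact mul_mem (h4 b hb) (h2 b hb)
      inv_mem' := by
        rintro m ⟨h1, h2⟩
        refine ⟨inv_mem h1, fun b hb => ?_⟩
        have e : m⁻¹ * b * m⁻¹⁻¹ * b⁻¹ = m⁻¹ * (m * b * m⁻¹ * b⁻¹)⁻¹ * m⁻¹⁻¹ := by group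
        rw [e, hz m⁻¹ (inv_mem h1) _ (inv_mem (h2 b hb))]
        exact inv_mem (h2 b hb) }
  have hKN : K ≤ NN Z (Z i) := fun m hm => hm.1
  have h1 := hQ i A hA hAO K hKN fun m hm => hm.2
  have hle : NN Z (Z i) ⊓ centralizer (A : Set G) ≤ K := by
    rintro m ⟨h2, h3⟩
    refine ⟨h2, fun b hb => ?_⟩
    have e : m * b * m⁻¹ * b⁻¹ = 1 := by rw [← mem_centralizer_iff.1 h3 b hb]; group
    rw [e]; exact one_mem _
  have h2 := relIndex_mul_relIndex _ _ _ hle hKN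
  have h3 : (NN Z (Z i) ⊓ centralizer (A : Set G)).relIndex (NN Z (Z i)) =
      (centralizer (A : Set G)).relIndex (NN Z (Z i)) := inf_relIndex_left _ _
  have hE' : (centralizer (NN Z (Z i) : Set G)).relIndex A = (centralizer (A : Set G)).relIndex (NN Z (Z i)) := hE
  rw [h3, ← hE'] at h2
  have h4 : (NN Z (Z i) ⊓ centralizer (A : Set G)).relIndex K * K.relIndex (NN Z (Z i)) ≤
      1 * K.relIndex (NN Z (Z i)) := by rw [h2, one_mul]; exact h1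
  have h5 : (NN Z (Z i) ⊓ centralizer (A : Set G)).relIndex K ≤ 1 :=
    Nat.le_of_mul_le_mul_right h4 (Nat.pos_of_ne_zero (rix_ne _ _))
  have h6 := rix_ne (NN Z (Z i) ⊓ centralizer (A : Set G)) K
  have h7 : K ≤ NN Z (Z i) ⊓ centralizer (A : Set G) := relIndex_eq_one.1 (by omega)
  exact (h7 (⟨hn, h⟩ : n ∈ K)).2

/-- every `A ∈ AA O` is exact on `N_i` -/
theorem exact_AA (hNO : NoDQ Z) (i : Fin 2) {A : Subgroup G} (hA : A ∈ AA (OO Z)) :
    Ex A (NN Z (Z i)) ∧ NN Z (Z i) ⊓ centralizer (A : Set G) ≤ A ∧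
      (A ⊓ centralizer (NN Z (Z i) : Set G)) ⊔ NN Z (Z i) ∈ AA (OO Z) :=
  swp (D.N_eab i) (D.N_le_O i) hA (hNO i A hA.1 hA.2.1)

/-- an elementary of `O` centralising `N_i` lies in `Q_i` -/
theorem O_inf_le (i : Fin 2) : OO Z ⊓ centralizer (NN Z (Z i) : Set G) ≤ QQ (Z i) := by
  set X : Subgroup G := centralizer ((Z 0 ⊔ Z 1 : Subgroup G) : Set G) with hX
  -- `F = C(Z i) ∩ C(N_i)` is normal in `H_i` and contained in `X`
  set F : Subgroup G := centralizer (Z i : Set G) ⊓ centralizer (NN Z (Z i) : Set G) with hF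
  have hFX : F ≤ X := by
    rw [hX, le_centralizer_iff]
    have key : ∀ k, Z k ≤ centralizer (F : Set G) := by
      intro k
      by_cases hik : i = k
      · rw [← hik]; exact comm_symm inf_le_left
      · refine comm_symm (inf_le_right.trans (centralizer_le ?_))
        exact SetLike.coe_subset_coe.2 (D.adj hik).le_NN
    exact sup_le (key 0) (key 1)
  have hHF : HH (Z i) ≤ normalizer (F : Set G) :=
    NO3L.LemP.le_normalizer_inf (NO3L.LemP.normalizer_le_normalizer_cent (Z i))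
      ((D.HH_norm_N i).trans (NO3L.LemP.normalizer_le_normalizer_cent (NN Z (Z i))))
  have h1 : OO Z ⊓ centralizer (NN Z (Z i) : Set G) ≤ OO Z ⊓ F := by
    refine le_inf inf_le_left (le_inf (inf_le_left.trans ?_) inf_le_right)
    exact (D.O_le_B.trans D.B_le).trans (D.D_le_cent i)
  have h2 : OO Z ⊓ F ≤ o2 F := by
    refine MinSimple.VModule.le_o2 inf_le_right ((MinSimple.VModule.o2_isPGroup _).to_le inf_le_left) ?_
    refine NO3L.LemP.le_normalizer_inf ?_ le_normalizer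
    exact hFX.trans (MinSimple.VModule.le_normalizer_o2 _)
  have h3 : o2 F ≤ QQ (Z i) := by
    refine MinSimple.VModule.le_o2 ?_ (MinSimple.VModule.o2_isPGroup _)
      (hHF.trans (Cfsg.Agent.Omega.normalizer_le_normalizer_o2' _))
    exact (MinSimple.VModule.o2_le _).trans (inf_le_left.trans (centralizer_le_normalizer _))
  exact h1.trans (h2.trans h3)

/-- some `A ∈ AA O` moves `N_i` -/
theorem exists_moves (hNO : NoDQ Z) (i : Fin 2) : ∃ A ∈ AA (OO Z), ¬ A ≤ centralizer (NN Z (Z i) : Set G) := by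
  by_contra hcon
  push Not at hcon
  have h1 : jj (OO Z) ≤ QQ (Z i) := by
    refine le_trans (le_inf (ChoiceBase.jj_le _) ?_) (D.O_inf_le i)
    rw [ChoiceBase.jj_eq]
    exact sSup_le hcon
  -- the swap
  obtain ⟨s, hsB, hs0, hs1, -, -⟩ := D.swB
  have hO : MulAut.conj s • OO Z = OO Z := by
    have h2 : MulAut.conj s • (Z 0 ⊔ Z 1) = Z 0 ⊔ Z 1 := by
      rw [Subgroup.smul_sup, hs0, hs1, sup_comm]
    have h3 : s ∈ normalizer ((Z 0 ⊔ Z 1 : Subgroup G) : Set G) := ChoiceBase.mem_normalizer_iff_cj.2 h2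
    have h4 := NO3L.LemP.normalizer_le_normalizer_cent (Z 0 ⊔ Z 1) h3
    exact conj_eq_of_mem (Cfsg.Agent.Omega.normalizer_le_normalizer_o2' _ h4)
  have hJ : MulAut.conj s • jj (OO Z) = jj (OO Z) := by
    have h3 := ChoiceBase.jj_cj s (OO Z)
    have h4 : ChoiceBase.cj s (OO Z) = OO Z := hO
    rw [h4] at h3
    exact h3.symm
  have hall : ∀ k, jj (OO Z) ≤ QQ (Z k) := by
    intro k
    have hsw : ∀ a b : Fin 2, a ≠ b → MulAut.conj s • Z a = Z b := by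
      intro a b hab
      have h2 := fin_two_pair hab
      rcases h2 with ⟨rfl, rfl⟩ | ⟨rfl, rfl⟩
      · exact hs0
      · exact hs1
    by_cases hik : i = k
    · rw [← hik]; exact h1
    · have h2 := conj_le_iff (g := s) |>.2 h1
      rwa [hJ, ← QQ_conj, hsw i k hik] at h2
  have h5 : ∀ k, HH (Z k) ≤ normalizer (jj (OO Z) : Set G) := by
    intro k
    rw [← jj_eq_of_jj_le (hall k) (D.Q_le_O k)]
    exact (MinSimple.VModule.le_normalizer_o2 _).trans (ChoiceBase.normalizer_le_jj _)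
  have h6 := D.nonLoc (jj (OO Z)) ((MinSimple.VModule.o2_isPGroup _).to_le (ChoiceBase.jj_le _)) (h5 0) (h5 1)
  obtain ⟨A, hA⟩ := AA_nonempty (OO Z)
  have h7 := (D.exact_AA hNO 1 hA).2.1
  have h8 : Z 0 ≤ A := by
    refine le_trans (le_inf (D.adj (by decide : (1 : Fin 2) ≠ 0)).le_NN ?_) h7
    intro z hz
    exact mem_centralizer_iff.2 fun a ha => D.cBZ 0 (D.O_le_B (hA.2.1 ha)) hz
  have h9 := h8.trans (ChoiceBase.le_jj hA)
  rw [h6, le_bot_iff] at h9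
  exact D.ne h9

/-- **(1)** with THEOREM G: some `A ∈ AA O` moves `U i`. -/
theorem exists_mv (hNO : NoDQ Z) (hG : OM.PG.Peel.ThmG Z (OM.PG.Peel.XW Z U)) (i : Fin 2) :
    ∃ A ∈ AA (OO Z), ¬ A ≤ centralizer (U i : Set G) := by
  set X : Subgroup G := OM.PG.Peel.XW Z U (Z i) with hX
  have hNX : NN Z (Z i) ≤ X := le_sup_left
  have hXe : IsElementaryAbelian 2 X := D.XW_eab i
  have hXO : X ≤ OO Z := (D.XW_le_Q i).trans (D.Q_le_O i)
  obtain ⟨A, hA, hmv⟩ := D.exists_moves hNO i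
  obtain ⟨hex, -, hB⟩ := D.exact_AA hNO i hA
  set K := (A ⊓ centralizer (NN Z (Z i) : Set G)) ⊔ NN Z (Z i) with hKdef
  by_contra hcon
  push Not at hcon
  have hKC : K ≤ centralizer (NN Z (Z i) : Set G) := sup_le inf_le_right (D.N_comm i)
  have hKQ : K ≤ QQ (Z i) := (le_inf hB.2.1 hKC).trans (D.O_inf_le i)
  have hKX : K ≤ centralizer (X : Set G) := by
    refine comm_symm (sup_le (comm_symm hKC) (iSup_le fun l => comm_symm ?_))
    obtain ⟨c, hc, e⟩ := D.ln_conj l.2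
    have h1 : MulAut.conj c⁻¹ • K ∈ AA (OO Z) := by
      have h2 := cj_mem_AA c⁻¹ hB
      rw [mem_AA_iff] at hB ⊢
      refine ⟨h2.1, ?_, ?_⟩
      · have h3 := conj_le_iff (g := c⁻¹) |>.2 hKQ
        have h4 : MulAut.conj c⁻¹ • QQ (Z i) = QQ (Z i) :=
          conj_eq_of_mem (MinSimple.VModule.le_normalizer_o2 _ (inv_mem hc))
        rw [h4] at h3
        exact h3.trans (D.Q_le_O i)
      · have h3 : Nat.card (MulAut.conj c⁻¹ • K : Subgroup G) = Nat.card K := ChoiceBase.card_cj c⁻¹ K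
        rw [h3]; exact hB.2.2
    have h4 := conj_le_centralizer (g := c) (hcon _ h1)
    rw [conj_conj, mul_inv_cancel, map_one, one_smul] at h4
    rw [e]
    exact h4
  have h1 : A ⊓ centralizer (NN Z (Z i) : Set G) ≤ centralizer (X : Set G) := (le_sup_left : _ ≤ K).trans hKX
  have h2 : (centralizer (X : Set G)).relIndex A = (centralizer (NN Z (Z i) : Set G)).relIndex A := by
    rw [← inf_relIndex_left, ← inf_relIndex_left (A) (centralizer (NN Z (Z i) : Set G))]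
    congr 1
    refine le_antisymm (inf_le_inf_left _ (centralizer_le ?_)) (le_inf inf_le_left h1)
    exact SetLike.coe_subset_coe.2 hNX
  have h3 := TC.off hXe hXO hA
  have hex' : (centralizer (NN Z (Z i) : Set G)).relIndex A = (centralizer (A : Set G)).relIndex (NN Z (Z i)) := hex
  rw [h2, hex'] at h3
  apply hmv
  have hAB : A ≤ B := hA.2.1.trans D.O_le_B
  intro a ha
  apply hG (Z i) (D.pt i) a (D.B_le_HH i (hAB ha))
  intro x hx
  obtain ⟨n, hn, k, -, hk, e⟩ := TC.le_sup_of_relIndex hNX h3 (eab_iff.1 hXe).1 hx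
  have h4 : k * a = a * k := (mem_centralizer_iff.1 hk a ha).symm
  have e1 : x * a * x⁻¹ * a⁻¹ = n * (a * n⁻¹ * a⁻¹) := by
    rw [e]
    calc n * k * a * (n * k)⁻¹ * a⁻¹ = n * (k * a) * k⁻¹ * n⁻¹ * a⁻¹ := by group
      _ = n * (a * n⁻¹ * a⁻¹) := by rw [h4]; group
  rw [e1]
  exact mul_mem hn (D.B_norm_N i (hAB ha) (inv_mem hn))

/-- `B = A C_B(U i)` for a full root group -/
theorem B_eq {i : Fin 2} {A : Subgroup G} (hAB : A ≤ B) (hf : (centralizer (U i : Set G)).relIndex A = q) {b : G}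
    (hb : b ∈ B) : ∃ a ∈ A, ∃ c ∈ B, c ∈ centralizer (U i : Set G) ∧ b = a * c := by
  classical
  have h1 : (centralizer (U i : Set G)).relIndex B ≤ q := D.rel_A le_rfl
  set H : Subgroup G := centralizer (U i : Set G) with hH
  let f : A ⧸ H.subgroupOf A → B ⧸ H.subgroupOf B := fun c => QuotientGroup.mk ⟨(c.out : A), hAB (c.out).2⟩
  have hfi : Function.Injective f := by
    intro c c' hcc
    have h3 := QuotientGroup.eq.1 hcc
    have h4 : (QuotientGroup.mk c.out : A ⧸ H.subgroupOf A) = QuotientGroup.mk c'.out :=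
      QuotientGroup.eq.2 (mem_subgroupOf.2 (by simpa [mem_subgroupOf] using h3))
    rwa [QuotientGroup.out_eq', QuotientGroup.out_eq'] at h4
  have hcard : Nat.card (B ⧸ H.subgroupOf B) ≤ Nat.card (A ⧸ H.subgroupOf A) := by
    have h3 : Nat.card (A ⧸ H.subgroupOf A) = q := hf
    rw [h3]; exact h1
  obtain ⟨c, hc⟩ := (hfi.bijective_of_nat_card_le hcard).2 (QuotientGroup.mk ⟨b, hb⟩)
  have h3 := QuotientGroup.eq.1 hc
  have h4 : ((c.out : A) : G)⁻¹ * b ∈ H := by simpa [mem_subgroupOf] using h3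
  exact ⟨_, (c.out).2, _, mul_mem (inv_mem (hAB (c.out).2)) hb, h4, by group⟩

theorem sup_mem {i j : Fin 2} (hij : i ≠ j) {y : G} (hy : y ∈ Z 0 ⊔ Z 1) : ∃ a ∈ Z i, ∃ b ∈ Z j, y = a * b := by
  have hc : Z j ≤ centralizer (Z i : Set G) := by
    intro z hz
    exact mem_centralizer_iff.2 fun w hw => D.cBZ j (D.U_le_B i (D.ZU' i hw)) hz
  have h1 : Z 0 ⊔ Z 1 = Z i ⊔ Z j := by
    have h2 := fin_two_pair hij
    rcases h2 with ⟨rfl, rfl⟩ | ⟨rfl, rfl⟩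
    · rfl
    · exact sup_comm _ _
  rw [h1] at hy
  exact OM.KTwo.exists_mul_of_mem_sup (hc.trans (centralizer_le_normalizer _)) hy

theorem U_inf {i j : Fin 2} (hij : i ≠ j) {y : G} (h1 : y ∈ U i) (h2 : y ∈ U j) : y = 1 := by
  have h3 : y ∈ U 0 ⊓ U 1 := by
    have h4 := fin_two_pair hij
    rcases h4 with ⟨rfl, rfl⟩ | ⟨rfl, rfl⟩
    · exact ⟨h1, h2⟩
    · exact ⟨h2, h1⟩
  rwa [D.inf, mem_bot] at h3

/-- **THEOREM I, one side.** -/
theorem int_one (hNO : NoDQ Z) (hQ : NoQQ Z) {i j : Fin 2} (hij : i ≠ j) (hZj : Z j ≤ NN Z (Z j)) {A : Subgroup G}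
    (hA : A ∈ AA (OO Z)) (hmv : ¬ A ≤ centralizer (U i : Set G)) {n : G} (hn : n ∈ NN Z (Z j))
    (hB : ∀ b ∈ B, n * b * n⁻¹ * b⁻¹ ∈ Z 0 ⊔ Z 1) :
    ∃ u ∈ U i, ∃ c ∈ NN Z (Z j), c ∈ centralizer (A : Set G) ∧ n = u * c ∧ ∀ b ∈ B, c * b * c⁻¹ * b⁻¹ ∈ Z j := by
  have hAB : A ≤ B := hA.2.1.trans D.O_le_B
  obtain ⟨l, hlU, hlZ, hlc, hlS, -⟩ := D.mvl i j hij
  obtain ⟨hrt, -, hfull⟩ := D.rt_AA D.O_le_B (D.U_le_O i) hA hmv hlU hlZ
  set N : Subgroup G := NN Z (Z j) with hNdef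
  have hUN : U i ≤ N := D.U_le_N hij.symm
  have hlH : l ∈ HH (Z j) := centralizer_le_normalizer _ hlc
  have hlN : ∀ m ∈ N, l * m * l⁻¹ ∈ N := fun m hm => (mem_normalizer_iff.1 (D.HH_norm_N j hlH) m).1 hm
  set R : Subgroup G := B ⊓ centralizer (U i : Set G) with hR
  have hRl : ∀ b ∈ R, l * b * l⁻¹ ∈ R := by
    intro b hb
    rw [← hlS, mem_conj]
    have e : l⁻¹ * (l * b * l⁻¹) * l = b := by group
    rwa [e]
  have hRl' : ∀ b ∈ R, l⁻¹ * b * l ∈ R := by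
    intro b hb
    rw [← hlS, mem_conj] at hb
    exact hb
  have hex := (D.exact_AA hNO j hA).1
  have hlift : ∀ K : Subgroup G, IsElementaryAbelian 2 K → K ≤ OO Z → Ex K N → ∀ m ∈ N,
      (∀ b ∈ K, m * b * m⁻¹ * b⁻¹ ∈ Z j) → m ∈ centralizer (K : Set G) :=
    fun K hK hKO hE m hm h => D.lift hQ hK hKO hE hm h
  -- `[n^l, R] ≤ Z j`
  have hmain := hrt.int (N := N) (O := OO Z) (Z₂ := Z j) (R := R) (n := l * n * l⁻¹) (D.N_eab j) hUN
    (fun K hK hKO => hNO j K hK hKO) hlift hA.2.1 hex (fun a ha m hm => D.B_norm_N j (hAB ha) hm)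
    (fun a ha z hz => D.cBZ j (hAB ha) hz) (fun e he hez => D.U_inf hij he (D.ZU' j hez)) hZj
    (le_inf (inf_le_left.trans hAB) inf_le_right) inf_le_right
    (fun a ha b hb => ?_) (hlN n hn) (fun b hb => ?_)
  rotate_left
  · have haB := inv_mem (hAB ha)
    have h1 : a⁻¹ ∈ normalizer (R : Set G) :=
      NO3L.LemP.le_normalizer_inf le_normalizer
        ((D.B_le_NU i).trans (NO3L.LemP.normalizer_le_normalizer_cent (U i))) haB
    have h2 := (mem_normalizer_iff.1 h1 b).1 hb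
    rwa [inv_inv] at h2
  · obtain ⟨e, he, z, hz, h1⟩ := D.sup_mem hij (hB _ (hRl' b hb).1)
    refine ⟨l * e * l⁻¹, ?_, z, hz, ?_⟩
    · rw [mem_conj]
      have e1 : l⁻¹ * (l * e * l⁻¹) * l = e := by group
      rwa [e1]
    · have h2 : l * z * l⁻¹ = z := by
        rw [← mem_centralizer_iff.1 hlc z hz, mul_inv_cancel_right]
      calc l * n * l⁻¹ * b * (l * n * l⁻¹)⁻¹ * b⁻¹ = l * (n * (l⁻¹ * b * l) * n⁻¹ * (l⁻¹ * b * l)⁻¹) * l⁻¹ := by group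
        _ = l * e * l⁻¹ * (l * z * l⁻¹) := by rw [h1]; group
        _ = _ := by rw [h2]
  -- `[n, R] ≤ Z j`
  have hnR : ∀ b ∈ R, n * b * n⁻¹ * b⁻¹ ∈ Z j := by
    intro b hb
    have h1 := hmain _ (hRl b hb)
    have h2 : l * (n * b * n⁻¹ * b⁻¹) * l⁻¹ ∈ Z j := by
      have e : l * (n * b * n⁻¹ * b⁻¹) * l⁻¹ = l * n * l⁻¹ * (l * b * l⁻¹) * (l * n * l⁻¹)⁻¹ * (l * b * l⁻¹)⁻¹ := by
        group
      rw [e]; exact h1
    have h3 := mem_centralizer_iff.1 hlc _ h2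
    have h4 : n * b * n⁻¹ * b⁻¹ = l⁻¹ * (l * (n * b * n⁻¹ * b⁻¹) * l⁻¹) * l := by group
    rw [h4, mul_assoc, h3]
    have e : l⁻¹ * (l * (l * (n * b * n⁻¹ * b⁻¹) * l⁻¹)) = l * (n * b * n⁻¹ * b⁻¹) * l⁻¹ := by group
    rw [e]
    exact h2
  -- `n ∈ C(A_0) = U i C(A)`
  set A0 : Subgroup G := A ⊓ centralizer (U i : Set G) with hA0
  have hA0e : IsElementaryAbelian 2 A0 := eab_mono hA.1 inf_le_left
  have hA0O : A0 ≤ OO Z := inf_le_left.trans hA.2.1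
  obtain ⟨hEx0, hle⟩ := OM.PG.Peel.exa_peel (N := N) (V := U i) (B := A) hUN hex hrt.nob (hNO j A0 hA0e hA0O)
  have h1 : n ∈ centralizer (A0 : Set G) :=
    D.lift hQ hA0e hA0O hEx0 hn fun b hb => hnR b ⟨hAB hb.1, hb.2⟩
  have h2 : n ∈ U i ⊔ (N ⊓ centralizer (A : Set G)) := hle ⟨hn, h1⟩
  obtain ⟨u, hu, c, hc, e⟩ := OM.KTwo.exists_mul_of_mem_sup
    (((inf_le_left : N ⊓ centralizer (A : Set G) ≤ N).trans ((D.N_comm j).trans (centralizer_le hUN))).trans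
      (centralizer_le_normalizer _)) h2
  refine ⟨u, hu, c, hc.1, hc.2, e, fun b hb => ?_⟩
  obtain ⟨a, ha, r, hrB, hrU, rfl⟩ := D.B_eq hAB hfull hb
  -- `[c, r] = [n, r]`
  have h3 : c = u⁻¹ * n := by rw [e]; group
  have h4 : c * r * c⁻¹ * r⁻¹ = n * r * n⁻¹ * r⁻¹ := by
    have hur : u⁻¹ * r = r * u⁻¹ := mem_centralizer_iff.1 hrU _ (inv_mem hu)
    have hcN : n * r * n⁻¹ * r⁻¹ ∈ N := hZj (hnR r ⟨hrB, hrU⟩)
    have huN := mem_centralizer_iff.1 (D.N_comm j hcN) _ (inv_mem (hUN hu))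
    have hru : r * u = u * r := by
      calc r * u = u * (u⁻¹ * r) * u := by group
        _ = u * (r * u⁻¹) * u := by rw [hur]
        _ = u * r := by group
    rw [h3]
    calc u⁻¹ * n * r * (u⁻¹ * n)⁻¹ * r⁻¹ = u⁻¹ * (n * r * n⁻¹ * r⁻¹) * (r * u) * r⁻¹ := by group
      _ = (n * r * n⁻¹ * r⁻¹) * u⁻¹ * (u * r) * r⁻¹ := by rw [huN, hru]
      _ = n * r * n⁻¹ * r⁻¹ := by group
  have h5 : c * r * c⁻¹ * r⁻¹ ∈ Z j := by rw [h4]; exact hnR r ⟨hrB, hrU⟩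
  have h6 : c * a = a * c := (mem_centralizer_iff.1 hc.2 a ha).symm
  have h7 : c * (a * r) * c⁻¹ * (a * r)⁻¹ = a * (c * r * c⁻¹ * r⁻¹) * a⁻¹ := by
    calc c * (a * r) * c⁻¹ * (a * r)⁻¹ = (c * a) * r * c⁻¹ * r⁻¹ * a⁻¹ := by group
      _ = a * (c * r * c⁻¹ * r⁻¹) * a⁻¹ := by rw [h6]; group
  rw [h7, D.cBZ j (hAB ha) h5, mul_inv_cancel_right]
  exact h5

/-- **THEOREM I, one side, for `n ∈ N_i ∩ N_j`.** -/
theorem int_two (hNO : NoDQ Z) (hQ : NoQQ Z) {i j : Fin 2} (hij : i ≠ j) (hZj : Z j ≤ NN Z (Z j)) {A : Subgroup G}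
    (hA : A ∈ AA (OO Z)) (hmv : ¬ A ≤ centralizer (U i : Set G)) {n : G} (hn : n ∈ NN Z (Z j))
    (hn' : n ∈ NN Z (Z i)) (hB : ∀ b ∈ B, n * b * n⁻¹ * b⁻¹ ∈ Z 0 ⊔ Z 1) :
    ∀ b ∈ B, n * b * n⁻¹ * b⁻¹ ∈ Z j := by
  have hAB : A ≤ B := hA.2.1.trans D.O_le_B
  obtain ⟨u, hu, c, hc, hcA, e, hcB⟩ := D.int_one hNO hQ hij hZj hA hmv hn hB
  -- `[n, A] = [u, A] ≤ Z i`
  have h1 : ∀ a ∈ A, n * a * n⁻¹ * a⁻¹ = u * a * u⁻¹ * a⁻¹ := by
    intro a ha
    have h2 := mem_centralizer_iff.1 hcA a ha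
    rw [e]
    calc u * c * a * (u * c)⁻¹ * a⁻¹ = u * (c * a) * c⁻¹ * u⁻¹ * a⁻¹ := by group
      _ = u * a * u⁻¹ * a⁻¹ := by rw [← h2]; group
  have h2 : ∀ a ∈ A, u * a * u⁻¹ * a⁻¹ ∈ Z i := by
    intro a ha
    have h3 := inv_mem (D.com i a (hAB ha) u hu)
    have e1 : (a * u * a⁻¹ * u⁻¹)⁻¹ = u * a * u⁻¹ * a⁻¹ := by group
    rwa [e1] at h3
  have h3 := D.lift hQ hA.1 hA.2.1 (D.exact_AA hNO i hA).1 hn' fun a ha => by rw [h1 a ha]; exact h2 a ha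
  have h4 : u ∈ centralizer (A : Set G) := by
    refine mem_centralizer_iff.2 fun a ha => ?_
    have h5 : u * a * u⁻¹ * a⁻¹ = 1 := by
      rw [← h1 a ha, ← mem_centralizer_iff.1 h3 a ha]; group
    exact (mul_inv_eq_iff_eq_mul.1 (mul_inv_eq_one.1 h5)).symm
  have h5 : u ∈ Z i := by
    rw [← D.cent_U hAB hmv]
    exact ⟨hu, h4⟩
  intro b hb
  have h6 : u * b = b * u := (D.cBZ i hb h5).symm
  have h7 := hcB b hb
  have h8 : n * b * n⁻¹ * b⁻¹ = u * (c * b * c⁻¹ * b⁻¹) * u⁻¹ := by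
    have h9 : b * u⁻¹ = u⁻¹ * b := D.cBZ i hb (inv_mem h5)
    rw [e]
    calc u * c * b * (u * c)⁻¹ * b⁻¹ = u * (c * b * c⁻¹ * b⁻¹) * (b * u⁻¹) * b⁻¹ := by group
      _ = u * (c * b * c⁻¹ * b⁻¹) * u⁻¹ := by rw [h9]; group
  rw [h8, D.cBZ j (D.U_le_B i hu) h7, mul_inv_cancel_right]
  exact h7

/-- **THEOREM I.** -/
theorem inter (hNO : NoDQ Z) (hQ : NoQQ Z) (hZ : ∀ i, Z i ≤ NN Z (Z i))
    (hA : ∀ i, ∃ A ∈ AA (OO Z), ¬ A ≤ centralizer (U i : Set G)) : NN Z (Z 0) ⊓ NN Z (Z 1) ≤ Z 0 ⊔ Z 1 := by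
  by_contra hne
  have hNB : ∀ i, NN Z (Z i) ≤ B := fun i => (D.N_le_O i).trans D.O_le_B
  have hBY : B ≤ normalizer ((Z 0 ⊔ Z 1 : Subgroup G) : Set G) := D.B_le.trans (centralizer_le_normalizer _)
  have hBI : B ≤ normalizer ((NN Z (Z 0) ⊓ NN Z (Z 1) : Subgroup G) : Set G) :=
    NO3L.LemP.le_normalizer_inf ((D.B_le_HH 0).trans (D.HH_norm_N 0)) ((D.B_le_HH 1).trans (D.HH_norm_N 1))
  obtain ⟨n, hn, hnY, hnB⟩ := IId.SideOf.exists_fixed_mod hne ((inf_le_left.trans (hNB 0)).trans hBY)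
    (D.B2.to_le (inf_le_left.trans (hNB 0))) D.B2 hBY hBI
  have hnB' : ∀ b ∈ B, n * b * n⁻¹ * b⁻¹ ∈ Z 0 ⊔ Z 1 := by
    intro b hb
    have h1 := inv_mem (hnB b hb)
    have e : (b * n * b⁻¹ * n⁻¹)⁻¹ = n * b * n⁻¹ * b⁻¹ := by group
    rwa [e] at h1
  obtain ⟨A0, hA0, hm0⟩ := hA 0
  obtain ⟨A1, hA1, hm1⟩ := hA 1
  have h1 := D.int_two hNO hQ (i := 0) (j := 1) (by decide) (hZ 1) hA0 hm0 hn.2 hn.1 hnB'
  have h0 := D.int_two hNO hQ (i := 1) (j := 0) (by decide) (hZ 0) hA1 hm1 hn.1 hn.2 hnB'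
  apply hnY
  refine D.zB n (hNB 0 hn.1) ((eab_iff.1 (D.N_eab 0)).2 n hn.1) fun b hb => ?_
  have h2 := D.U_inf (i := 0) (j := 1) (by decide) (D.ZU' 0 (h0 b hb)) (D.ZU' 1 (h1 b hb))
  exact (mul_inv_eq_iff_eq_mul.1 (mul_inv_eq_one.1 h2)).symm

end FQ

end Cfsg.Agent.Omega.NO3S.EThree

end

section


/-!
# THEOREM N (0), `k = 2`, all `q`: the canonical vectors (helper381 #23328, helper627 #22366)

`D : FQ Z U B q`, `T` Sylow in `N(Z i)`, `T ≤ N(U i)`; `Z i ≤ N_i`, `U i ≰ N_i`.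

* `Cp Z U i X0 W` : `X0 / Z i` is the canonical complement of `N_i / Z i` in `U i N_i / Z i`, and
  `W = X_i ⟨n_y(v)⟩` is elementary abelian, `≤ Q_i`, normal in `N(Z i)`;
* `exists_cp` : existence;
* `K = ⟨A^{N(Z i)}⟩` : `K ≤ C(Z i)`, `[X_i, K] ≤ N_i`, `K ≤ N(X0)`, `K ≤ N(W)`.
-/

set_option autoImplicit false
set_option linter.unusedSectionVars false

namespace Cfsg.Agent.Omega.TCQ.R.Can

open Subgroup Cfsg Cfsg.Agent.ZN Cfsg.Agent.Omega.MinPar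
open Cfsg.Agent.Omega.NoFF.Basic (conj_conj mem_conj conj_le_iff conj_le_centralizer comm_symm comm_mono)
open Cfsg.Agent.Omega.NOThreeL.Pair (conj_eq_of_mem)
open Cfsg.Agent.Omega.OM.PG
open Cfsg.Agent.Omega.OM.PG.Int (Ex)
open Cfsg.Agent.Omega.OM.PG.Peel (XW)
open Cfsg.Agent.Omega.NO3S.EThree Cfsg.Agent.Omega.NO3S.EThree.FQ
open Cfsg.Agent.Omega.NO3S.EThree.ExactA (eab_iff eab_mono eab_sup)
open Cfsg.Agent.ZN.ChoiceSit (Syl syl_not_dvd)
open Cfsg.Agent.ZN.ChoiceBase (AA)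
open scoped Pointwise commutatorElement

universe u

variable {G : Type u} [Group G]

theorem closure_comm {S : Set G} (hc : ∀ x ∈ S, ∀ y ∈ S, x * y = y * x) :
    closure S ≤ centralizer ((closure S : Subgroup G) : Set G) := by
  have h1 : closure S ≤ centralizer S :=
    (closure_le _).2 fun x hx => mem_centralizer_iff.2 fun y hy => hc y hy x hx
  refine (closure_le _).2 fun x hx => mem_centralizer_iff.2 fun y hy => ?_
  exact (mem_centralizer_iff.1 (h1 hy) x hx).symm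

theorem closure_eab {S : Set G} (hc : ∀ x ∈ S, ∀ y ∈ S, x * y = y * x) (hs : ∀ x ∈ S, x ^ 2 = 1) :
    IsElementaryAbelian 2 (closure S) := by
  have h1 := closure_comm hc
  refine eab_iff.2 ⟨h1, fun x hx => ?_⟩
  induction hx using Subgroup.closure_induction with
  | mem x hx => exact hs x hx
  | one => exact one_pow 2
  | mul x y hx hy h2 h3 =>
    have h4 : Commute x y := mem_centralizer_iff.1 (h1 hy) x hx
    rw [h4.mul_pow, h2, h3, one_mul]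
  | inv x _ h2 => rw [inv_pow, h2, inv_one]

theorem closure_norm {S : Set G} {H : Subgroup G} (h : ∀ g ∈ H, ∀ x ∈ S, g * x * g⁻¹ ∈ S) :
    H ≤ normalizer ((closure S : Subgroup G) : Set G) := by
  have key : ∀ g ∈ H, ∀ x ∈ closure S, g * x * g⁻¹ ∈ closure S := by
    intro g hg x hx
    induction hx using Subgroup.closure_induction with
    | mem x hx => exact subset_closure (h g hg x hx)
    | one => rw [mul_one, mul_inv_cancel]; exact one_mem _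
    | mul x y _ _ h2 h3 =>
      have e : g * (x * y) * g⁻¹ = (g * x * g⁻¹) * (g * y * g⁻¹) := by group
      rw [e]; exact mul_mem h2 h3
    | inv x _ h2 =>
      have e : g * x⁻¹ * g⁻¹ = (g * x * g⁻¹)⁻¹ := by group
      rw [e]; exact inv_mem h2
  intro g hg
  rw [mem_normalizer_iff]
  intro x
  refine ⟨key g hg x, fun hx => ?_⟩
  have h2 := key g⁻¹ (inv_mem hg) _ hx
  have e : g⁻¹ * (g * x * g⁻¹) * g⁻¹⁻¹ = x := by group
  rwa [e] at h2

theorem le_normalizer_sup' {g : G} {A C : Subgroup G} (hA : g ∈ normalizer (A : Set G))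
    (hC : g ∈ normalizer (C : Set G)) : g ∈ normalizer ((A ⊔ C : Subgroup G) : Set G) := by
  refine ChoiceBase.mem_normalizer_iff_cj.2 ?_
  change MulAut.conj g • (A ⊔ C) = A ⊔ C
  rw [Subgroup.smul_sup, conj_eq_of_mem hA, conj_eq_of_mem hC]

/-- **The canonical complement and the canonical vectors.** -/
structure Cp (Z U : Fin 2 → Subgroup G) (i : Fin 2) (X0 W : Subgroup G) : Prop where
  lN : ∀ x ∈ U i, x ∈ NN Z (Z i) → x ∈ Z i
  bX : Z i ≤ X0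
  XN : ∀ x ∈ X0, x ∈ NN Z (Z i) → x ∈ Z i
  Xl : X0 ≤ U i ⊔ NN Z (Z i)
  Xex : ∀ v ∈ U i, ∃ n ∈ NN Z (Z i), v * n ∈ X0
  inv : normalizer (Z i : Set G) ⊓ normalizer ((U i ⊔ NN Z (Z i) : Subgroup G) : Set G) ≤ normalizer (X0 : Set G)
  We : IsElementaryAbelian 2 W
  XWW : XW Z U (Z i) ≤ W
  WQ : W ≤ QQ (Z i)
  HW : normalizer (Z i : Set G) ≤ normalizer (W : Set G)
  MW : ∀ e ∈ normalizer (U i : Set G), ∀ m ∈ NN Z (Z i), (∃ v ∈ U i, v * m ∈ X0) → e * m * e⁻¹ ∈ W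
  cen : ∀ e ∈ normalizer (U i : Set G), ∀ m ∈ NN Z (Z i), (∃ v ∈ U i, v * m ∈ X0) → ∀ t ∈ centralizer (U i : Set G),
    ∃ z ∈ Z i, t * (e * m * e⁻¹) * t⁻¹ * (e * m * e⁻¹)⁻¹ = e * z * e⁻¹
  cX : ∀ e ∈ normalizer (U i : Set G), ∀ m ∈ NN Z (Z i), (∃ v ∈ U i, v * m ∈ X0) →
    e * m * e⁻¹ ∈ centralizer (XW Z U (Z i) : Set G)
  Qj : ∀ j, i ≠ j → ∀ e ∈ normalizer (U i : Set G), ∀ m ∈ NN Z (Z i), (∃ v ∈ U i, v * m ∈ X0) →
    e * m * e⁻¹ ∈ QQ (Z j)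

section

variable {Z U : Fin 2 → Subgroup G} {B : Subgroup G} {q : ℕ} (D : FQ Z U B q) {i : Fin 2}
include D

theorem lN (hrad : Z i ≤ NN Z (Z i)) (hV : ¬ U i ≤ NN Z (Z i)) : ∀ x ∈ U i, x ∈ NN Z (Z i) → x ∈ Z i := by
  intro x hx hxN
  by_contra hxZ
  apply hV
  intro y hy
  by_cases hyZ : y ∈ Z i
  · exact hrad hyZ
  obtain ⟨j, hij⟩ := fin_two_ex i
  obtain ⟨h, -, h1, -, h2⟩ := D.tor i j hij x hx hxZ y hy hyZ
  have h3 : h ∈ HH (Z i) := ChoiceBase.mem_normalizer_iff_cj.2 h1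
  have h4 : h * x * h⁻¹ ∈ NN Z (Z i) := (mem_normalizer_iff.1 (D.HH_norm_N i h3) x).1 hxN
  have e : y = (h * x * h⁻¹) * (y⁻¹ * (h * x * h⁻¹))⁻¹ := by group
  rw [e]
  exact mul_mem h4 (inv_mem (hrad h2))

/-- an element of `N(Z i) ∩ N(U i)` normalises `U i N_i` -/
theorem mem_hat {g : G} (hg : g ∈ normalizer (Z i : Set G)) (hg' : g ∈ normalizer (U i : Set G)) :
    g ∈ normalizer ((U i ⊔ NN Z (Z i) : Subgroup G) : Set G) :=
  le_normalizer_sup' hg' (D.HH_norm_N i hg)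

theorem U_comm_N {v n : G} (hv : v ∈ U i) (hn : n ∈ NN Z (Z i)) : v * n = n * v :=
  (mem_centralizer_iff.1 (D.Q_cent_N i (D.UQ' i hv)) n hn).symm

theorem mem_sup {x : G} (hx : x ∈ U i ⊔ NN Z (Z i)) : ∃ v ∈ U i, ∃ n ∈ NN Z (Z i), x = v * n := by
  refine OM.KTwo.exists_mul_of_mem_sup ?_ hx
  intro n hn
  refine centralizer_le_normalizer _ (mem_centralizer_iff.2 fun v hv => U_comm_N D hv hn)

theorem U_le_XW : U i ≤ XW Z U (Z i) :=
  (le_iSup (fun l : {l : Subgroup G // LnOn Z U (Z i) l} => (l : Subgroup G)) ⟨U i, D.ln i⟩).trans le_sup_right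

theorem N_le_XW : NN Z (Z i) ≤ XW Z U (Z i) := le_sup_left

theorem HH_norm_XW : HH (Z i) ≤ normalizer (XW Z U (Z i) : Set G) := by
  intro g hg
  refine ChoiceBase.mem_normalizer_iff_cj.2 ?_
  change MulAut.conj g • XW Z U (Z i) = XW Z U (Z i)
  rw [← Peel.XW_conj, conj_eq_of_mem hg]

/-- transitivity on the points of `U i`, fixing `Z j` -/
theorem tr' {j : Fin 2} (hij : i ≠ j) {e : G} (he : e ∈ normalizer (U i : Set G)) :
    ∃ g : G, MulAut.conj g • Z i = MulAut.conj e • Z i ∧ MulAut.conj g • Z j = Z j ∧ MulAut.conj g • U i = U i := by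
  obtain ⟨s, s0, s1, s2, s3⟩ := D.swap
  rcases fin_two_pair hij with ⟨rfl, rfl⟩ | ⟨rfl, rfl⟩
  · have h1 : MulAut.conj e • Z 0 ≤ U 0 := by
      have h2 := conj_le_iff (g := e) |>.2 (D.ZU' 0)
      rwa [conj_eq_of_mem he] at h2
    obtain ⟨l, h2, h3, h4, -⟩ := D.tr e h1
    exact ⟨l, h2, h3, h4⟩
  · have es : MulAut.conj s⁻¹ • U 1 = U 0 := by rw [← s2, inv_conj_conj]
    have ez : MulAut.conj s⁻¹ • Z 1 = Z 0 := by rw [← s0, inv_conj_conj]
    have ez0 : MulAut.conj s⁻¹ • Z 0 = Z 1 := by rw [← s1, inv_conj_conj]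
    have h1 : MulAut.conj (s⁻¹ * e * s) • Z 0 ≤ U 0 := by
      have hk : MulAut.conj (s⁻¹ * e * s) • U 0 = U 0 := by
        rw [← conj_conj, ← conj_conj, s2, conj_eq_of_mem he, es]
      have h2 := conj_le_iff (g := s⁻¹ * e * s) |>.2 (D.ZU' 0)
      rwa [hk] at h2
    obtain ⟨l, h2, h3, h4, -⟩ := D.tr _ h1
    refine ⟨s * l * s⁻¹, ?_, ?_, ?_⟩
    · rw [← conj_conj, ez, ← conj_conj, h2, conj_conj]
      have e1 : s * (s⁻¹ * e * s) = e * s := by group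
      rw [e1, ← conj_conj, s0]
    · rw [← conj_conj, ez0, ← conj_conj, h3, s1]
    · rw [← conj_conj, es, ← conj_conj, h4, s2]

variable [Finite G]

/-- `(N_j, N_i)` is exact -/
theorem ex_N (hNO : NoDQ Z) (i j : Fin 2) : Ex (NN Z (Z j)) (NN Z (Z i)) :=
  le_antisymm (hNO i _ (D.N_eab j) (D.N_le_O j)) (hNO j _ (D.N_eab i) (D.N_le_O i))

theorem exists_cp (hNO : NoDQ Z) (hQ : NoQQ Z) (hrad : Z i ≤ NN Z (Z i)) (hV : ¬ U i ≤ NN Z (Z i)) {T : Subgroup G}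
    (hT : Syl T (normalizer (Z i : Set G))) (hTU : T ≤ normalizer (U i : Set G)) :
    ∃ X0 W : Subgroup G, Cp Z U i X0 W := by
  have hlN := lN D hrad hV
  set N := NN Z (Z i) with hN
  have hNe := D.N_eab i
  have hUe := D.eU i
  have hcUN : U i ≤ centralizer (N : Set G) := (D.UQ' i).trans (D.Q_cent_N i)
  have hEe : IsElementaryAbelian 2 (U i ⊔ N : Subgroup G) := eab_sup hUe hNe hcUN
  -- (0) the canonical complement
  have hTH : T ≤ normalizer (Z i : Set G) ⊓ normalizer ((U i ⊔ N : Subgroup G) : Set G) := fun t ht =>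
    ⟨hT.1 ht, mem_hat D (hT.1 ht) (hTU ht)⟩
  have hodd : Odd (T.relIndex (normalizer (Z i : Set G) ⊓ normalizer ((U i ⊔ N : Subgroup G) : Set G))) := by
    have h1 := syl_not_dvd hT
    rw [← Nat.not_even_iff_odd, even_iff_two_dvd]
    intro h2
    apply h1
    have h3 := relIndex_mul_relIndex T _ _ hTH
      (inf_le_left : normalizer (Z i : Set G) ⊓ normalizer ((U i ⊔ N : Subgroup G) : Set G) ≤ _)
    rw [← h3]
    exact Dvd.dvd.mul_right h2 _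
  obtain ⟨X0, hbX, hXN, hXl, hXex, hinv⟩ := exists_X (E := U i ⊔ N) (N := N) (l := U i) (b := Z i) (T := T)
    (H := normalizer (Z i : Set G) ⊓ normalizer ((U i ⊔ N : Subgroup G) : Set G))
    (fun x hx y hy => (mem_centralizer_iff.1 ((eab_iff.1 hEe).1 hy) x hx)) (eab_iff.1 hEe).2 hrad le_sup_right
    le_sup_left hlN (fun x hx => mem_sup D hx) inf_le_right (inf_le_left.trans (D.HH_norm_N i)) inf_le_left hTU hodd
  -- the canonical vectors
  have hconjN : ∀ g ∈ HH (Z i), ∀ n ∈ N, g * n * g⁻¹ ∈ N := fun g hg n hn =>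
    (mem_normalizer_iff.1 (D.HH_norm_N i hg) n).1 hn
  have hNL : ∀ h ∈ normalizer (Z i : Set G), h ∈ normalizer (U i : Set G) → ∀ m ∈ N, (∃ v ∈ U i, v * m ∈ X0) →
      h * m * h⁻¹ ∈ N ∧ ∃ v ∈ U i, v * (h * m * h⁻¹) ∈ X0 := by
    rintro h hh hh' m hm ⟨v, hv, hvm⟩
    refine ⟨hconjN h hh m hm, h * v * h⁻¹, (mem_normalizer_iff.1 hh' v).1 hv, ?_⟩
    have h1 := (mem_normalizer_iff.1 (hinv ⟨hh, mem_hat D hh hh'⟩) _).1 hvm
    have e : h * v * h⁻¹ * (h * m * h⁻¹) = h * (v * m) * h⁻¹ := by group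
    rwa [e]
  -- (w0)
  have hcU : centralizer (U i : Set G) ≤ HH (Z i) :=
    (centralizer_le (D.ZU' i)).trans (centralizer_le_normalizer _)
  have w0 : ∀ m ∈ N, (∃ v ∈ U i, v * m ∈ X0) → ∀ t ∈ centralizer (U i : Set G), t * m * t⁻¹ * m⁻¹ ∈ Z i := by
    rintro m hm ⟨v, hv, hvm⟩ t ht
    have htm := hconjN t (hcU ht) m hm
    have h1 := (mem_normalizer_iff.1 (hinv ⟨hcU ht, mem_hat D (hcU ht) (centralizer_le_normalizer _ ht)⟩) _).1 hvm
    have e1 : t * (v * m) * t⁻¹ = v * (t * m * t⁻¹) := by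
      calc t * (v * m) * t⁻¹ = (t * v) * m * t⁻¹ := by group
        _ = (v * t) * m * t⁻¹ := by rw [mem_centralizer_iff.1 ht v hv]
        _ = _ := by group
    rw [e1] at h1
    have h2 : m⁻¹ * (t * m * t⁻¹) ∈ X0 := by
      have h3 := mul_mem (inv_mem hvm) h1
      have e2 : (v * m)⁻¹ * (v * (t * m * t⁻¹)) = m⁻¹ * (t * m * t⁻¹) := by group
      rwa [e2] at h3
    have h3 := hXN _ h2 (mul_mem (inv_mem hm) htm)
    have e3 : t * m * t⁻¹ * m⁻¹ = m⁻¹ * (t * m * t⁻¹) :=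
      (mem_centralizer_iff.1 (D.N_comm i htm) _ (inv_mem hm)).symm
    rw [e3]; exact h3
  have hcen : ∀ e ∈ normalizer (U i : Set G), ∀ m ∈ N, (∃ v ∈ U i, v * m ∈ X0) → ∀ t ∈ centralizer (U i : Set G),
      ∃ z ∈ Z i, t * (e * m * e⁻¹) * t⁻¹ * (e * m * e⁻¹)⁻¹ = e * z * e⁻¹ := by
    intro e he m hm hv t ht
    have ht' : e⁻¹ * t * e ∈ centralizer (U i : Set G) := by
      have h1 := NO3L.LemP.normalizer_le_normalizer_cent (U i) (inv_mem he)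
      have h2 := (mem_normalizer_iff.1 h1 t).1 ht
      rwa [inv_inv] at h2
    refine ⟨_, w0 m hm hv _ ht', by group⟩
  -- (w1)
  have w1 : ∀ j, i ≠ j → ∀ m ∈ N, (∃ v ∈ U i, v * m ∈ X0) → m ∈ QQ (Z j) := by
    intro j hij m hm hv
    have hQU : QQ (Z j) ≤ centralizer (U i : Set G) := comm_symm (D.half j i hij.symm).2
    refine D.O_inf_le j ⟨D.N_le_O i hm, ?_⟩
    refine D.lift hQ (D.N_eab j) (D.N_le_O j) (ex_N D hNO i j) hm fun b hb => ?_
    have h1 := inv_mem (w0 m hm hv b (hQU (D.NQ j hb)))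
    have e : (b * m * b⁻¹ * m⁻¹)⁻¹ = m * b * m⁻¹ * b⁻¹ := by group
    rwa [e] at h1
  have w1' : ∀ j, i ≠ j → ∀ e ∈ normalizer (U i : Set G), ∀ m ∈ N, (∃ v ∈ U i, v * m ∈ X0) →
      e * m * e⁻¹ ∈ QQ (Z j) := by
    intro j hij e he m hm hv
    obtain ⟨g, g1, g2, g3⟩ := tr' D hij he
    have hh1 : g⁻¹ * e ∈ normalizer (Z i : Set G) := by
      refine ChoiceBase.mem_normalizer_iff_cj.2 ?_
      change MulAut.conj (g⁻¹ * e) • Z i = Z i
      rw [← conj_conj, ← g1, inv_conj_conj]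
    have hh2 : g⁻¹ * e ∈ normalizer (U i : Set G) :=
      mul_mem (inv_mem (ChoiceBase.mem_normalizer_iff_cj.2 g3)) he
    obtain ⟨h1, h2⟩ := hNL _ hh1 hh2 m hm hv
    have h3 := w1 j hij _ h1 h2
    have h4 : MulAut.conj g • QQ (Z j) = QQ (Z j) := by rw [← QQ_conj, g2]
    rw [← h4, mem_conj]
    have e1 : g⁻¹ * (e * m * e⁻¹) * g = g⁻¹ * e * m * (g⁻¹ * e)⁻¹ := by group
    rwa [e1]
  -- (w2)
  have ptE : ∀ e : G, IsPt Z (MulAut.conj e • Z i) := fun e => (D.pt i).conj e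
  have w2 : ∀ e ∈ normalizer (U i : Set G), ∀ m ∈ N, (∃ v ∈ U i, v * m ∈ X0) →
      e * m * e⁻¹ ∈ QQ (Z i) ∧ e * m * e⁻¹ ∈ centralizer (XW Z U (Z i) : Set G) := by
    intro e he m hm hv
    by_cases hy : MulAut.conj e • Z i = Z i
    · have he' : e ∈ normalizer (Z i : Set G) := ChoiceBase.mem_normalizer_iff_cj.2 hy
      have h1 := (hNL e he' he m hm hv).1
      exact ⟨D.NQ i h1, D.XW_comm i (N_le_XW D h1)⟩
    have hdis : ∀ x, x ∈ MulAut.conj e • Z i → x ∈ Z i → x = 1 := by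
      intro x h1 h2
      by_contra h3
      exact hy (D.ti _ _ (ptE e) (D.pt i) x h1 h2 h3)
    obtain ⟨j, hij⟩ := fin_two_ex i
    have hw := w1' j hij e he m hm hv
    have hwO := D.Q_le_O j hw
    have hwN : e * m * e⁻¹ ∈ centralizer (N : Set G) := by
      refine mem_centralizer_iff.2 fun n hn => ?_
      have hnU : n ∈ centralizer (U i : Set G) := comm_symm hcUN hn
      obtain ⟨z, hz, e1⟩ := hcen e he m hm hv n hnU
      have h1 : e * z * e⁻¹ ∈ MulAut.conj e • Z i := by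
        rw [mem_conj]
        have e2 : e⁻¹ * (e * z * e⁻¹) * e = z := by group
        rwa [e2]
      have h2 : n * (e * m * e⁻¹) * n⁻¹ * (e * m * e⁻¹)⁻¹ ∈ N := by
        have h3 := hconjN _ (D.B_le_HH i (D.O_le_B hwO)) n⁻¹ (inv_mem hn)
        have e2 : n * (e * m * e⁻¹) * n⁻¹ * (e * m * e⁻¹)⁻¹ = n * (e * m * e⁻¹ * n⁻¹ * (e * m * e⁻¹)⁻¹) := by group
        rw [e2]; exact mul_mem hn h3
      rw [e1] at h2
      have h3 : e * z * e⁻¹ ∈ U i := (mem_normalizer_iff.1 he z).1 (D.ZU' i hz)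
      have h4 := hdis _ h1 (hlN _ h3 h2)
      rw [h4] at e1
      exact mul_inv_eq_iff_eq_mul.1 (mul_inv_eq_one.1 e1)
    have hwQ : e * m * e⁻¹ ∈ QQ (Z i) := D.O_inf_le i ⟨hwO, hwN⟩
    refine ⟨hwQ, mem_centralizer_iff.2 fun x hx => ?_⟩
    have hxU : x ∈ centralizer (U i : Set G) := centralizer_le (U_le_XW D) (D.XW_comm i hx)
    obtain ⟨z, hz, e1⟩ := hcen e he m hm hv x hxU
    have h1 : e * z * e⁻¹ ∈ MulAut.conj e • Z i := by
      rw [mem_conj]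
      have e2 : e⁻¹ * (e * z * e⁻¹) * e = z := by group
      rwa [e2]
    have h2 := D.xf.com (Z i) (D.pt i) x hx _ hwQ
    rw [e1] at h2
    have h4 := hdis _ h1 h2
    rw [h4] at e1
    exact mul_inv_eq_iff_eq_mul.1 (mul_inv_eq_one.1 e1)
  -- (w3)
  let S : Set G := (XW Z U (Z i) : Set G) ∪
    {x | ∃ h ∈ HH (Z i), ∃ e ∈ normalizer (U i : Set G), ∃ m ∈ N, (∃ v ∈ U i, v * m ∈ X0) ∧
      x = h * (e * m * e⁻¹) * h⁻¹}
  have hcXW : ∀ g ∈ HH (Z i), ∀ w ∈ centralizer (XW Z U (Z i) : Set G),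
      g * w * g⁻¹ ∈ centralizer (XW Z U (Z i) : Set G) := fun g hg w hw =>
    (mem_normalizer_iff.1 (NO3L.LemP.normalizer_le_normalizer_cent _ (HH_norm_XW D hg)) w).1 hw
  have hpair : ∀ f ∈ HH (Z i), ∀ e ∈ normalizer (U i : Set G), ∀ m ∈ N, (∃ v ∈ U i, v * m ∈ X0) →
      ∀ e' ∈ normalizer (U i : Set G), ∀ m' ∈ N, (∃ v ∈ U i, v * m' ∈ X0) →
      (f * (e * m * e⁻¹) * f⁻¹) * (e' * m' * e'⁻¹) = (e' * m' * e'⁻¹) * (f * (e * m * e⁻¹) * f⁻¹) := by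
    intro f hf e he m hm hv e' he' m' hm' hv'
    set w := e * m * e⁻¹ with hw
    set w' := e' * m' * e'⁻¹ with hw'
    have hwX := (w2 e he m hm hv).2
    have hwX' := (w2 e' he' m' hm' hv').2
    have hUX : centralizer (XW Z U (Z i) : Set G) ≤ centralizer (U i : Set G) := centralizer_le (U_le_XW D)
    have h1 := hUX (hcXW f hf w hwX)
    have h2 := hUX (hcXW f⁻¹ (inv_mem hf) w' hwX')
    obtain ⟨z', hz', e1⟩ := hcen e' he' m' hm' hv' _ h1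
    obtain ⟨z, hz, e2⟩ := hcen e he m hm hv _ h2
    rw [← hw'] at e1
    rw [← hw] at e2
    -- the commutator
    have h3 : f * w * f⁻¹ * w' * (f * w * f⁻¹)⁻¹ * w'⁻¹ = (f * e) * z⁻¹ * (f * e)⁻¹ := by
      calc f * w * f⁻¹ * w' * (f * w * f⁻¹)⁻¹ * w'⁻¹
          = f * ((f⁻¹ * w' * f⁻¹⁻¹) * w * (f⁻¹ * w' * f⁻¹⁻¹)⁻¹ * w⁻¹)⁻¹ * f⁻¹ := by group
        _ = f * (e * z * e⁻¹)⁻¹ * f⁻¹ := by rw [e2]
        _ = _ := by group
    by_cases hc : f * w * f⁻¹ * w' * (f * w * f⁻¹)⁻¹ * w'⁻¹ = 1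
    · exact mul_inv_eq_iff_eq_mul.1 (mul_inv_eq_one.1 hc)
    have h4 : f * w * f⁻¹ * w' * (f * w * f⁻¹)⁻¹ * w'⁻¹ ∈ MulAut.conj e' • Z i := by
      rw [e1, mem_conj]
      have e3 : e'⁻¹ * (e' * z' * e'⁻¹) * e' = z' := by group
      rwa [e3]
    have h5 : f * w * f⁻¹ * w' * (f * w * f⁻¹)⁻¹ * w'⁻¹ ∈ MulAut.conj (f * e) • Z i := by
      rw [h3, mem_conj]
      have e3 : (f * e)⁻¹ * (f * e * z⁻¹ * (f * e)⁻¹) * (f * e) = z⁻¹ := by group
      rw [e3]; exact inv_mem hz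
    have h6 := D.ti _ _ (ptE (f * e)) (ptE e') _ h5 h4 hc
    have h7 : w' ∈ NN Z (MulAut.conj e' • Z i) := by
      rw [NN_conj, mem_conj, hw']
      have e3 : e'⁻¹ * (e' * m' * e'⁻¹) * e' = m' := by group
      rwa [e3]
    have h8 : f * w * f⁻¹ ∈ NN Z (MulAut.conj e' • Z i) := by
      rw [← h6, NN_conj, mem_conj, hw]
      have e3 : (f * e)⁻¹ * (f * (e * m * e⁻¹) * f⁻¹) * (f * e) = m := by group
      rwa [e3]
    exact (mem_centralizer_iff.1 (D.NN_comm (ptE e') h7) _ h8)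
  have hSc : ∀ x ∈ S, ∀ y ∈ S, x * y = y * x := by
    rintro x (hx | ⟨h, hh, e, he, m, hm, hv, rfl⟩) y (hy | ⟨h', hh', e', he', m', hm', hv', rfl⟩)
    · exact mem_centralizer_iff.1 (D.XW_comm i hy) x hx
    · exact mem_centralizer_iff.1 (hcXW h' hh' _ (w2 e' he' m' hm' hv').2) x hx
    · exact (mem_centralizer_iff.1 (hcXW h hh _ (w2 e he m hm hv).2) y hy).symm
    · have h1 := hpair (h'⁻¹ * h) (mul_mem (inv_mem hh') hh) e he m hm hv e' he' m' hm' hv'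
      calc h * (e * m * e⁻¹) * h⁻¹ * (h' * (e' * m' * e'⁻¹) * h'⁻¹)
          = h' * ((h'⁻¹ * h) * (e * m * e⁻¹) * (h'⁻¹ * h)⁻¹ * (e' * m' * e'⁻¹)) * h'⁻¹ := by group
        _ = h' * ((e' * m' * e'⁻¹) * ((h'⁻¹ * h) * (e * m * e⁻¹) * (h'⁻¹ * h)⁻¹)) * h'⁻¹ := by rw [h1]
        _ = _ := by group
  have hSs : ∀ x ∈ S, x ^ 2 = 1 := by
    rintro x (hx | ⟨h, hh, e, he, m, hm, hv, rfl⟩)
    · exact (eab_iff.1 (D.XW_eab i)).2 x hx
    · have h1 := (eab_iff.1 hNe).2 m hm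
      have e1 : (h * (e * m * e⁻¹) * h⁻¹) ^ 2 = (h * e) * m ^ 2 * (h * e)⁻¹ := by
        rw [pow_two, pow_two]; group
      rw [e1, h1]; group
  have hSH : ∀ g ∈ HH (Z i), ∀ x ∈ S, g * x * g⁻¹ ∈ S := by
    rintro g hg x (hx | ⟨h, hh, e, he, m, hm, hv, rfl⟩)
    · exact Or.inl ((mem_normalizer_iff.1 (HH_norm_XW D hg) x).1 hx)
    · exact Or.inr ⟨g * h, mul_mem hg hh, e, he, m, hm, hv, by group⟩
  refine ⟨X0, closure S, hlN, hbX, hXN, hXl, hXex, hinv, closure_eab hSc hSs, ?_, ?_, closure_norm hSH, ?_, hcen, ?_,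
    w1'⟩
  · exact fun x hx => subset_closure (Or.inl hx)
  · refine (closure_le _).2 ?_
    rintro x (hx | ⟨h, hh, e, he, m, hm, hv, rfl⟩)
    · exact D.XW_le_Q i hx
    · exact (mem_normalizer_iff.1 (MinSimple.VModule.le_normalizer_o2 _ hh) _).1 (w2 e he m hm hv).1
  · intro e he m hm hv
    exact subset_closure (Or.inr ⟨1, one_mem _, e, he, m, hm, hv, by group⟩)
  · exact fun e he m hm hv => (w2 e he m hm hv).2

end

end Cfsg.Agent.Omega.TCQ.R.Can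

end

section


/-!
# THEOREM N, `k = 2`, all `q`: from the hypothesis (H) to the structure `NV` (helper381 #23328, #23934)

`D : FQ Z U B q`, `A ≤ C(Z i)`, `[X_i, A] ≤ N_i`, `K = ⟨A^{N(Z i)}⟩`.

* `Hyp Z U i W A` : (H) of #23328 (1);
* `LvIn Z U B` : the level inputs (Sylow, (hZO), LEMMA 0 + STEP F, full root groups, (V!));
* `mv_of_H` : `n^s ∈ n y N_i` for `s ∈ K`, `n = n_y(v)`;
* `nv_of` : the structure `NV`.
-/

set_option autoImplicit false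
set_option linter.unusedSectionVars false

namespace Cfsg.Agent.Omega.TCQ.R.Plug

open Subgroup Cfsg Cfsg.Agent.ZN Cfsg.Agent.Omega.MinPar
open Cfsg.Agent.Omega.NoFF.Basic (conj_conj mem_conj conj_le_iff conj_le_centralizer comm_symm comm_mono V Z_le_V V_le)
open Cfsg.Agent.Omega.NOThreeL.Pair (conj_eq_of_mem)
open Cfsg.Agent.Omega.OM.PG
open Cfsg.Agent.Omega.OM.PG.Peel (XW)
open Cfsg.Agent.Omega.NO3S.EThree Cfsg.Agent.Omega.NO3S.EThree.FQ
open Cfsg.Agent.Omega.NO3S.EThree.ExactA (eab_iff eab_mono eab_sup)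
open Cfsg.Agent.Omega.TCQ.R.Can Cfsg.Agent.Omega.TCQ.R.ThN
open Cfsg.Agent.ZN.ChoiceSit (Syl)
open scoped Pointwise

universe u

variable {G : Type u} [Group G]

/-- **(H)**: `A` moves the point `y`, `y ∩ N_i = 1`; `n ∈ W`, `[n, C(X_i)] ≤ y` : `[n, A] ≤ N_i`. -/
def Hyp (Z U : Fin 2 → Subgroup G) (i : Fin 2) (W A : Subgroup G) : Prop :=
  ∀ y, IsPt Z y → y ≤ XW Z U (Z i) → y ⊓ NN Z (Z i) = ⊥ → ¬ A ≤ centralizer (y : Set G) → ∀ n ∈ W,
    (∀ c ∈ centralizer (XW Z U (Z i) : Set G), n * c * n⁻¹ * c⁻¹ ∈ y) → ∀ f ∈ A, n * f * n⁻¹ * f⁻¹ ∈ NN Z (Z i)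

/-- **The level inputs of THEOREM N.** -/
structure LvIn (Z U : Fin 2 → Subgroup G) (B : Subgroup G) : Prop where
  syl : ∀ i, ∃ T : Subgroup G, Syl T (normalizer (Z i : Set G)) ∧ T ≤ normalizer (U i : Set G)
  zS : ∀ i, ∀ x ∈ B ⊓ centralizer (U i : Set G), x ^ 2 = 1 → (∀ t ∈ B ⊓ centralizer (U i : Set G), t * x = x * t) →
    (∀ g ∈ centralizer (U i : Set G), g * x * g⁻¹ * x⁻¹ ∈ Z i) → x ∈ U i
  /-- LEMMA 0 + STEP F -/
  done : ∀ i, ∀ K : Subgroup G, K ≤ centralizer (Z i : Set G) → normalizer (Z i : Set G) ≤ normalizer (K : Set G) →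
    (∃ x ∈ K, IsPGroup 2 (zpowers x) ∧ x ∉ centralizer (NN Z (Z i) : Set G)) → ¬ K ≤ normalizer (U i : Set G)
  root : ∀ i, ∀ K : Subgroup G, K ≤ centralizer (Z i : Set G) → normalizer (Z i : Set G) ≤ normalizer (K : Set G) →
    (∃ s ∈ K, s ∈ normalizer (U i : Set G) ∧ s ∉ centralizer (U i : Set G)) →
    ∀ v ∈ U i, v ∉ Z i → ∀ z ∈ Z i, ∃ s ∈ K, s ∈ normalizer (U i : Set G) ∧ s * v * s⁻¹ * v⁻¹ = z
  /-- `(V!)`, only for `F ≤ O₂(C_G(Z_J))` -/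
  off : ∀ i, ∀ F ≤ OO Z, B ≤ normalizer (F : Set G) → (∀ x ∈ F, ∀ y ∈ F, x * y = y * x) → (∀ x ∈ F, x ^ 2 = 1) →
    U i ≤ F → ∃ A ≤ B, ¬ A ≤ centralizer (F : Set G) ∧
      (centralizer (A : Set G)).relIndex F ≤ (centralizer (F : Set G)).relIndex A
  cov : ∀ i, ∀ v ∈ U i, ∃ e ∈ normalizer (U i : Set G), ∃ x ∈ Z i, v = e * x * e⁻¹
  pts : ∀ i, ∀ e ∈ normalizer (U i : Set G), ∃ g ∈ normalizer (U i : Set G),
    g ∈ normalizer ((B ⊓ centralizer (U i : Set G) : Subgroup G) : Set G) ∧ g⁻¹ * e ∈ normalizer (Z i : Set G)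

theorem V_norm (A P : Subgroup G) : P ≤ normalizer (V A P : Set G) := by
  intro g hg
  refine ChoiceBase.mem_normalizer_iff_cj.2 ?_
  change MulAut.conj g • V A P = V A P
  have h1 := NoFF.Basic.conj_V_mul (Z := A) (P := P) (g := 1) (p := g) hg
  rw [one_mul] at h1
  rw [h1, map_one, one_smul]

theorem le_V (A P : Subgroup G) : A ≤ V A P := by
  have h1 := Z_le_V (Z := A) (P := P) (p := 1) (one_mem _)
  rwa [map_one, one_smul] at h1

section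

variable {Z U : Fin 2 → Subgroup G} {B : Subgroup G} {q : ℕ} (D : FQ Z U B q) {i : Fin 2}
include D

/-- `K ≤ C(Z i)` -/
theorem K_cent {A : Subgroup G} (hAc : A ≤ centralizer (Z i : Set G)) :
    V A (normalizer (Z i : Set G)) ≤ centralizer (Z i : Set G) := by
  refine V_le fun p hp => ?_
  have h1 := conj_le_centralizer (g := p) hAc
  rwa [conj_eq_of_mem hp] at h1

/-- `[X_i, A^g] ≤ N_i` -/
theorem conj_AX {A : Subgroup G} (hAX : ∀ x ∈ XW Z U (Z i), ∀ f ∈ A, x * f * x⁻¹ * f⁻¹ ∈ NN Z (Z i)) {g : G}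
    (hg : g ∈ normalizer (Z i : Set G)) {t : G} (ht : t ∈ MulAut.conj g • A) {x : G} (hx : x ∈ XW Z U (Z i)) :
    x * t * x⁻¹ * t⁻¹ ∈ NN Z (Z i) := by
  rw [mem_conj] at ht
  have hx' : g⁻¹ * x * g ∈ XW Z U (Z i) := by
    have h1 := (mem_normalizer_iff.1 (HH_norm_XW D (i := i) (inv_mem hg)) x).1 hx
    rwa [inv_inv] at h1
  have h2 := (mem_normalizer_iff.1 (D.HH_norm_N i hg) _).1 (hAX _ hx' _ ht)
  have e : g * (g⁻¹ * x * g * (g⁻¹ * t * g) * (g⁻¹ * x * g)⁻¹ * (g⁻¹ * t * g)⁻¹) * g⁻¹ = x * t * x⁻¹ * t⁻¹ := by group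
  rwa [e] at h2

/-- `[X_i, K] ≤ N_i` -/
theorem K_X {A : Subgroup G} (hAc : A ≤ centralizer (Z i : Set G))
    (hAX : ∀ x ∈ XW Z U (Z i), ∀ f ∈ A, x * f * x⁻¹ * f⁻¹ ∈ NN Z (Z i)) {s : G}
    (hs : s ∈ V A (normalizer (Z i : Set G))) : s ∈ HH (Z i) ∧ ∀ x ∈ XW Z U (Z i), s * x * s⁻¹ * x⁻¹ ∈ NN Z (Z i) := by
  let R : Subgroup G :=
    { carrier := {s | s ∈ HH (Z i) ∧ ∀ x ∈ XW Z U (Z i), s * x * s⁻¹ * x⁻¹ ∈ NN Z (Z i)}
      one_mem' := ⟨one_mem _, fun x _ => by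
        have e : (1 : G) * x * 1⁻¹ * x⁻¹ = 1 := by group
        rw [e]; exact one_mem _⟩
      mul_mem' := by
        rintro s t ⟨h1, h2⟩ ⟨h3, h4⟩
        refine ⟨mul_mem h1 h3, fun x hx => ?_⟩
        have h5 := (mem_normalizer_iff.1 (D.HH_norm_N i h1) _).1 (h4 x hx)
        have e : s * t * x * (s * t)⁻¹ * x⁻¹ = s * (t * x * t⁻¹ * x⁻¹) * s⁻¹ * (s * x * s⁻¹ * x⁻¹) := by group
        rw [e]; exact mul_mem h5 (h2 x hx)
      inv_mem' := by
        rintro s ⟨h1, h2⟩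
        refine ⟨inv_mem h1, fun x hx => ?_⟩
        have h5 := (mem_normalizer_iff.1 (D.HH_norm_N i (inv_mem h1)) _).1 (inv_mem (h2 x hx))
        have e : s⁻¹ * (s * x * s⁻¹ * x⁻¹)⁻¹ * s⁻¹⁻¹ = s⁻¹ * x * s⁻¹⁻¹ * x⁻¹ := by group
        rwa [e] at h5 }
  have hle : V A (normalizer (Z i : Set G)) ≤ R := by
    refine V_le fun g hg => fun t ht => ?_
    have htc : t ∈ centralizer (Z i : Set G) := K_cent D hAc (Z_le_V hg ht)
    refine ⟨centralizer_le_normalizer _ htc, fun x hx => ?_⟩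
    have h1 := inv_mem (conj_AX D hAX hg ht hx)
    have e : (x * t * x⁻¹ * t⁻¹)⁻¹ = t * x * t⁻¹ * x⁻¹ := by group
    rwa [e] at h1
  exact hle hs

theorem q2 [Finite G] : 2 ≤ q := by
  rw [← D.cardZ 0]
  exact (Subgroup.one_lt_card_iff_ne_bot _).2 D.ne

variable [Finite G]

/-- **(1)**: `n^s ∈ n y N_i`. -/
theorem mv_of_H {X0 W A : Subgroup G} (c : Cp Z U i X0 W) (hAc : A ≤ centralizer (Z i : Set G))
    (hAX : ∀ x ∈ XW Z U (Z i), ∀ f ∈ A, x * f * x⁻¹ * f⁻¹ ∈ NN Z (Z i)) (hH : Hyp Z U i W A) {s : G}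
    (hs : s ∈ V A (normalizer (Z i : Set G))) {e : G} (he : e ∈ normalizer (U i : Set G))
    (he' : e ∉ normalizer (Z i : Set G)) {m : G} (hm : m ∈ NN Z (Z i)) (hv : ∃ v ∈ U i, v * m ∈ X0) :
    ∃ u ∈ Z i, ∃ n ∈ NN Z (Z i), s * (e * m * e⁻¹) * s⁻¹ = (e * m * e⁻¹) * (e * u * e⁻¹) * n := by
  set N := NN Z (Z i) with hN
  set n := e * m * e⁻¹ with hn
  have hWc := (eab_iff.1 c.We).1
  have hnW : n ∈ W := c.MW e he m hm hv
  have hNW : N ≤ W := (N_le_XW D).trans c.XWW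
  have hUW : U i ≤ W := (U_le_XW D).trans c.XWW
  set y : Subgroup G := MulAut.conj e • Z i with hy
  have hyU : y ≤ U i := by
    have h2 := conj_le_iff (g := e) |>.2 (D.ZU' i)
    rwa [conj_eq_of_mem he] at h2
  have hyX : y ≤ XW Z U (Z i) := hyU.trans (U_le_XW D)
  have hyne : y ≠ Z i := fun h => he' (ChoiceBase.mem_normalizer_iff_cj.2 h)
  have hpt : IsPt Z y := (D.pt i).conj e
  have hyb : y ⊓ Z i = ⊥ := by
    rw [eq_bot_iff]
    intro x hx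
    by_contra hx1
    exact hyne (D.ti _ _ hpt (D.pt i) x hx.1 hx.2 hx1)
  have hyN : y ⊓ N = ⊥ := by
    rw [eq_bot_iff, ← hyb]
    exact fun x hx => ⟨hx.1, c.lN x (hyU hx.1) hx.2⟩
  set Y : Subgroup G := y ⊔ N with hY
  have hYX : Y ≤ XW Z U (Z i) := sup_le hyX (N_le_XW D)
  -- the subgroup
  let R : Subgroup G :=
    { carrier := {s | s ∈ normalizer (Y : Set G) ∧ s * n * s⁻¹ * n⁻¹ ∈ Y}
      one_mem' := ⟨one_mem _, by
        have e1 : (1 : G) * n * 1⁻¹ * n⁻¹ = 1 := by group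
        rw [e1]; exact one_mem _⟩
      mul_mem' := by
        rintro s t ⟨h1, h2⟩ ⟨h3, h4⟩
        refine ⟨mul_mem h1 h3, ?_⟩
        have h5 := (mem_normalizer_iff.1 h1 _).1 h4
        have e1 : s * t * n * (s * t)⁻¹ * n⁻¹ = s * (t * n * t⁻¹ * n⁻¹) * s⁻¹ * (s * n * s⁻¹ * n⁻¹) := by group
        rw [e1]; exact mul_mem h5 h2
      inv_mem' := by
        rintro s ⟨h1, h2⟩
        refine ⟨inv_mem h1, ?_⟩
        have h5 := (mem_normalizer_iff.1 (inv_mem h1) _).1 (inv_mem h2)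
        have e1 : s⁻¹ * (s * n * s⁻¹ * n⁻¹)⁻¹ * s⁻¹⁻¹ = s⁻¹ * n * s⁻¹⁻¹ * n⁻¹ := by group
        rwa [e1] at h5 }
  have hle : V A (normalizer (Z i : Set G)) ≤ R := by
    refine V_le fun g hg => fun t ht => ?_
    have hYt : ∀ t ∈ MulAut.conj g • A, ∀ w ∈ Y, t * w * t⁻¹ ∈ Y := by
      intro t ht w hw
      have h1 := (K_X D hAc hAX (Z_le_V hg ht)).2 w (hYX hw)
      have h2 := mul_mem ((le_sup_right : N ≤ Y) h1) hw
      rwa [inv_mul_cancel_right] at h2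
    refine ⟨?_, ?_⟩
    · rw [mem_normalizer_iff]
      intro w
      refine ⟨hYt t ht w, fun hw => ?_⟩
      have h2 := hYt t⁻¹ (inv_mem ht) _ hw
      have e1 : t⁻¹ * (t * w * t⁻¹) * t⁻¹⁻¹ = w := by group
      rwa [e1] at h2
    have hgi := inv_mem hg
    by_cases hA : A ≤ centralizer ((MulAut.conj g⁻¹ • y : Subgroup G) : Set G)
    · -- `A^g` centralises `y` and `Z i`
      have h1 := conj_le_centralizer (g := g) hA
      rw [conj_inv_conj] at h1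
      have htU : t ∈ centralizer (U i : Set G) := by
        have h2 := D.sup_eq (i := i) (l := e) (conj_eq_of_mem he) hyb
        rw [← h2]
        have h3 : U i ≤ centralizer ((zpowers t : Subgroup G) : Set G) := by
          rw [← h2]
          refine sup_le (comm_symm ?_) (comm_symm ?_)
          · exact zpowers_le.2 (K_cent D hAc (Z_le_V hg ht))
          · exact zpowers_le.2 (h1 ht)
        rw [h2]
        exact comm_symm h3 (mem_zpowers t)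
      obtain ⟨z, hz, e1⟩ := c.cen e he m hm hv t htU
      have h3 : e * z * e⁻¹ ∈ y := by
        rw [hy, mem_conj]
        have e2 : e⁻¹ * (e * z * e⁻¹) * e = z := by group
        rwa [e2]
      rw [← e1] at h3
      exact (le_sup_left : y ≤ Y) h3
    · -- (H)
      have h1 : MulAut.conj g⁻¹ • y ≤ XW Z U (Z i) := by
        have h2 := conj_le_iff (g := g⁻¹) |>.2 hyX
        rwa [conj_eq_of_mem (HH_norm_XW D (i := i) hgi)] at h2
      have h2 : MulAut.conj g⁻¹ • y ⊓ N = ⊥ := by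
        have h3 : MulAut.conj g⁻¹ • N = N := conj_eq_of_mem (D.HH_norm_N i hgi)
        rw [← h3, ← Subgroup.smul_inf, hyN]
        simp
      have h3 : g⁻¹ * n * g ∈ W := by
        have h4 := (mem_normalizer_iff.1 (c.HW hgi) n).1 hnW
        rwa [inv_inv] at h4
      have h4 : ∀ a ∈ centralizer (XW Z U (Z i) : Set G),
          (g⁻¹ * n * g) * a * (g⁻¹ * n * g)⁻¹ * a⁻¹ ∈ MulAut.conj g⁻¹ • y := by
        intro a ha
        have h5 := (mem_normalizer_iff.1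
          (NO3L.LemP.normalizer_le_normalizer_cent _ (HH_norm_XW D (i := i) hg)) a).1 ha
        have h6 : g * a * g⁻¹ ∈ centralizer (U i : Set G) := centralizer_le (U_le_XW D) h5
        obtain ⟨z, hz, e1⟩ := c.cen e he m hm hv _ h6
        rw [← hn] at e1
        have h7 : (g * a * g⁻¹ * n * (g * a * g⁻¹)⁻¹ * n⁻¹)⁻¹ ∈ y := by
          rw [e1, hy]
          refine inv_mem ?_
          rw [mem_conj]
          have e2 : e⁻¹ * (e * z * e⁻¹) * e = z := by group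
          rwa [e2]
        rw [mem_conj]
        have e2 : g⁻¹⁻¹ * (g⁻¹ * n * g * a * (g⁻¹ * n * g)⁻¹ * a⁻¹) * g⁻¹ =
            (g * a * g⁻¹ * n * (g * a * g⁻¹)⁻¹ * n⁻¹)⁻¹ := by group
        rwa [e2]
      rw [mem_conj] at ht
      have h5 := hH _ (hpt.conj g⁻¹) h1 h2 hA _ h3 h4 _ ht
      have h6 := (mem_normalizer_iff.1 (D.HH_norm_N i hg) _).1 (inv_mem h5)
      have e1 : g * (g⁻¹ * n * g * (g⁻¹ * t * g) * (g⁻¹ * n * g)⁻¹ * (g⁻¹ * t * g)⁻¹)⁻¹ * g⁻¹ = t * n * t⁻¹ * n⁻¹ := by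
        group
      rw [e1] at h6
      exact (le_sup_right : N ≤ Y) h6
  obtain ⟨-, h1⟩ := hle hs
  have hyc : N ≤ normalizer (y : Set G) := by
    intro x hx
    refine centralizer_le_normalizer _ (mem_centralizer_iff.2 fun w hw => ?_)
    exact mem_centralizer_iff.1 (hWc (hNW hx)) w (hUW (hyU hw))
  obtain ⟨w, hw, n0, hn0, e1⟩ := OM.KTwo.exists_mul_of_mem_sup hyc h1
  rw [hy, mem_conj] at hw
  refine ⟨_, hw, n0, hn0, ?_⟩
  have h2 : w * n0 ∈ W := mul_mem (hUW (hyU (by rw [hy, mem_conj]; exact hw))) (hNW hn0)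
  have h3 : s * n * s⁻¹ = w * n0 * n := by rw [← e1]; group
  rw [h3, (mem_centralizer_iff.1 (hWc h2) n hnW).symm]
  group

/-- **The structure `NV`.** -/
theorem nv_of (hL : LvIn Z U B) (hrad : Z i ≤ NN Z (Z i)) {X0 W A T : Subgroup G} (c : Cp Z U i X0 W)
    (hT : Syl T (normalizer (Z i : Set G))) (hTU : T ≤ normalizer (U i : Set G))
    (hA2 : IsPGroup 2 A) (hAc : A ≤ centralizer (Z i : Set G))
    (hAX : ∀ x ∈ XW Z U (Z i), ∀ f ∈ A, x * f * x⁻¹ * f⁻¹ ∈ NN Z (Z i))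
    (hmv : ¬ A ≤ centralizer (NN Z (Z i) : Set G)) (hH : Hyp Z U i W A) :
    NV (normalizer (U i : Set G)) (Z i) (U i) (NN Z (Z i)) (Z i) W B (B ⊓ centralizer (U i : Set G))
      (T ⊓ centralizer (Z i : Set G)) (centralizer (Z i : Set G)) (V A (normalizer (Z i : Set G))) X0
      (centralizer (U i : Set G)) q where
  q2 := q2 D
  cb := D.cardZ i
  cl := D.cardU i
  bl := D.ZU' i
  bN := hrad
  lN := c.lN
  El := le_rfl
  EX := fun g hg => c.inv ⟨hg.2, mem_hat D hg.2 hg.1⟩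
  EN := inf_le_right.trans (D.HH_norm_N i)
  ti := fun e _ x hx hx1 h => by
    refine ChoiceBase.mem_normalizer_iff_cj.2 ?_
    refine D.ti _ _ ((D.pt i).conj e) (D.pt i) _ ?_ h ?_
    · change _ ∈ MulAut.conj e • Z i
      rw [mem_conj]
      have e2 : e⁻¹ * (e * x * e⁻¹) * e = x := by group
      rwa [e2]
    · intro h1
      apply hx1
      have e2 : x = e⁻¹ * (e * x * e⁻¹) * e := by group
      rw [e2, h1]; group
  cov := fun v hv _ => hL.cov i v hv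
  pts := hL.pts i
  bX := c.bX
  XN := c.XN
  Xl := c.Xl
  Xex := c.Xex
  Wc := fun x hx y hy => mem_centralizer_iff.1 ((eab_iff.1 c.We).1 hy) x hx
  Wsq := (eab_iff.1 c.We).2
  lW := (U_le_XW D).trans c.XWW
  NW := (N_le_XW D).trans c.XWW
  WB := c.WQ.trans ((D.Q_le_O i).trans D.O_le_B)
  CW := (centralizer_le_normalizer _).trans c.HW
  MW := c.MW
  Cb := le_rfl
  CN := (centralizer_le_normalizer _).trans (D.HH_norm_N i)
  BC := D.B_le.trans (D.D_le_cent i)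
  BE := D.B_le_NU i
  Sm := fun x => Iff.rfl
  com := D.com i
  free := D.free i
  sylT := IId.KOne.syl_inf hT (centralizer_le_normalizer _) fun h hh n hn =>
    (mem_normalizer_iff.1 (NO3L.LemP.normalizer_le_normalizer_cent _ hh) n).1 hn
  Tl := inf_le_left.trans hTU
  ZcN := hrad
  ZcC := Subgroup.le_centralizer_iff.1 le_rfl
  L'C := centralizer_le (D.ZU' i)
  L'E := centralizer_le_normalizer _
  L'l := le_rfl
  zS := fun x hx h1 h2 h3 => (le_sup_left : U i ≤ _) (hL.zS i x hx h1 h2 h3)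
  KC := K_cent D hAc
  CK := (centralizer_le_normalizer _).trans (V_norm A _)
  Kl := fun s hs v hv => (K_X D hAc hAX hs).2 v (U_le_XW D hv)
  KE := inf_le_right
  KX := by
    intro s hs
    obtain ⟨h1, h2⟩ := K_X D hAc hAX hs
    have key : ∀ s ∈ V A (normalizer (Z i : Set G)), ∀ w ∈ U i ⊔ NN Z (Z i), s * w * s⁻¹ ∈ U i ⊔ NN Z (Z i) := by
      intro s hs w hw
      have h3 := (K_X D hAc hAX hs).2 w (sup_le (U_le_XW D) (N_le_XW D) hw)
      have h4 := mul_mem ((le_sup_right : NN Z (Z i) ≤ U i ⊔ NN Z (Z i)) h3) hw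
      rwa [inv_mul_cancel_right] at h4
    refine c.inv (Subgroup.mem_inf.2 ⟨h1, ?_⟩)
    rw [mem_normalizer_iff]
    intro w
    refine ⟨key s hs w, fun hw => ?_⟩
    have h3 := key s⁻¹ (inv_mem hs) _ hw
    have e1 : s⁻¹ * (s * w * s⁻¹) * s⁻¹⁻¹ = w := by group
    rwa [e1] at h3
  mv := fun s hs _ e he he' m hm hv => mv_of_H D c hAc hAX hH hs he he' hm hv
  done := by
    refine hL.done i _ (K_cent D hAc) (V_norm A _) ?_
    by_contra hcon
    push Not at hcon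
    apply hmv
    intro a ha
    refine hcon a (le_V A _ ha) ?_
    exact hA2.to_le (zpowers_le.2 ha)
  root := hL.root i _ (K_cent D hAc) (V_norm A _)
  off := fun F hF => hL.off i F (hF.trans (c.WQ.trans (D.Q_le_O i)))

end

end Cfsg.Agent.Omega.TCQ.R.Plug

end
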