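import Cfsg.Agent.Mrg.Omega.OM.PG.ExactQ
import Cfsg.Agent.Mrg.Omega.NO3S.EThree.RtQ
import Cfsg.Agent.Mrg.Omega.NO3S.EThree.Frame
import Cfsg.Agent.Mrg.Omega.OM.PG.Exact
import Cfsg.Agent.Mrg.Omega.NO3S.EThree.IntQ
import Cfsg.Agent.Mrg.Omega.OM.WeakCl
import Cfsg.Agent.ZN.CaseTwo
import Cfsg.Agent.PLocal.OffenderStep

section


/-!
# (E), `q ≥ 4`: `RegX` (`X_a` acts on `Q_a` as an `F_q`-space of maps to `a`)

* `Op Z U` : for `c, z ∈ (Z 0)#` there is an additive operator `τ` on `Z 0` with `τ c = z` which is induced on every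
  line on `Z 0`: `[b, x'] = τ [b, x]` for all `b ∈ Q_0`;
* `regX_of` : `Op` gives `PcQ.RegX Z (XW Z U)`; `FQ.regX`;
* `Bg.exists_cent` : all lines on `Z i` are conjugate under `C_G(Z i)` (weak closure of `B`, `Bg.cj_W`);
* `Bg.op`, `Bg.regX` : over the frame `Bg`, `2 < q`.
-/

set_option autoImplicit false
set_option linter.unusedSectionVars false

namespace Cfsg.Agent.Omega.NO3S.EThree

open Subgroup Cfsg
open Cfsg.Agent.ZN Cfsg.Agent.Omega.OM.PG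
open Cfsg.Agent.Omega.OM.PG.Peel (XF XW XW_conj ln_le_XW)
open Cfsg.Agent.Omega.NO3S.EThree.ExactA (eab_iff)
open Cfsg.Agent.Omega.NoFF.Basic (comm_symm conj_conj conj_le_iff mem_conj)
open scoped Pointwise

universe u

variable {G : Type u} [Group G]

/-- Every `c ↦ z` in `(Z 0)#` is induced by an additive operator which acts on all lines on `Z 0`. -/
def Op (Z U : Fin 2 → Subgroup G) : Prop :=
  ∀ c ∈ Z 0, c ≠ 1 → ∀ z ∈ Z 0, z ≠ 1 → ∃ τ : G → G, τ 1 = 1 ∧ τ c = z ∧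
    (∀ x ∈ Z 0, ∀ y ∈ Z 0, τ (x * y) = τ x * τ y) ∧
    ∀ l : Subgroup G, LnOn Z U (Z 0) l → ∀ x ∈ l, ∃ x' ∈ l, ∀ b ∈ QQ (Z 0),
      b * x' * b⁻¹ * x'⁻¹ = τ (b * x * b⁻¹ * x⁻¹)

/-- `Op` gives `RegX`. -/
theorem regX_of {Z U : Fin 2 → Subgroup G} (P : PP Z U) (F : XF Z (XW Z U)) (h : Op Z U) :
    PcQ.RegX Z (XW Z U) := by
  have h0 : IsPt Z (Z 0) := ⟨1, by rw [map_one, one_smul]⟩
  have hXX := (eab_iff.1 (F.eab _ h0)).1
  have hXs := (eab_iff.1 (F.eab _ h0)).2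
  -- commutators are in `Z 0`
  have hcom : ∀ x ∈ XW Z U (Z 0), ∀ b ∈ QQ (Z 0), b * x * b⁻¹ * x⁻¹ ∈ Z 0 := by
    intro x hx b hb
    have h1 := inv_mem (F.com _ h0 x hx b hb)
    have e : (x * b * x⁻¹ * b⁻¹)⁻¹ = b * x * b⁻¹ * x⁻¹ := by group
    rwa [e] at h1
  have key : ∀ w ∈ XW Z U (Z 0), ∀ b ∈ QQ (Z 0), w * b ≠ b * w → ∀ z ∈ Z 0,
      ∃ w' ∈ XW Z U (Z 0), w' * b * w'⁻¹ * b⁻¹ = z ∧ ∀ v ∈ QQ (Z 0), w * v = v * w → w' * v = v * w' := by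
    intro w hw b hb hwb z hz
    by_cases hz1 : z = 1
    · exact ⟨1, one_mem _, by rw [hz1]; group, fun v _ _ => by rw [one_mul, mul_one]⟩
    have hc1 : b * w * b⁻¹ * w⁻¹ ≠ 1 := by
      intro e
      apply hwb
      calc w * b = (b * w * b⁻¹ * w⁻¹)⁻¹ * (b * w) := by group
        _ = b * w := by rw [e]; group
    obtain ⟨τ, hτ1, hτc, hτm, hτl⟩ := h _ (hcom w hw b hb) hc1 z hz hz1
    -- the operator on `X_0`
    let K : Subgroup G :=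
      { carrier := {x | x ∈ XW Z U (Z 0) ∧ ∃ x' ∈ XW Z U (Z 0), ∀ b ∈ QQ (Z 0),
          b * x' * b⁻¹ * x'⁻¹ = τ (b * x * b⁻¹ * x⁻¹)}
        one_mem' := ⟨one_mem _, 1, one_mem _, fun b _ => by
          rw [show b * 1 * b⁻¹ * (1 : G)⁻¹ = 1 by group, hτ1]⟩
        mul_mem' := by
          rintro x y ⟨hx, x', hx', h1⟩ ⟨hy, y', hy', h2⟩
          refine ⟨mul_mem hx hy, x' * y', mul_mem hx' hy', fun b hb => ?_⟩
          have key : ∀ u ∈ XW Z U (Z 0), ∀ v ∈ XW Z U (Z 0),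
              b * (u * v) * b⁻¹ * (u * v)⁻¹ = b * u * b⁻¹ * u⁻¹ * (b * v * b⁻¹ * v⁻¹) := by
            intro u hu v hv
            have e1 : u * (b * v * b⁻¹ * v⁻¹) = b * v * b⁻¹ * v⁻¹ * u :=
              mem_centralizer_iff.1 (hXX (F.aX _ h0 (hcom v hv b hb))) u hu
            calc b * (u * v) * b⁻¹ * (u * v)⁻¹ = b * u * b⁻¹ * (b * v * b⁻¹ * v⁻¹) * u⁻¹ := by group
              _ = b * u * b⁻¹ * (u⁻¹ * (u * (b * v * b⁻¹ * v⁻¹))) * u⁻¹ := by group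
              _ = b * u * b⁻¹ * (u⁻¹ * (b * v * b⁻¹ * v⁻¹ * u)) * u⁻¹ := by rw [e1]
              _ = _ := by group
          rw [key _ hx' _ hy', key _ hx _ hy, hτm _ (hcom x hx b hb) _ (hcom y hy b hb), h1 b hb, h2 b hb]
        inv_mem' := by
          rintro x ⟨hx, x', hx', h1⟩
          have e : x⁻¹ = x := inv_eq_of_mul_eq_one_right (by rw [← pow_two]; exact hXs x hx)
          rw [e]
          exact ⟨hx, x', hx', h1⟩ }
    have hK : XW Z U (Z 0) ≤ K := by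
      refine sup_le (fun n hn => ⟨mem_sup_left hn, 1, one_mem _, fun b hb => ?_⟩)
        (iSup_le fun l x hx => ⟨ln_le_XW l.2 hx, ?_⟩)
      · have e := mem_centralizer_iff.1 (P.QQ_le_cent h0 hb) n hn
        rw [show b * (1 : G) * b⁻¹ * (1 : G)⁻¹ = 1 by group, ← e, show n * b * b⁻¹ * n⁻¹ = 1 by group, hτ1]
      · obtain ⟨x', hx', h1⟩ := hτl l l.2 x hx
        exact ⟨x', ln_le_XW l.2 hx', h1⟩
    obtain ⟨-, w', hw', h1⟩ := hK hw
    refine ⟨w', hw', ?_, fun v hv hc => ?_⟩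
    · have e1 := h1 b hb
      rw [hτc] at e1
      have e2 : w' * b * w'⁻¹ * b⁻¹ = (b * w' * b⁻¹ * w'⁻¹)⁻¹ := by group
      rw [e2, e1]
      exact inv_eq_of_mul_eq_one_right (by rw [← pow_two]; exact P.sq z hz)
    · have e1 := h1 v hv
      have e2 : v * w * v⁻¹ * w⁻¹ = 1 := by rw [← hc]; group
      rw [e2, hτ1] at e1
      calc w' * v = (v * w' * v⁻¹ * w'⁻¹)⁻¹ * (v * w') := by group
        _ = v * w' := by rw [e1]; group
  rintro _ ⟨k, rfl⟩ w hw b hb hwb z hz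
  rw [XW_conj] at hw
  rw [QQ_conj] at hb
  obtain ⟨w₀, hw₀, rfl⟩ := hw
  obtain ⟨b₀, hb₀, rfl⟩ := hb
  obtain ⟨z₀, hz₀, rfl⟩ := hz
  change (MulAut.conj k) w₀ * (MulAut.conj k) b₀ ≠ (MulAut.conj k) b₀ * (MulAut.conj k) w₀ at hwb
  have h1 : w₀ * b₀ ≠ b₀ * w₀ := by
    intro e
    apply hwb
    rw [← map_mul, ← map_mul, e]
  obtain ⟨w', hw', h2, h3⟩ := key w₀ hw₀ b₀ hb₀ h1 z₀ hz₀
  refine ⟨MulAut.conj k w', ?_, ?_, ?_⟩
  · rw [XW_conj]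
    exact ⟨w', hw', rfl⟩
  · change (MulAut.conj k) w' * (MulAut.conj k) b₀ * ((MulAut.conj k) w')⁻¹ * ((MulAut.conj k) b₀)⁻¹ = (MulAut.conj k) z₀
    rw [← map_inv, ← map_inv, ← map_mul, ← map_mul, ← map_mul, h2]
  · rw [QQ_conj]
    rintro _ ⟨v, hv, rfl⟩ hc
    change (MulAut.conj k) w₀ * (MulAut.conj k) v = (MulAut.conj k) v * (MulAut.conj k) w₀ at hc
    change (MulAut.conj k) w' * (MulAut.conj k) v = (MulAut.conj k) v * (MulAut.conj k) w'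
    rw [← map_mul, ← map_mul] at hc
    rw [← map_mul, ← map_mul, h3 v hv ((MulAut.conj k).injective hc)]

theorem FQ.regX {Z U : Fin 2 → Subgroup G} {B : Subgroup G} {q : ℕ} (D : FQ Z U B q) (h : Op Z U) :
    PcQ.RegX Z (XW Z U) :=
  regX_of D.toPP D.xf h

namespace Frame

open Cfsg.Agent.ZN.ChoiceBase
open Cfsg.Agent.ZN.ChoiceSit (Syl exists_syl syl_conj)
open Cfsg.Agent.Omega.OM Cfsg.Agent.Omega.OM.Uni
open Cfsg.Agent.Omega.MinPar (NonLoc)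

/-- An element of `B` moving `V` maps `V` onto `Z`. -/
theorem Md.surj [Finite G] {B V Z' : Subgroup G} {q : ℕ} (h : Md B V Z' q) (hZ : Nat.card Z' = q) {b : G} (hb : b ∈ B)
    (hmv : ∃ v ∈ V, b * v ≠ v * b) {z : G} (hz : z ∈ Z') : ∃ v ∈ V, b * v * b⁻¹ * v⁻¹ = z := by
  classical
  obtain ⟨v₀, hv₀, hv₀b⟩ := hmv
  let f : V ⧸ Z'.subgroupOf V → Z' := fun c => ⟨b * ((c.out : V) : G) * b⁻¹ * ((c.out : V) : G)⁻¹,
    h.com b hb _ (c.out : V).2⟩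
  have hfi : Function.Injective f := by
    intro c c' hcc
    have e1 : b * ((c.out : V) : G) * b⁻¹ * ((c.out : V) : G)⁻¹ = b * ((c'.out : V) : G) * b⁻¹ * ((c'.out : V) : G)⁻¹ :=
      congrArg Subtype.val hcc
    have e2 : b * (((c.out : V) : G)⁻¹ * ((c'.out : V) : G)) = ((c.out : V) : G)⁻¹ * ((c'.out : V) : G) * b := by
      have e3 : b * ((c.out : V) : G) * b⁻¹ = b * ((c'.out : V) : G) * b⁻¹ * ((c'.out : V) : G)⁻¹ * ((c.out : V) : G) := by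
        rw [← e1]; group
      have e4 : b * (((c.out : V) : G)⁻¹ * ((c'.out : V) : G)) * b⁻¹ = ((c.out : V) : G)⁻¹ * ((c'.out : V) : G) := by
        calc b * (((c.out : V) : G)⁻¹ * ((c'.out : V) : G)) * b⁻¹ =
            (b * ((c.out : V) : G) * b⁻¹)⁻¹ * (b * ((c'.out : V) : G) * b⁻¹) := by group
          _ = (b * ((c'.out : V) : G) * b⁻¹ * ((c'.out : V) : G)⁻¹ * ((c.out : V) : G))⁻¹ *
              (b * ((c'.out : V) : G) * b⁻¹) := by rw [e3]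
          _ = _ := by group
      calc b * (((c.out : V) : G)⁻¹ * ((c'.out : V) : G)) =
          b * (((c.out : V) : G)⁻¹ * ((c'.out : V) : G)) * b⁻¹ * b := by group
        _ = _ := by rw [e4]
    have h3 : ((c.out : V) : G)⁻¹ * ((c'.out : V) : G) ∈ Z' := by
      by_contra hcon
      exact hv₀b (h.free b hb _ (mul_mem (inv_mem (c.out : V).2) (c'.out : V).2) hcon e2 v₀ hv₀)
    have h4 : (QuotientGroup.mk c.out : V ⧸ Z'.subgroupOf V) = QuotientGroup.mk c'.out :=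
      QuotientGroup.eq.2 (mem_subgroupOf.2 (by simpa using h3))
    rwa [QuotientGroup.out_eq', QuotientGroup.out_eq'] at h4
  have hcard : Nat.card Z' ≤ Nat.card (V ⧸ Z'.subgroupOf V) := by
    have h5 : Nat.card Z' * Z'.relIndex V = Nat.card V := Cfsg.Agent.Omega.NO3S.ML.card_mul_relIndex h.ZV
    rw [h.card] at h5
    have h6 : Z'.relIndex V = q := Nat.eq_of_mul_eq_mul_left Nat.card_pos h5
    have h7 : Nat.card (V ⧸ Z'.subgroupOf V) = Z'.relIndex V := rfl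
    rw [h7, h6, hZ]
  obtain ⟨c, hc⟩ := (hfi.bijective_of_nat_card_le hcard).2 ⟨z, hz⟩
  exact ⟨_, (c.out : V).2, congrArg Subtype.val hc⟩

namespace Bg

variable [Finite G] {S : Sylow 2 G} {P : Subgroup G} {ι : Type} {B ZJ : Subgroup G}
  {L W Z C : ι → Subgroup G} {q : ℕ} (h : Bg S P B ZJ L W Z C q) {i j : ι}
include h

/-- **All lines on `Z i` are conjugate under `C_G(Z i)`.** -/
theorem exists_cent [Finite ι] {k : G} (hk : k ∈ normalizer (Z i : Set G)) :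
    ∃ c ∈ centralizer (Z i : Set G), cj k (W i) = cj c (W i) := by
  have hBC : B ≤ centralizer (Z i : Set G) := fun b hb =>
    mem_centralizer_iff.2 fun z hz => ((h.fr.blk i).cZ b hb z hz).symm
  obtain ⟨T, hT, hBT⟩ := exists_syl h.bau_two hBC
  have hkC : cj k (centralizer (Z i : Set G)) = centralizer (Z i : Set G) := by
    rw [cj_centralizer, mem_normalizer_iff_cj.1 hk]
  have hkT : Syl (cj k T) (centralizer (Z i : Set G)) := by
    refine ⟨by rw [← hkC]; exact cj_mono k hT.1, hT.2.1.map _, fun R hR hR2 hle => ?_⟩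
    have h1 : cj k⁻¹ R = T := by
      refine hT.2.2 _ ?_ (hR2.map _) ?_
      · have h2 := cj_mono k⁻¹ hR
        rwa [← hkC, cj_inv_cj] at h2
      · have h2 := cj_mono k⁻¹ hle
        rwa [cj_inv_cj] at h2
    rw [← h1, cj_cj, mul_inv_cancel, cj_one]
  obtain ⟨c, hc, e⟩ := syl_conj hT hkT
  refine ⟨c, hc, ?_⟩
  -- `n = c⁻¹ k` normalises `T`, so `B`
  have hn : cj (c⁻¹ * k) T = T := by
    rw [← cj_cj, ← e, cj_inv_cj]
  have hnB : cj (c⁻¹ * k) B = B := h.wc T hT.2.1 hBT _ (by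
    have h1 := cj_mono (c⁻¹ * k) hBT
    rwa [hn] at h1)
  have hnZ : cj (c⁻¹ * k) (Z i) = Z i :=
    mem_normalizer_iff_cj.1 (mul_mem (inv_mem (centralizer_le_normalizer _ hc)) hk)
  have hnW := h.cj_W (mem_normalizer_iff_cj.2 hnB) hnZ
  have h2 := congrArg (cj c) hnW
  rwa [cj_cj, mul_inv_cancel_left] at h2

/-- **The operators of the field on all lines on `Z i`.** -/
theorem op [Finite ι] (hq : 2 < q) : Op ![Z i, Z j] ![W i, W j] := by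
  intro c hc hc1 z hz hz1
  change c ∈ Z i at hc
  change z ∈ Z i at hz
  obtain ⟨v, hv, hvZ⟩ : ∃ v ∈ W i, v ∉ Z i := by
    obtain ⟨b, hb, v, hv, hbv⟩ := (h.fr.blk i).ne
    exact ⟨v, hv, fun hvZ => hbv ((h.fr.blk i).cZ b hb v hvZ)⟩
  obtain ⟨b₁, hb₁, e1⟩ := (h.scal hq i).surj v hv hvZ c hc
  have hmv : ∃ v ∈ W i, b₁ * v ≠ v * b₁ := ⟨v, hv, fun e => hc1 (by rw [← e1, e]; group)⟩
  obtain ⟨v', hv', e2⟩ := Md.surj (h.fr.blk i).toMd (h.fr.cardZ i) hb₁ hmv hz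
  have hv'Z : v' ∉ Z i := fun hvZ' => hz1 (by
    rw [← e2, (h.fr.blk i).cZ b₁ hb₁ v' hvZ']; group)
  obtain ⟨m, hmP, hmC, hmZ, hop, hm, -⟩ := (h.scal hq i).ex v hv hvZ v' hv' hv'Z
  have hmW : cj m (W i) = W i := h.fix hmP hmC i
  refine ⟨fun x => m⁻¹ * x * m, by group, ?_, fun x _ y _ => by group, ?_⟩
  · -- `m⁻¹ c m = z`
    have e3 := hop b₁ hb₁ v hv
    rw [e1] at e3
    change m⁻¹ * c * m = z
    rw [← e3, ← e2]
    have e4 : b₁ * (v'⁻¹ * (m * v * m⁻¹)) = v'⁻¹ * (m * v * m⁻¹) * b₁ := (h.fr.blk i).cZ b₁ hb₁ _ hm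
    calc b₁ * (m * v * m⁻¹) * b₁⁻¹ * (m * v * m⁻¹)⁻¹ =
        b₁ * v' * b₁⁻¹ * (b₁ * (v'⁻¹ * (m * v * m⁻¹))) * b₁⁻¹ * (m * v * m⁻¹)⁻¹ := by group
      _ = b₁ * v' * b₁⁻¹ * (v'⁻¹ * (m * v * m⁻¹) * b₁) * b₁⁻¹ * (m * v * m⁻¹)⁻¹ := by rw [e4]
      _ = b₁ * v' * b₁⁻¹ * v'⁻¹ := by group
  · rintro l ⟨k, hk, rfl⟩ x hx
    change Z i = cj k (Z i) at hk
    change x ∈ cj k (W i) at hx
    change ∃ x' ∈ cj k (W i), ∀ b ∈ o2 (normalizer (Z i : Set G)), b * x' * b⁻¹ * x'⁻¹ = m⁻¹ * (b * x * b⁻¹ * x⁻¹) * m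
    obtain ⟨d, hd, e⟩ := h.exists_cent (mem_normalizer_iff_cj.2 hk.symm)
    rw [e] at hx ⊢
    obtain ⟨y, hy, rfl⟩ := hx
    have hy' : m * y * m⁻¹ ∈ W i := by
      rw [← hmW]; exact ⟨y, hy, rfl⟩
    refine ⟨d * (m * y * m⁻¹) * d⁻¹, ⟨_, hy', rfl⟩, fun b hb => ?_⟩
    change b * (d * (m * y * m⁻¹) * d⁻¹) * b⁻¹ * (d * (m * y * m⁻¹) * d⁻¹)⁻¹ =
      m⁻¹ * (b * (d * y * d⁻¹) * b⁻¹ * (d * y * d⁻¹)⁻¹) * m
    have hdn : d ∈ normalizer (Z i : Set G) := centralizer_le_normalizer _ hd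
    have hb' : d⁻¹ * b * d ∈ B := by
      refine h.o2_le i ?_
      have h1 := (mem_normalizer_iff.1 (MinSimple.VModule.le_normalizer_o2 (normalizer (Z i : Set G))
        (inv_mem hdn)) b).1 hb
      rwa [inv_inv] at h1
    set b' := d⁻¹ * b * d with hb'd
    set ε := b' * y * b'⁻¹ * y⁻¹ with hε
    have hεZ : ε ∈ Z i := (h.fr.blk i).com b' hb' y hy
    have hmε : m⁻¹ * ε * m ∈ Z i := by
      have h1 := (mem_normalizer_iff.1 (inv_mem hmZ) ε).1 hεZ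
      rwa [inv_inv] at h1
    have hcd : ∀ x ∈ Z i, d * x * d⁻¹ = x := fun x hx => by
      rw [← mem_centralizer_iff.1 hd x hx]; group
    have e5 : b = d * b' * d⁻¹ := by rw [hb'd]; group
    have e6 : b * (d * (m * y * m⁻¹) * d⁻¹) * b⁻¹ * (d * (m * y * m⁻¹) * d⁻¹)⁻¹ =
        d * (b' * (m * y * m⁻¹) * b'⁻¹ * (m * y * m⁻¹)⁻¹) * d⁻¹ := by rw [e5]; group
    have e7 : b * (d * y * d⁻¹) * b⁻¹ * (d * y * d⁻¹)⁻¹ = d * ε * d⁻¹ := by rw [hε, e5]; group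
    rw [e6, e7, hop b' hb' y hy, hcd _ hεZ]
    exact hcd _ hmε

/-- **`RegX` over the frame `Bg`.** -/
theorem regX [Finite ι] (hq : 2 < q) (D : FQ ![Z i, Z j] ![W i, W j] B q) :
    PcQ.RegX ![Z i, Z j] (XW ![Z i, Z j] ![W i, W j]) :=
  D.regX (h.op hq)

end Bg

end Frame

end Cfsg.Agent.Omega.NO3S.EThree

end

section


/-!
# (NR2) over the frame `FQ` of TEXT Q4, all `q`

`FQ.tip`, `FQ.pts`, `FQ.nobX`, `FQ.fixP` : the inputs `TIp`, `Pts`, `NobX`, `FixN` of `PG.PeelQ`;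
`FQ.trans_Z` : `N_G(Z 0)` is transitive on `(Z 0)#`; `FQ.noRadN` : `Z 0 ≰ N_1` gives `N_a ∩ N_c = 1` for `a ~ c`;
`FQ.nrTwo` : no radical and `[X_1, N_2] = 1`: `False`, from `NoP` and `ThmC2` (THEOREM C) only.
-/

set_option autoImplicit false
set_option linter.unusedSectionVars false

namespace Cfsg.Agent.Omega.NO3S.EThree.FQ

open Subgroup Cfsg Cfsg.Agent.ZN Cfsg.Agent.Omega.MinPar
open Cfsg.Agent.Omega.NoFF.Basic (conj_conj mem_conj conj_le_iff conj_le_centralizer comm_symm comm_mono)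
open Cfsg.Agent.Omega.NOThreeL.Pair (conj_eq_of_mem)
open Cfsg.Agent.Omega.OM.PG Cfsg.Agent.Omega.OM.PG.PeelQ
open Cfsg.Agent.Omega.OM.PG.Peel (XW XW_conj)
open Cfsg.Agent.Omega.NO3S.EThree.ExactA (eab_iff eab_mono NoP)
open scoped Pointwise

universe u

variable {G : Type u} [Group G] {Z U : Fin 2 → Subgroup G} {B : Subgroup G} {q : ℕ} (D : FQ Z U B q)
include D

theorem tip : TIp Z := by
  intro a b ha hb hne
  rw [eq_bot_iff]
  rintro x ⟨hx, hx'⟩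
  rw [mem_bot]
  by_contra h1
  exact hne (D.ti a b ha hb x hx hx' h1)

/-- `[X_1, N_2] = 1` for one pair -/
theorem flt (h : XW Z U (Z 0) ≤ centralizer (NN Z (Z 1) : Set G)) : NrTwo.Flt Z (XW Z U) := by
  rintro _ _ ⟨k, rfl, rfl⟩
  rw [XW_conj, NN_conj]
  exact conj_le_centralizer h

variable [Finite G]

/-- an element of `U 0 - Z 0` is moved into `x` by `N(Z 0) ∩ N(U 0)` -/
theorem exists_mv_to {x y : G} (hx : x ∈ U 0) (hxZ : x ∉ Z 0) (hy : y ∈ U 0) (hyZ : y ∉ Z 0) :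
    ∃ g : G, MulAut.conj g • Z 0 = Z 0 ∧ MulAut.conj g • U 0 = U 0 ∧ g * x * g⁻¹ = y := by
  obtain ⟨h, -, h1, h2, h3⟩ := D.tor 0 1 (by decide) x hx hxZ y hy hyZ
  obtain ⟨b, hb, -, h4⟩ := D.root 0 1 (by decide) y hy hyZ _ h3
  -- `h x h⁻¹ = y z = b y b⁻¹` up to commutation
  have hyz : y * (y⁻¹ * (h * x * h⁻¹)) = (y⁻¹ * (h * x * h⁻¹)) * y :=
    mem_centralizer_iff.1 ((eab_iff.1 (D.eU 0)).1 (D.ZU' 0 h3)) y hy
  have e1 : b * y * b⁻¹ = h * x * h⁻¹ := by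
    calc b * y * b⁻¹ = (b * y * b⁻¹ * y⁻¹) * y := by group
      _ = (y⁻¹ * (h * x * h⁻¹)) * y := by rw [h4]
      _ = y * (y⁻¹ * (h * x * h⁻¹)) := hyz.symm
      _ = _ := by group
  have hbZ : MulAut.conj b⁻¹ • Z 0 = Z 0 := conj_eq_of_mem (inv_mem (D.B_le_HH 0 hb))
  have hbU : MulAut.conj b⁻¹ • U 0 = U 0 := conj_eq_of_mem (inv_mem (D.B_le_NU 0 hb))
  refine ⟨b⁻¹ * h, ?_, ?_, ?_⟩
  · rw [← conj_conj, h1, hbZ]
  · rw [← conj_conj, h2, hbU]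
  · calc b⁻¹ * h * x * (b⁻¹ * h)⁻¹ = b⁻¹ * (h * x * h⁻¹) * b := by group
      _ = b⁻¹ * (b * y * b⁻¹) * b := by rw [e1]
      _ = y := by group

/-- every element `≠ 1` of `U 0` is in a point -/
theorem pts : Pts Z U := by
  intro x hx hx1
  by_cases hxZ : x ∈ Z 0
  · exact ⟨1, by rw [map_one, one_smul]; exact D.ZU' 0, by rw [map_one, one_smul]; exact hxZ⟩
  obtain ⟨l, hl1, hl2, -, -, -⟩ := D.mvl 0 1 (by decide)
  obtain ⟨z, hz, hz1⟩ := (Z 0).bot_or_exists_ne_one.resolve_left D.ne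
  have hy : l * z * l⁻¹ ∈ MulAut.conj l • Z 0 := ⟨z, hz, rfl⟩
  have hlU : MulAut.conj l • Z 0 ≤ U 0 := by rw [← hl1]; exact conj_le_iff.2 (D.ZU' 0)
  have hyZ : l * z * l⁻¹ ∉ Z 0 := by
    intro h
    have h3 : l * z * l⁻¹ ∈ MulAut.conj l • Z 0 ⊓ Z 0 := ⟨hy, h⟩
    rw [hl2, mem_bot] at h3
    exact hz1 (conj_eq_one_iff.1 h3)
  obtain ⟨g, -, hgU, hg⟩ := D.exists_mv_to (hlU hy) hyZ hx hxZ
  refine ⟨g * l, ?_, ?_⟩
  · rw [← conj_conj, ← hgU]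
    exact conj_le_iff.2 hlU
  · rw [← conj_conj, ← hg]
    exact ⟨_, hy, rfl⟩

/-- `N_G(Z 0)` is transitive on `(Z 0)#` -/
theorem trans_Z {a a' : G} (ha : a ∈ Z 0) (ha1 : a ≠ 1) (ha' : a' ∈ Z 0) (ha1' : a' ≠ 1) :
    ∃ g ∈ HH (Z 0), g * a * g⁻¹ = a' := by
  obtain ⟨l, hl1, hl2, -, -, -⟩ := D.mvl 0 1 (by decide)
  have hlU' : MulAut.conj l⁻¹ • U 0 = U 0 := by
    have h3 := congrArg (fun X => MulAut.conj l⁻¹ • X) hl1
    simpa only [inv_conj_conj] using h3.symm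
  have key : ∀ c ∈ Z 0, c ≠ 1 → l⁻¹ * c * l ∈ U 0 ∧ l⁻¹ * c * l ∉ Z 0 := by
    intro c hc hc1
    refine ⟨?_, fun h => hc1 ?_⟩
    · rw [← hlU']
      refine ⟨c, D.ZU' 0 hc, ?_⟩
      change l⁻¹ * c * l⁻¹⁻¹ = _
      rw [inv_inv]
    · have h3 : c ∈ MulAut.conj l • Z 0 ⊓ Z 0 := by
        refine ⟨⟨_, h, ?_⟩, hc⟩
        change l * (l⁻¹ * c * l) * l⁻¹ = c
        group
      rwa [hl2, mem_bot] at h3
  obtain ⟨g, -, -, hg⟩ := D.exists_mv_to (key a ha ha1).1 (key a ha ha1).2 (key a' ha' ha1').1 (key a' ha' ha1').2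
  have e : l * g * l⁻¹ * a * (l * g * l⁻¹)⁻¹ = a' := by
    calc l * g * l⁻¹ * a * (l * g * l⁻¹)⁻¹ = l * (g * (l⁻¹ * a * l) * g⁻¹) * l⁻¹ := by group
      _ = l * (l⁻¹ * a' * l) * l⁻¹ := by rw [hg]
      _ = a' := by group
  refine ⟨l * g * l⁻¹, ?_, e⟩
  refine ChoiceBase.mem_normalizer_iff_cj.2 ?_
  change MulAut.conj (l * g * l⁻¹) • Z 0 = Z 0
  exact D.ti _ _ ((D.pt 0).conj _) (D.pt 0) a' ⟨a, ha, e⟩ ha' ha1'

/-- `Z 0 ≰ N_1` : `N_1 ∩ Z 0 = 1` -/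
theorem N_inf_Z (hZ : ¬ Z 0 ≤ NN Z (Z 0)) (i : Fin 2) {x : G} (hx : x ∈ NN Z (Z i)) (hxZ : x ∈ Z i) : x = 1 := by
  have key : ∀ x ∈ NN Z (Z 0), x ∈ Z 0 → x = 1 := by
    intro x hx hxZ
    by_contra hx1
    apply hZ
    intro y hy
    by_cases hy1 : y = 1
    · rw [hy1]; exact one_mem _
    obtain ⟨g, hg, rfl⟩ := D.trans_Z hxZ hx1 hy hy1
    exact (mem_normalizer_iff.1 (PP.HH_le_NN (Z 0) hg) _).1 hx
  rcases fin_two_or (by decide : (0 : Fin 2) ≠ 1) i with h | h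
  · rw [h] at hx hxZ; exact key x hx hxZ
  · rw [h] at hx hxZ
    obtain ⟨s, h0, -, -, -⟩ := D.swap
    rw [← h0, NN_conj] at hx
    rw [← h0] at hxZ
    obtain ⟨y, hy, rfl⟩ := hx
    have h1 : y ∈ Z 0 := by
      obtain ⟨w, hw, e⟩ := hxZ
      have : w = y := (MulAut.conj s).injective e
      rwa [← this]
    rw [key y hy h1]
    exact map_one _

/-- **`Z 0 ≰ N_1` : `N_a ∩ N_c = 1` for `a ~ c`.** -/
theorem noRadN (hZ : ¬ Z 0 ≤ NN Z (Z 0)) : NrTwo.NoRadN Z := by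
  have h01 : NN Z (Z 0) ⊓ NN Z (Z 1) = ⊥ := by
    by_contra hne
    have hB : NN Z (Z 0) ⊓ NN Z (Z 1) ≤ B := inf_le_left.trans ((D.N_le_O 0).trans D.O_le_B)
    obtain ⟨x, hx, hx1, hxB⟩ := Cfsg.Agent.Omega.NoFF.LinesPlug.exists_fixed D.B2 hB (NO3L.LemP.le_normalizer_inf
      (fun b hb => D.HH_norm_N 0 (D.B_le_HH 0 hb)) (fun b hb => D.HH_norm_N 1 (D.B_le_HH 1 hb))) hne
    have hx2 : x ^ 2 = 1 := (eab_iff.1 (D.N_eab 0)).2 x hx.1
    have h1 := D.zB x (hB hx) hx2 hxB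
    obtain ⟨a, ha, b, hb, e⟩ := D.sup_mem (i := 0) (j := 1) (by decide) h1
    have ha1 : a = 1 := by
      refine D.N_inf_Z hZ 0 ?_ ha
      have h3 : a = x * b⁻¹ := by rw [e]; group
      rw [h3]
      exact mul_mem hx.1 (inv_mem ((D.adj (i := 0) (j := 1) (by decide)).le_NN hb))
    have hb1 : b = 1 := by
      refine D.N_inf_Z hZ 1 ?_ hb
      have h3 : b = a⁻¹ * x := by rw [e]; group
      rw [h3]
      exact mul_mem (inv_mem ((D.adj (i := 1) (j := 0) (by decide)).le_NN ha)) hx.2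
    exact hx1 (by rw [e, ha1, hb1, one_mul])
  rintro _ _ ⟨k, rfl, rfl⟩
  rw [NN_conj, NN_conj, ← Subgroup.smul_inf, h01]
  simp

theorem nobX : NobX Z (XW Z U) := by
  obtain ⟨x, hx, hxZ⟩ := D.exists_ne_Z 0
  refine nobX_of D.toPP (nobU_of D.toPP (fun h => hxZ (h hx)) ?_ ?_)
  · intro y hy v hv hvZ hc
    exact D.free 0 y ((D.Q_le_O 0).trans D.O_le_B hy) v hv hvZ hc
  · rw [D.cardU, D.cardZ, pow_two]

/-- `FixN` -/
theorem fixP : FixN Z := by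
  obtain ⟨x, hx, hxZ⟩ := D.exists_ne_Z 0
  exact fixN_of D.toPP D.tip D.pts (D.eU 0) fun h => hxZ (h hx)

/-- **(NR2), all `q`, over `FQ`.** -/
theorem nrTwo (hNO : NoP Z) (hG : ThmC2 Z (XW Z U)) (hZ : ¬ Z 0 ≤ NN Z (Z 0))
    (hA : XW Z U (Z 0) ≤ centralizer (NN Z (Z 1) : Set G)) : False :=
  NrTwo.nrTwo D.toPP D.xf D.nobX hNO hG D.tip D.fixP (D.noRadN hZ) (D.flt hA)

end Cfsg.Agent.Omega.NO3S.EThree.FQ

end

section


/-!
# LEMMA 0 and STEP F over the frame `FQ` (`k = 2`, all `q`), from the weak form of UNI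

* `Uni0 Z U B` : a minimal parabolic over a Sylow 2-subgroup `T ≥ B` of `C_G(Z 0)` which moves `Z 1` normalises `U 1`;
* `NbQ Z B` : `N(Z 0) ∩ N(T) ≤ N(Z 1)` for 2-groups `T ≥ B`;
* `gen` : `N(Z 0) = ⟨N(Z 0) ∩ N(Z 1), N(Z 0) ∩ N(U 1)⟩`;
* **`l0`** : LEMMA 0; **`done`** : a normal subgroup `K ≤ C(Z 0)` of `N(Z 0)` with a 2-element moving `N_1` does not
  normalise `U 0` (STEP F).
-/

set_option autoImplicit false
set_option linter.unusedSectionVars false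

namespace Cfsg.Agent.Omega.NO3S.EThree.DoneU

open Subgroup Cfsg Cfsg.Agent.ZN Cfsg.Agent.Omega.MinPar
open Cfsg.Agent.Omega.NoFF.Basic (conj_conj mem_conj conj_le_iff conj_le_centralizer comm_symm comm_mono)
open Cfsg.Agent.Omega.NOThreeL.Pair (conj_eq_of_mem)
open Cfsg.Agent.Omega.OM.PG Cfsg.Agent.Omega.OM.PG.PeelQ
open Cfsg.Agent.Omega.NO3S.EThree.ExactA (eab_iff eab_mono)
open Cfsg.Agent.ZN.ChoiceBase (cj mem_normalizer_iff_cj cj_cj card_cj)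
open Cfsg.Agent.ZN.ChoiceSit (Syl exists_syl syl_conj)
open Cfsg.Agent.MinSimple.MinParabolic (IsMinPar)
open scoped Pointwise

universe u

variable {G : Type u} [Group G]

/-- **UNI, weak form.** -/
def Uni0 (Z U : Fin 2 → Subgroup G) (B : Subgroup G) : Prop :=
  ∀ T : Subgroup G, B ≤ T → Syl T (centralizer (Z 0 : Set G)) → ∀ R : Subgroup G, IsMinPar T R →
    R ≤ centralizer (Z 0 : Set G) → ¬ R ≤ normalizer (Z 1 : Set G) → R ≤ normalizer (U 1 : Set G)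

/-- the normalizer of a 2-group over `B` -/
def NbQ (Z : Fin 2 → Subgroup G) (B : Subgroup G) : Prop :=
  ∀ T : Subgroup G, IsPGroup 2 T → B ≤ T → HH (Z 0) ⊓ normalizer (T : Set G) ≤ HH (Z 1)

/-- the normalizer of a weakly closed group -/
theorem nbQ_of {Z : Fin 2 → Subgroup G} {B : Subgroup G} (hw : OM.WeakCl.WC B)
    (hn : HH (Z 0) ⊓ normalizer (B : Set G) ≤ HH (Z 1)) : NbQ Z B := by
  rintro T hT hBT g ⟨hg0, hgT⟩
  refine hn ⟨hg0, mem_normalizer_iff_cj.2 (hw T hT hBT g ?_)⟩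
  have h1 := ChoiceBase.cj_mono g hBT
  rwa [mem_normalizer_iff_cj.1 hgT] at h1

variable {Z U : Fin 2 → Subgroup G}

/-- a point of `U 1` is adjacent to `Z 0` -/
theorem adj_of_le (P : PP Z U) {p : Subgroup G} (hp : IsPt Z p) (h : p ≤ U 1) : Adj Z (Z 0) p := by
  obtain ⟨s, hs0, hs1, hs2, hs3⟩ := P.swap
  obtain ⟨k, rfl⟩ := hp
  have h1 : MulAut.conj (s⁻¹ * k) • Z 0 ≤ U 0 := by
    have := conj_le_iff (g := s⁻¹) |>.2 h
    rwa [conj_conj, ← hs2, inv_conj_conj] at this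
  obtain ⟨l, hl0, hl1, hl2, hl3⟩ := P.tr _ h1
  have e : MulAut.conj k • Z 0 = MulAut.conj (s * l) • Z 0 := by
    rw [← conj_conj, hl0, conj_conj, mul_inv_cancel_left]
  refine P.adj_symm ⟨s * l, e, ?_⟩
  rw [← conj_conj, hl1, hs1]

variable {B : Subgroup G} {q : ℕ} (D : FQ Z U B q) [Finite G]
include D

theorem pts1 {v : G} (hv : v ∈ U 1) (hv1 : v ≠ 1) : ∃ p, IsPt Z p ∧ p ≤ U 1 ∧ v ∈ p := by
  obtain ⟨s, hs0, hs1, hs2, hs3⟩ := D.swap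
  rw [← hs2] at hv
  obtain ⟨x, hx, rfl⟩ := hv
  have hx1 : x ≠ 1 := by
    rintro rfl
    exact hv1 (map_one _)
  obtain ⟨k, hk, hxk⟩ := D.pts x hx hx1
  refine ⟨MulAut.conj s • (MulAut.conj k • Z 0), IsPt.conj ⟨k, rfl⟩ s, ?_, ⟨x, hxk, rfl⟩⟩
  rw [← hs2]
  exact conj_le_iff.2 hk

/-- a 2-element fixing all points of `U 1` centralises `U 1` -/
theorem cent_of_pts {y : G} (hy2 : IsPGroup 2 (zpowers y))
    (hy : ∀ p, IsPt Z p → p ≤ U 1 → MulAut.conj y • p = p) : y ∈ centralizer (U 1 : Set G) := by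
  have : Fact (Nat.Prime 2) := ⟨Nat.prime_two⟩
  have hab : ∀ a ∈ U 1, ∀ b ∈ U 1, a * b = b * a := fun a ha b hb =>
    mem_centralizer_iff.1 ((eab_iff.1 (D.eU 1)).1 hb) a ha
  have hle : MulAut.conj y • U 1 ≤ U 1 := by
    rintro _ ⟨v, hv, rfl⟩
    change y * v * y⁻¹ ∈ U 1
    by_cases hv1 : v = 1
    · rw [hv1, mul_one, mul_inv_cancel]
      exact one_mem _
    obtain ⟨p, hp, hpU, hvp⟩ := pts1 D hv hv1
    exact hpU (hy p hp hpU ▸ (⟨v, hvp, rfl⟩ : y * v * y⁻¹ ∈ MulAut.conj y • p))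
  have hyn : y ∈ normalizer (U 1 : Set G) :=
    mem_normalizer_iff_cj.2 (Subgroup.eq_of_le_of_card_ge hle (card_cj y (U 1)).ge)
  have hne : U 1 ≠ ⊥ := by
    intro e
    obtain ⟨x, hx, hxZ⟩ := D.exists_ne_Z 1
    rw [e, mem_bot] at hx
    exact hxZ (hx ▸ one_mem _)
  have h1 := PLocal.OffenderStep.inf_centralizer_ne_bot (U 1) (zpowers y) (D.B2.to_le (D.U_le_B 1)) hy2
    (zpowers_le.2 hyn) hne
  obtain ⟨v, ⟨hvU, hvy⟩, hv1⟩ := (Subgroup.bot_or_exists_ne_one _).resolve_left h1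
  have hyv : y * v = v * y := mem_centralizer_iff.1 hvy y (mem_zpowers y)
  obtain ⟨p, hp, hpU, hvp⟩ := pts1 D hvU hv1
  have key : ∀ w ∈ U 1, w ∉ p → y * w = w * y := by
    intro w hw hwp
    have hw1 : w ≠ 1 := by
      rintro rfl
      exact hwp (one_mem _)
    have hvw1 : v * w ≠ 1 := by
      intro e
      exact hwp (by rw [← inv_eq_of_mul_eq_one_right e]; exact inv_mem hvp)
    obtain ⟨s, hs, hsU, hws⟩ := pts1 D hw hw1
    obtain ⟨r, hr, hrU, hvwr⟩ := pts1 D (mul_mem hvU hw) hvw1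
    have h2 : y * w * y⁻¹ * w⁻¹ ∈ s :=
      mul_mem (hy s hs hsU ▸ (⟨w, hws, rfl⟩ : y * w * y⁻¹ ∈ MulAut.conj y • s)) (inv_mem hws)
    have h3 : y * (v * w) * y⁻¹ * (v * w)⁻¹ ∈ r :=
      mul_mem (hy r hr hrU ▸ (⟨v * w, hvwr, rfl⟩ : y * (v * w) * y⁻¹ ∈ MulAut.conj y • r)) (inv_mem hvwr)
    have e : y * (v * w) * y⁻¹ * (v * w)⁻¹ = y * w * y⁻¹ * w⁻¹ := by
      have h4 := hab v hvU _ (hsU h2)
      calc y * (v * w) * y⁻¹ * (v * w)⁻¹ = (y * v) * y⁻¹ * (y * w * y⁻¹ * w⁻¹) * v⁻¹ := by group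
        _ = v * (y * w * y⁻¹ * w⁻¹) * v⁻¹ := by rw [hyv]; group
        _ = _ := by rw [h4]; group
    by_contra hne
    have h5 : y * w * y⁻¹ * w⁻¹ ≠ 1 := fun h6 => hne (by
      rwa [mul_inv_eq_one, mul_inv_eq_iff_eq_mul] at h6)
    have h6 : s = r := D.ti s r hs hr _ h2 (e ▸ h3) h5
    subst h6
    have h7 : v ∈ s := by
      have := mul_mem hvwr (inv_mem hws)
      rwa [mul_inv_cancel_right] at this
    have h8 : s = p := D.ti s p hs hp v h7 hvp hv1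
    exact hwp (h8 ▸ hws)
  -- an element outside `p`
  obtain ⟨w₀, hw₀, hw₀p⟩ : ∃ w ∈ U 1, w ∉ p := by
    by_contra hcon
    push Not at hcon
    obtain ⟨x, hx, hxZ⟩ := D.exists_ne_Z 1
    obtain ⟨z, hz, hz1⟩ := (Subgroup.bot_or_exists_ne_one (Z 1)).resolve_left (by
      intro e
      have h2 := D.cardZ 0
      rw [← D.cardZ 1, e, Subgroup.card_bot] at h2
      exact D.ne (Subgroup.card_eq_one.1 h2))
    have h2 : p = Z 1 := D.ti p (Z 1) hp (D.pt 1) z (hcon z (D.ZU' 1 hz)) hz hz1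
    exact hxZ (h2 ▸ hcon x hx)
  refine mem_centralizer_iff.2 fun w hw => ?_
  by_cases hwp : w ∈ p
  · have h2 : w * w₀ ∉ p := fun h => hw₀p (by
      have := mul_mem (inv_mem hwp) h
      rwa [inv_mul_cancel_left] at this)
    have h3 := key _ (mul_mem hw hw₀) h2
    have h4 := key _ hw₀ hw₀p
    have h5 : w * y * w₀ = y * w * w₀ := by
      rw [mul_assoc, h4, ← mul_assoc, ← h3, mul_assoc]
    exact mul_right_cancel h5
  · exact (key w hw hwp).symm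

/-- a 2-element fixing all neighbours of `Z 0` centralises `N_1` -/
theorem cent_of_fix {x : G} (hx2 : IsPGroup 2 (zpowers x)) (hx : ∀ u, Adj Z (Z 0) u → MulAut.conj x • u = u) :
    x ∈ centralizer (NN Z (Z 0) : Set G) := by
  have key : NN Z (Z 0) ≤ centralizer ({x} : Set G) := by
    refine sSup_le ?_
    rintro _ ⟨h, hh, rfl⟩
    have h1 : h⁻¹ * x * h ∈ centralizer (U 1 : Set G) := by
      refine cent_of_pts D ?_ fun p hp hpU => ?_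
      · have h2 : zpowers (h⁻¹ * x * h) = (zpowers x).map (MulAut.conj h⁻¹).toMonoidHom := by
          rw [MonoidHom.map_zpowers]
          congr 1
          change _ = h⁻¹ * x * h⁻¹⁻¹
          rw [inv_inv]
        rw [h2]
        exact hx2.map _
      · have h2 : Adj Z (Z 0) (MulAut.conj h • p) := by
          have := (adj_of_le D.toPP hp hpU).conj h
          rwa [← hh] at this
        have h3 := hx _ h2
        rw [conj_conj] at h3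
        have h4 := congrArg (fun A => MulAut.conj h⁻¹ • A) h3
        simp only [conj_conj] at h4
        rw [← mul_assoc, inv_mul_cancel, map_one, one_smul] at h4
        exact h4
    rintro _ ⟨z, hz, rfl⟩
    change h * z * h⁻¹ ∈ _
    refine mem_centralizer_singleton_iff.2 ?_
    have h2 := mem_centralizer_iff.1 h1 z (D.ZU' 1 hz)
    calc h * z * h⁻¹ * x = h * (z * (h⁻¹ * x * h)) * h⁻¹ := by group
      _ = h * ((h⁻¹ * x * h) * z) * h⁻¹ := by rw [h2]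
      _ = x * (h * z * h⁻¹) := by group
  exact mem_centralizer_iff.2 fun y hy => mem_centralizer_singleton_iff.1 (key hy)

/-- **`N(Z 0) = ⟨N(Z 0) ∩ N(Z 1), N(Z 0) ∩ N(U 1)⟩`.** -/
theorem gen (hU : Uni0 Z U B) (hN : NbQ Z B) :
    HH (Z 0) ≤ (HH (Z 0) ⊓ HH (Z 1)) ⊔ (HH (Z 0) ⊓ normalizer (U 1 : Set G)) := by
  set Y := (HH (Z 0) ⊓ HH (Z 1)) ⊔ (HH (Z 0) ⊓ normalizer (U 1 : Set G)) with hY
  have hBC : B ≤ centralizer (Z 0 : Set G) := D.B_le.trans (D.D_le_cent 0)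
  obtain ⟨T, hT, hBT⟩ := exists_syl D.B2 hBC
  have hCH : centralizer (Z 0 : Set G) ≤ HH (Z 0) := centralizer_le_normalizer _
  have h1 : centralizer (Z 0 : Set G) ≤ Y := by
    refine MinSimple.MinParabolic.le_of_forall hT.1 ?_ ?_
    · exact fun g hg => mem_sup_left ⟨hCH hg.1, hN T hT.2.1 hBT ⟨hCH hg.1, hg.2⟩⟩
    · intro R hR hRC
      by_cases h2 : R ≤ normalizer (Z 1 : Set G)
      · exact (le_inf (hRC.trans hCH) h2).trans le_sup_left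
      · exact (le_inf (hRC.trans hCH) (hU T hBT hT R hR hRC h2)).trans le_sup_right
  intro h hh
  have hkC : cj h (centralizer (Z 0 : Set G)) = centralizer (Z 0 : Set G) := by
    rw [ChoiceBase.cj_centralizer, mem_normalizer_iff_cj.1 hh]
  have h2 : Syl (cj h T) (centralizer (Z 0 : Set G)) := by
    have := CaseTwo.syl_cj h hT
    rwa [hkC] at this
  obtain ⟨c, hc, e⟩ := syl_conj hT h2
  have h3 : c⁻¹ * h ∈ normalizer (T : Set G) := by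
    refine mem_normalizer_iff_cj.2 ?_
    rw [← cj_cj, ← e, cj_cj, inv_mul_cancel, ChoiceBase.cj_one]
  have h4 : c⁻¹ * h ∈ HH (Z 0) := mul_mem (inv_mem (hCH hc)) hh
  have h5 : h = c * (c⁻¹ * h) := by group
  rw [h5]
  exact mul_mem (h1 hc) (mem_sup_left ⟨h4, hN T hT.2.1 hBT ⟨h4, h3⟩⟩)

/-- `B` is transitive on the points `≠ Z 1` of `U 1` -/
theorem trans_B {p p' : Subgroup G} (hp : IsPt Z p) (hpU : p ≤ U 1) (hp1 : p ≠ Z 1) (hp' : IsPt Z p') (hpU' : p' ≤ U 1)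
    (hp1' : p' ≠ Z 1) : ∃ b ∈ B, MulAut.conj b • p = p' := by
  have hcard : ∀ {p : Subgroup G}, IsPt Z p → Nat.card p = q := by
    rintro _ ⟨k, rfl⟩
    rw [← D.cardZ 0]
    exact card_cj k _
  have hne : p' ≠ ⊥ := by
    obtain ⟨k, rfl⟩ := hp'
    intro e
    have h2 := card_cj k (Z 0)
    change Nat.card (MulAut.conj k • Z 0 : Subgroup G) = _ at h2
    rw [e, Subgroup.card_bot] at h2
    exact D.ne (Subgroup.card_eq_one.1 h2.symm)
  obtain ⟨v', hv', hv1'⟩ := (Subgroup.bot_or_exists_ne_one p').resolve_left hne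
  have hv'Z : v' ∉ Z 1 := fun h => hp1' (D.ti p' (Z 1) hp' (D.pt 1) v' hv' h hv1')
  have hinf : p ⊓ Z 1 = ⊥ := by
    refine (eq_bot_iff_forall _).2 fun x hx => ?_
    by_contra hx1
    exact hp1 (D.ti p (Z 1) hp (D.pt 1) x hx.1 hx.2 hx1)
  -- `v' = v z`
  have hsup : p ⊔ Z 1 = U 1 := by
    refine Subgroup.eq_of_le_of_card_ge (sup_le hpU (D.ZU' 1)) ?_
    have h3 := NO3S.ML.card_sup_mul_of_comm (K := p) (L := Z 1)
      fun a ha b hb => mem_centralizer_iff.1 ((eab_iff.1 (D.eU 1)).1 (D.ZU' 1 hb)) a (hpU ha)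
    rw [hinf, Subgroup.card_bot, mul_one, hcard hp, D.cardZ] at h3
    rw [h3, D.cardU, pow_two]
  have h4 : v' ∈ p ⊔ Z 1 := hsup ▸ hpU' hv'
  obtain ⟨v, hv, z, hz, e⟩ := OM.KTwo.exists_mul_of_mem_sup (F := p) (N := Z 1) (by
    refine le_trans ?_ (centralizer_le_normalizer _)
    exact fun z hz => mem_centralizer_iff.2 fun a ha => mem_centralizer_iff.1 ((eab_iff.1 (D.eU 1)).1 (D.ZU' 1 hz)) a
      (hpU ha)) h4
  have hvZ : v ∉ Z 1 := fun h => hv'Z (e ▸ mul_mem h hz)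
  obtain ⟨b, hb, -, hbv⟩ := D.root 1 0 (by decide) v (hpU hv) hvZ z hz
  refine ⟨b, hb, D.ti _ _ (hp.conj b) hp' v' ⟨v, hv, ?_⟩ hv' hv1'⟩
  change b * v * b⁻¹ = v'
  rw [e, mem_centralizer_iff.1 ((eab_iff.1 (D.eU 1)).1 (D.ZU' 1 hz)) v (hpU hv), ← hbv]
  group

/-- the hypotheses on `K` -/
def Mvs (Z : Fin 2 → Subgroup G) (K : Subgroup G) : Prop :=
  K ≤ centralizer (Z 0 : Set G) ∧ HH (Z 0) ≤ normalizer (K : Set G) ∧
    ∃ x ∈ K, IsPGroup 2 (zpowers x) ∧ x ∉ centralizer (NN Z (Z 0) : Set G)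

/-- **LEMMA 0** : `N(Z 0) = K (N(Z 0) ∩ N(Z 1))` -/
theorem sup_eq (hU : Uni0 Z U B) (hN : NbQ Z B) {K : Subgroup G} (hK : Mvs Z K) :
    HH (Z 0) ≤ K ⊔ (HH (Z 0) ⊓ HH (Z 1)) := by
  obtain ⟨hKC, hKn, x, hxK, hx2, hxN⟩ := hK
  have hBC : B ≤ centralizer (Z 0 : Set G) := D.B_le.trans (D.D_le_cent 0)
  obtain ⟨T, hT, hBT⟩ := exists_syl D.B2 hBC
  have hCH : centralizer (Z 0 : Set G) ≤ HH (Z 0) := centralizer_le_normalizer _
  have hT1 : T ≤ HH (Z 1) := fun t ht => hN T hT.2.1 hBT ⟨hCH (hT.1 ht), Subgroup.le_normalizer ht⟩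
  -- `K` moves `Z 1`
  have hK1 : ¬ K ≤ HH (Z 1) := by
    intro h
    apply hxN
    refine cent_of_fix D hx2 ?_
    rintro _ ⟨k, hk, rfl⟩
    have hk' : k ∈ HH (Z 0) := mem_normalizer_iff_cj.2 hk.symm
    have h1 : k⁻¹ * x * k⁻¹⁻¹ ∈ K := (mem_normalizer_iff.1 (hKn (inv_mem hk')) x).1 hxK
    have h2 : MulAut.conj (k⁻¹ * x * k⁻¹⁻¹) • Z 1 = Z 1 := conj_eq_of_mem (h h1)
    have h3 := congrArg (fun A => MulAut.conj k • A) h2
    simp only [conj_conj] at h3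
    rw [conj_conj]
    have e : k * (k⁻¹ * x * k⁻¹⁻¹) = x * k := by group
    rwa [e] at h3
  -- inside `U 1`
  obtain ⟨R, hR, hRle, hRn⟩ : ∃ R, IsMinPar T R ∧ R ≤ K ⊔ T ∧ ¬ R ≤ HH (Z 1) := by
    by_contra hcon
    push Not at hcon
    refine hK1 (le_sup_left.trans (MinSimple.MinParabolic.le_of_forall (S := T) (X := K ⊔ T) (Y := HH (Z 1))
      le_sup_right ?_ hcon))
    rintro g ⟨hg, hgT⟩
    exact hN T hT.2.1 hBT ⟨hCH ((sup_le hKC hT.1 : K ⊔ T ≤ _) hg), hgT⟩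
  have hRC : R ≤ centralizer (Z 0 : Set G) := hRle.trans (sup_le hKC hT.1)
  have hRU := hU T hBT hT R hR hRC hRn
  obtain ⟨r, hr, hr1⟩ := SetLike.not_le_iff_exists.1 hRn
  obtain ⟨k, hk, t, ht, e⟩ := OM.KTwo.exists_mul_of_mem_sup (F := K) (N := T) ((hT.1.trans hCH).trans hKn) (hRle hr)
  have hkU : k ∈ normalizer (U 1 : Set G) := by
    have h1 : k = r * t⁻¹ := by rw [e]; group
    rw [h1]
    exact mul_mem (hRU hr) (inv_mem (hRU (hR.le ht)))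
  have hk1 : MulAut.conj k • Z 1 ≠ Z 1 := by
    intro h
    exact hr1 (by rw [e]; exact mul_mem (mem_normalizer_iff_cj.2 h) (hT1 ht))
  have hkle : MulAut.conj k • Z 1 ≤ U 1 := by
    have h1 : MulAut.conj k • U 1 = U 1 := conj_eq_of_mem hkU
    rw [← h1]
    exact conj_le_iff.2 (D.ZU' 1)
  -- the points of `U 1`
  have hpt : ∀ p, IsPt Z p → p ≤ U 1 → ∃ k ∈ K, MulAut.conj k • Z 1 = p := by
    intro p hp hpU
    by_cases hp1 : p = Z 1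
    · exact ⟨1, one_mem _, by rw [map_one, one_smul, hp1]⟩
    obtain ⟨b, hb, e2⟩ := trans_B D ((D.pt 1).conj k) hkle hk1 hp hpU hp1
    have hbH : b ∈ HH (Z 0) := D.B_le_HH 0 hb
    refine ⟨b * k * b⁻¹, (mem_normalizer_iff.1 (hKn hbH) k).1 hk, ?_⟩
    have h1 : MulAut.conj b⁻¹ • Z 1 = Z 1 := conj_eq_of_mem (inv_mem (D.B_le_HH 1 hb))
    rw [← conj_conj, h1, ← conj_conj, e2]
  refine (gen D hU hN).trans (sup_le le_sup_right ?_)
  rintro h ⟨hh, hhU⟩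
  have h1 : MulAut.conj h • Z 1 ≤ U 1 := by
    have h2 : MulAut.conj h • U 1 = U 1 := conj_eq_of_mem hhU
    rw [← h2]
    exact conj_le_iff.2 (D.ZU' 1)
  obtain ⟨k', hk', e2⟩ := hpt _ ((D.pt 1).conj h) h1
  have h3 : k'⁻¹ * h ∈ HH (Z 1) := by
    refine mem_normalizer_iff_cj.2 ?_
    change MulAut.conj (k'⁻¹ * h) • Z 1 = Z 1
    rw [← conj_conj, ← e2, inv_conj_conj]
  have h4 : k'⁻¹ * h ∈ HH (Z 0) := mul_mem (inv_mem (hCH (hKC hk'))) hh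
  have h5 : h = k' * (k'⁻¹ * h) := by group
  rw [h5]
  exact mul_mem (mem_sup_left hk') (mem_sup_right ⟨h4, h3⟩)

/-- every neighbour of `Z 0` is `k Z 1`, `k ∈ K` -/
theorem exists_k (hU : Uni0 Z U B) (hN : NbQ Z B) {K : Subgroup G} (hK : Mvs Z K) {u : Subgroup G}
    (hu : Adj Z (Z 0) u) : ∃ k ∈ K, MulAut.conj k • Z 1 = u := by
  obtain ⟨h, hh, rfl⟩ := hu
  have hh' : h ∈ HH (Z 0) := mem_normalizer_iff_cj.2 hh.symm
  obtain ⟨k, hk, d, hd, rfl⟩ : ∃ k ∈ K, ∃ d ∈ HH (Z 0) ⊓ HH (Z 1), h = k * d :=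
    OM.KTwo.exists_mul_of_mem_sup (inf_le_left.trans hK.2.1) (sup_eq D hU hN hK hh')
  exact ⟨k, hk, by rw [← conj_conj, conj_eq_of_mem hd.2]⟩

/-- **`L0`.** -/
theorem l0 (hU : Uni0 Z U B) (hN : NbQ Z B) : PcQ.L0 Z := by
  intro K hKC hKn hx u u' hu hu'
  obtain ⟨k, hk, rfl⟩ := exists_k D hU hN ⟨hKC, hKn, hx⟩ hu
  obtain ⟨k', hk', rfl⟩ := exists_k D hU hN ⟨hKC, hKn, hx⟩ hu'
  exact ⟨k' * k⁻¹, mul_mem hk' (inv_mem hk), by rw [← conj_conj, inv_conj_conj]⟩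

/-- **STEP F.** -/
theorem done (hU : Uni0 Z U B) (hN : NbQ Z B) {K : Subgroup G} (hK : Mvs Z K) : ¬ K ≤ normalizer (U 0 : Set G) := by
  intro hKU
  -- the points of `U 0` have the same `N`
  have hcard : ∀ k : G, Nat.card (NN Z (MulAut.conj k • Z 0)) = Nat.card (NN Z (Z 0)) := by
    intro k
    rw [NN_conj]
    exact card_cj k _
  have hpt : ∀ k : G, MulAut.conj k • Z 0 ≤ U 0 → NN Z (MulAut.conj k • Z 0) = NN Z (Z 0) := by
    intro k hk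
    symm
    refine Subgroup.eq_of_le_of_card_ge ?_ (hcard k).le
    refine sSup_le fun u hu => ?_
    obtain ⟨x, hx, rfl⟩ := exists_k D hU hN hK hu
    have h1 : MulAut.conj (x⁻¹ * k) • Z 0 ≤ U 0 := by
      have h2 : MulAut.conj x⁻¹ • U 0 = U 0 := conj_eq_of_mem (inv_mem (hKU hx))
      rw [← conj_conj, ← h2]
      exact conj_le_iff.2 hk
    obtain ⟨l, hl0, hl1, -, -⟩ := D.tr _ h1
    refine Adj.le_NN ⟨x * l, ?_, ?_⟩
    · rw [← conj_conj, hl0, conj_conj, mul_inv_cancel_left]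
    · rw [← conj_conj, hl1]
  have h0 : HH (Z 0) ≤ normalizer (NN Z (Z 0) : Set G) := PP.HH_le_NN _
  have h1 : HH (Z 1) ≤ normalizer (NN Z (Z 0) : Set G) := by
    obtain ⟨s, hs0, hs1, hs2, hs3⟩ := D.swap
    have hg : HH (Z 1) ≤ (HH (Z 1) ⊓ HH (Z 0)) ⊔ (HH (Z 1) ⊓ normalizer (U 0 : Set G)) := by
      have h2 := conj_le_iff (g := s) |>.2 (gen D hU hN)
      rw [Subgroup.smul_sup, Subgroup.smul_inf, Subgroup.smul_inf, ← HH_conj, ← HH_conj, hs0, hs1] at h2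
      have h3 : MulAut.conj s • normalizer (U 1 : Set G) = normalizer (U 0 : Set G) := by
        rw [← hs3]
        exact (HH_conj s (U 1)).symm
      rwa [h3] at h2
    refine hg.trans (sup_le (inf_le_right.trans h0) ?_)
    rintro g ⟨-, hgU⟩
    refine mem_normalizer_iff_cj.2 ?_
    change MulAut.conj g • NN Z (Z 0) = NN Z (Z 0)
    rw [← NN_conj]
    refine hpt g ?_
    have h2 : MulAut.conj g • U 0 = U 0 := conj_eq_of_mem hgU
    conv_rhs => rw [← h2]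
    exact conj_le_iff.2 (D.ZU' 0)
  have h2 := D.nonLoc (NN Z (Z 0)) (D.B2.to_le ((D.N_le_O 0).trans D.O_le_B)) h0 h1
  have h3 : Z 1 ≤ ⊥ := h2 ▸ (D.adj (i := 0) (j := 1) (by decide)).le_NN
  have h4 := D.cardZ 1
  rw [← D.cardZ 0, le_bot_iff.1 h3, Subgroup.card_bot] at h4
  exact D.ne (Subgroup.card_eq_one.1 h4.symm)

end Cfsg.Agent.Omega.NO3S.EThree.DoneU

end

section


/-!
# THEOREM R for `q ≥ 4` (`k = 2`), assembly: helper627 #23558 (10), helper691 #21425 (6)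

`D : FQ Z U B q`, `X_i = W_iN_i = XW Z U (Z i)`.

* `OneB Z U` : (1b) of THEOREM R / THEOREM N;
* `FQ.exists_mv_of` : some `A ∈ AA O` moves `U i`; `FQ.AA_Q_le` : `AA Q_i ⊆ AA O`; `FQ.tb_of` : `PeelQ.TB`;
* `FQ.inter_of` : `N_0 ∩ N_1 ≤ Z 0 Z 1`.
-/

set_option autoImplicit false
set_option linter.unusedSectionVars false

namespace Cfsg.Agent.Omega.NO3S.EThree

open Subgroup Cfsg Cfsg.Agent.ZN Cfsg.Agent.Omega.MinPar
open Cfsg.Agent.Omega.NoFF.Basic (conj_conj mem_conj conj_le_iff conj_le_centralizer comm_symm comm_mono)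
open Cfsg.Agent.Omega.NOThreeL.Pair (conj_eq_of_mem)
open Cfsg.Agent.Omega.OM.PG
open Cfsg.Agent.Omega.OM.PG.Int (Ex rix_ne)
open Cfsg.Agent.Omega.OM.PG.Peel (Nob Exa XW)
open Cfsg.Agent.Omega.NO3S.EThree.ExactA (eab_iff eab_mono eab_sup swp)
open Cfsg.Agent.ZN.ChoiceBase (AA mm mm_eq mem_AA_iff AA_nonempty card_le_mm cj_mem_AA mm_cj mm_mono jj_eq_of_jj_le)
open scoped Pointwise

universe u

variable {G : Type u} [Group G]

/-- **(1b)**: `A ∈ AA O`, `C_A(N_i)` centralises `X_i` : `A` centralises `N_i`. -/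
def OneB (Z U : Fin 2 → Subgroup G) : Prop :=
  ∀ i, ∀ A ∈ AA (OO Z), A ⊓ centralizer (NN Z (Z i) : Set G) ≤ centralizer (XW Z U (Z i) : Set G) →
    A ≤ centralizer (NN Z (Z i) : Set G)

namespace FQ

variable {Z U : Fin 2 → Subgroup G} {B : Subgroup G} {q : ℕ} [Finite G] (D : FQ Z U B q)
include D

/-- **(a)** some `A ∈ AA O` moves `U i`. -/
theorem exists_mv_of (hNO : NoDQ Z) (hG : OneB Z U) (i : Fin 2) :
    ∃ A ∈ AA (OO Z), ¬ A ≤ centralizer (U i : Set G) := by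
  set X : Subgroup G := XW Z U (Z i) with hX
  have hNX : NN Z (Z i) ≤ X := le_sup_left
  obtain ⟨A, hA, hmv⟩ := D.exists_moves hNO i
  obtain ⟨hex, -, hB⟩ := D.exact_AA hNO i hA
  set K := (A ⊓ centralizer (NN Z (Z i) : Set G)) ⊔ NN Z (Z i) with hKdef
  by_contra hcon
  push Not at hcon
  have hKC : K ≤ centralizer (NN Z (Z i) : Set G) := sup_le inf_le_right (D.N_comm i)
  have hKQ : K ≤ QQ (Z i) := (le_inf hB.2.1 hKC).trans (D.O_inf_le i)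
  have hKX : K ≤ centralizer (X : Set G) := by
    refine comm_symm (sup_le (comm_symm hKC) (iSup_le fun l => comm_symm ?_))
    obtain ⟨c, hc, e⟩ := D.ln_conj l.2
    have h1 : MulAut.conj c⁻¹ • K ∈ AA (OO Z) := by
      have h2 := cj_mem_AA c⁻¹ hB
      rw [mem_AA_iff] at hB ⊢
      refine ⟨h2.1, ?_, ?_⟩
      · have h3 := conj_le_iff (g := c⁻¹) |>.2 hKQ
        have h4 : MulAut.conj c⁻¹ • QQ (Z i) = QQ (Z i) :=
          conj_eq_of_mem (MinSimple.VModule.le_normalizer_o2 _ (inv_mem hc))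
        rw [h4] at h3
        exact h3.trans (D.Q_le_O i)
      · have h3 : Nat.card (MulAut.conj c⁻¹ • K : Subgroup G) = Nat.card K := ChoiceBase.card_cj c⁻¹ K
        rw [h3]; exact hB.2.2
    have h4 := conj_le_centralizer (g := c) (hcon _ h1)
    rw [conj_conj, mul_inv_cancel, map_one, one_smul] at h4
    rw [e]
    exact h4
  exact hmv (hG i A hA ((le_sup_left : _ ≤ K).trans hKX))

/-- `AA Q_i ⊆ AA O` -/
theorem AA_Q_le (hNO : NoDQ Z) (i : Fin 2) {A : Subgroup G} (hA : A ∈ AA (QQ (Z i))) : A ∈ AA (OO Z) := by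
  obtain ⟨A', hA'⟩ := AA_nonempty (OO Z)
  have hB := (D.exact_AA hNO i hA').2.2
  have hKQ : (A' ⊓ centralizer (NN Z (Z i) : Set G)) ⊔ NN Z (Z i) ≤ QQ (Z i) :=
    (le_inf hB.2.1 (sup_le inf_le_right (D.N_comm i))).trans (D.O_inf_le i)
  rw [mem_AA_iff] at hA hB ⊢
  exact ⟨hA.1, hA.2.1.trans (D.Q_le_O i), (hB.2.2.trans (card_le_mm hB.1 hKQ)).trans hA.2.2⟩

/-- **`TB`** from (1b). -/
theorem tb_of (hNO : NoDQ Z) (hG : OneB Z U) : PeelQ.TB Z (XW Z U) := by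
  rintro a u ⟨k, rfl, rfl⟩ A hA hc
  have e0 : QQ (MulAut.conj k • Z 0) = MulAut.conj k • QQ (Z 0) := QQ_conj k _
  have hA' : MulAut.conj k⁻¹ • A ∈ AA (QQ (Z 0)) := by
    have h1 := cj_mem_AA k⁻¹ hA
    have h2 : ChoiceBase.cj k⁻¹ (QQ (MulAut.conj k • Z 0)) = QQ (Z 0) := by
      rw [e0]
      exact inv_conj_conj k _
    rwa [h2] at h1
  have eN : NN Z (MulAut.conj k • Z 1) = MulAut.conj k • NN Z (Z 1) := NN_conj k _
  have eX : XW Z U (MulAut.conj k • Z 1) = MulAut.conj k • XW Z U (Z 1) := Peel.XW_conj k _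
  have h1 : MulAut.conj k⁻¹ • A ≤ centralizer (NN Z (Z 1) : Set G) := by
    refine hG 1 _ (D.AA_Q_le hNO 0 hA') ?_
    intro x hx
    have h3 : k * x * k⁻¹ ∈ A := by
      have h4 : x ∈ MulAut.conj k⁻¹ • A := hx.1
      rw [mem_conj] at h4
      simpa using h4
    have h4 : k * x * k⁻¹ ∈ centralizer (NN Z (MulAut.conj k • Z 1) : Set G) := by
      rw [eN]
      exact (Peel.mem_cent_conj (g := k)).2 hx.2
    have h5 := hc ⟨h3, h4⟩
    rw [eX] at h5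
    exact (Peel.mem_cent_conj (g := k)).1 h5
  rw [eN]
  have h2 := conj_le_centralizer (g := k) h1
  rwa [conj_inv_conj] at h2

/-- **(b)** `N_0 ∩ N_1 ≤ Z 0 Z 1` -/
theorem inter_of (hNO : NoDQ Z) (hQ : NoQQ Z) (hZ : ∀ i, Z i ≤ NN Z (Z i)) (hG : OneB Z U) :
    NN Z (Z 0) ⊓ NN Z (Z 1) ≤ Z 0 ⊔ Z 1 :=
  D.inter hNO hQ hZ (D.exists_mv_of hNO hG)

/-! ### The inputs of `ExactQ`, `PcQ` -/

omit [Finite G] in
theorem fusP : PcQ.FusP Z := D.fus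

theorem free0 : ∀ y ∈ QQ (Z 0), ∀ v ∈ U 0, v ∉ Z 0 → y * v = v * y → y ∈ centralizer (U 0 : Set G) :=
  fun y hy v hv hvZ h => D.free 0 y (D.O_le_B (D.Q_le_O 0 hy)) v hv hvZ h

omit [Finite G] in
theorem card0 : Nat.card (U 0) = Nat.card (Z 0) * Nat.card (Z 0) := by
  rw [D.cardU, D.cardZ, pow_two]

theorem surQ : ExactQ.Sur Z U := ExactQ.sur_of D.toPP D.free0 D.card0

/-- a point in `N_u ∩ N_b`, `u ~ b`, is `u` or `b` (from THEOREM I) -/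
theorem hdis (hi : NN Z (Z 0) ⊓ NN Z (Z 1) ≤ Z 0 ⊔ Z 1) :
    ∀ a u b : Subgroup G, Adj Z u b → IsPt Z a → a ≤ NN Z u → a ≤ NN Z b → a = u ∨ a = b := by
  rintro a _ _ ⟨k, rfl, rfl⟩ ha h1 h2
  rw [NN_conj] at h1 h2
  obtain ⟨x, hx, hx1⟩ : ∃ x ∈ a, x ≠ 1 := by
    by_contra hcon
    push Not at hcon
    exact ExactQ.pt_ne D.toPP ha ((eq_bot_iff_forall _).2 hcon)
  have h3 : x ∈ MulAut.conj k • (Z 0 ⊔ Z 1) := by
    have h4 : x ∈ MulAut.conj k • (NN Z (Z 0) ⊓ NN Z (Z 1)) := by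
      rw [Subgroup.smul_inf]
      exact ⟨h1 hx, h2 hx⟩
    exact conj_le_iff.2 hi h4
  rw [Subgroup.smul_sup] at h3
  exact PcQ.FusP.adj D.fus ⟨k, rfl, rfl⟩ ha hx h3 hx1

end FQ

end Cfsg.Agent.Omega.NO3S.EThree

end

section


/-!
# THEOREM N, `k = 2`, all `q`: the end over `FQ` (helper381 #23328)

* `false_of_H` : no `A ≤ C(Z i)` with (H) moves `N_i`;
* `oneB_of` : **(1b)** = `OneB Z U`.
-/

set_option autoImplicit false
set_option linter.unusedSectionVars false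

namespace Cfsg.Agent.Omega.TCQ.R.End

open Subgroup Cfsg Cfsg.Agent.ZN Cfsg.Agent.Omega.MinPar
open Cfsg.Agent.Omega.NoFF.Basic (conj_conj mem_conj conj_le_iff conj_le_centralizer comm_symm comm_mono)
open Cfsg.Agent.Omega.NOThreeL.Pair (conj_eq_of_mem)
open Cfsg.Agent.Omega.OM.PG
open Cfsg.Agent.Omega.OM.PG.Peel (XW)
open Cfsg.Agent.Omega.NO3S.EThree Cfsg.Agent.Omega.NO3S.EThree.FQ
open Cfsg.Agent.Omega.NO3S.EThree.ExactA (eab_iff eab_mono eab_sup)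
open Cfsg.Agent.Omega.TCQ.R.Can Cfsg.Agent.Omega.TCQ.R.ThN Cfsg.Agent.Omega.TCQ.R.Plug
open Cfsg.Agent.ZN.ChoiceSit (Syl)
open Cfsg.Agent.ZN.ChoiceBase (AA)
open scoped Pointwise commutatorElement

universe u

variable {G : Type u} [Group G] [Finite G]

variable {Z U : Fin 2 → Subgroup G} {B : Subgroup G} {q : ℕ} (D : FQ Z U B q) {i : Fin 2}
include D

/-- **THEOREM N.** -/
theorem false_of_H (noD : NoDQ Z) (noQ : NoQQ Z) (hL : LvIn Z U B) (hrad : Z i ≤ NN Z (Z i))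
    (hV : ¬ U i ≤ NN Z (Z i)) {A : Subgroup G} (hA2 : IsPGroup 2 A) (hAc : A ≤ centralizer (Z i : Set G))
    (hAX : ∀ x ∈ XW Z U (Z i), ∀ f ∈ A, x * f * x⁻¹ * f⁻¹ ∈ NN Z (Z i))
    (hmv : ¬ A ≤ centralizer (NN Z (Z i) : Set G))
    (hH : ∀ W : Subgroup G, IsElementaryAbelian 2 W → XW Z U (Z i) ≤ W → W ≤ QQ (Z i) →
      normalizer (Z i : Set G) ≤ normalizer (W : Set G) → Hyp Z U i W A) : False := by
  obtain ⟨T, hT, hTU⟩ := hL.syl i
  obtain ⟨X0, W, c⟩ := exists_cp D noD noQ hrad hV hT hTU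
  exact (nv_of D hL hrad c hT hTU hA2 hAc hAX hmv (hH W c.We c.XWW c.WQ c.HW)).false

/-- **(1b).** -/
theorem oneB_of (noD : NoDQ Z) (noQ : NoQQ Z) (hL : LvIn Z U B) (hrad : ∀ i, Z i ≤ NN Z (Z i))
    (hV : ∀ i, ¬ U i ≤ NN Z (Z i)) : OneB Z U := by
  intro i A hA hc
  by_contra hmv
  have hAB : A ≤ B := hA.2.1.trans D.O_le_B
  have hAN : A ≤ normalizer (NN Z (Z i) : Set G) := (hAB.trans (D.B_le_HH i)).trans (D.HH_norm_N i)
  have hXO : XW Z U (Z i) ≤ OO Z := (D.XW_le_Q i).trans (D.Q_le_O i)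
  have hAX : ∀ x ∈ XW Z U (Z i), ∀ f ∈ A, x * f * x⁻¹ * f⁻¹ ∈ NN Z (Z i) := by
    intro x hx f hf
    exact EK3.ThN.comm_mem (D.N_eab i) (D.N_le_O i) (noD i) hA (D.XW_eab i) hXO (N_le_XW D) hc hAN hx hf
  refine false_of_H D noD noQ hL (hrad i) (hV i) (D.B2.to_le hAB) (hAB.trans (D.B_le.trans (D.D_le_cent i))) hAX
    hmv ?_
  intro W hWe hXW hWQ hHW y hy hyX hyN hmy n hn hb f hf
  refine EK3.ThN.oneB (D.N_eab i) (D.N_le_O i) (noD i) hA (N_le_XW D) hXW hWe (hWQ.trans (D.Q_le_O i)) hc hAN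
    ((hAB.trans (D.B_le_HH i)).trans hHW) hyX ?_ hyN hmy hn ?_ hf
  · intro a ha u hu hu1 hau
    -- `a` normalises `y`
    have h1 : MulAut.conj a • y = y := by
      refine D.ti _ _ (hy.conj a) hy _ ?_ hau ?_
      · rw [mem_conj]
        have e2 : a⁻¹ * (a * u * a⁻¹) * a = u := by group
        rwa [e2]
      · intro h1
        apply hu1
        have e2 : u = a⁻¹ * (a * u * a⁻¹) * a := by group
        rw [e2, h1]; group
    refine mem_centralizer_iff.2 fun w hw => ?_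
    have h2 := hAX w (hyX hw) a ha
    have h3 : a * w⁻¹ * a⁻¹ ∈ y := by
      rw [← h1, mem_conj]
      have e2 : a⁻¹ * (a * w⁻¹ * a⁻¹) * a = w⁻¹ := by group
      rw [e2]; exact inv_mem hw
    have h4 : w * a * w⁻¹ * a⁻¹ ∈ y ⊓ NN Z (Z i) := by
      refine ⟨?_, h2⟩
      have e2 : w * a * w⁻¹ * a⁻¹ = w * (a * w⁻¹ * a⁻¹) := by group
      rw [e2]; exact mul_mem hw h3
    rw [hyN, mem_bot] at h4
    exact mul_inv_eq_iff_eq_mul.1 (mul_inv_eq_one.1 h4)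
  · intro c hcA
    exact hb c (hc hcA)

end Cfsg.Agent.Omega.TCQ.R.End

end
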