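import Cfsg.Agent.Mrg.Omega.TC.UniLev
import Cfsg.Agent.Mrg.Omega.NO3S.EThree.Row7
import Cfsg.Agent.Mrg.Omega.OM.YThm.End8D
import Cfsg.Agent.Mrg.Omega.NO3S.EThree.NoQOf

section


/-!
# Row (7): `NonLocIn`, and `TiIn` at stage `-1` (THEOREM Y)

* `nonLocIn` : **`NonLocIn K`**;
* `tiY` : stage `-1`, any `k ≥ 2`, `4 ≤ q`: TI or (4F); `centY` : `C_G(z) ≤ N_G(Z i)` for `1 ≠ z ∈ Z i`, or (4F);
* `TiLev K` : TI or (4F) at the stages `n ≥ 0`, `k = 2`; `tiIn_of` : `TiLev K` gives `TiIn K`.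
-/

set_option autoImplicit false
set_option linter.unusedSectionVars false

namespace Cfsg.Agent.Omega.NO3S.EThree.TiNeg

open Subgroup Cfsg Cfsg.Agent.ZN.ChoiceBase
open Cfsg.Agent.ZN (jj zj bau zc zl o2)
open Cfsg.Agent.Omega.OM
open Cfsg.Agent.Omega.NO3S.EThree.Frame
open Cfsg.Agent.Omega.Frame (Cls)
open Cfsg.Agent.Omega.FrameNOFF (CZ)
open Cfsg.Agent.Omega.Node.MultiOf
open Cfsg.Agent.Omega.NO3S.EThree.NonLocQ
open Cfsg.Agent.Omega.NO3S.EThree.Row7 (FourF NonLocIn TiIn)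

universe u

/-- **`NonLocIn`.** -/
theorem nonLocIn (K : Cls.{u}) : NonLocIn K :=
  fun _ _ _ _ _ _ _ _ _ _ _ _ _ _ _ h hE => nonloc_mul h hE

section

variable {G : Type u} [Group G] [Finite G] {S : Sylow 2 G} {P K B ZJ : Subgroup G} {k : ℕ}
  {L W Z C : Fin k → Subgroup G} {q : ℕ}

/-- **THEOREM Y for `Mul`**, stage `-1`. -/
theorem thmY_mul (hFF : FFThm.Stmt.{u}) (h : Mul S P K B ZJ L W Z C q) (hk : 2 ≤ k) (hq : 4 ≤ q)
    (hj : ¬ jj (S : Subgroup G) ≤ o2 P) :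
    centralizer (zc (S : Subgroup G) : Set G) ≤ normalizer (zj (S : Subgroup G) : Set G) ∨ FourF B ZJ q := by
  obtain ⟨F, _, _, _, rfl, ⟨N⟩⟩ := h.nat
  have h1 := YThm.Plug.thmY ⟨h.hyp.toHypN, hj⟩ hFF hk hq N.toNatK
  cases h.stg with
  | neg _ => exact h1
  | lev n _ hn _ => exact absurd ((NO3S.Level.lev_mono (S : Subgroup G) (Nat.zero_le n)).trans hn) hj

/-- `C_G(z) ≤ N_G(Z i)` or (4F), stage `-1`. -/
theorem centY (hFF : FFThm.Stmt.{u}) (h : Mul S P K B ZJ L W Z C q) (hk : 2 ≤ k) (hq : 4 ≤ q)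
    (hj : ¬ jj (S : Subgroup G) ≤ o2 P) :
    (∀ i, ∀ z ∈ Z i, z ≠ 1 → centralizer ({z} : Set G) ≤ normalizer (Z i : Set G)) ∨ FourF B ZJ q :=
  (thmY_mul hFF h hk hq hj).imp_left fun hY _ _ hz hz1 => cent_le_neg hFF h hk hj hY hz hz1

/-- TI or (4F), stage `-1`. -/
theorem tiY (hFF : FFThm.Stmt.{u}) (h : Mul S P K B ZJ L W Z C q) (hk : 2 ≤ k) (hq : 4 ≤ q)
    (hj : ¬ jj (S : Subgroup G) ≤ o2 P) : (∀ i, TI (Z i)) ∨ FourF B ZJ q :=
  (thmY_mul hFF h hk hq hj).imp_left fun hY i => ti_neg_of hFF h hk hj hY i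

end

/-- TI or (4F) at the stages `n ≥ 0`. -/
def TiLev (K : Cls.{u}) : Prop :=
  ∀ (G : Type u) [Group G] [Finite G], K G → ∀ (S : Sylow 2 G) (P K' B ZJ : Subgroup G)
    (L W Z C : Fin 2 → Subgroup G) (q : ℕ), 4 ≤ q → jj (S : Subgroup G) ≤ o2 P → Mul S P K' B ZJ L W Z C q →
      NLoc (KZ B ZJ) → (∀ i, TI (Z i)) ∨ FourF B ZJ q

theorem tiIn_of {K : Cls.{u}} (hFF : FFThm.Stmt.{u}) (hL : TiLev K) : TiIn K := by
  intro G _ _ hG S P K' B ZJ L W Z C q hq h hE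
  by_cases hj : jj (S : Subgroup G) ≤ o2 P
  · exact hL G hG S P K' B ZJ L W Z C q hq hj h hE
  · exact tiY hFF h le_rfl hq hj

end Cfsg.Agent.Omega.NO3S.EThree.TiNeg

end

section


/-!
# NO-3S, case (E), `k = 2`, all `q`, every level: the line `U i` (frame fields of THEOREM N, #23934 (c))

`E = N_G(U i)`, `b = Z i`, `S = B ∩ C(U i)`.

* `FQ.exists_cj` : a vector of `U i - Z i` is `(b l) z (b l)⁻¹` with `b ∈ B`; `FQ.cov`, `FQ.ptsW`;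
* `FQ.lin` : an element of `N(U i)` trivial on `Z i` and `U i / Z i` acts on `U i` like an element of `B` (TI);
* `FQ.exists_lin` : `K` normalised by `B`, `K ≤ C(Z i)`, `K ∩ N(U i)` moves `U i` ⇒ an element of `K` acts on `U i` like
  an element of `B` which moves `U i`;
* `BgQ.root_of` : then `K` induces the full root group.
-/

set_option autoImplicit false
set_option linter.unusedSectionVars false

namespace Cfsg.Agent.Omega.NO3S.EThree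

open Subgroup Cfsg Cfsg.Agent.ZN.ChoiceBase
open Cfsg.Agent.ZN (zc zl o2)
open Cfsg.Agent.ZN.ChoiceSit (Syl syl_not_dvd)
open Cfsg.Agent.Omega.OM Cfsg.Agent.Omega.OM.Uni
open Cfsg.Agent.Omega.OM.PG
open Cfsg.Agent.Omega.MinPar (NonLoc)
open Cfsg.Agent.Omega.NO3S (HypJ HypN Hyp)
open Cfsg.Agent.Omega.NO3S.EThree.Frame
open Cfsg.Agent.Omega.NO3S.EThree.ExactA (NoP eab_iff)
open scoped Pointwise

universe u

variable {G : Type u} [Group G]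

namespace FQ

variable [Finite G] {Z U : Fin 2 → Subgroup G} {B : Subgroup G} {q : ℕ} (D : FQ Z U B q)
include D

theorem Uc (i : Fin 2) {x y : G} (hx : x ∈ U i) (hy : y ∈ U i) : x * y = y * x :=
  (mem_centralizer_iff.1 ((eab_iff.1 (D.eU i)).1 hy) x hx)

theorem Z_bot (i : Fin 2) : Z i ≠ ⊥ := by
  intro e
  obtain ⟨k, hk⟩ := D.pt i
  apply D.ne
  have h5 := congrArg (cj k⁻¹) (hk.symm.trans e)
  have h6 : cj k⁻¹ (MulAut.conj k • Z 0) = Z 0 := cj_inv_cj k (Z 0)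
  rw [h6] at h5
  rw [h5]
  exact map_bot _

/-- TI for the point `Z i` and an element -/
theorem ti_mem {i : Fin 2} {g x : G} (hx : x ∈ Z i) (hx1 : x ≠ 1) (h : g * x * g⁻¹ ∈ Z i) : g ∈ normalizer (Z i : Set G) := by
  rw [mem_normalizer_iff_cj]
  exact D.ti _ _ ((D.pt i).conj g) (D.pt i) (g * x * g⁻¹) ⟨x, hx, rfl⟩ h fun e => hx1 (conj_eq_one_iff.1 e)

/-- vectors outside `Z i` -/
theorem exists_cj {i j : Fin 2} (hij : i ≠ j) {l : G} (h1 : MulAut.conj l • U i = U i)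
    (h2 : MulAut.conj l • Z i ⊓ Z i = ⊥) {v : G} (hv : v ∈ U i) (hvZ : v ∉ Z i) :
    ∃ b ∈ B, b ∈ centralizer (U j : Set G) ∧ ∃ z ∈ Z i, z ≠ 1 ∧ v = (b * l) * z * (b * l)⁻¹ := by
  have h3 := D.sup_eq h1 h2
  have hle : cj l (Z i) ≤ U i := by
    have : cj l (Z i) ≤ cj l (U i) := cj_mono l (D.ZU' i)
    exact this.trans_eq h1
  rw [← h3] at hv
  have hn : MulAut.conj l • Z i ≤ normalizer (Z i : Set G) := fun x hx =>
    centralizer_le_normalizer _ (mem_centralizer_iff.2 fun y hy => D.Uc i (D.ZU' i hy) (hle hx))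
  obtain ⟨y, hy, x, hx, rfl⟩ := OM.KTwo.exists_mul_of_mem_sup hn hv
  have hxU : x ∈ U i := hle hx
  have hxZ : x ∉ Z i := fun h => hvZ (mul_mem hy h)
  obtain ⟨b, hb, hbj, e⟩ := D.root i j hij x hxU hxZ y hy
  obtain ⟨z, hz, rfl⟩ := hx
  refine ⟨b, hb, hbj, z, hz, ?_, ?_⟩
  · rintro rfl
    apply hxZ
    simp
  · have e1 : b * (l * z * l⁻¹) * b⁻¹ = y * (l * z * l⁻¹) := mul_inv_eq_iff_eq_mul.1 e
    calc y * (MulAut.conj l) z = y * (l * z * l⁻¹) := rfl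
      _ = b * (l * z * l⁻¹) * b⁻¹ := e1.symm
      _ = (b * l) * z * (b * l)⁻¹ := by group

theorem cov {i j : Fin 2} (hij : i ≠ j) {v : G} (hv : v ∈ U i) :
    ∃ e ∈ normalizer (U i : Set G), ∃ x ∈ Z i, v = e * x * e⁻¹ := by
  by_cases hvZ : v ∈ Z i
  · exact ⟨1, one_mem _, v, hvZ, by group⟩
  obtain ⟨l, h1, h2, -⟩ := D.mvl i j hij
  obtain ⟨b, hb, -, z, hz, -, e⟩ := D.exists_cj hij h1 h2 hv hvZ
  exact ⟨b * l, mul_mem (D.B_le_NU i hb) (mem_normalizer_iff_cj.2 h1), z, hz, e⟩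

theorem ptsW {i j : Fin 2} (hij : i ≠ j) {e : G} (he : e ∈ normalizer (U i : Set G)) :
    ∃ g ∈ normalizer (U i : Set G), g ∈ normalizer ((B ⊓ centralizer (U i : Set G) : Subgroup G) : Set G) ∧
      g⁻¹ * e ∈ normalizer (Z i : Set G) := by
  by_cases heZ : e ∈ normalizer (Z i : Set G)
  · exact ⟨1, one_mem _, one_mem _, by simpa using heZ⟩
  obtain ⟨l, h1, h2, -, h4, -⟩ := D.mvl i j hij
  obtain ⟨z, hz, hz1⟩ := exists_ne_one' (D.Z_bot i)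
  have hv : e * z * e⁻¹ ∈ U i := (mem_normalizer_iff.1 he z).1 (D.ZU' i hz)
  have hvZ : e * z * e⁻¹ ∉ Z i := fun h => heZ (D.ti_mem hz hz1 h)
  obtain ⟨b, hb, -, z', hz', hz1', e1⟩ := D.exists_cj hij h1 h2 hv hvZ
  refine ⟨b * l, mul_mem (D.B_le_NU i hb) (mem_normalizer_iff_cj.2 h1), ?_, ?_⟩
  · refine mul_mem ?_ (mem_normalizer_iff_cj.2 h4)
    have h5 : B ≤ normalizer (centralizer (U i : Set G) : Set G) := by
      refine (D.B_le_NU i).trans ?_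
      exact Cfsg.Agent.Omega.NO3L.LemP.normalizer_le_normalizer_cent _
    exact Cfsg.Agent.Omega.NO3L.LemP.le_normalizer_inf Subgroup.le_normalizer h5 hb
  · refine D.ti_mem hz hz1 ?_
    have e2 : (b * l)⁻¹ * e * z * ((b * l)⁻¹ * e)⁻¹ = (b * l)⁻¹ * (e * z * e⁻¹) * (b * l) := by group
    rw [e2, e1]
    have e3 : (b * l)⁻¹ * (b * l * z' * (b * l)⁻¹) * (b * l) = z' := by group
    rw [e3]
    exact hz'

/-- **Linearity from TI**: an element of `N(U i)` trivial on `Z i` and on `U i / Z i` acts on `U i` like an element of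
`B`. -/
theorem lin {i j : Fin 2} (hij : i ≠ j) {g : G} (hgU : g ∈ normalizer (U i : Set G))
    (hgZ : g ∈ centralizer (Z i : Set G)) (hg : ∀ v ∈ U i, g * v * g⁻¹ * v⁻¹ ∈ Z i) :
    ∃ b ∈ B, b ∈ centralizer (U j : Set G) ∧ ∀ v ∈ U i, g * v * g⁻¹ = b * v * b⁻¹ := by
  obtain ⟨l, h1, h2, -⟩ := D.mvl i j hij
  have h3 := D.sup_eq h1 h2
  have hle : cj l (Z i) ≤ U i := by
    have : cj l (Z i) ≤ cj l (U i) := cj_mono l (D.ZU' i)
    exact this.trans_eq h1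
  obtain ⟨z, hz, hz1⟩ := exists_ne_one' (D.Z_bot i)
  set v₀ := l * z * l⁻¹ with hv₀
  have hv0 : v₀ ∈ U i := hle ⟨z, hz, rfl⟩
  have hv0Z : v₀ ∉ Z i := fun h => by
    have h4 : v₀ ∈ MulAut.conj l • Z i ⊓ Z i := mem_inf.2 ⟨⟨z, hz, rfl⟩, h⟩
    rw [h2, mem_bot] at h4
    exact hz1 (conj_eq_one_iff.1 h4)
  obtain ⟨b, hb, hbj, e⟩ := D.root i j hij v₀ hv0 hv0Z _ (hg v₀ hv0)
  have e0 : b * v₀ * b⁻¹ = g * v₀ * g⁻¹ := mul_right_cancel e
  -- `k = b⁻¹ g` fixes `v₀`, so normalises the point `Z i ^ l`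
  set k := b⁻¹ * g with hk
  have hkv : k * v₀ * k⁻¹ = v₀ := by
    have e1 : k * v₀ * k⁻¹ = b⁻¹ * (g * v₀ * g⁻¹) * b := by rw [hk]; group
    rw [e1, ← e0]; group
  have hkP : cj k (cj l (Z i)) = cj l (Z i) :=
    D.ti _ _ (((D.pt i).conj l).conj k) ((D.pt i).conj l) v₀ ⟨v₀, ⟨z, hz, rfl⟩, hkv⟩ ⟨z, hz, rfl⟩
      fun e => hz1 (conj_eq_one_iff.1 e)
  have hkx : ∀ v ∈ U i, k * v * k⁻¹ * v⁻¹ ∈ Z i := by
    intro v hv
    have h4 : g * v * g⁻¹ ∈ U i := (mem_normalizer_iff.1 hgU v).1 hv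
    have h5 := D.com i b⁻¹ (inv_mem hb) _ h4
    have e1 : k * v * k⁻¹ * v⁻¹ = (b⁻¹ * (g * v * g⁻¹) * b⁻¹⁻¹ * (g * v * g⁻¹)⁻¹) * (g * v * g⁻¹ * v⁻¹) := by
      rw [hk]; group
    rw [e1]
    exact mul_mem h5 (hg v hv)
  have hkZ : ∀ v ∈ Z i, k * v * k⁻¹ = v := by
    intro v hv
    have h4 := mem_centralizer_iff.1 hgZ v hv
    have h5 := D.cBZ i (inv_mem hb) hv
    have e1 : k * v * k⁻¹ = b⁻¹ * (g * v * g⁻¹) * b := by rw [hk]; group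
    rw [e1, ← h4, mul_inv_cancel_right, h5]; group
  have hkl : ∀ v ∈ cj l (Z i), k * v * k⁻¹ = v := by
    intro v hv
    have h4 : k * v * k⁻¹ ∈ cj l (Z i) := by
      rw [← hkP]
      exact ⟨v, hv, rfl⟩
    have h5 : k * v * k⁻¹ * v⁻¹ ∈ MulAut.conj l • Z i ⊓ Z i :=
      mem_inf.2 ⟨mul_mem h4 (inv_mem hv), hkx v (hle hv)⟩
    rw [h2, mem_bot, mul_inv_eq_one] at h5
    exact h5
  refine ⟨b, hb, hbj, fun v hv => ?_⟩
  have hkv' : k * v * k⁻¹ = v := by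
    rw [← h3] at hv
    have h6 : Z i ⊔ MulAut.conj l • Z i ≤ centralizer ({k} : Set G) := by
      refine sup_le (fun x hx => ?_) fun x hx => ?_
      · rw [mem_centralizer_singleton_iff]
        exact (mul_inv_eq_iff_eq_mul.1 (hkZ x hx)).symm
      · rw [mem_centralizer_singleton_iff]
        exact (mul_inv_eq_iff_eq_mul.1 (hkl x hx)).symm
    have h7 := mem_centralizer_singleton_iff.1 (h6 hv)
    rw [← h7]; group
  have e1 : g * v * g⁻¹ = b * (k * v * k⁻¹) * b⁻¹ := by rw [hk]; group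
  rw [e1, hkv']

/-- `K` moves `U i` ⇒ some element of `K` acts on `U i` like an element of `B - C(U i)`. -/
theorem exists_lin {i j : Fin 2} (hij : i ≠ j) {K : Subgroup G} (hKB : B ≤ normalizer (K : Set G))
    (hKZ : K ≤ centralizer (Z i : Set G)) {s : G} (hs : s ∈ K) (hsU : s ∈ normalizer (U i : Set G))
    (hsc : s ∉ centralizer (U i : Set G)) :
    ∃ s₁ ∈ K, s₁ ∈ normalizer (U i : Set G) ∧ ∃ b ∈ B, b ∉ centralizer (U i : Set G) ∧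
      ∀ v ∈ U i, s₁ * v * s₁⁻¹ = b * v * b⁻¹ := by
  have hsU' : ∀ v ∈ U i, s * v * s⁻¹ ∈ U i := fun v hv => (mem_normalizer_iff.1 hsU v).1 hv
  by_cases hlin : ∀ v ∈ U i, s * v * s⁻¹ * v⁻¹ ∈ Z i
  · obtain ⟨b, hb, -, e⟩ := D.lin hij hsU (hKZ hs) hlin
    refine ⟨s, hs, hsU, b, hb, fun hbc => hsc (mem_centralizer_iff.2 fun v hv => ?_), e⟩
    have h1 := e v hv
    have h2 := mem_centralizer_iff.1 hbc v hv
    rw [← h2, mul_inv_cancel_right] at h1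
    exact (mul_inv_eq_iff_eq_mul.1 h1).symm
  · push Not at hlin
    obtain ⟨v, hv, hvZ⟩ := hlin
    -- some `[b, s]` moves `U i`
    obtain ⟨x, hx, hxZ⟩ := D.exists_ne_Z i
    obtain ⟨z, hz, hz1⟩ := exists_ne_one' (D.Z_bot i)
    obtain ⟨b, hb, -, e⟩ := D.root i j hij x hx hxZ z hz
    have hbc : b ∉ centralizer (U i : Set G) := fun h => hz1 (by
      rw [← e, ← mem_centralizer_iff.1 h x hx]; group)
    have hbU := D.B_le_NU i hb
    have h1 : b * s * b⁻¹ * s⁻¹ ∈ K := mul_mem ((mem_normalizer_iff.1 (hKB hb) s).1 hs) (inv_mem hs)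
    have h2 : b * s * b⁻¹ * s⁻¹ ∈ normalizer (U i : Set G) :=
      mul_mem (mul_mem (mul_mem hbU hsU) (inv_mem hbU)) (inv_mem hsU)
    have h3 : ∀ w ∈ U i, (b * s * b⁻¹ * s⁻¹) * w * (b * s * b⁻¹ * s⁻¹)⁻¹ * w⁻¹ ∈ Z i := by
      intro w hw
      -- `w₁ = s⁻¹ w s`
      have hw1 : s⁻¹ * w * s ∈ U i := (mem_normalizer_iff''.1 hsU w).1 hw
      have h4 := D.com i b⁻¹ (inv_mem hb) _ hw1
      set c := b⁻¹ * (s⁻¹ * w * s) * b⁻¹⁻¹ * (s⁻¹ * w * s)⁻¹ with hc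
      have hcs : s * c * s⁻¹ = c := by
        rw [← mem_centralizer_iff.1 (hKZ hs) c h4, mul_inv_cancel_right]
      have h5 := D.com i b hb w hw
      have e1 : (b * s * b⁻¹ * s⁻¹) * w * (b * s * b⁻¹ * s⁻¹)⁻¹ * w⁻¹ =
          b * (s * c * s⁻¹) * b⁻¹ * (b * w * b⁻¹ * w⁻¹) := by rw [hc]; group
      rw [e1, hcs, D.cBZ i hb h4, mul_inv_cancel_right]
      exact mul_mem h4 h5
    obtain ⟨b', hb', -, e'⟩ := D.lin hij h2 (hKZ h1) h3
    refine ⟨_, h1, h2, b', hb', fun hbc' => ?_, e'⟩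
    -- then `[b, v ^ s v⁻¹] = 1`
    apply hvZ
    by_contra hne
    apply hbc
    refine D.free i b hb (s * v * s⁻¹ * v⁻¹) (mul_mem (hsU' v hv) (inv_mem hv)) hne ?_
    have h6 : ∀ w ∈ U i, (b * s * b⁻¹ * s⁻¹) * w * (b * s * b⁻¹ * s⁻¹)⁻¹ = w := by
      intro w hw
      rw [e' w hw, ← mem_centralizer_iff.1 hbc' w hw, mul_inv_cancel_right]
    -- `b (s v s⁻¹) b⁻¹ = s (b v b⁻¹) s⁻¹`
    have h7 : b * (s * v * s⁻¹) * b⁻¹ = s * (b * v * b⁻¹) * s⁻¹ := by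
      have h8 := h6 (s * (b * v * b⁻¹) * s⁻¹) (hsU' _ ((mem_normalizer_iff.1 hbU v).1 hv))
      rw [← h8]; group
    have h9 := D.com i b hb v hv
    have h10 : s * (b * v * b⁻¹ * v⁻¹) * s⁻¹ = b * v * b⁻¹ * v⁻¹ := by
      rw [← mem_centralizer_iff.1 (hKZ hs) _ h9, mul_inv_cancel_right]
    have e1 : b * (s * v * s⁻¹ * v⁻¹) * b⁻¹ = (b * (s * v * s⁻¹) * b⁻¹) * (b * v * b⁻¹)⁻¹ := by group
    have e2 : s * (b * v * b⁻¹) * s⁻¹ = (s * (b * v * b⁻¹ * v⁻¹) * s⁻¹) * (s * v * s⁻¹) := by group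
    have h11 : b * (s * v * s⁻¹ * v⁻¹) * b⁻¹ = s * v * s⁻¹ * v⁻¹ := by
      rw [e1, h7, e2, h10]
      have hcm : (b * v * b⁻¹ * v⁻¹) * (s * v * s⁻¹) = (s * v * s⁻¹) * (b * v * b⁻¹ * v⁻¹) :=
        D.Uc i (D.ZU' i h9) (hsU' v hv)
      have hcm2 : v * (b * v * b⁻¹)⁻¹ = (b * v * b⁻¹)⁻¹ * v :=
        D.Uc i hv (inv_mem ((mem_normalizer_iff.1 hbU v).1 hv))
      rw [hcm]
      calc s * v * s⁻¹ * (b * v * b⁻¹ * v⁻¹) * (b * v * b⁻¹)⁻¹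
          = s * v * s⁻¹ * v⁻¹ * ((v * (b * v * b⁻¹) * v⁻¹) * (b * v * b⁻¹)⁻¹) := by group
        _ = s * v * s⁻¹ * v⁻¹ := by
          rw [D.Uc i hv ((mem_normalizer_iff.1 hbU v).1 hv)]; group
    exact mul_inv_eq_iff_eq_mul.1 h11

end FQ

namespace BgQ

/-- the torus relation: `h` normalises `W`, `Z`, `[b, w^h] = [b, w]^(h⁻¹)` -/
structure Rel (B W Z : Subgroup G) (h : G) : Prop where
  nW : h ∈ normalizer (W : Set G)
  nZ : h ∈ normalizer (Z : Set G)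
  rel : ∀ b ∈ B, ∀ w ∈ W, b * (h * w * h⁻¹) * b⁻¹ * (h * w * h⁻¹)⁻¹ = h⁻¹ * (b * w * b⁻¹ * w⁻¹) * h

theorem Rel.pow {B W Z : Subgroup G} {h : G} (hh : Rel B W Z h) (m : ℕ) : Rel B W Z (h ^ m) := by
  induction m with
  | zero => exact ⟨by simp, by simp, fun b _ w _ => by simp⟩
  | succ m ih =>
    refine ⟨pow_mem hh.nW _, pow_mem hh.nZ _, fun b hb w hw => ?_⟩
    have h1 : h ^ m * w * (h ^ m)⁻¹ ∈ W := (mem_normalizer_iff.1 ih.nW w).1 hw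
    have h2 := hh.rel b hb _ h1
    have h3 := ih.rel b hb w hw
    have e1 : h ^ (m + 1) * w * (h ^ (m + 1))⁻¹ = h * (h ^ m * w * (h ^ m)⁻¹) * h⁻¹ := by
      rw [pow_succ']; group
    have e2 : (h ^ (m + 1))⁻¹ * (b * w * b⁻¹ * w⁻¹) * h ^ (m + 1) =
        h⁻¹ * ((h ^ m)⁻¹ * (b * w * b⁻¹ * w⁻¹) * h ^ m) * h := by
      rw [pow_succ]; group
    rw [e1, e2, h2, h3]

variable [Finite G] {S : Sylow 2 G} {P B ZJ : Subgroup G} {L W Z C : Fin 2 → Subgroup G} {q : ℕ}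
  (h : Bg S P B ZJ L W Z C q)
include h

theorem comm_congr {i : Fin 2} {b x y : G} (hb : b ∈ B) (hx : x ∈ Z i) (hy : y ∈ W i) :
    b * (x * y) * b⁻¹ * (x * y)⁻¹ = b * y * b⁻¹ * y⁻¹ := by
  have h1 := (h.fr.blk i).cZ b hb x hx
  have h2 := (h.fr.blk i).com b hb y hy
  have h3 : x * (b * y * b⁻¹ * y⁻¹) = (b * y * b⁻¹ * y⁻¹) * x :=
    h.fr.Vc (h.fr.ZV i hx) (h.fr.ZV i h2)
  calc b * (x * y) * b⁻¹ * (x * y)⁻¹ = (b * x) * (y * b⁻¹ * y⁻¹) * x⁻¹ := by group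
    _ = x * (b * y * b⁻¹ * y⁻¹) * x⁻¹ := by rw [h1]; group
    _ = b * y * b⁻¹ * y⁻¹ := by rw [h3, mul_inv_cancel_right]

/-- a torus element which fixes one vector of `Z i` centralises `Z i` -/
theorem fix_one {i : Fin 2} {g z₀ : G} (hg : Rel B (W i) (Z i) g) (hz₀ : z₀ ∈ Z i) (hz1 : z₀ ≠ 1)
    (hfix : g⁻¹ * z₀ * g = z₀) {z : G} (hz : z ∈ Z i) : g⁻¹ * z * g = z := by
  obtain ⟨v, hv, hvZ⟩ : ∃ v ∈ W i, v ∉ Z i := by
    obtain ⟨b, hb, w, hw, hne⟩ := (h.fr.blk i).ne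
    exact ⟨w, hw, fun hc => hne ((h.fr.blk i).cZ b hb w hc)⟩
  obtain ⟨b₀, hb₀, -, e₀⟩ := h.root i v hv hvZ z₀ hz₀
  obtain ⟨b, hb, -, e⟩ := h.root i v hv hvZ z hz
  have hgv : g * v * g⁻¹ ∈ W i := (mem_normalizer_iff.1 hg.nW v).1 hv
  have h1 := hg.rel b₀ hb₀ v hv
  rw [e₀, hfix, ← e₀] at h1
  -- `x = v^g v⁻¹ ∈ Z i`
  set x := g * v * g⁻¹ * v⁻¹ with hx
  have hxW : x ∈ W i := mul_mem hgv (inv_mem hv)
  have hxv : g * v * g⁻¹ = x * v := by rw [hx]; group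
  have hxZ : x ∈ Z i := by
    by_contra hxZ
    have h2 : b₀ * x = x * b₀ := by
      rw [hxv] at h1
      have c1 : x * v = v * x := h.fr.Vc (h.fr.WV i hxW) (h.fr.WV i hv)
      have h3 : b₀ * (x * v) * b₀⁻¹ * (x * v)⁻¹ = (b₀ * x * b₀⁻¹ * x⁻¹) * (b₀ * v * b₀⁻¹ * v⁻¹) := by
        have h4 := (h.fr.blk i).com b₀ hb₀ v hv
        have h5 : x⁻¹ * (b₀ * v * b₀⁻¹ * v⁻¹) = (b₀ * v * b₀⁻¹ * v⁻¹) * x⁻¹ :=
          h.fr.Vc (h.fr.WV i (inv_mem hxW)) (h.fr.ZV i h4)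
        calc b₀ * (x * v) * b₀⁻¹ * (x * v)⁻¹ = b₀ * x * b₀⁻¹ * ((b₀ * v * b₀⁻¹ * v⁻¹) * x⁻¹) := by group
          _ = b₀ * x * b₀⁻¹ * (x⁻¹ * (b₀ * v * b₀⁻¹ * v⁻¹)) := by rw [h5]
          _ = _ := by group
      rw [h3] at h1
      have h6 : b₀ * x * b₀⁻¹ * x⁻¹ = 1 := by
        have := mul_right_cancel (h1.trans (one_mul _).symm)
        exact this
      exact mul_inv_eq_iff_eq_mul.1 (mul_inv_eq_one.1 h6)
    have h3 := (h.fr.blk i).free b₀ hb₀ x hxW hxZ h2 v hv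
    apply hz1
    rw [← e₀, h3]; group
  have h2 := hg.rel b hb v hv
  rw [hxv, comm_congr h hb hxZ hv, e] at h2
  exact h2.symm

/-- the torus relation with a prescribed action on `Z i` -/
theorem torR {i j : Fin 2} (hij : i ≠ j) {z z' : G} (hz : z ∈ Z i) (hz1 : z ≠ 1) (hz' : z' ∈ Z i) (hz1' : z' ≠ 1) :
    ∃ t : G, Rel B (W i) (Z i) t ∧ t ∈ centralizer (W j : Set G) ∧ t⁻¹ * z * t = z' := by
  rcases Nat.lt_or_ge 2 q with hq | hq
  · obtain ⟨v, hv, hvZ⟩ : ∃ v ∈ W i, v ∉ Z i := by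
      obtain ⟨b, hb, w, hw, hne⟩ := (h.fr.blk i).ne
      exact ⟨w, hw, fun hc => hne ((h.fr.blk i).cZ b hb w hc)⟩
    obtain ⟨b, hb, -, e⟩ := h.root i v hv hvZ z hz
    -- `[b, v'] = z'`
    have hsurj : ∃ v' ∈ W i, v' ∉ Z i ∧ b * v' * b⁻¹ * v'⁻¹ = z' := by
      have hbW : ∀ w ∈ W i, b * w * b⁻¹ * w⁻¹ ∈ Z i := fun w hw => (h.fr.blk i).com b hb w hw
      have hcomm : ∀ x ∈ W i, ∀ y ∈ W i, x * y = y * x := fun x hx y hy => h.fr.Vc (h.fr.WV i hx) (h.fr.WV i hy)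
      let f : W i →* Z i :=
        { toFun := fun w => ⟨b * w * b⁻¹ * (w : G)⁻¹, hbW w w.2⟩
          map_one' := Subtype.ext (by simp)
          map_mul' := fun x y => Subtype.ext (by
            change b * ((x : G) * y) * b⁻¹ * ((x : G) * y)⁻¹ = b * x * b⁻¹ * (x : G)⁻¹ * (b * y * b⁻¹ * (y : G)⁻¹)
            have h1 := hcomm (x : G)⁻¹ (inv_mem x.2) (b * y * b⁻¹ * (y : G)⁻¹) ((h.fr.blk i).ZV (hbW y y.2))
            calc b * ((x : G) * y) * b⁻¹ * ((x : G) * y)⁻¹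
                = b * x * b⁻¹ * ((b * y * b⁻¹ * (y : G)⁻¹) * (x : G)⁻¹) := by group
              _ = b * x * b⁻¹ * ((x : G)⁻¹ * (b * y * b⁻¹ * (y : G)⁻¹)) := by rw [h1]
              _ = _ := by group) }
      have hker : f.ker = (Z i).subgroupOf (W i) := by
        ext x
        rw [MonoidHom.mem_ker, mem_subgroupOf]
        constructor
        · intro hx
          by_contra hxZ
          have h1 : b * (x : G) * b⁻¹ * (x : G)⁻¹ = 1 := congrArg Subtype.val hx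
          have h2 : b * (x : G) = x * b := by
            have := mul_inv_eq_one.1 h1
            exact mul_inv_eq_iff_eq_mul.1 this
          have h3 := (h.fr.blk i).free b hb x x.2 hxZ h2 v hv
          apply hz1
          rw [← e, h3]; group
        · intro hx
          refine Subtype.ext ?_
          change b * (x : G) * b⁻¹ * (x : G)⁻¹ = 1
          rw [(h.fr.blk i).cZ b hb x hx]; group
      have hcard : Nat.card f.range = Nat.card (Z i) := by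
        have h1 := Subgroup.card_mul_index f.ker
        rw [Subgroup.index_ker] at h1
        rw [hker, Nat.card_congr (Subgroup.subgroupOfEquivOfLe (h.fr.blk i).ZV).toEquiv, (h.fr.blk i).card,
          h.fr.cardZ i] at h1
        rw [h.fr.cardZ i]
        exact Nat.eq_of_mul_eq_mul_left (by have := (h.fr.blk i).one; omega) h1
      have htop : f.range = ⊤ := Subgroup.eq_top_of_card_eq _ hcard
      have hz'' : (⟨z', hz'⟩ : Z i) ∈ f.range := by rw [htop]; exact mem_top _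
      obtain ⟨x, hx⟩ := hz''
      have hx' : b * (x : G) * b⁻¹ * (x : G)⁻¹ = z' := congrArg Subtype.val hx
      refine ⟨x, x.2, fun hc => hz1' ?_, hx'⟩
      rw [← hx', (h.fr.blk i).cZ b hb x hc]; group
    obtain ⟨v', hv', hvZ', e'⟩ := hsurj
    obtain ⟨t, htP, htC, htZ, ht, htv, -⟩ := (h.scal hq i).ex v hv hvZ v' hv' hvZ'
    have h1 := ht b hb v hv
    have h2 : t * v * t⁻¹ = (v'⁻¹ * (t * v * t⁻¹)) * v' := by
      have h3 : t * v * t⁻¹ ∈ W i := by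
        have h4 := h.fix htP htC i
        rw [← h4]
        exact ⟨v, hv, rfl⟩
      have h5 : v'⁻¹ * (t * v * t⁻¹) = (t * v * t⁻¹) * v'⁻¹ :=
        h.fr.Vc (h.fr.WV i (inv_mem hv')) (h.fr.WV i h3)
      rw [h5]; group
    rw [h2, comm_congr h hb htv hv', e', e] at h1
    refine ⟨t, ⟨mem_normalizer_iff_cj.2 (h.fix htP htC i), htZ, ht⟩, ?_, h1.symm⟩
    rw [← C_eq_W h hij]
    exact htC
  · have hq2 : q = 2 := le_antisymm hq (h.fr.blk i).one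
    have h2 : Nat.card (Z i) = 2 := by rw [h.fr.cardZ i, hq2]
    obtain ⟨c, hc, hcu⟩ := (Nat.card_eq_two_iff' (1 : Z i)).1 h2
    have hall : ∀ x ∈ Z i, x ≠ 1 → x = (c : G) := fun x hx e =>
      congrArg Subtype.val (hcu ⟨x, hx⟩ fun e' => e (congrArg Subtype.val e'))
    exact ⟨1, ⟨one_mem _, one_mem _, fun b _ w _ => by simp⟩, one_mem _, by
      rw [hall z hz hz1, hall z' hz' hz1']; group⟩

/-- the square root of a torus element on `Z i` -/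
theorem torS {i : Fin 2} {t : G} (ht : Rel B (W i) (Z i) t) :
    ∃ k : ℕ, ∀ z ∈ Z i, (t ^ k)⁻¹ * ((t ^ k)⁻¹ * z * t ^ k) * t ^ k = t⁻¹ * z * t := by
  have : Fact (Nat.Prime 2) := ⟨Nat.prime_two⟩
  obtain ⟨a, m, hm, ho⟩ := Nat.exists_eq_two_pow_mul_odd (orderOf_pos t).ne'
  -- `g = t ^ m` is a 2-element
  have hg := ht.pow m
  have hg2 : IsPGroup 2 (zpowers (t ^ m)) := by
    have h1 : (t ^ m) ^ 2 ^ a = 1 := by
      rw [← pow_mul, mul_comm, ← ho, pow_orderOf_eq_one]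
    intro x
    obtain ⟨x, hx⟩ := x
    obtain ⟨n, rfl⟩ := mem_zpowers_iff.1 hx
    refine ⟨a, Subtype.ext ?_⟩
    change ((t ^ m) ^ n) ^ 2 ^ a = 1
    rw [← zpow_natCast, ← zpow_mul, mul_comm, zpow_mul, zpow_natCast, h1, one_zpow]
  have hgn : zpowers (t ^ m) ≤ normalizer (Z i : Set G) := by
    rw [zpowers_le]; exact hg.nZ
  have hbot : ∀ X : Subgroup G, X ≤ normalizer ((⊥ : Subgroup G) : Set G) := fun X => by
    rw [normalizer_eq_top]; exact le_top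
  obtain ⟨z₀, hz₀, hz1, hfix⟩ := IId.SideOf.exists_fixed_mod (A := ⊥) (B := Z i) (T := zpowers (t ^ m))
      (fun hc => h.Z_ne i (le_bot_iff.1 hc)) (hbot _) (h.Z_two i) hg2 (hbot _) hgn
  rw [mem_bot] at hz1
  have hfix' : (t ^ m)⁻¹ * z₀ * t ^ m = z₀ := by
    have h1 := hfix (t ^ m)⁻¹ (inv_mem (mem_zpowers _))
    rw [mem_bot, inv_inv, mul_inv_eq_one] at h1
    exact h1
  obtain ⟨k, hk⟩ := hm
  refine ⟨k + 1, fun z hz => ?_⟩
  have hz' : t⁻¹ * z * t ∈ Z i := (mem_normalizer_iff''.1 ht.nZ z).1 hz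
  have h3 := fix_one h hg hz₀ hz1 hfix' hz'
  rw [← h3]
  have e1 : t ^ m = t ^ k * t ^ k * t := by
    rw [hk, two_mul, pow_succ, pow_add]
  rw [e1, pow_succ]
  have c2 : t ^ k * t * (t ^ k * t) = t * (t ^ k * t ^ k * t) := by
    rw [← pow_succ, ← pow_add, ← pow_add, ← pow_succ, ← pow_succ']
    congr 1
    omega
  calc (t ^ k * t)⁻¹ * ((t ^ k * t)⁻¹ * z * (t ^ k * t)) * (t ^ k * t)
      = (t ^ k * t * (t ^ k * t))⁻¹ * z * (t ^ k * t * (t ^ k * t)) := by group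
    _ = (t * (t ^ k * t ^ k * t))⁻¹ * z * (t * (t ^ k * t ^ k * t)) := by rw [c2]
    _ = _ := by group

/-- **`K` induces the full root group.** -/
theorem root_of (hTI : TI (Z 0)) (hnl : NonLoc (normalizer (Z 0 : Set G)) (normalizer (Z 1 : Set G)))
    {i j : Fin 2} (hij : i ≠ j) {K : Subgroup G} (hKn : HH (Z i) ≤ normalizer (K : Set G))
    (hKZ : K ≤ centralizer (Z i : Set G))
    (hs : ∃ s ∈ K, s ∈ normalizer (W i : Set G) ∧ s ∉ centralizer (W i : Set G)) :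
    ∀ v ∈ W i, v ∉ Z i → ∀ z ∈ Z i, ∃ s ∈ K, s ∈ normalizer (W i : Set G) ∧ s * v * s⁻¹ * v⁻¹ = z := by
  have D := FQ.of_bg h hTI hnl
  intro v hv hvZ z hz
  by_cases hz1 : z = 1
  · exact ⟨1, one_mem _, one_mem _, by rw [hz1]; group⟩
  obtain ⟨s, hsK, hsW, hsc⟩ := hs
  obtain ⟨s₁, hs₁, hs₁W, b, hb, hbc, e⟩ := D.exists_lin hij ((D.B_le_HH i).trans hKn) hKZ hsK hsW hsc
  have hzv : b * v * b⁻¹ * v⁻¹ ∈ Z i := D.com i b hb v hv
  have hzv1 : b * v * b⁻¹ * v⁻¹ ≠ 1 := fun h1 =>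
    hbc (D.free i b hb v hv hvZ (mul_inv_eq_iff_eq_mul.1 (mul_inv_eq_one.1 h1)))
  obtain ⟨t, ht, -, et⟩ := torR h hij hzv hzv1 hz hz1
  obtain ⟨k, hk⟩ := torS h ht
  have hk' := ht.pow k
  set g := t ^ k with hg
  refine ⟨g⁻¹ * s₁ * g, (mem_normalizer_iff''.1 (hKn hk'.nZ) s₁).1 hs₁,
    mul_mem (mul_mem (inv_mem hk'.nW) hs₁W) hk'.nW, ?_⟩
  have hgv : g * v * g⁻¹ ∈ W i := (mem_normalizer_iff.1 hk'.nW v).1 hv
  have e1 : g⁻¹ * s₁ * g * v * (g⁻¹ * s₁ * g)⁻¹ * v⁻¹ =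
      g⁻¹ * ((s₁ * (g * v * g⁻¹) * s₁⁻¹) * (g * v * g⁻¹)⁻¹) * g := by group
  rw [e1, e _ hgv, hk'.rel b hb v hv, hk _ hzv, et]

end BgQ

end Cfsg.Agent.Omega.NO3S.EThree

end
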