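import Cfsg.Agent.Mrg.Omega.NO3S.EThree.NrIn
import Cfsg.Agent.Mrg.Omega.NO3S.EThree.DoneQ
import Cfsg.Agent.Mrg.Omega.EK3.Q.Def
import Cfsg.Agent.Mrg.Omega.KL.QF.OfLev
import Cfsg.Agent.Mrg.Omega.TCQ.R.LvOf
import Cfsg.Agent.Mrg.Omega.NO3S.EThree.RegX
import Cfsg.Agent.Mrg.Omega.OM.PG.PcK

section


/-!
# UNI, weak form, for the data of row (7) (`k = 2`, `q ≥ 4`), every stage, no hypothesis

* `MQ.uni` : `T ≥ B` Sylow in `C(Z i)`, `R` minimal over `T` in `C(Z i)`, `R ≰ N(Z j)` : `R ≤ N(W j)`;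
* `MQ.uniQ : UniQ Z W B`, `MQ.doneQ` : LEMMA 0 + STEP F for both `i`;
* **`uIn : UIn K`**, **`nrIn : NrIn K`**.
-/

set_option autoImplicit false
set_option linter.unusedSectionVars false

namespace Cfsg.Agent.Omega.NO3S.EThree.Row7

open Subgroup Cfsg Cfsg.Agent.ZN.ChoiceBase
open Cfsg.Agent.ZN (jj zj bau zc zl o2)
open Cfsg.Agent.ZN.ChoiceSit (Syl)
open Cfsg.Agent.Omega.OM
open Cfsg.Agent.Omega.OM.PG (NN HH)
open Cfsg.Agent.Omega.NO3S.EThree
open Cfsg.Agent.Omega.NO3S.EThree.Frame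
open Cfsg.Agent.Omega.MinPar (NonLoc)
open Cfsg.Agent.Omega.Frame (Cls)
open Cfsg.Agent.Omega.Node.MultiOf
open Cfsg.Agent.MinSimple.MinParabolic (IsMinPar)
open Cfsg.Agent.MinSimple.VModule (le_normalizer_o2 o2_isPGroup)
open Cfsg.Agent.Omega.KL.QF Cfsg.Agent.Omega.KL.QF.PtV
open Cfsg.Agent.Omega.KL.QF.OfLev (char2 nor_Zj)
open scoped Pointwise

universe u

variable {G : Type u} [Group G]

namespace MQ

variable [Finite G] {S : Sylow 2 G} {P K' B ZJ : Subgroup G} {L W Z C : Fin 2 → Subgroup G} {q : ℕ}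

/-- a 2-group over `B` which centralises `Z i` normalises `Z j` and `W j` -/
theorem T_nor (h : MQ S P K' B ZJ L W Z C q) {i j : Fin 2} (hij : i ≠ j) {T : Subgroup G} (hT2 : IsPGroup 2 T)
    (hBT : B ≤ T) (hTi : T ≤ centralizer (Z i : Set G)) :
    T ≤ normalizer (Z j : Set G) ∧ T ≤ normalizer (W j : Set G) := by
  have key : ∀ t ∈ T, cj t (W j) = W j ∧ cj t (Z j) = Z j := by
    intro t ht
    obtain ⟨σ, hσ⟩ := h.bg.perm_W (h.bg.le_norm_B hT2 hBT ht)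
    have h0 : cj t (Z i) = Z i := mem_normalizer_iff_cj.1 (centralizer_le_normalizer _ (hTi ht))
    have hσi : σ i = i := h.bg.Z_inj ((hσ i).2.symm.trans h0)
    have hσj : σ j = j := by
      have hne : σ j ≠ i := fun e => hij (σ.injective (hσi.trans e.symm))
      have h3 : ∀ a b c : Fin 2, a ≠ b → c ≠ a → c = b := by decide
      exact h3 i j (σ j) hij hne
    have h4 := hσ j
    rwa [hσj] at h4
  exact ⟨fun t ht => mem_normalizer_iff_cj.2 (key t ht).2, fun t ht => mem_normalizer_iff_cj.2 (key t ht).1⟩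

/-- the partner of `i` -/
theorem exists_pa' (h : MQ S P K' B ZJ L W Z C q) {i j : Fin 2} (hij : i ≠ j) : ∃ s, Pa (S : Subgroup G) W i j s := by
  obtain ⟨l, s, p⟩ := h.bg.exists_partner i
  have h3 : ∀ a b c : Fin 2, a ≠ b → a ≠ c → c = b := by decide
  have e : l = j := h3 i j l hij p.ne
  subst e
  exact ⟨s, p⟩

/-- **UNI, weak form.** -/
theorem uni (h : MQ S P K' B ZJ L W Z C q) {i j : Fin 2} (hij : i ≠ j) {T : Subgroup G} (hBT : B ≤ T)
    (hT : Syl T (centralizer (Z i : Set G))) {R : Subgroup G} (hR : IsMinPar T R)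
    (hRC : R ≤ centralizer (Z i : Set G)) (hne : ¬ R ≤ normalizer (Z j : Set G)) :
    R ≤ normalizer (W j : Set G) := by
  obtain ⟨s, p⟩ := h.exists_pa' hij
  have h2 : ∀ l : Fin 2, l = i ∨ l = j := by
    have h3 : ∀ a b : Fin 2, a ≠ b → ∀ l : Fin 2, l = a ∨ l = b := by decide
    exact h3 i j hij
  have hq2 : 2 < q := lt_of_lt_of_le (by decide) h.hq
  obtain ⟨hTZ, hTW⟩ := h.T_nor hij hT.2.1 hBT hT.1
  have hTR : Syl T R := ⟨hR.le, hT.2.1, fun Q hQ h3 hle => hT.2.2 Q (hQ.trans hRC) h3 hle⟩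
  have hc := char2 h.bg (i := i) (hBT.trans hR.le) hRC
  -- `R` moves `Ω₁Z(T)`
  have hZT : Z j ≤ T := ((h.bg.fr.blk j).ZV.trans (W_le_B h.bg j)).trans hBT
  have hZne : ¬ Z j ≤ (⊥ : Subgroup G) := fun e => h.bg.Z_ne j (le_bot_iff.1 e)
  obtain ⟨x, hx, hx1, hfix⟩ := exists_fix_mod (X := T) (T := Z j) (K := ⊥) hT.2.1 hZT hTZ (fun t _ => by
    rw [mem_normalizer_iff]
    intro y
    simp only [mem_bot]
    exact (conj_eq_one_iff).symm) hZne
  have hx1' : x ≠ 1 := fun e => hx1 (by rw [e]; exact one_mem _)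
  have hxT : x ∈ zc T := mem_zc.2 ⟨hZT hx, h.bg.fr.Vsq (h.bg.fr.ZV j hx), fun t ht => by
    have h3 := hfix t ht
    rw [mem_bot] at h3
    exact mul_inv_eq_iff_eq_mul.1 (mul_inv_eq_one.1 h3)⟩
  have hZ : ¬ R ≤ centralizer (zc T : Set G) := by
    intro hcR
    apply hne
    intro r hr
    refine mem_normalizer_iff_cj.2
      (OfBg.ti h.bg (h.ti i) (i := i) (j := j) (x := x) ((OfBg.ptj h.bg p).conj r) (OfBg.ptj h.bg p) ?_ hx hx1')
    rw [mem_cj]
    have h3 := mem_centralizer_iff.1 (hcR hr) x hxT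
    have e : r⁻¹ * x * r = x := by rw [mul_assoc, h3]; group
    rwa [e]
  have hK : ¬ K' ≤ o2 R := fun h1 => hne (nor_Zj h.bg p h2 (h.ti i) hRC
    ((le_normalizer_o2 R).trans (h.mul.lb.nrm _ (o2_isPGroup R) h1)))
  obtain ⟨L', V', hb, hLR, hRL⟩ := EK3.Q.OfMul.blk_mul h.mul le_rfl hq2 hBT R hR hTR hc hK hZ
  obtain ⟨l, rfl, -⟩ := EK3.Q.OfMul.uni_mul h.mul le_rfl hq2 L' V' hb
  obtain ⟨m, h7, -⟩ := NonLocQ.blkU_of le_rfl h.mul L' (W l) hb
  have hN : UniPlus.NB B L' (W l) (Z m) q := ⟨h7, h.bg.fr.cardZ m⟩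
  have hm : m = j := by
    rcases h2 m with rfl | rfl
    · exfalso
      apply h.bg.Z_ne m
      rw [eq_bot_iff]
      intro z hz
      exact mem_bot.2 (hN.cent hz fun x hx => (mem_centralizer_iff.1 (hRC (hLR hx)) z hz).symm)
    · rfl
  subst hm
  have hl : l = m := by
    by_contra hlm
    apply h.bg.Z_ne m
    rw [eq_bot_iff, ← h.bg.W_disj hlm]
    exact le_inf hN.ZV (h.bg.fr.blk m).ZV
  subst hl
  refine hRL.trans (sup_le (fun x hx => ?_) hTW)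
  refine mem_normalizer_of_cj_le ?_
  rintro _ ⟨v, hv, rfl⟩
  exact hN.nV x hx v hv

theorem uni0 (h : MQ S P K' B ZJ L W Z C q) : DoneU.Uni0 Z W B := fun _ hBT hT _ hR hRC hne =>
  h.uni (by decide) hBT hT hR hRC hne

theorem uniQ (h : MQ S P K' B ZJ L W Z C q) : UniQ Z W B := fun i _ hij =>
  ⟨(S : Subgroup G) ⊓ centralizer (Z i : Set G), B_le_T h.bg i, syl_T h.bg i, fun _ hR hRC hne =>
    h.uni hij (B_le_T h.bg i) (syl_T h.bg i) hR hRC hne⟩

/-- **LEMMA 0 and STEP F for both `i`.** -/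
theorem doneQ (h : MQ S P K' B ZJ L W Z C q) (i : Fin 2) {K : Subgroup G} (hKC : K ≤ centralizer (Z i : Set G))
    (hN : normalizer (Z i : Set G) ≤ normalizer (K : Set G))
    (hmv : ∃ x ∈ K, IsPGroup 2 (zpowers x) ∧ x ∉ centralizer (NN Z (Z i) : Set G)) :
    ¬ K ≤ normalizer (W i : Set G) := h.fq.done h.bg.wc h.uniQ hKC hN hmv

end MQ

/-- **UNI, weak form, for row (7).** -/
theorem uIn {K : Cls.{u}} : UIn K := fun _ _ _ _ _ _ _ _ _ _ _ _ _ _ h => h.uni0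

/-- **No radical, row (7).** -/
theorem nrIn {K : Cls.{u}} : NrIn K := nrIn_of uIn

end Cfsg.Agent.Omega.NO3S.EThree.Row7

end

section


/-!
# Row (7)(A): `RIn`, `VIn` from MLK

* `MQ.lvIn : LvIn Z W B` : the level inputs of THEOREM N, no hypothesis;
* **`rIn : MLK → RIn K`** : (1a), (1b) of THEOREM R;
* **`vIn : MLK → VIn K`** : `W i ≰ N_i` is impossible.
-/

set_option autoImplicit false
set_option linter.unusedSectionVars false

namespace Cfsg.Agent.Omega.NO3S.EThree.Row7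

open Subgroup Cfsg Cfsg.Agent.ZN.ChoiceBase
open Cfsg.Agent.Omega.OM
open Cfsg.Agent.Omega.NO3S.EThree
open Cfsg.Agent.Omega.NO3S.EThree.Frame
open Cfsg.Agent.Omega.Frame (Cls)
open Cfsg.Agent.Omega.Node.MultiOf
open Cfsg.Agent.Omega.TCQ.R

universe u

variable {G : Type u} [Group G]

/-- **The level inputs of THEOREM N.** -/
theorem MQ.lvIn [Finite G] {S : Sylow 2 G} {P K' B ZJ : Subgroup G} {L W Z C : Fin 2 → Subgroup G} {q : ℕ}
    (h : MQ S P K' B ZJ L W Z C q) : Plug.LvIn Z W B :=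
  Plug.LvIn.of_mul h.mul (h.ti 0) h.nonloc fun i _ h1 h2 h3 => h.doneQ i h1 h2 h3

/-- **`RIn`: (1a) and (1b).** -/
theorem rIn {K : Cls.{u}} (hML : ML.Final.MLK.{u, u}) : RIn K := by
  intro G _ _ hG S P K' B ZJ L W Z C q h hW hrad
  have D : FQ Z W B q := h.fq
  have noD := NoDQ.of_bg h.bg hML (h.ti 0) h.nonloc
  have noQ := NoQQ.of_bg h.bg hML (h.ti 0) h.nonloc
  have noP := NoP.of_bg h.bg hML (h.ti 0) h.nonloc
  refine ⟨PlugA.ta_of D.toPP (PG.Peel.xf D.toPP (D.XW_eab 0) (D.XW_le_Q 0)) noP D.tip ?_,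
    End.oneB_of D noD noQ h.lvIn hrad hW⟩
  intro A hA2 hAc hAX hmv hH
  exact End.false_of_H D noD noQ h.lvIn (hrad 0) (hW 0) hA2 hAc hAX hmv hH

/-- **Row (7), (A): `W i ≰ N_i` is impossible.** -/
theorem vIn {K : Cls.{u}} (hML : ML.Final.MLK.{u, u}) : VIn K := vIn_of hML (rIn hML) nrIn

end Cfsg.Agent.Omega.NO3S.EThree.Row7

end
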