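import Cfsg.Agent.Mrg.Omega.NO3S.EThree.Row7B
import Cfsg.Agent.Mrg.Omega.TC.UniLev
import Cfsg.Agent.Mrg.Omega.KL.QF.KInX
import Cfsg.Agent.Mrg.Omega.NO3S.EThree.UInOf

section


/-!
# Row (7) over the case (L) of GammaFF: `EX K (k = 2 ∧ 4 ≤ q)` over `MulL`

* `nonloc` : `NLoc (KX ..)` gives `NonLoc (N(Z 0)) (N(Z 1))`;
* `gen` : `GenU`, `FixU` from `WeirdK` (`NoW`, `KInX.weirdK_of`);
* `TiX K`, `NoWX K` : the sockets TI and NoW; `OffX K` : (V!);
* **`eX_of : MLK → Ext → TiX K → NoWX K → OffX K → EX K (k = 2 ∧ 4 ≤ q)`**.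
-/

set_option autoImplicit false
set_option linter.unusedSectionVars false

namespace Cfsg.Agent.Omega.NO3S.EThree.Row7X

open Subgroup Cfsg Cfsg.Agent.ZN.ChoiceBase
open Cfsg.Agent.ZN (jj zj bau zc zl o2)
open Cfsg.Agent.ZN.ChoiceSit (Syl)
open Cfsg.Agent.Omega.OM
open Cfsg.Agent.Omega.Frame (Cls)
open Cfsg.Agent.Omega.NO3S.Level (nxt)
open Cfsg.Agent.Omega.NO3S.EThree
open Cfsg.Agent.Omega.NO3S.EThree.Frame
open Cfsg.Agent.Omega.NO3S.EThree.Row7 (Nn vec2 vec2' fin2)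
open Cfsg.Agent.Omega.NO3S.EThree.Row7B
open Cfsg.Agent.Omega.MinPar (NonLoc)
open Cfsg.Agent.Omega.Node.MultiOf Cfsg.Agent.Omega.Node.MulG Cfsg.Agent.Omega.Node.MulX
open Cfsg.Agent.Omega.KL.QF Cfsg.Agent.Omega.KL.QF.OfBg Cfsg.Agent.Omega.KL.QF.PtV Cfsg.Agent.Omega.KL.QF.OfTop
open Cfsg.Agent.Omega.KL.QF.KInX (NoW weirdK_of)
open scoped Pointwise

universe u

section

variable {G : Type u} [Group G] [Finite G] {S : Sylow 2 G} {P B ZJ : Subgroup G} {k : ℕ}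
  {L W Z C A : Fin k → Subgroup G} {q : ℕ}

/-- a block over `B` with module in `V_P` centralises all `Z j` but one -/
theorem blk_cent (h : MulL S P B ZJ L W Z C A q) {L' V' : Subgroup G} (hb : FBX B (zl (S : Subgroup G) P) L' V') :
    ∃ i, ∀ j, i ≠ j → L' ≤ centralizer (Z j : Set G) := by
  obtain ⟨Z', -, i, -, -, -, h1, -⟩ := h.uni hb
  refine ⟨i, fun j hij l hl => mem_centralizer_iff.2 fun z hz => ?_⟩
  exact ((h1 z (h.bg.fr.Z_le j hz)).1 ((h.bg.fr.blk j).ZV.trans (h.bg.fr.WjC i j hij) hz) l hl).symm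

end

section two

variable {G : Type u} [Group G] [Finite G] {S : Sylow 2 G} {P B ZJ : Subgroup G}
  {L W Z C A : Fin 2 → Subgroup G} {q : ℕ}

/-- **NonLoc over `MulL`.** -/
theorem nonloc (h : MulL S P B ZJ L W Z C A q) (hE : NLoc (KX B ZJ (zl (S : Subgroup G) P))) :
    NonLoc (normalizer (Z 0 : Set G)) (normalizer (Z 1 : Set G)) := by
  have hc : centralizer (ZJ : Set G) ≤ normalizer (Z 0 : Set G) :=
    (centralizer_le (h.bg.fr.Z_le 0)).trans (centralizer_le_normalizer _)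
  intro U hU h0 h1
  refine hE U hU (sup_le (hc.trans h0) (iSup_le ?_))
  rintro ⟨⟨L', V'⟩, hb⟩
  obtain ⟨l, hl⟩ := blk_cent h hb
  rcases fin2 l with rfl | rfl
  · exact ((hl 1 (by decide)).trans (centralizer_le_normalizer _)).trans h1
  · exact ((hl 0 (by decide)).trans (centralizer_le_normalizer _)).trans h0

/-- **`GenU`, `FixU` over `MulL`.** -/
theorem gen (h : MulL S P B ZJ L W Z C A q) (hTI : ∀ i, TI (Z i)) (hw : WeirdK (S : Subgroup G) (o2 P) Z 0 1) :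
    GenU (S : Subgroup G) B ZJ W Z q 0 1 ∧ FixU (S : Subgroup G) P W Z 0 1 := by
  obtain ⟨s, p⟩ := KInG.exists_pa h.bg
  have hF := h.fr
  have e := h.cl.zc_eq
  have hF' : Lev.Uni.FrL B (o2 P) (zl (S : Subgroup G) P) (zc (o2 P)) ZJ L W Z C A q := by rw [e]; exact hF
  exact ⟨OfMul.genU_of h.bg p (fun l => fin2 l)
      (genV_top h.bg p (fun l => fin2 l) (hTI 0) h.cl.levQ h.eZ h.eqB hF' hw),
    fixU_top h.bg h.cl.levQ le_rfl hF' hw⟩

end two

section sockets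

variable (K : Cls.{u})

/-- **socket (TI)**, `k = 2`, `q ≥ 4`, over `MulL`. -/
def TiX : Prop :=
  ∀ (G : Type u) [Group G] [Finite G], K G → ∀ (S : Sylow 2 G) (P B ZJ : Subgroup G)
    (L W Z C A : Fin 2 → Subgroup G) (q : ℕ), 4 ≤ q → MulL S P B ZJ L W Z C A q →
      NLoc (KX B ZJ (zl (S : Subgroup G) P)) → ∀ i, TI (Z i)

/-- **socket (NoW)**, `k = 2`, `q ≥ 4`, over `MulL`: no weird `Y ≤ C_G(Z 0)`. -/
def NoWX : Prop :=
  ∀ (G : Type u) [Group G] [Finite G], K G → ∀ (S : Sylow 2 G) (P B ZJ : Subgroup G)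
    (L W Z C A : Fin 2 → Subgroup G) (q : ℕ), 4 ≤ q → MulL S P B ZJ L W Z C A q →
      NLoc (KX B ZJ (zl (S : Subgroup G) P)) → (∀ i, TI (Z i)) → NoW S P Z 1

/-- **socket (V!)** over `MulL`. -/
def OffX : Prop :=
  ∀ (G : Type u) [Group G] [Finite G], K G → ∀ (S : Sylow 2 G) (P B ZJ : Subgroup G)
    (L W Z C A : Fin 2 → Subgroup G) (q : ℕ), 4 ≤ q → MulL S P B ZJ L W Z C A q →
      NLoc (KX B ZJ (zl (S : Subgroup G) P)) → (∀ i, TI (Z i)) → ∀ i, ∀ F ≤ B, B ≤ normalizer (F : Set G) →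
        (∀ x ∈ F, ∀ y ∈ F, x * y = y * x) → (∀ x ∈ F, x ^ 2 = 1) → W i ≤ F →
          ∃ A ≤ B, ¬ A ≤ centralizer (F : Set G) ∧
            (centralizer (A : Set G)).relIndex F ≤ (centralizer (F : Set G)).relIndex A

end sockets

variable {K : Cls.{u}}

/-- **Row (7) over `MulL`, from the sockets.** -/
theorem eX_of_off (hML : ML.Final.MLK.{u, u}) (hE : ML.Ex.Two.Ext.{u, u}) (hT : TiX K) (hW : NoWX K)
    (hO : OffX K) : EX K fun k q => k = 2 ∧ 4 ≤ q := by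
  rintro G _ _ hG S P B ZJ k L W Z C A q - ⟨rfl, hq⟩ hM hN
  have hti := hT G hG S P B ZJ L W Z C A q hq hM hN
  have hg := gen hM hti (weirdK_of hM.bg hti (hW G hG S P B ZJ L W Z C A q hq hM hN hti))
  exact ((MB.of_gen hM.bg hq hti (nonloc hM hN) hg.1 hg.2
    (hO G hG S P B ZJ L W Z C A q hq hM hN hti)).false hML hE).elim

end Cfsg.Agent.Omega.NO3S.EThree.Row7X

end

section


/-!
# Row (7): `uIn`, `nrIn` are in `UInOf.lean` (helper381)

This file is kept only so that an `import` of it works.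
-/

end
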