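import Cfsg.Agent.Mrg.Omega.NO3S.EThree.Row7
import Cfsg.Agent.Mrg.Omega.EK3.Q.Claim
import Cfsg.Agent.Mrg.Omega.EK3.Q.Def


/-!
# Row (7) (`k = 2`, `q ≥ 4`): TI or the K-shape of (4F), every stage

* `ti_or` : `(∀ i, TI (Z i))`, or `q = 4`, `C_{Z i}(T*) = ⟨z i⟩` has order 2 and for both `i` some `f ∈ C_G(z 0, z 1)`
  normalises `W i` and not `Z i`;
* `FourK K` : the socket of the second case; `eOf_split` : **row (7)** from `FourK`, `NonLocIn`, `VIn`, `KIn`.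
-/

set_option autoImplicit false
set_option linter.unusedSectionVars false

namespace Cfsg.Agent.Omega.NO3S.EThree.Row7Split

open Subgroup Cfsg Cfsg.Agent.ZN.ChoiceBase
open Cfsg.Agent.ZN (jj zj bau zc zl o2)
open Cfsg.Agent.Omega.OM
open Cfsg.Agent.Omega.NO3S.EThree.Frame
open Cfsg.Agent.Omega.MinPar (NonLoc)
open Cfsg.Agent.Omega.Frame (Cls)
open Cfsg.Agent.Omega.Node.MultiOf
open Cfsg.Agent.Omega.NO3S.EThree.Row7 (MQ NonLocIn VIn KIn Nn fin2)
open Cfsg.Agent.Omega.EK3.Q (HZ)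

universe u

/-- **TI or the K-shape of (4F).** -/
theorem ti_or {G : Type u} [Group G] [Finite G] {S : Sylow 2 G} {P K B ZJ : Subgroup G}
    {L W Z C : Fin 2 → Subgroup G} {q : ℕ} (h : Mul S P K B ZJ L W Z C q) (hq : 4 ≤ q) :
    (∀ i, TI (Z i)) ∨ (q = 4 ∧ ∃ z : Fin 2 → G, HZ S W Z z ∧
      ∀ i, ∃ f ∈ (⨅ l, centralizer ({z l} : Set G)),
        f ∈ normalizer (W i : Set G) ∧ f ∉ normalizer (Z i : Set G)) := by
  have uni := EK3.Q.OfMul.uni_mul h le_rfl (by omega)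
  have blk : ∀ T : Subgroup G, B ≤ T → TC.OfMul.BlkS K B T := fun T hT =>
    EK3.Q.OfMul.blk_mul h le_rfl (by omega) hT
  rcases EK3.Q.split h le_rfl hq blk uni with h1 | ⟨rfl, z, hz, hne⟩
  · left
    intro i
    refine SWQ.ti_of_cent h.bg fun z hz hz1 => ?_
    obtain ⟨j, hj⟩ := h.bg.two i
    refine le_trans (le_inf le_rfl (le_iInf fun l => ?_)) (h1 i j (Ne.symm hj) z hz hz1)
    have h2 : ∀ a b c : Fin 2, a ≠ b → a ≠ c → b ≠ c → False := by decide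
    exact (h2 _ _ _ l.2.1 l.2.2 (Ne.symm hj)).elim
  · exact Or.inr ⟨rfl, z, hz, EK3.Q.hp h le_rfl blk uni hz hne⟩

/-- The K-shape of (4F), `k = 2`. -/
def FourK (K : Cls.{u}) : Prop :=
  ∀ (G : Type u) [Group G] [Finite G], K G → ∀ (S : Sylow 2 G) (P K' B ZJ : Subgroup G)
    (L W Z C : Fin 2 → Subgroup G), Mul S P K' B ZJ L W Z C 4 → NLoc (KZ B ZJ) →
      ∀ z : Fin 2 → G, HZ S W Z z →
        (∀ i, ∃ f ∈ (⨅ l, centralizer ({z l} : Set G)),
          f ∈ normalizer (W i : Set G) ∧ f ∉ normalizer (Z i : Set G)) → IsKnownSimple' G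

/-- **Row (7)** from its sockets. -/
theorem eOf_split {K : Cls.{u}} (hF : FourK K) (hN : NonLocIn K) (hV : VIn K) (hK : KIn K) :
    EOf K fun k q => k = 2 ∧ 4 ≤ q := by
  rintro G _ _ hG S P K' B ZJ k L W Z C q - ⟨rfl, hq⟩ hM hNL
  rcases ti_or hM hq with hti | ⟨rfl, z, hz, hp⟩
  · have h : MQ S P K' B ZJ L W Z C q := ⟨hM, hq, hNL, hti, hN G hG S P K' B ZJ L W Z C q hq hM hNL⟩
    by_cases h0 : W 0 ≤ Nn Z 0
    · refine hK G hG S P K' B ZJ L W Z C q h fun i => ?_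
      rcases fin2 i with rfl | rfl
      · exact h0
      · exact h.le_iff.1 h0
    · refine (hV G hG S P K' B ZJ L W Z C q h fun i => ?_).elim
      rcases fin2 i with rfl | rfl
      · exact h0
      · exact fun h1 => h0 (h.le_iff.2 h1)
  · exact hF G hG S P K' B ZJ L W Z C hM hNL z hz hp

end Cfsg.Agent.Omega.NO3S.EThree.Row7Split
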