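import Cfsg.Agent.Mrg.Omega.NO3S.EThree.NrIn
import Cfsg.Agent.Mrg.Omega.NO3S.EThree.DoneQ
import Cfsg.Agent.Mrg.Omega.NO3S.EThree.RegX
import Cfsg.Agent.Mrg.Omega.OM.PG.PcK
import Cfsg.Agent.Mrg.Omega.TCQ.R.LvOf
import Cfsg.Agent.Mrg.Omega.KL.QF.KIn
import Cfsg.Agent.Mrg.Omega.KL.QF.OfLev
import Cfsg.Agent.Mrg.Omega.NO3S.EThree.TiNegY
import Cfsg.Agent.Mrg.Omega.NO3S.EThree.FourTwo.Plug
import Cfsg.Agent.Mrg.Omega.KL.QF.QIn
import Cfsg.Agent.Mrg.Omega.TCQ.VBangQ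

section


/-!
# Row (7) (`k = 2`, `q ≥ 4`, case (E), TI) without the level: from `Bg` to the contradiction

* `MB S P B ZJ L W Z C q` : `Bg`, `4 ≤ q`, TI, nonlocal, `UniQ` (UNI, weak form), (V!) for groups `≥ W i`, and the frame
  `QFr` if `W 0 ≤ N_0`;
* **`MB.false : MLK → Ext → MB .. → False`.**

Used for `Mul` (the levels of `HypL`) and for `MulL` (the case (L) of GammaFF).
-/

set_option autoImplicit false
set_option linter.unusedSectionVars false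

namespace Cfsg.Agent.Omega.NO3S.EThree.Row7B

open Subgroup Cfsg Cfsg.Agent.ZN.ChoiceBase
open Cfsg.Agent.ZN (jj zj bau zc zl o2)
open Cfsg.Agent.ZN.ChoiceSit (Syl)
open Cfsg.Agent.Omega.OM
open Cfsg.Agent.Omega.OM.PG.Peel (XW)
open Cfsg.Agent.Omega.OM.PG.TwoI (TA')
open Cfsg.Agent.Omega.NO3S.EThree
open Cfsg.Agent.Omega.NO3S.EThree.Frame
open Cfsg.Agent.Omega.NO3S.EThree.Row7 (Nn vec2 vec2' fin2)
open Cfsg.Agent.Omega.MinPar (NonLoc)
open Cfsg.Agent.Omega.TCQ.R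
open Cfsg.Agent.Omega.KL.QF (QFr)
open scoped Pointwise

universe u

variable {G : Type u} [Group G] [Finite G]

/-- **The data of row (7), without the level.** -/
structure MB (S : Sylow 2 G) (P B ZJ : Subgroup G) (L W Z C : Fin 2 → Subgroup G) (q : ℕ) : Prop where
  bg : Bg S P B ZJ L W Z C q
  hq : 4 ≤ q
  ti : ∀ i, TI (Z i)
  nonloc : NonLoc (normalizer (Z 0 : Set G)) (normalizer (Z 1 : Set G))
  /-- UNI, weak form -/
  uni : UniQ Z W B
  /-- (V!) -/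
  off : ∀ i, ∀ F ≤ B, B ≤ normalizer (F : Set G) → (∀ x ∈ F, ∀ y ∈ F, x * y = y * x) → (∀ x ∈ F, x ^ 2 = 1) →
    W i ≤ F → ∃ A ≤ B, ¬ A ≤ centralizer (F : Set G) ∧
      (centralizer (A : Set G)).relIndex F ≤ (centralizer (F : Set G)).relIndex A
  /-- the frame of the branch `W i ≤ N_i` -/
  qfr : W 0 ≤ Nn Z 0 → ∃ T : Subgroup G, QFr Z W B T

namespace MB

variable {S : Sylow 2 G} {P B ZJ : Subgroup G} {L W Z C : Fin 2 → Subgroup G} {q : ℕ}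
  (h : MB S P B ZJ L W Z C q)
include h

theorem fq : FQ Z W B q := FQ.of_bg h.bg (h.ti 0) h.nonloc

theorem exists_pa : ∃ s, Pa (S : Subgroup G) W 0 1 s := by
  obtain ⟨j, s, p⟩ := h.bg.exists_partner 0
  rcases fin2 j with rfl | rfl
  · exact absurd rfl p.ne
  · exact ⟨s, p⟩

/-- the swap on `N_i` -/
theorem cj_N {s : G} (p : Pa (S : Subgroup G) W 0 1 s) : cj s (Nn Z 0) = Nn Z 1 := by
  have h1 : PG.NN Z (cj s (Z 0)) = cj s (PG.NN Z (Z 0)) := PG.NN_conj s (Z 0)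
  rw [h.bg.cj_s_Z p] at h1
  exact h1.symm

theorem le_iff : W 0 ≤ Nn Z 0 ↔ W 1 ≤ Nn Z 1 := by
  obtain ⟨s, p⟩ := h.exists_pa
  have e1 := h.cj_N p
  constructor
  · intro h1
    rw [← e1, ← p.ij]
    exact cj_mono s h1
  · intro h1
    have h2 : cj s (W 0) ≤ cj s (Nn Z 0) := by rw [e1, p.ij]; exact h1
    rwa [cj_le_iff, cj_inv_cj] at h2

theorem rad (h0 : Z 0 ≤ Nn Z 0) (i : Fin 2) : Z i ≤ Nn Z i := by
  rcases fin2 i with rfl | rfl
  · exact h0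
  obtain ⟨s, p⟩ := h.exists_pa
  rw [← h.bg.cj_s_Z p, ← h.cj_N p]
  exact cj_mono s h0

/-- `1 ≠ [N_0, N_1] ≤ Z_0Z_1` is impossible. -/
theorem comm_false (com : ∀ x ∈ Nn Z 0, ∀ y ∈ Nn Z 1, x * y * x⁻¹ * y⁻¹ ∈ Z 0 ⊔ Z 1)
    (nc : ¬ Nn Z 0 ≤ centralizer (Nn Z 1 : Set G)) : False := by
  obtain ⟨s, p⟩ := h.exists_pa
  refine h.bg.comm_false p (fun l => fin2 l) (h.ti 0) h.nonloc ?_ ?_
  · rw [vec2]
    exact com
  · rw [vec2]
    exact nc

/-- `[N_0, N_1] = 1` if `N_0 ∩ N_1 ≤ Z_0Z_1`. -/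
theorem com_of_inter (hi : Nn Z 0 ⊓ Nn Z 1 ≤ Z 0 ⊔ Z 1) : Nn Z 0 ≤ centralizer (Nn Z 1 : Set G) := by
  by_contra nc
  refine h.comm_false (fun x hx y hy => hi ?_) nc
  have hPP : PG.PP Z W := h.fq.toPP
  have a01 : PG.Adj Z (Z 0) (Z 1) := ⟨1, by rw [map_one, one_smul], by rw [map_one, one_smul]⟩
  have pt0 : PG.IsPt Z (Z 0) := ⟨1, by rw [map_one, one_smul]⟩
  have h1 : Nn Z 0 ≤ PG.HH (Z 1) := (hPP.NN_le_QQ pt0).trans (hPP.QQ_le_HH (hPP.adj_symm a01))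
  have h2 : Nn Z 1 ≤ PG.HH (Z 0) := (hPP.NN_le_QQ (hPP.adj_pt a01)).trans (hPP.QQ_le_HH a01)
  refine mem_inf.2 ⟨?_, ?_⟩
  · have e : x * y * x⁻¹ * y⁻¹ = x * (y * x⁻¹ * y⁻¹) := by group
    rw [e]
    exact mul_mem hx ((mem_normalizer_iff.1 (PG.PP.HH_le_NN (Z 0) (h2 hy)) _).1 (inv_mem hx))
  · exact mul_mem ((mem_normalizer_iff.1 (PG.PP.HH_le_NN (Z 1) (h1 hx)) _).1 hy) (inv_mem hy)

theorem sylU0 : SylU0 Z W :=
  ⟨(S : Subgroup G) ⊓ normalizer (Z 0 : Set G), h.bg.syl 0, by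
    rw [h.bg.inf_normalizer 0]; exact inf_le_right⟩

theorem regX : PG.PcQ.RegX Z (XW Z W) := by
  have h2 : 2 < q := lt_of_lt_of_le (by decide) h.hq
  have D : FQ ![Z 0, Z 1] ![W 0, W 1] B q := by
    rw [vec2, vec2]
    exact h.fq
  have h1 := h.bg.regX h2 D
  rwa [vec2, vec2] at h1

/-- **LEMMA 0.** -/
theorem l0 : PG.PcQ.L0 Z := h.fq.l0 h.bg.wc h.uni

/-- **The level inputs of THEOREM N.** -/
theorem lvIn : Plug.LvIn Z W B := by
  have D := h.fq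
  have hne : ∀ i : Fin 2, ∃ j : Fin 2, i ≠ j := by decide
  refine ⟨?_, ZS.zS_two h.bg, fun i K h1 h2 h3 => D.done h.bg.wc h.uni h1 h2 h3, ?_,
    fun i F hF => h.off i F (hF.trans D.O_le_B), ?_, ?_⟩
  · intro i
    obtain ⟨T, hT, -, hTU⟩ := SylU.of_bg h.bg i
    exact ⟨T, hT, hTU⟩
  · intro i K' hKZ hKn hs v hv hvZ z hz
    obtain ⟨j, hij⟩ := hne i
    exact BgQ.root_of h.bg (h.ti 0) h.nonloc hij hKn hKZ hs v hv hvZ z hz
  · intro i v hv
    obtain ⟨j, hij⟩ := hne i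
    exact D.cov hij hv
  · intro i e he
    obtain ⟨j, hij⟩ := hne i
    exact D.ptsW hij he

/-- **(A)**: `W i ≰ N_i` is impossible. -/
theorem false_V (hML : ML.Final.MLK.{u, u}) (hV : ∀ i, ¬ W i ≤ Nn Z i) : False := by
  have D := h.fq
  have noD := NoDQ.of_bg h.bg hML (h.ti 0) h.nonloc
  have noQ := NoQQ.of_bg h.bg hML (h.ti 0) h.nonloc
  have noP := NoP.of_bg h.bg hML (h.ti 0) h.nonloc
  have h2 : 2 < q := lt_of_lt_of_le (by decide) h.hq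
  by_cases h0 : Z 0 ≤ Nn Z 0
  · have hrad := h.rad h0
    have hL := h.lvIn
    have h1b : OneB Z W := End.oneB_of D noD noQ hL hrad hV
    have h1a : TA' Z (XW Z W) := PlugA.ta_of D.toPP D.xf noP D.tip
      fun A hA2 hAc hAX hmv hH => End.false_of_H D noD noQ hL (hrad 0) (hV 0) hA2 hAc hAX hmv hH
    exact D.false_rad noD noQ noP (CoreP.of_bg h.bg) h.com_of_inter hrad h1a h1b
  · refine D.nrTwo noP (D.thmC2_nr h2 h0 h.sylU0 fun K h3 h4 h5 => D.done h.bg.wc h.uni h3 h4 h5) h0 ?_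
    exact NrOne.nr_one D h2 h.regX h0 (D.adj (i := 1) (j := 0) (by decide))

/-- **Row (7).** -/
protected theorem false (hML : ML.Final.MLK.{u, u}) (hE : ML.Ex.Two.Ext.{u, u}) : False := by
  by_cases h0 : W 0 ≤ Nn Z 0
  · obtain ⟨T, D⟩ := h.qfr h0
    obtain ⟨s, p⟩ := h.exists_pa
    refine KL.QF.Fin.false_of_qfr h.bg p (fun l => fin2 l) h.hq hML (KL.Q.EndG.noPreG hML hE) (T := T) ?_
    rw [vec2, vec2]
    exact D
  · refine h.false_V hML fun i => ?_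
    rcases fin2 i with rfl | rfl
    · exact h0
    · exact fun h1 => h0 (h.le_iff.2 h1)

end MB

end Cfsg.Agent.Omega.NO3S.EThree.Row7B

end

section


/-!
# Row (7): the data `MB` from generation by blocks (`GenU`) and FIX (`FixU`) over `T = C_S(Z 0)`

* `uniQ_of_gen` : `GenU .. 0 1` gives `UniQ Z W B` (both indices: the swap);
* `MB.of_gen` : `MB` from `Bg`, TI, `NonLoc`, `GenU`, `FixU`, (V!);
* `MB.of_top` : the same over a top level `K₀` (`Top S P K₀`) from the socket `WeirdK`.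
-/

set_option autoImplicit false
set_option linter.unusedSectionVars false

namespace Cfsg.Agent.Omega.NO3S.EThree.Row7B

open Subgroup Cfsg Cfsg.Agent.ZN.ChoiceBase
open Cfsg.Agent.ZN (jj zj bau zc zl o2)
open Cfsg.Agent.ZN.ChoiceSit (Syl)
open Cfsg.Agent.Omega.OM
open Cfsg.Agent.Omega.FFThm (NatKM)
open Cfsg.Agent.Omega.FrameFF (cv)
open Cfsg.Agent.Omega.NO3S.Level (nxt)
open Cfsg.Agent.Omega.NO3S.EThree
open Cfsg.Agent.Omega.NO3S.EThree.Frame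
open Cfsg.Agent.Omega.NO3S.EThree.Row7 (Nn vec2 vec2' fin2)
open Cfsg.Agent.Omega.MinPar (NonLoc)
open Cfsg.Agent.MinSimple.MinParabolic (IsMinPar)
open Cfsg.Agent.Omega.Node.MulG (Top)
open Cfsg.Agent.Omega.KL.QF Cfsg.Agent.Omega.KL.QF.OfBg Cfsg.Agent.Omega.KL.QF.PtV Cfsg.Agent.Omega.KL.QF.OfTop
open scoped Pointwise

universe u

variable {G : Type u} [Group G]

theorem isMinPar_cj {T P : Subgroup G} (g : G) (h : IsMinPar T P) : IsMinPar (cj g T) (cj g P) where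
  le := cj_mono g h.le
  not_le := by
    intro h1
    rw [← cj_normalizer, cj_le_iff, cj_inv_cj] at h1
    exact h.not_le h1
  exists_max := by
    obtain ⟨N, hN, hmax⟩ := h.exists_max
    refine ⟨cj g N, lt_of_le_of_ne (cj_mono g hN.le) fun e => hN.ne ?_, fun K hK hKP => ?_⟩
    · rw [← cj_inv_cj g N, e, cj_inv_cj]
    · have h1 : K = cj g (cj g⁻¹ K) := (cj_cj_inv g K).symm
      rw [h1]
      refine cj_mono g (hmax _ ?_ (lt_of_le_of_ne ?_ fun e => hKP.ne ?_))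
      · rw [← cj_le_iff]; exact hK
      · have h2 := cj_mono g⁻¹ hKP.le
        rwa [cj_inv_cj] at h2
      · rw [h1, e]

theorem syl_cj {T X : Subgroup G} (h : Syl T X) (g : G) : Syl (cj g T) (cj g X) := by
  refine ⟨cj_mono g h.1, isPGroup_cj g h.2.1, fun Q hQ hQ2 hle => ?_⟩
  have h1 := h.2.2 (cj g⁻¹ Q) (by rw [cj_le_iff, inv_inv]; exact hQ) (isPGroup_cj _ hQ2)
    (by rw [← cj_le_iff]; exact hle)
  rw [← h1, cj_cj_inv]

variable [Finite G] {S : Sylow 2 G} {P B ZJ : Subgroup G} {L W Z C : Fin 2 → Subgroup G} {q : ℕ}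

/-- **UNI, both indices.** -/
theorem uniQ_of_gen (h : Bg S P B ZJ L W Z C q) {s : G} (p : Pa (S : Subgroup G) W 0 1 s)
    (hg : GenU (S : Subgroup G) B ZJ W Z q 0 1) : UniQ Z W B := by
  set T : Subgroup G := (S : Subgroup G) ⊓ centralizer (Z 0 : Set G) with hT
  have hBT : B ≤ T := B_le_T h 0
  have hST : Syl T (centralizer (Z 0 : Set G)) := syl_T h 0
  have hR : ∀ R : Subgroup G, IsMinPar T R → R ≤ centralizer (Z 0 : Set G) → ¬ R ≤ normalizer (Z 1 : Set G) →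
      R ≤ normalizer (W 1 : Set G) := by
    intro R hR hRC hne
    obtain ⟨L', V', l, hLR, hRL, hb, hV⟩ := hg R hR hRC hne
    exact (uni_a h p (fun l => fin2 l) hRC hLR hRL hb hV).1
  have e01 : cj s (Z 0) = Z 1 := h.cj_s_Z p
  have e10 : cj s (Z 1) = Z 0 := h.cj_s_Z' p
  intro i j hij
  rcases fin2 i with rfl | rfl
  · rcases fin2 j with rfl | rfl
    · exact absurd rfl hij
    exact ⟨T, hBT, hST, hR⟩
  · rcases fin2 j with rfl | rfl
    swap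
    · exact absurd rfl hij
    refine ⟨cj s T, ?_, ?_, fun R hRT hRC hne => ?_⟩
    · rw [← cj_eq_of_mem_normalizer (h.S_norm_B p.mem)]
      exact cj_mono s hBT
    · have h1 := syl_cj hST s
      rwa [cj_centralizer, e01] at h1
    · have hR1 : R = cj s (cj s⁻¹ R) := (cj_cj_inv s R).symm
      have h1 : IsMinPar T (cj s⁻¹ R) := by
        have h2 := isMinPar_cj s⁻¹ hRT
        rwa [cj_inv_cj] at h2
      have h2 : cj s⁻¹ R ≤ centralizer (Z 0 : Set G) := by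
        rw [cj_le_iff, inv_inv, cj_centralizer, e01]
        exact hRC
      have h3 : ¬ cj s⁻¹ R ≤ normalizer (Z 1 : Set G) := by
        intro h4
        rw [cj_le_iff, inv_inv, cj_normalizer, e10] at h4
        exact hne h4
      have h4 := cj_mono s (hR _ h1 h2 h3)
      rwa [cj_cj_inv, cj_normalizer, p.ji] at h4

/-- **`MB` from generation by blocks and FIX.** -/
theorem MB.of_gen (h : Bg S P B ZJ L W Z C q) (hq : 4 ≤ q) (hTI : ∀ i, TI (Z i))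
    (hnl : NonLoc (normalizer (Z 0 : Set G)) (normalizer (Z 1 : Set G)))
    (hg : GenU (S : Subgroup G) B ZJ W Z q 0 1) (hf : FixU (S : Subgroup G) P W Z 0 1)
    (hoff : ∀ i, ∀ F ≤ B, B ≤ normalizer (F : Set G) → (∀ x ∈ F, ∀ y ∈ F, x * y = y * x) → (∀ x ∈ F, x ^ 2 = 1) →
      W i ≤ F → ∃ A ≤ B, ¬ A ≤ centralizer (F : Set G) ∧
        (centralizer (A : Set G)).relIndex F ≤ (centralizer (F : Set G)).relIndex A) : MB S P B ZJ L W Z C q := by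
  obtain ⟨s, p⟩ : ∃ s, Pa (S : Subgroup G) W 0 1 s := by
    obtain ⟨j, s, p⟩ := h.exists_partner 0
    rcases fin2 j with rfl | rfl
    · exact absurd rfl p.ne
    · exact ⟨s, p⟩
  refine ⟨h, hq, hTI, hnl, uniQ_of_gen h p hg, hoff, fun hW => ⟨(S : Subgroup G) ⊓ centralizer (Z 0 : Set G), ?_⟩⟩
  have h1 := qfr_of h p (fun l => fin2 l) (hTI 0) hnl (by rw [vec2]; exact hW) hg hf
  rwa [vec2, vec2] at h1

end Cfsg.Agent.Omega.NO3S.EThree.Row7B

end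

section


/-!
# Row (7): `EOf K (k = 2 ∧ 4 ≤ q)` over `Mul` (all stages)

* `gen_mq` : `GenU`, `FixU` for `MQ`, every stage; `mb_of` : `MQ → MB`;
* `false_mq` : **`MQ` is impossible** (`MLK`, `Ext`); `vIn`, `kIn`;
* **`eOf_seven : FFThm.Stmt → MLK → Ext → EOf K (k = 2 ∧ 4 ≤ q)`.**
-/

set_option autoImplicit false
set_option linter.unusedSectionVars false

namespace Cfsg.Agent.Omega.NO3S.EThree.Row7End

open Subgroup Cfsg Cfsg.Agent.ZN.ChoiceBase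
open Cfsg.Agent.ZN (jj zj bau zc zl o2)
open Cfsg.Agent.ZN.ChoiceSit (Syl)
open Cfsg.Agent.Omega.OM
open Cfsg.Agent.Omega.OM.LevD (LB)
open Cfsg.Agent.Omega.FFThm (NatKM)
open Cfsg.Agent.Omega.FrameFF (cv)
open Cfsg.Agent.Omega.NO3S (HypJ)
open Cfsg.Agent.Omega.NO3S.Level (lev lev_mono)
open Cfsg.Agent.Omega.NO3S.EThree
open Cfsg.Agent.Omega.NO3S.EThree.Frame
open Cfsg.Agent.Omega.NO3S.EThree.Row7
open Cfsg.Agent.Omega.NO3S.EThree.Row7B
open Cfsg.Agent.Omega.MinPar (NonLoc)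
open Cfsg.Agent.Omega.Frame (Cls)
open Cfsg.Agent.Omega.Node.MultiOf
open Cfsg.Agent.MinSimple.VModule (le_normalizer_o2 o2_isPGroup)
open Cfsg.Agent.Omega.KL.QF Cfsg.Agent.Omega.KL.QF.OfBg Cfsg.Agent.Omega.KL.QF.PtV Cfsg.Agent.Omega.KL.QF.OfMul
open scoped Pointwise

universe u

variable {G : Type u} [Group G] [Finite G] {S : Sylow 2 G} {P K' B ZJ : Subgroup G} {L W Z C : Fin 2 → Subgroup G}
  {q : ℕ}

/-- **`GenU` and `FixU`**, every stage. -/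
theorem gen_mq (hFF : FFThm.Stmt.{u}) (h : MQ S P K' B ZJ L W Z C q) :
    GenU (S : Subgroup G) B ZJ W Z q 0 1 ∧ FixU (S : Subgroup G) P W Z 0 1 := by
  obtain ⟨s, p⟩ := h.exists_pa
  have hq : 2 < q := lt_of_lt_of_le (by norm_num) h.hq
  have hs := h.mul.stg
  cases hs with
  | neg hj =>
    obtain ⟨F, _, _, _, hF, ⟨N⟩⟩ := h.mul.nat
    have hJ : HypJ S P := ⟨h.mul.hyp.toHypN, hj⟩
    obtain ⟨L', W', Z', C', A', -, -, -, -, h'⟩ := Line.exists_nat hJ le_rfl N.toNatK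
    rw [hF] at h'
    exact ⟨OfNeg.genU h.bg h' hq p (fun l => fin2 l) (h.ti 0) hFF, OfNeg.fixU h.bg h' hq p.ne (h.ti 0) h.nonloc⟩
  | lev n hall hn hn1 =>
    refine ⟨genU_of h.bg p (fun l => fin2 l) (genV_lev h p hn hn1 rfl rfl), ?_⟩
    refine fixU_of h.mul le_rfl fun m hm hK R hR hRC hne => ?_
    have hmn : m ≤ n := by
      by_contra hmn
      exact hn1 ((lev_mono (S : Subgroup G) (by omega : n + 1 ≤ m)).trans hm)
    exact (le_normalizer_o2 R).trans ((LB.lev S m).nrm _ (o2_isPGroup R)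
      ((lev_mono (S : Subgroup G) hmn).trans (facts_lev h p hn hn1 rfl rfl hR hRC hne).2.2.2.1))

/-- **`MQ` gives `MB`.** -/
theorem mb_of (hFF : FFThm.Stmt.{u}) (h : MQ S P K' B ZJ L W Z C q) : MB S P B ZJ L W Z C q :=
  MB.of_gen h.bg h.hq h.ti h.nonloc (gen_mq hFF h).1 (gen_mq hFF h).2 (TCQ.R.offV h.mul)

/-- **`MQ` is impossible.** -/
theorem false_mq (hFF : FFThm.Stmt.{u}) (hML : ML.Final.MLK.{u, u}) (hE : ML.Ex.Two.Ext.{u, u})
    (h : MQ S P K' B ZJ L W Z C q) : False := (mb_of hFF h).false hML hE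

/-- **`VIn`.** -/
theorem vIn (hFF : FFThm.Stmt.{u}) (hML : ML.Final.MLK.{u, u}) (K : Cls.{u}) : VIn K :=
  fun _ _ _ _ _ _ _ _ _ _ _ _ _ _ h hV => (mb_of hFF h).false_V hML hV

/-- **Row (7)** over `Mul`: (E) with `k = 2`, `q ≥ 4` is impossible. -/
theorem false_mul (hFF : FFThm.Stmt.{u}) (hML : ML.Final.MLK.{u, u}) (hE : ML.Ex.Two.Ext.{u, u})
    (h : Mul S P K' B ZJ L W Z C q) (hq : 4 ≤ q) (hN : NLoc (KZ B ZJ)) : False :=
  false_mq hFF hML hE ⟨h, hq, hN, FourTwo.ti_two hML hE h hq hN, NonLocQ.nonloc_mul h hN⟩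

/-- **Row (7)**. -/
theorem eOf_seven (K : Cls.{u}) (hFF : FFThm.Stmt.{u}) (hML : ML.Final.MLK.{u, u}) (hE : ML.Ex.Two.Ext.{u, u}) :
    EOf K fun k q => k = 2 ∧ 4 ≤ q := by
  rintro G _ _ - S P K' B ZJ k L W Z C q - ⟨rfl, hq⟩ hM hN
  exact (false_mul hFF hML hE hM hq hN).elim

end Cfsg.Agent.Omega.NO3S.EThree.Row7End

end
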