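import Cfsg.Agent.Mrg.Omega.NO3S.EThree.RegX
import Cfsg.Agent.Mrg.Omega.NO3S.EThree.CoreOf
import Cfsg.Agent.Mrg.Omega.OM.PG.PcK
import Cfsg.Agent.Mrg.Omega.OM.PG.ExactQ
import Cfsg.Agent.Mrg.Omega.BTwo.Basic
import Cfsg.Agent.Omega.OmThm.GrpSP
import Cfsg.Agent.Mrg.Omega.NO3S.EThree.ExactB
import Cfsg.Agent.Omega.NO3S.EThree.TBig

section


/-!
# (E), `k = 2`, `q ≥ 4`, THEOREM C without radical (helper997 #19092)

`D : FQ Z U B q`, `2 < q`, `Z 0 ≰ N_1`.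

* `DoneQ Z U` : LEMMA 0 + STEP F: no `K ⊴ N(Z 0)` in `C(Z 0)`, moving `N_1` by a 2-element, normalises `U 0`;
* `SylU0 Z U` : a Sylow 2-subgroup of `N(Z 0)` normalises `U 0`;
* `FQ.irr_nr` : `N_1` is irreducible for `N(Z 0)`;
* **`FQ.thmC2_nr`** : THEOREM C.  The canonical complement `u ↦ u y(u)` of `N_1` in `U_0N_1` centralised by `K`
  (Gaschuetz) has `y(u) ∈ Z 1`, and `y` is constant on `U 0 - Z 0` (the torus of `L_0` centralises `U 1`), additive;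
* `FQ.oneB_of_thmC2`, `FQ.ta'_of_thmC2` : `OneB`, `TA'` from THEOREM C.
-/

set_option autoImplicit false
set_option linter.unusedSectionVars false

namespace Cfsg.Agent.Omega.NO3S.EThree

open Subgroup Cfsg Cfsg.Agent.ZN Cfsg.Agent.Omega.MinPar
open Cfsg.Agent.Omega.NoFF.Basic (conj_conj mem_conj conj_le_iff conj_le_centralizer comm_symm comm_mono)
open Cfsg.Agent.Omega.NOThreeL.Pair (conj_eq_of_mem)
open Cfsg.Agent.Omega.OM.PG
open Cfsg.Agent.Omega.OM.PG.Int (Ex rix_ne)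
open Cfsg.Agent.Omega.OM.PG.Peel (XF XW XW_conj ln_le_XW)
open Cfsg.Agent.Omega.OM.PG.PeelQ (ThmC2 TIp NobX)
open Cfsg.Agent.Omega.NO3S.EThree.ExactA (eab_iff eab_mono eab_sup NoP)
open Cfsg.Agent.ZN.ChoiceBase (AA mem_AA_iff cj cj_mono cj_inf card_cj)
open Cfsg.Agent.ZN.ChoiceSit (Syl exists_syl syl_conj syl_not_dvd)
open scoped Pointwise

universe u

variable {G : Type u} [Group G]

/-- LEMMA 0 + STEP F -/
def DoneQ (Z U : Fin 2 → Subgroup G) : Prop :=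
  ∀ K : Subgroup G, K ≤ centralizer (Z 0 : Set G) → HH (Z 0) ≤ normalizer (K : Set G) →
    (∃ x ∈ K, IsPGroup 2 (zpowers x) ∧ x ∉ centralizer (NN Z (Z 0) : Set G)) → ¬ K ≤ normalizer (U 0 : Set G)

/-- a Sylow 2-subgroup of `N(Z 0)` normalises `U 0` -/
def SylU0 (Z U : Fin 2 → Subgroup G) : Prop :=
  ∃ T : Subgroup G, Syl T (normalizer (Z 0 : Set G)) ∧ T ≤ normalizer (U 0 : Set G)

/-- `A ∈ AA Q`, `X ≤ Q` elementary abelian : `|X : C_X(A)| ≤ |A : C_A(X)|` -/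
theorem relIndex_le_of_AA [Finite G] {Q X A : Subgroup G} (hX : IsElementaryAbelian 2 X) (hXQ : X ≤ Q)
    (hA : A ∈ AA Q) : (centralizer (A : Set G)).relIndex X ≤ (centralizer (X : Set G)).relIndex A := by
  have hAe := hA.1
  have hX' := (eab_iff.1 hX).1
  have hA' := (eab_iff.1 hAe).1
  set K := A ⊓ centralizer (X : Set G) with hK
  set D := X ⊓ centralizer (A : Set G) with hD
  have hKe : IsElementaryAbelian 2 K := eab_mono hAe inf_le_left
  have hE : IsElementaryAbelian 2 (K ⊔ X : Subgroup G) := eab_sup hKe hX inf_le_right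
  have hEA : Nat.card (K ⊔ X : Subgroup G) ≤ Nat.card A := hA.2.2 _ hE (sup_le (inf_le_left.trans hA.2.1) hXQ)
  have h1 : Nat.card (K ⊔ X : Subgroup G) * Nat.card (K ⊓ X : Subgroup G) = Nat.card K * Nat.card X :=
    NO3S.ML.card_sup_mul_of_comm fun a ha b hb => (mem_centralizer_iff.1 ((inf_le_right : K ≤ _) ha) b hb).symm
  have h2 : Nat.card (K ⊓ X : Subgroup G) ≤ Nat.card D :=
    Subgroup.card_le_of_le (le_inf inf_le_right ((inf_le_left.trans inf_le_left).trans hA'))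
  have h3 : Nat.card K * (centralizer (X : Set G)).relIndex A = Nat.card A := by
    rw [hK, ← Subgroup.inf_relIndex_left]
    exact NO3S.ML.card_mul_relIndex inf_le_left
  have h4 : Nat.card D * (centralizer (A : Set G)).relIndex X = Nat.card X := by
    rw [hD, ← Subgroup.inf_relIndex_left]
    exact NO3S.ML.card_mul_relIndex inf_le_left
  have pK : 0 < Nat.card K := Nat.card_pos
  have pD : 0 < Nat.card D := Nat.card_pos
  have h5 : Nat.card K * Nat.card D * (centralizer (A : Set G)).relIndex X ≤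
      Nat.card K * Nat.card D * (centralizer (X : Set G)).relIndex A := by
    calc _ = Nat.card K * Nat.card X := by rw [← h4]; ring
      _ = Nat.card (K ⊔ X : Subgroup G) * Nat.card (K ⊓ X : Subgroup G) := h1.symm
      _ ≤ Nat.card A * Nat.card D := Nat.mul_le_mul hEA h2
      _ = _ := by rw [← h3]; ring
  exact Nat.le_of_mul_le_mul_left h5 (Nat.mul_pos pK pD)

/-- `K ⊴ H`, `T` Sylow in `H` : `T ∩ K` is Sylow in `K` -/
theorem syl_inf_of_norm [Finite G] {T H K : Subgroup G} (hT : Syl T H) (hKH : K ≤ H)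
    (hn : H ≤ normalizer (K : Set G)) : Syl (T ⊓ K) K := by
  refine ⟨inf_le_right, hT.2.1.to_le inf_le_left, fun Q hQ hQ2 hle => ?_⟩
  obtain ⟨R, hR, hQR⟩ := exists_syl hQ2 (hQ.trans hKH)
  obtain ⟨h, hh, e⟩ := syl_conj hT hR
  have h1 : Q ≤ cj h (T ⊓ K) := by
    rw [cj_inf, e]
    refine le_inf hQR ?_
    have h2 : cj h K = K := ChoiceBase.mem_normalizer_iff_cj.1 (hn hh)
    rw [h2]
    exact hQ
  have h2 := Subgroup.card_le_of_le h1
  rw [card_cj] at h2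
  exact (Subgroup.eq_of_le_of_card_ge hle h2).symm

namespace FQ

variable [Finite G] {Z U : Fin 2 → Subgroup G} {B : Subgroup G} {q : ℕ} (D : FQ Z U B q)
include D

/-- an element of `U i - Z i` is moved to another one by `C(U j) ∩ N(Z i) ∩ N(U i)` -/
theorem exists_mv_to' {i j : Fin 2} (hij : i ≠ j) {x y : G} (hx : x ∈ U i) (hxZ : x ∉ Z i) (hy : y ∈ U i)
    (hyZ : y ∉ Z i) : ∃ g ∈ centralizer (U j : Set G), MulAut.conj g • Z i = Z i ∧ MulAut.conj g • U i = U i ∧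
      g * x * g⁻¹ = y := by
  obtain ⟨h, hc, h1, h2, h3⟩ := D.tor i j hij x hx hxZ y hy hyZ
  obtain ⟨b, hb, hbc, h4⟩ := D.root i j hij y hy hyZ _ h3
  have hyz : y * (y⁻¹ * (h * x * h⁻¹)) = (y⁻¹ * (h * x * h⁻¹)) * y := mem_centralizer_iff.1 ((eab_iff.1 (D.eU i)).1 (D.ZU' i h3)) y hy
  have e1 : b * y * b⁻¹ = h * x * h⁻¹ := by
    calc b * y * b⁻¹ = (b * y * b⁻¹ * y⁻¹) * y := by group
      _ = (y⁻¹ * (h * x * h⁻¹)) * y := by rw [h4]
      _ = y * (y⁻¹ * (h * x * h⁻¹)) := hyz.symm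
      _ = _ := by group
  have hbZ : MulAut.conj b⁻¹ • Z i = Z i := conj_eq_of_mem (inv_mem (D.B_le_HH i hb))
  have hbU : MulAut.conj b⁻¹ • U i = U i := conj_eq_of_mem (inv_mem (D.B_le_NU i hb))
  refine ⟨b⁻¹ * h, mul_mem (inv_mem hbc) hc, ?_, ?_, ?_⟩
  · rw [← conj_conj, h1, hbZ]
  · rw [← conj_conj, h2, hbU]
  · calc b⁻¹ * h * x * (b⁻¹ * h)⁻¹ = b⁻¹ * (h * x * h⁻¹) * b := by group
      _ = b⁻¹ * (b * y * b⁻¹) * b := by rw [e1]
      _ = y := by group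

/-- `C(Z i)` is transitive on `(Z j)#` -/
theorem trans_Z' {i j : Fin 2} (hij : i ≠ j) {a a' : G} (ha : a ∈ Z j) (ha1 : a ≠ 1) (ha' : a' ∈ Z j) (ha1' : a' ≠ 1) :
    ∃ g ∈ centralizer (Z i : Set G), g * a * g⁻¹ = a' := by
  obtain ⟨l, hl1, hl2, hlc, -, -⟩ := D.mvl j i hij.symm
  have hlU' : MulAut.conj l⁻¹ • U j = U j := by
    have h3 := congrArg (fun X => MulAut.conj l⁻¹ • X) hl1
    simpa only [inv_conj_conj] using h3.symm
  have key : ∀ c ∈ Z j, c ≠ 1 → l⁻¹ * c * l ∈ U j ∧ l⁻¹ * c * l ∉ Z j := by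
    intro c hc hc1
    refine ⟨?_, fun h => hc1 ?_⟩
    · rw [← hlU']
      refine ⟨c, D.ZU' j hc, ?_⟩
      change l⁻¹ * c * l⁻¹⁻¹ = _
      rw [inv_inv]
    · have h3 : c ∈ MulAut.conj l • Z j ⊓ Z j := by
        refine ⟨⟨_, h, ?_⟩, hc⟩
        change l * (l⁻¹ * c * l) * l⁻¹ = c
        group
      rwa [hl2, mem_bot] at h3
  obtain ⟨g, hgc, -, -, hg⟩ := D.exists_mv_to' hij.symm (key a ha ha1).1 (key a ha ha1).2 (key a' ha' ha1').1
    (key a' ha' ha1').2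
  refine ⟨l * g * l⁻¹, mul_mem (mul_mem hlc (centralizer_le (D.ZU' i) hgc)) (inv_mem hlc), ?_⟩
  calc l * g * l⁻¹ * a * (l * g * l⁻¹)⁻¹ = l * (g * (l⁻¹ * a * l) * g⁻¹) * l⁻¹ := by group
    _ = l * (l⁻¹ * a' * l) * l⁻¹ := by rw [hg]
    _ = a' := by group

/-- `C_{N_1}(B) ≤ Z 1` without radical -/
theorem fix_nr (hnr : ¬ Z 0 ≤ NN Z (Z 0)) {y : G} (hy : y ∈ NN Z (Z 0)) (h : ∀ b ∈ B, b * y = y * b) : y ∈ Z 1 := by
  have h1 := D.zB y (D.O_le_B (D.N_le_O 0 hy)) ((eab_iff.1 (D.N_eab 0)).2 y hy) h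
  obtain ⟨a, ha, b, hb, e⟩ := D.sup_mem (i := 0) (j := 1) (by decide) h1
  have ha1 : a = 1 := by
    refine D.N_inf_Z hnr 0 ?_ ha
    have h3 : a = y * b⁻¹ := by rw [e]; group
    rw [h3]
    exact mul_mem hy (inv_mem ((D.adj (i := 0) (j := 1) (by decide)).le_NN hb))
  rw [e, ha1, one_mul]
  exact hb

/-- **Without radical, `N_1` is irreducible for `N(Z 0)`.** -/
theorem irr_nr (hnr : ¬ Z 0 ≤ NN Z (Z 0)) {J : Subgroup G} (hJ : J ≤ NN Z (Z 0))
    (hn : HH (Z 0) ≤ normalizer (J : Set G)) : J = ⊥ ∨ NN Z (Z 0) ≤ J := by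
  by_cases hJ1 : J = ⊥
  · exact Or.inl hJ1
  right
  have hB : J ≤ B := hJ.trans ((D.N_le_O 0).trans D.O_le_B)
  obtain ⟨x, hx, hx1, hxB⟩ := Cfsg.Agent.Omega.NoFF.LinesPlug.exists_fixed D.B2 hB
    ((D.B_le_HH 0).trans hn) hJ1
  have hxZ : x ∈ Z 1 := D.fix_nr hnr (hJ hx) hxB
  have hZJ : Z 1 ≤ J := by
    intro z hz
    by_cases hz1 : z = 1
    · rw [hz1]; exact one_mem _
    obtain ⟨g, hg, rfl⟩ := D.trans_Z' (i := 0) (j := 1) (by decide) hxZ hx1 hz hz1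
    exact (mem_normalizer_iff.1 (hn (centralizer_le_normalizer _ hg)) x).1 hx
  refine sSup_le ?_
  rintro _ ⟨k, hk, rfl⟩
  have h2 : MulAut.conj k • J = J := conj_eq_of_mem (hn (ChoiceBase.mem_normalizer_iff_cj.2 hk.symm))
  rw [← h2]
  exact conj_le_iff.2 hZJ

/-- `U_0 ∩ N_1 = 1` without radical -/
theorem U_inf_N_nr (hnr : ¬ Z 0 ≤ NN Z (Z 0)) {x : G} (hx : x ∈ U 0) (hxN : x ∈ NN Z (Z 0)) : x = 1 := by
  by_contra hne
  have hJ : U 0 ⊓ NN Z (Z 0) ≠ ⊥ := fun e => hne (by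
    have h1 : x ∈ U 0 ⊓ NN Z (Z 0) := ⟨hx, hxN⟩
    rwa [e, mem_bot] at h1)
  obtain ⟨y, hy, hy1, hyB⟩ := Cfsg.Agent.Omega.NoFF.LinesPlug.exists_fixed D.B2
    (inf_le_left.trans (D.U_le_B 0)) (NO3L.LemP.le_normalizer_inf (D.B_le_NU 0)
      (fun b hb => D.HH_norm_N 0 (D.B_le_HH 0 hb))) hJ
  exact hy1 (D.N_inf_Z hnr 0 hy.2 (D.mem_Z_of_fix hy.1 hyB))

/-- the elements of `C(Z 0)` trivial on `X_0 / N_1` -/
def KC (_ : FQ Z U B q) : Subgroup G where
  carrier := {g | g ∈ centralizer (Z 0 : Set G) ∧ ∀ x ∈ XW Z U (Z 0), x * g * x⁻¹ * g⁻¹ ∈ NN Z (Z 0)}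
  one_mem' := ⟨one_mem _, fun x _ => by simp⟩
  mul_mem' := by
    rintro g h ⟨hg, h1⟩ ⟨hh, h2⟩
    refine ⟨mul_mem hg hh, fun x hx => ?_⟩
    have hgn : g ∈ normalizer (NN Z (Z 0) : Set G) := PP.HH_le_NN (Z 0) (centralizer_le_normalizer _ hg)
    have h3 := (mem_normalizer_iff.1 hgn _).1 (h2 x hx)
    have e : x * (g * h) * x⁻¹ * (g * h)⁻¹ = (x * g * x⁻¹ * g⁻¹) * (g * (x * h * x⁻¹ * h⁻¹) * g⁻¹) := by group
    rw [e]
    exact mul_mem (h1 x hx) h3
  inv_mem' := by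
    rintro g ⟨hg, h1⟩
    refine ⟨inv_mem hg, fun x hx => ?_⟩
    have hgn : g⁻¹ ∈ normalizer (NN Z (Z 0) : Set G) := PP.HH_le_NN (Z 0) (centralizer_le_normalizer _ (inv_mem hg))
    have h3 := (mem_normalizer_iff.1 hgn _).1 (inv_mem (h1 x hx))
    have e : x * g⁻¹ * x⁻¹ * g⁻¹⁻¹ = g⁻¹ * (x * g * x⁻¹ * g⁻¹)⁻¹ * g⁻¹⁻¹ := by group
    rw [e]
    exact h3

theorem KC_le : D.KC ≤ centralizer (Z 0 : Set G) := fun g hg => hg.1

theorem HH_norm_X (i : Fin 2) : HH (Z i) ≤ normalizer (XW Z U (Z i) : Set G) := by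
  intro g hg
  refine ChoiceBase.mem_normalizer_iff_cj.2 ?_
  change MulAut.conj g • XW Z U (Z i) = _
  rw [← XW_conj, conj_eq_of_mem hg]

theorem HH_norm_KC : HH (Z 0) ≤ normalizer (D.KC : Set G) := by
  have key : ∀ h ∈ HH (Z 0), ∀ g ∈ D.KC, h * g * h⁻¹ ∈ D.KC := by
    rintro h hh g ⟨hg, h1⟩
    refine ⟨(mem_normalizer_iff.1 (NO3L.LemP.normalizer_le_normalizer_cent (Z 0) hh) g).1 hg, fun x hx => ?_⟩
    have hx' : h⁻¹ * x * h ∈ XW Z U (Z 0) := by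
      have := (mem_normalizer_iff.1 (D.HH_norm_X 0 (inv_mem hh)) x).1 hx
      rwa [inv_inv] at this
    have h3 := (mem_normalizer_iff.1 (D.HH_norm_N 0 hh) _).1 (h1 _ hx')
    have e : x * (h * g * h⁻¹) * x⁻¹ * (h * g * h⁻¹)⁻¹ =
        h * (h⁻¹ * x * h * g * (h⁻¹ * x * h)⁻¹ * g⁻¹) * h⁻¹ := by group
    rw [e]
    exact h3
  intro h hh
  rw [mem_normalizer_iff]
  intro g
  refine ⟨key h hh g, fun hg => ?_⟩
  have h1 := key h⁻¹ (inv_mem hh) _ hg
  have e : h⁻¹ * (h * g * h⁻¹) * h⁻¹⁻¹ = g := by group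
  rwa [e] at h1

/-- **THEOREM C at `Z 0`**: `KC` centralises `U 0`. -/
theorem KC_cent (hq : 2 < q) (hnr : ¬ Z 0 ≤ NN Z (Z 0)) (hT : SylU0 Z U)
    (hmv : ¬ D.KC ≤ centralizer (NN Z (Z 0) : Set G)) : D.KC ≤ centralizer (U 0 : Set G) := by
  obtain ⟨T, hTs, hTU⟩ := hT
  set K := D.KC with hK
  set N := NN Z (Z 0) with hN
  have hKH : K ≤ HH (Z 0) := D.KC_le.trans (centralizer_le_normalizer _)
  have hKn : HH (Z 0) ≤ normalizer (K : Set G) := D.HH_norm_KC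
  have hXX := (eab_iff.1 (D.XW_eab 0)).1
  have hUX : U 0 ≤ XW Z U (Z 0) := ln_le_XW (D.ln 0)
  have hNX : N ≤ XW Z U (Z 0) := le_sup_left
  -- `C_N(K) = 1`
  have hCK : ∀ y ∈ N, y ∈ centralizer (K : Set G) → y = 1 := by
    intro y hy hyK
    have h1 : HH (Z 0) ≤ normalizer ((N ⊓ centralizer (K : Set G) : Subgroup G) : Set G) :=
      NO3L.LemP.le_normalizer_inf (D.HH_norm_N 0) (hKn.trans (NO3L.LemP.normalizer_le_normalizer_cent K))
    rcases D.irr_nr hnr inf_le_left h1 with h2 | h2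
    · have h3 : y ∈ N ⊓ centralizer (K : Set G) := ⟨hy, hyK⟩
      rwa [h2, mem_bot] at h3
    · exact absurd (comm_symm (h2.trans inf_le_right)) hmv
  -- the relation `R u y`
  have hR1 : ∀ u ∈ U 0, ∃ y ∈ N, u * y ∈ centralizer (K : Set G) := by
    intro u hu
    have hodd : Odd ((T ⊓ K).relIndex K) := by
      rw [← Nat.not_even_iff_odd, even_iff_two_dvd]
      exact syl_not_dvd (syl_inf_of_norm hTs hKH hKn)
    have hcX : ∀ x ∈ K, u⁻¹ * x * u * x⁻¹ ∈ N := by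
      intro x hx
      have h1 := hx.2 u⁻¹ (inv_mem (hUX hu))
      rwa [inv_inv] at h1
    obtain ⟨y, hy, h⟩ := BTwo.Avg.avg (X := K) (P := T ⊓ K) (Y := N) (D := ⊥) inf_le_right hodd bot_le
      (fun x hx y hy => (mem_normalizer_iff.1 (D.HH_norm_N 0 (hKH hx)) y).1 hy)
      (fun x _ y hy => by rw [mem_bot] at hy ⊢; rw [hy]; group)
      (fun x _ y hy => by rw [mem_bot] at hy ⊢; rw [hy]; group)
      (fun y hy => by rw [mem_bot, ← pow_two]; exact (eab_iff.1 (D.N_eab 0)).2 y hy) (c := u) hcX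
      (fun x hx => by
        rw [mem_bot]
        refine D.U_inf_N_nr hnr ?_ (hcX x hx.2)
        have e : u⁻¹ * x * u * x⁻¹ = u⁻¹ * (x * u * x⁻¹) := by group
        rw [e]
        exact mul_mem (inv_mem hu) ((mem_normalizer_iff.1 (hTU hx.1) u).1 hu))
    refine ⟨y, hy, mem_centralizer_iff.2 fun x hx => ?_⟩
    have h1 := h x hx
    rw [mem_bot] at h1
    calc x * (u * y) = (u * y) * ((u * y)⁻¹ * x * (u * y) * x⁻¹) * x := by group
      _ = u * y * x := by rw [h1, mul_one]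
  have huniq : ∀ u y y' : G, y ∈ N → y' ∈ N → u * y ∈ centralizer (K : Set G) → u * y' ∈ centralizer (K : Set G) →
      y = y' := by
    intro u y y' hy hy' h1 h2
    have h3 : y⁻¹ * y' ∈ centralizer (K : Set G) := by
      have := mul_mem (inv_mem h1) h2
      have e : (u * y)⁻¹ * (u * y') = y⁻¹ * y' := by group
      rwa [e] at this
    exact inv_mul_eq_one.1 (hCK _ (mul_mem (inv_mem hy) hy') h3)
  -- `y(u) ∈ Z 1`
  have hZ1 : ∀ u ∈ U 0, ∀ y ∈ N, u * y ∈ centralizer (K : Set G) → y ∈ Z 1 := by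
    intro u hu y hy h
    refine D.fix_nr hnr hy fun b hb => ?_
    have hbH := D.B_le_HH 0 hb
    have h1 : b * (u * y) * b⁻¹ ∈ centralizer (K : Set G) :=
      (mem_normalizer_iff.1 (NO3L.LemP.normalizer_le_normalizer_cent K (hKn hbH)) _).1 h
    have hz : b * u * b⁻¹ * u⁻¹ ∈ Z 0 := D.com 0 b hb u hu
    have hzK : b * u * b⁻¹ * u⁻¹ ∈ centralizer (K : Set G) := (comm_symm D.KC_le) hz
    have h2 : (b * u * b⁻¹ * u⁻¹)⁻¹ * (b * (u * y) * b⁻¹) ∈ centralizer (K : Set G) := mul_mem (inv_mem hzK) h1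
    have e : (b * u * b⁻¹ * u⁻¹)⁻¹ * (b * (u * y) * b⁻¹) = u * (b * y * b⁻¹) := by group
    rw [e] at h2
    have h3 := huniq u y _ hy (D.B_norm_N 0 hb hy) h h2
    calc b * y = b * y * b⁻¹ * b := by group
      _ = y * b := by rw [← h3]
  -- multiplicative
  have hmul : ∀ u ∈ U 0, ∀ u' ∈ U 0, ∀ y ∈ N, ∀ y' ∈ N, u * y ∈ centralizer (K : Set G) →
      u' * y' ∈ centralizer (K : Set G) → (u * u') * (y * y') ∈ centralizer (K : Set G) := by
    intro u hu u' hu' y hy y' hy' h h'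
    have e1 : y * u' = u' * y := (mem_centralizer_iff.1 (hXX (hUX hu')) y (hNX hy))
    have e : (u * u') * (y * y') = (u * y) * (u' * y') := by
      calc (u * u') * (y * y') = u * (u' * y) * y' := by group
        _ = u * (y * u') * y' := by rw [e1]
        _ = _ := by group
    rw [e]
    exact mul_mem h h'
  -- constant on `U 0 - Z 0`
  have hconst : ∀ u ∈ U 0, u ∉ Z 0 → ∀ u' ∈ U 0, u' ∉ Z 0 → ∀ y ∈ N, u * y ∈ centralizer (K : Set G) →
      u' * y ∈ centralizer (K : Set G) := by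
    intro u hu huZ u' hu' huZ' y hy h
    obtain ⟨g, hgc, hgZ, -, rfl⟩ := D.exists_mv_to' (i := 0) (j := 1) (by decide) hu huZ hu' huZ'
    have hgH : g ∈ HH (Z 0) := ChoiceBase.mem_normalizer_iff_cj.2 hgZ
    have h1 : g * (u * y) * g⁻¹ ∈ centralizer (K : Set G) :=
      (mem_normalizer_iff.1 (NO3L.LemP.normalizer_le_normalizer_cent K (hKn hgH)) _).1 h
    have h2 : y * g = g * y := mem_centralizer_iff.1 hgc y (D.ZU' 1 (hZ1 u hu y hy h))
    have e : g * (u * y) * g⁻¹ = g * u * g⁻¹ * y := by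
      calc g * (u * y) * g⁻¹ = g * u * g⁻¹ * (g * y) * g⁻¹ := by group
        _ = g * u * g⁻¹ * (y * g) * g⁻¹ := by rw [h2]
        _ = _ := by group
    rwa [e] at h1
  -- `y(u) = 1`
  have hone : ∀ u ∈ U 0, u ∉ Z 0 → u ∈ centralizer (K : Set G) := by
    intro u hu huZ
    obtain ⟨y, hy, h⟩ := hR1 u hu
    obtain ⟨u', hu', huZ', huu⟩ : ∃ u' ∈ U 0, u' ∉ Z 0 ∧ u * u' ∉ Z 0 := by
      by_contra hcon
      push Not at hcon
      classical
      let f : U 0 → Z 0 × Bool := fun x => if hx : (x : G) ∈ Z 0 then (⟨x, hx⟩, true) else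
        (⟨u * x, hcon x x.2 hx⟩, false)
      have hf : Function.Injective f := by
        intro x x' e
        by_cases hx : (x : G) ∈ Z 0 <;> by_cases hx' : (x' : G) ∈ Z 0
        · simp only [f, hx, hx', dif_pos, Prod.mk.injEq, Subtype.mk.injEq, and_true] at e
          exact Subtype.ext e
        · simp [f, hx, hx'] at e
        · simp [f, hx, hx'] at e
        · simp only [f, hx, hx', dif_neg, not_false_eq_true, Prod.mk.injEq, Subtype.mk.injEq, and_true] at e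
          exact Subtype.ext (mul_left_cancel e)
      have h1 := Nat.card_le_card_of_injective f hf
      rw [Nat.card_prod, D.cardU, D.cardZ, Nat.card_eq_fintype_card (α := Bool), Fintype.card_bool] at h1
      nlinarith
    have h1 := hconst u hu huZ u' hu' huZ' y hy h
    have h2 := hmul u hu u' hu' y hy y hy h h1
    have h3 : y * y = 1 := by rw [← pow_two]; exact (eab_iff.1 (D.N_eab 0)).2 y hy
    rw [h3] at h2
    have h4 := hconst u hu huZ (u * u') (mul_mem hu hu') huu y hy h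
    have h5 : y = 1 := huniq (u * u') y 1 hy (one_mem _) h4 h2
    rwa [h5, mul_one] at h
  -- so `K` centralises `U 0`
  refine comm_symm fun u hu => ?_
  by_cases huZ : u ∈ Z 0
  · exact (comm_symm D.KC_le) huZ
  · exact hone u hu huZ

/-- **THEOREM C without radical.** -/
theorem thmC2_nr (hq : 2 < q) (hnr : ¬ Z 0 ≤ NN Z (Z 0)) (hT : SylU0 Z U) (hdone : DoneQ Z U) :
    ThmC2 Z (XW Z U) := by
  have key : ∀ A : Subgroup G, IsPGroup 2 A → A ≤ centralizer (Z 0 : Set G) →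
      (∀ x ∈ XW Z U (Z 0), ∀ g ∈ A, x * g * x⁻¹ * g⁻¹ ∈ NN Z (Z 0)) → A ≤ centralizer (NN Z (Z 0) : Set G) := by
    intro A hA hAc hAx
    by_contra hmv
    obtain ⟨g, hg, hgN⟩ := SetLike.not_le_iff_exists.1 hmv
    have hgK : g ∈ D.KC := ⟨hAc hg, fun x hx => hAx x hx g hg⟩
    have hg2 : IsPGroup 2 (zpowers g) := hA.to_le ((zpowers_le).2 hg)
    refine hdone D.KC D.KC_le D.HH_norm_KC ⟨g, hgK, hg2, hgN⟩ ?_
    exact (D.KC_cent hq hnr hT fun h => hgN (h hgK)).trans (centralizer_le_normalizer _)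
  rintro _ ⟨k, rfl⟩ A hA hAc hAx
  have h1 : MulAut.conj k⁻¹ • A ≤ centralizer (NN Z (Z 0) : Set G) := by
    refine key _ (hA.map _) ?_ ?_
    · have h2 := conj_le_centralizer (g := k⁻¹) hAc
      rwa [inv_conj_conj] at h2
    · rintro x hx _ ⟨g, hg, rfl⟩
      have hx' : k * x * k⁻¹ ∈ XW Z U (MulAut.conj k • Z 0) := by
        rw [XW_conj]
        exact ⟨x, hx, rfl⟩
      have h3 := hAx _ hx' g hg
      rw [NN_conj, mem_conj] at h3
      change x * (k⁻¹ * g * k⁻¹⁻¹) * x⁻¹ * (k⁻¹ * g * k⁻¹⁻¹)⁻¹ ∈ NN Z (Z 0)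
      have e : x * (k⁻¹ * g * k⁻¹⁻¹) * x⁻¹ * (k⁻¹ * g * k⁻¹⁻¹)⁻¹ =
          k⁻¹ * (k * x * k⁻¹ * g * (k * x * k⁻¹)⁻¹ * g⁻¹) * k := by group
      rw [e]
      exact h3
  rw [NN_conj]
  have h2 := conj_le_centralizer (g := k) h1
  rwa [conj_inv_conj] at h2

/-- `OneB` from THEOREM C -/
theorem oneB_of_thmC2 (hNO : NoDQ Z) (hG : ThmC2 Z (XW Z U)) : OneB Z U := by
  intro i A hA hc
  obtain ⟨hex, -, -⟩ := D.exact_AA hNO i hA
  have hAO := hA.2.1
  have hXX := (eab_iff.1 (D.XW_eab i)).1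
  have hNX : NN Z (Z i) ≤ XW Z U (Z i) := le_sup_left
  have h1 := relIndex_le_of_AA (D.XW_eab i) ((D.XW_le_Q i).trans (D.Q_le_O i)) hA
  have h2 : (centralizer (XW Z U (Z i) : Set G)).relIndex A ≤ (centralizer (NN Z (Z i) : Set G)).relIndex A := by
    rw [← Subgroup.inf_relIndex_left, ← Subgroup.inf_relIndex_left (H := A) (K := centralizer (NN Z (Z i) : Set G))]
    exact Subgroup.relIndex_le_of_le_left (le_inf inf_le_left hc) Subgroup.index_ne_zero_of_finite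
  have h3 := TCQ.R.OneA.sup_of_relIndex hNX ((h1.trans h2).trans hex.le)
  refine hG (Z i) (D.pt i) A (D.B2.to_le (hAO.trans D.O_le_B)) (hAO.trans (D.O_le_B.trans (D.B_le.trans (D.D_le_cent i))))
    fun x hx g hg => ?_
  obtain ⟨n, hn, c, hc', rfl⟩ := OM.PG.Peel.exists_mul_of_comm (V := NN Z (Z i)) (D := XW Z U (Z i) ⊓ centralizer (A : Set G))
    (hNX.trans (hXX.trans (centralizer_le inf_le_left))) (h3 hx)
  have e1 : c * g = g * c := (mem_centralizer_iff.1 hc'.2 g hg).symm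
  have e2 : n * c * g * (n * c)⁻¹ * g⁻¹ = n * (g * n⁻¹ * g⁻¹) := by
    calc n * c * g * (n * c)⁻¹ * g⁻¹ = n * (c * g) * c⁻¹ * n⁻¹ * g⁻¹ := by group
      _ = n * (g * c) * c⁻¹ * n⁻¹ * g⁻¹ := by rw [e1]
      _ = _ := by group
  rw [e2]
  exact mul_mem hn (D.B_norm_N i (D.O_le_B (hAO hg)) (inv_mem hn))

/-- `TA'` from THEOREM C -/
theorem ta'_of_thmC2 (hNO : NoP Z) (hG : ThmC2 Z (XW Z U)) : TwoI.TA' Z (XW Z U) := fun d a b h _ =>
  ExactQ.ta_of D.toPP D.xf D.nobX D.tip hNO hG d a b h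

end FQ

end Cfsg.Agent.Omega.NO3S.EThree

end

section


/-!
# The point geometry of `N_a` without radical, in group form (helper997 #19952 (1), (3); helper925 PtGeo, TBig)

`ND N Pt X q` : `GD` (points of order `q ≥ 3` in the elementary abelian group `N`, groups `X p` of transvections with
centre `p`), no vector `≠ 1` of `N` is centralised by all `X p`, every point lies on a line (a subgroup of order `q²`
which is a union of pairwise perpendicular points), and the graph 'some element of `X p` moves `x`' is connected.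

* `ND.one`, `ND.sym`, `ND.ix`, `ND.hyp`, `ND.vect`, `ND.sep`, `ND.two` : group forms of the statements of `PtGeo`;
  every element `≠ 1` of `N` lies in a point, perpendicularity is symmetric, `N = r C_N(X p)` if `r` is not perpendicular
  to `p`, different points have different perps.
-/

set_option autoImplicit false
set_option linter.unusedSectionVars false

namespace Cfsg.Agent.Omega.NO3S.EThree.NrGeo

open Subgroup
open Cfsg.Agent.Omega.OmThm.Grp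
open Cfsg.Agent.Omega.NO3S.EThree.PtGeo (pr mp mem_mp Geo GeoL GeoO Cn Col)
open scoped Pointwise IsMulCommutative

universe u

variable {G : Type u} [Group G]

/-- The data, with lines. -/
structure ND (N : Subgroup G) (Pt : Set (Subgroup G)) (X : Subgroup G → Subgroup G) (q : ℕ) : Prop
    extends GD N Pt X q where
  nk : ∀ v ∈ N, (∀ p ∈ Pt, ∀ g ∈ X p, g * v = v * g) → v = 1
  line : ∀ p ∈ Pt, ∃ V : Subgroup G, p ≤ V ∧ V ≤ N ∧ Nat.card V ≤ q * q ∧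
    (∀ v ∈ V, v ≠ 1 → ∃ s ∈ Pt, s ≤ V ∧ v ∈ s) ∧ (∀ s ∈ Pt, s ≤ V → X s ≤ centralizer (V : Set G)) ∧
    ∃ r ∈ Pt, r ≤ V ∧ r ≠ p
  ex : Pt.Nonempty
  conn : ∀ p ∈ Pt, ∀ x ∈ Pt, Relation.ReflTransGen (fun a b => a ∈ Pt ∧ b ∈ Pt ∧ (Mv X a b ∨ Mv X b a)) p x

/-- the product of two commuting subgroups -/
theorem mem_sup_comm {A B : Subgroup G} (h : B ≤ centralizer (A : Set G)) {g : G} (hg : g ∈ A ⊔ B) :
    ∃ a ∈ A, ∃ b ∈ B, a * b = g := by
  let K : Subgroup G :=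
    { carrier := {g | ∃ a ∈ A, ∃ b ∈ B, a * b = g}
      one_mem' := ⟨1, one_mem _, 1, one_mem _, one_mul _⟩
      mul_mem' := by
        rintro _ _ ⟨a, ha, b, hb, rfl⟩ ⟨a', ha', b', hb', rfl⟩
        refine ⟨a * a', mul_mem ha ha', b * b', mul_mem hb hb', ?_⟩
        have e : a' * b = b * a' := mem_centralizer_iff.1 (h hb) a' ha'
        calc a * a' * (b * b') = a * (a' * b) * b' := by group
          _ = a * b * (a' * b') := by rw [e]; group
      inv_mem' := by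
        rintro _ ⟨a, ha, b, hb, rfl⟩
        refine ⟨a⁻¹, inv_mem ha, b⁻¹, inv_mem hb, ?_⟩
        have e : a * b = b * a := mem_centralizer_iff.1 (h hb) a ha
        rw [e, mul_inv_rev] }
  have h1 : A ⊔ B ≤ K := sup_le (fun a ha => ⟨a, ha, 1, one_mem _, mul_one _⟩)
    fun b hb => ⟨1, one_mem _, b, hb, one_mul _⟩
  exact h1 hg

/-- the automorphisms -/
def Tt (N : Subgroup G) [IsMulCommutative N] (Pt : Set (Subgroup G)) (X : Subgroup G → Subgroup G)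
    (A : AddSubgroup (Additive N)) : Set (Additive N ≃+ Additive N) :=
  {t | ∃ p ∈ Pt, A = pt N p ∧ ∃ w ∈ X p, ∀ v, (((t v).toMul : N) : G) = w * ((v.toMul : N) : G) * w⁻¹}

namespace ND

variable {N : Subgroup G} {Pt : Set (Subgroup G)} {X : Subgroup G → Subgroup G} {q : ℕ}

section comm

variable [IsMulCommutative N] (D : ND N Pt X q)
include D

theorem exists_ne {p : Subgroup G} (hp : p ∈ Pt) : ∃ v ∈ p, v ≠ 1 := by
  by_contra hcon
  push Not at hcon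
  have h1 : p = ⊥ := (eq_bot_iff_forall _).2 hcon
  have h2 := D.card p hp
  rw [h1, Subgroup.card_bot] at h2
  have := D.hq
  omega

omit D in
/-- conjugation by `w` as an automorphism of `N` -/
theorem exists_t {w : G} (hw : ∀ v ∈ N, w * v * w⁻¹ ∈ N) (hw' : ∀ v ∈ N, w⁻¹ * v * w ∈ N) :
    ∃ t : Additive N ≃+ Additive N, ∀ v, (((t v).toMul : N) : G) = w * ((v.toMul : N) : G) * w⁻¹ := by
  refine ⟨MulEquiv.toAdditive
    { toFun := fun v => ⟨w * v * w⁻¹, hw v v.2⟩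
      invFun := fun v => ⟨w⁻¹ * v * w, hw' v v.2⟩
      left_inv := fun v => Subtype.ext (by simp [mul_assoc])
      right_inv := fun v => Subtype.ext (by simp [mul_assoc])
      map_mul' := fun a b => Subtype.ext (by simp [mul_assoc]) }, fun v => rfl⟩

theorem conj_N {p : Subgroup G} (hp : p ∈ Pt) {w v : G} (hw : w ∈ X p) (hv : v ∈ N) : w * v * w⁻¹ ∈ N := by
  have h1 := D.le p hp (D.XN p hp w hw v hv)
  have e : w * v * w⁻¹ = w * v * w⁻¹ * v⁻¹ * v := by group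
  rw [e]
  exact mul_mem h1 hv

theorem conj_N' {p : Subgroup G} (hp : p ∈ Pt) {w v : G} (hw : w ∈ X p) (hv : v ∈ N) : w⁻¹ * v * w ∈ N := by
  have := D.conj_N hp (inv_mem hw) hv
  rwa [inv_inv] at this

theorem exists_Tt {p : Subgroup G} (hp : p ∈ Pt) {w : G} (hw : w ∈ X p) :
    ∃ t ∈ Tt N Pt X (pt N p), ∀ v, (((t v).toMul : N) : G) = w * ((v.toMul : N) : G) * w⁻¹ := by
  obtain ⟨t, ht⟩ := exists_t (w := w) (fun v hv => D.conj_N hp hw hv) (fun v hv => D.conj_N' hp hw hv)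
  exact ⟨t, ⟨p, hp, rfl, w, hw, ht⟩, ht⟩

theorem mem_Tt {p : Subgroup G} (hp : p ∈ Pt) {t : Additive N ≃+ Additive N} (ht : t ∈ Tt N Pt X (pt N p)) :
    ∃ w ∈ X p, ∀ v, (((t v).toMul : N) : G) = w * ((v.toMul : N) : G) * w⁻¹ := by
  obtain ⟨p', hp', he, w, hw, h⟩ := ht
  have := pt_inj (D.le p hp) (D.le p' hp') he
  subst this
  exact ⟨w, hw, h⟩

theorem mem_pr {p : Subgroup G} (hp : p ∈ Pt) {m : Additive N} :
    m ∈ pr (Tt N Pt X) (pt N p) ↔ ∀ w ∈ X p, w * ((m.toMul : N) : G) = ((m.toMul : N) : G) * w := by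
  constructor
  · intro h w hw
    obtain ⟨t, ht, e⟩ := D.exists_Tt hp hw
    have h1 := congrArg (fun t : Additive N => ((t.toMul : N) : G)) (h t ht)
    change (((t m).toMul : N) : G) = ((m.toMul : N) : G) at h1
    rw [e, mul_inv_eq_iff_eq_mul] at h1
    exact h1
  · intro h t ht
    obtain ⟨w, hw, e⟩ := D.mem_Tt hp ht
    refine Subtype.ext ?_
    change (((t m).toMul : N) : G) = ((m.toMul : N) : G)
    rw [e, mul_inv_eq_iff_eq_mul]
    exact h w hw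

theorem le_pr {p x : Subgroup G} (hp : p ∈ Pt) (hx : x ∈ Pt) :
    pt N x ≤ pr (Tt N Pt X) (pt N p) ↔ X p ≤ centralizer (x : Set G) := by
  constructor
  · intro h w hw
    refine mem_centralizer_iff.2 fun v hv => ?_
    exact (((D.mem_pr hp).1 (h (x := Additive.ofMul (⟨v, D.le x hx hv⟩ : N)) hv)) w hw).symm
  · intro h m hm
    exact (D.mem_pr hp).2 fun w hw => (mem_centralizer_iff.1 (h hw) _ hm).symm

theorem mp_pt {x : Subgroup G} (hx : x ∈ Pt) {w : G} {t : Additive N ≃+ Additive N}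
    (e : ∀ v, (((t v).toMul : N) : G) = w * ((v.toMul : N) : G) * w⁻¹) :
    mp t (pt N x) = pt N (MulAut.conj w • x) := by
  ext m
  rw [mem_mp, mem_pt]
  constructor
  · rintro ⟨y, hy, rfl⟩
    rw [e]
    exact ⟨_, hy, rfl⟩
  · rintro ⟨y, hy, e1⟩
    replace e1 : w * y * w⁻¹ = ((m.toMul : N) : G) := e1
    refine ⟨Additive.ofMul (⟨y, D.le x hx hy⟩ : N), hy, ?_⟩
    refine Subtype.ext ?_
    change (((t _).toMul : N) : G) = ((m.toMul : N) : G)
    rw [e, ← e1]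
    rfl

/-- `η` fixes a vector of a point: it fixes the point vectorwise -/
theorem eta_one {p x : Subgroup G} (hp : p ∈ Pt) (hx : x ∈ Pt) {η : Additive N →+ Additive N}
    (hη : η ∈ TT Pt X (pt N p)) {b : Additive N} (hb : b ∈ pt N x) (hb0 : b ≠ 0) (h : η b = 0) :
    ∀ v ∈ pt N x, η v = 0 := by
  obtain ⟨y, hy, h1, -, -, -⟩ := D.toGD.move hp hη hx
  have h2 : b ∈ pt N y := by
    have := h1 b hb
    rwa [h, add_zero] at this
  have h3 : pt N x = pt N y := D.toGD.ti' hx hy hb h2 hb0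
  intro v hv
  by_contra hne
  have h4 : v + η v ∈ pt N x := h3 ▸ h1 v hv
  have h5 : η v ∈ pt N x := by
    have := sub_mem h4 hv
    rwa [add_sub_cancel_left] at this
  have h6 : pt N p = pt N x := D.toGD.ti' hp hx (D.toGD.im hp hη v) h5 hne
  exact hne (D.toGD.ker hp hη (h6 ▸ hv))

theorem moves_all {p₀ p : Subgroup G} (hp₀ : p₀ ∈ Pt) (hp : p ∈ Pt) (h : ¬ X p₀ ≤ centralizer (N : Set G)) :
    ¬ X p ≤ centralizer (N : Set G) := by
  intro h1
  apply h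
  have h2 := D.cardT p hp p₀ hp₀
  rw [relIndex_eq_one.2 h1] at h2
  exact relIndex_eq_one.1 h2.symm

theorem exists_moved {p : Subgroup G} (h : ¬ X p ≤ centralizer (N : Set G)) :
    ∃ x ∈ Pt, ¬ X p ≤ centralizer (x : Set G) := by
  by_contra hcon
  push Not at hcon
  apply h
  have h1 : N ≤ centralizer (X p : Set G) := D.span.trans (sSup_le fun x hx => by
    have := hcon x hx
    rwa [le_centralizer_iff] at this)
  rwa [le_centralizer_iff] at h1

theorem exists_mv : ∃ p ∈ Pt, ¬ X p ≤ centralizer (N : Set G) := by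
  by_contra hcon
  push Not at hcon
  obtain ⟨p, hp⟩ := D.ex
  obtain ⟨v, hv, hv1⟩ := D.exists_ne hp
  refine hv1 (D.nk v (D.le p hp hv) fun x hx g hg => ?_)
  exact (mem_centralizer_iff.1 (hcon x hx hg) v (D.le p hp hv)).symm

theorem mv_all {p : Subgroup G} (hp : p ∈ Pt) : ¬ X p ≤ centralizer (N : Set G) := by
  obtain ⟨p₀, hp₀, h⟩ := D.exists_mv
  exact D.moves_all hp₀ hp h

theorem adj_iff {p x : Subgroup G} (hp : p ∈ Pt) (hx : x ∈ Pt) :
    Big.Adj (TT Pt X) (pt N p) (pt N x) ↔ ¬ X p ≤ centralizer (x : Set G) := by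
  constructor
  · rintro ⟨η, hη, v, hv, hne⟩ h
    obtain ⟨w, hw, e⟩ := (D.toGD.mem_TT hp).1 hη
    exact hne ((isC_zero e).2 (mem_centralizer_iff.1 (h hw) _ hv).symm)
  · exact fun h => D.toGD.adj_of hp hx h

theorem bd : Big.Bd (pt N '' Pt) (TT Pt X) where
  ne := by
    rintro _ ⟨p, hp, rfl⟩
    obtain ⟨v, hv, hv1⟩ := D.exists_ne hp
    exact ⟨Additive.ofMul (⟨v, D.le p hp hv⟩ : N), hv, fun e =>
      hv1 (congrArg (fun t : Additive N => ((t.toMul : N) : G)) e)⟩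
  ti := by rintro _ ⟨p, hp, rfl⟩ _ ⟨x, hx, rfl⟩ v h1 h2 h0; exact D.toGD.ti' hp hx h1 h2 h0
  im := by rintro _ ⟨p, hp, rfl⟩ η hη v; exact D.toGD.im hp hη v
  ker := by rintro _ ⟨p, hp, rfl⟩ η hη v hv; exact D.toGD.ker hp hη hv
  one := by rintro _ ⟨p, hp, rfl⟩ _ ⟨x, hx, rfl⟩ η hη b hb hb0 h; exact D.eta_one hp hx hη hb hb0 h
  cl := by rintro _ ⟨p, hp, rfl⟩ _ ⟨x, hx, rfl⟩ φ hφ ψ hψ h0; exact D.toGD.cl hp hx hφ hψ h0
  sur := by
    rintro _ ⟨p, hp, rfl⟩ _ ⟨x, hx, rfl⟩ ⟨η, hη, v, hv, hne⟩ b hb hb0 a ha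
    have h1 : η b ≠ 0 := fun h => hne (D.eta_one hp hx hη hb hb0 h v hv)
    obtain ⟨η', h2, h3, -⟩ := D.toGD.reg' hp hη h1 ha
    exact ⟨η', h2, h3⟩
  cardP := by rintro _ ⟨p, hp, rfl⟩ _ ⟨x, hx, rfl⟩; rw [D.toGD.card' hp, D.toGD.card' hx]
  cardT := by
    rintro _ ⟨p, hp, rfl⟩ _ ⟨x, hx, rfl⟩
    rw [D.toGD.card_TT hp, D.toGD.card_TT hx]
    exact D.cardT p hp x hx
  span := by
    intro η h
    have h1 : (⊤ : AddSubgroup (Additive N)) ≤ η.ker := by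
      rw [← D.toGD.span']
      exact iSup₂_le fun p hp v hv => h p hp v hv
    exact DFunLike.ext _ _ fun v => h1 (AddSubgroup.mem_top v)
  nbr := by
    rintro _ ⟨p, hp, rfl⟩
    obtain ⟨x, hx, h⟩ := D.exists_moved (D.mv_all hp)
    exact ⟨_, ⟨x, hx, rfl⟩, (D.adj_iff hp hx).2 h⟩

theorem pt_le {x V : Subgroup G} (hx : x ≤ N) : pt N x ≤ pt N V ↔ x ≤ V := by
  constructor
  · intro h v hv
    exact h (x := Additive.ofMul (⟨v, hx hv⟩ : N)) hv
  · exact fun h v hv => h hv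

theorem card_line {p r V : Subgroup G} [Finite G] (hp : p ∈ Pt) (hr : r ∈ Pt) (hpV : p ≤ V) (hrV : r ≤ V)
    (hpr : p ≠ r) (hV : Nat.card V ≤ q * q) : V = p ⊔ r := by
  have hle : p ⊔ r ≤ V := sup_le hpV hrV
  have hcc : r ≤ centralizer (p : Set G) := fun y hy =>
    mem_centralizer_iff.2 fun x hx => D.comm x (D.le p hp hx) y (D.le r hr hy)
  refine (Subgroup.eq_of_le_of_card_ge hle (hV.trans ?_)).symm
  let f : p × r → (p ⊔ r : Subgroup G) := fun z => ⟨(z.1 : G) * (z.2 : G),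
    mul_mem (mem_sup_left z.1.2) (mem_sup_right z.2.2)⟩
  have hinj : Function.Injective f := by
    rintro ⟨a, b⟩ ⟨a', b'⟩ h
    have h1 : (a : G) * (b : G) = (a' : G) * (b' : G) := congrArg Subtype.val h
    have h2 : (a' : G)⁻¹ * (a : G) = (b' : G) * (b : G)⁻¹ := by
      calc (a' : G)⁻¹ * (a : G) = (a' : G)⁻¹ * ((a : G) * (b : G)) * (b : G)⁻¹ := by group
        _ = (b' : G) * (b : G)⁻¹ := by rw [h1]; group
    have h3 : (a' : G)⁻¹ * (a : G) = 1 := by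
      by_contra hne
      refine hpr (D.ti p hp r hr _ (mul_mem (inv_mem a'.2) a.2) ?_ hne)
      rw [h2]
      exact mul_mem b'.2 (inv_mem b.2)
    have h4 : (a : G) = (a' : G) := (inv_mul_eq_one.1 h3).symm
    have h5 : (b : G) = (b' : G) := by
      rw [h4] at h1
      exact mul_left_cancel h1
    exact Prod.ext (Subtype.ext h4) (Subtype.ext h5)
  have h1 := Nat.card_le_card_of_injective f hinj
  rwa [Nat.card_prod, D.card p hp, D.card r hr] at h1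

variable [Finite G]

theorem q_le {p : Subgroup G} (hp : p ∈ Pt) : Nat.card (TT Pt X (pt N p)) ≤ q := by
  by_contra hlt
  push Not at hlt
  have hfin0 : Finite (Additive N) := inferInstanceAs (Finite N)
  obtain ⟨V, hpV, hVN, hVc, hcov, hperp, r, hr, hrV, hrp⟩ := D.line p hp
  refine D.bd.false_of_line (V := pt N V) ?_
    { cov := ?_, perp := ?_, gen := ?_, two := ?_, ex := ⟨_, ⟨p, hp, rfl⟩, (D.pt_le (D.le p hp)).2 hpV⟩ }
  · rintro _ ⟨x, hx, rfl⟩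
    rw [D.toGD.card' hx, D.toGD.card_TT hx, D.cardT x hx p hp, ← D.toGD.card_TT hp]
    exact hlt
  · intro v hv hv0
    obtain ⟨s, hs, hsV, hvs⟩ := hcov _ hv fun e => hv0 (Subtype.ext e)
    exact ⟨_, ⟨s, hs, rfl⟩, (D.pt_le (D.le s hs)).2 hsV, hvs⟩
  · rintro _ ⟨s, hs, rfl⟩ hsV _ ⟨x, hx, rfl⟩ hxV
    rw [D.adj_iff hs hx, not_not]
    exact (hperp s hs ((D.pt_le (D.le s hs)).1 hsV)).trans (centralizer_le ((D.pt_le (D.le x hx)).1 hxV))
  · rintro _ ⟨s, hs, rfl⟩ hsV _ ⟨x, hx, rfl⟩ hxV hne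
    have h1 := D.card_line hs hx ((D.pt_le (D.le s hs)).1 hsV) ((D.pt_le (D.le x hx)).1 hxV)
      (fun e => hne (by rw [e])) hVc
    intro v hv
    have h2 : ((v.toMul : N) : G) ∈ s ⊔ x := h1 ▸ hv
    have hcc : x ≤ centralizer (s : Set G) := fun y hy =>
      mem_centralizer_iff.2 fun z hz => D.comm z (D.le s hs hz) y (D.le x hx hy)
    obtain ⟨a, ha, b, hb, e⟩ := mem_sup_comm hcc h2
    rw [AddSubgroup.mem_sup]
    exact ⟨Additive.ofMul (⟨a, D.le s hs ha⟩ : N), ha, Additive.ofMul (⟨b, D.le x hx hb⟩ : N), hb, Subtype.ext e⟩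
  · rintro _ ⟨s, hs, rfl⟩ hsV
    by_cases h : s = p
    · subst h
      exact ⟨_, ⟨r, hr, rfl⟩, (D.pt_le (D.le r hr)).2 hrV, fun e => hrp (pt_inj (D.le r hr) (D.le s hs) e)⟩
    · exact ⟨_, ⟨p, hp, rfl⟩, (D.pt_le (D.le p hp)).2 hpV, fun e => h (pt_inj (D.le p hp) (D.le s hs) e).symm⟩

/-- the evaluation at a moved vector is injective -/
theorem eta_inj {p : Subgroup G} (hp : p ∈ Pt) {η η' : Additive N →+ Additive N} (hη : η ∈ TT Pt X (pt N p))
    (hη' : η' ∈ TT Pt X (pt N p)) {b : Additive N} (hb : η b ≠ 0) (h : η' b = 0) : η' = 0 := by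
  have hfin0 : Finite (Additive N) := inferInstanceAs (Finite N)
  have hfin : Finite (Additive N →+ Additive N) := Big.Bd.finite_hom
  let f : TT Pt X (pt N p) → pt N p := fun τ => ⟨τ.1 b, D.toGD.im hp τ.2 b⟩
  have hs : Function.Surjective f := by
    intro a
    obtain ⟨ψ, hψ, h2, -⟩ := D.toGD.reg' hp hη hb a.2
    exact ⟨⟨ψ, hψ⟩, Subtype.ext h2⟩
  have hbij : Function.Bijective f := hs.bijective_of_nat_card_le (by rw [D.toGD.card' hp]; exact D.q_le hp)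
  have h1 : f ⟨η', hη'⟩ = f 0 := Subtype.ext h
  exact congrArg Subtype.val (hbij.1 h1)

theorem ix_add {p r : Subgroup G} (hp : p ∈ Pt) (hr : r ∈ Pt) (h : ¬ X p ≤ centralizer (r : Set G)) (m : Additive N) :
    ∃ x ∈ pt N r, ∀ η ∈ TT Pt X (pt N p), η (m - x) = 0 := by
  obtain ⟨η₀, hη₀, b, hb, hne⟩ := (D.adj_iff hp hr).2 h
  let f : pt N r → pt N p := fun v => ⟨η₀ v, D.toGD.im hp hη₀ v⟩
  have hf : Function.Injective f := by
    intro v v' e
    have e' : η₀ v = η₀ v' := congrArg Subtype.val e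
    by_contra h1
    refine hne (D.eta_one hp hr hη₀ (sub_mem v.2 v'.2) (sub_ne_zero.2 fun e => h1 (Subtype.ext e)) ?_ b hb)
    rw [map_sub, e', sub_self]
  have : Finite (pt N p) := inferInstanceAs (Finite (pt N p))
  have hbij := hf.bijective_of_nat_card_le (by rw [D.toGD.card' hp, D.toGD.card' hr])
  obtain ⟨⟨x, hx⟩, e⟩ := hbij.2 ⟨η₀ m, D.toGD.im hp hη₀ m⟩
  have e' : η₀ x = η₀ m := congrArg Subtype.val e
  refine ⟨x, hx, fun η hη => ?_⟩
  by_contra h0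
  have h1 := D.eta_inj hp hη hη₀ h0 (by rw [map_sub, e', sub_self])
  exact hne (by rw [h1]; rfl)

theorem mem_pr_iff {p : Subgroup G} (hp : p ∈ Pt) {m : Additive N} :
    m ∈ pr (Tt N Pt X) (pt N p) ↔ ∀ η ∈ TT Pt X (pt N p), η m = 0 := by
  rw [D.mem_pr hp]
  constructor
  · intro h η hη
    obtain ⟨w, hw, e⟩ := (D.toGD.mem_TT hp).1 hη
    exact (isC_zero e).2 (h w hw)
  · intro h w hw
    obtain ⟨η, hη, e⟩ := D.toGD.exists_of hp hw
    exact (isC_zero e).1 (h η hη)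

theorem geo : Geo (pt N '' Pt) (Tt N Pt X) where
  ne := D.bd.ne
  ti := D.bd.ti
  mem := by
    rintro _ ⟨p, hp, rfl⟩ t ht m
    obtain ⟨w, hw, e⟩ := D.mem_Tt hp ht
    rw [sub_eq_add_neg, mem_pt]
    change (((t m).toMul : N) : G) * ((m.toMul : N) : G)⁻¹ ∈ p
    rw [e]
    exact D.XN p hp w hw _ (m.toMul : N).2
  self := by
    rintro _ ⟨p, hp, rfl⟩
    rw [D.le_pr hp hp]
    exact fun w hw => mem_centralizer_iff.2 fun v hv => (D.Xp p hp w hw v hv).symm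
  act := by
    rintro _ ⟨p, hp, rfl⟩ t ht _ ⟨x, hx, rfl⟩
    obtain ⟨w, hw, e⟩ := D.mem_Tt hp ht
    exact ⟨_, D.mv p hp w hw x hx, (D.mp_pt hx e).symm⟩
  cj := by
    rintro _ ⟨p, hp, rfl⟩ t ht _ ⟨x, hx, rfl⟩ m
    obtain ⟨w, hw, e⟩ := D.mem_Tt hp ht
    rw [D.mp_pt hx e, D.mem_pr (D.mv p hp w hw x hx), D.mem_pr hx, D.Xc p hp w hw x hx]
    constructor
    · intro h g hg
      have h1 := h (w * g * w⁻¹) ⟨g, hg, rfl⟩
      rw [e] at h1
      have h2 : w⁻¹ * (w * g * w⁻¹ * (w * ((m.toMul : N) : G) * w⁻¹)) * w =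
          w⁻¹ * (w * ((m.toMul : N) : G) * w⁻¹ * (w * g * w⁻¹)) * w := by rw [h1]
      calc g * ((m.toMul : N) : G) = w⁻¹ * (w * g * w⁻¹ * (w * ((m.toMul : N) : G) * w⁻¹)) * w := by group
        _ = w⁻¹ * (w * ((m.toMul : N) : G) * w⁻¹ * (w * g * w⁻¹)) * w := h2
        _ = _ := by group
    · rintro h _ ⟨g, hg, rfl⟩
      change (w * g * w⁻¹) * (((t m).toMul : N) : G) = (((t m).toMul : N) : G) * (w * g * w⁻¹)
      rw [e]
      calc (w * g * w⁻¹) * (w * ((m.toMul : N) : G) * w⁻¹) = w * (g * ((m.toMul : N) : G)) * w⁻¹ := by group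
        _ = w * (((m.toMul : N) : G) * g) * w⁻¹ := by rw [h g hg]
        _ = _ := by group
  sur := by
    rintro _ ⟨p, hp, rfl⟩ m hm v hv
    rw [D.mem_pr hp] at hm
    push Not at hm
    obtain ⟨w, hw, hne⟩ := hm
    obtain ⟨w', hw', e, -⟩ := D.reg p hp w hw _ (m.toMul : N).2 hne _ hv
    obtain ⟨t, ht, e'⟩ := D.exists_Tt hp hw'
    refine ⟨t, ht, ?_⟩
    rw [add_comm]
    refine Subtype.ext ?_
    change (((t m).toMul : N) : G) = ((v.toMul : N) : G) * ((m.toMul : N) : G)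
    have e2 : w' * ((m.toMul : N) : G) * w'⁻¹ * ((m.toMul : N) : G)⁻¹ = ((v.toMul : N) : G) := e
    rw [e', ← e2]
    group
  sym := by
    rintro _ ⟨p, hp, rfl⟩ _ ⟨x, hx, rfl⟩ h
    rw [D.le_pr hx hp]
    rw [D.le_pr hp hx] at h
    by_contra hcon
    have hfin0 : Finite (Additive N) := inferInstanceAs (Finite N)
    exact (D.adj_iff hp hx).1 (D.bd.symm ⟨x, hx, rfl⟩ ⟨p, hp, rfl⟩ ((D.adj_iff hx hp).2 hcon)) h
  ix := by
    rintro _ ⟨p, hp, rfl⟩ _ ⟨x, hx, rfl⟩ h m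
    rw [D.le_pr hp hx] at h
    obtain ⟨x₀, h1, h2⟩ := D.ix_add hp hx h m
    exact ⟨x₀, h1, (D.mem_pr_iff hp).2 h2⟩

theorem nk_add {m : Additive N} (h : ∀ p ∈ Pt, m ∈ pr (Tt N Pt X) (pt N p)) : m = 0 := by
  have h1 : ((m.toMul : N) : G) = 1 := D.nk _ (m.toMul : N).2 fun p hp g hg => (D.mem_pr hp).1 (h p hp) g hg
  exact Subtype.ext h1

theorem geoL : GeoL (pt N '' Pt) (Tt N Pt X) where
  toGeo := D.geo
  o2 := by
    rintro _ - _ - t - t' - h m
    have h1 : t' (t m) - m = 0 := D.nk_add fun p hp => h m _ ⟨p, hp, rfl⟩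
    exact sub_eq_zero.1 h1
  line := by
    rintro _ ⟨p, hp, rfl⟩
    obtain ⟨V, hpV, hVN, hVc, hcov, hperp, r, hr, hrV, hrp⟩ := D.line p hp
    refine ⟨_, ⟨r, hr, rfl⟩, fun e => hrp (pt_inj (D.le p hp) (D.le r hr) e).symm, ?_, ?_⟩
    · rw [D.le_pr hp hr]
      exact (hperp p hp hpV).trans (centralizer_le hrV)
    · intro v hv hv0
      have h1 : pt N p ⊔ pt N r ≤ pt N V :=
        sup_le ((D.pt_le (D.le p hp)).2 hpV) ((D.pt_le (D.le r hr)).2 hrV)
      obtain ⟨s, hs, hsV, hvs⟩ := hcov _ (h1 hv) fun e => hv0 (Subtype.ext e)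
      refine ⟨_, ⟨s, hs, rfl⟩, hvs, ?_⟩
      -- `V = p ⊔ r`
      have h2 := D.card_line hp hr hpV hrV hrp.symm hVc
      intro m hm
      have h3 : ((m.toMul : N) : G) ∈ p ⊔ r := h2 ▸ hsV hm
      obtain ⟨a, ha, b, hb, e⟩ := mem_sup_comm (fun y hy =>
        mem_centralizer_iff.2 fun z hz => D.comm z (D.le p hp hz) y (D.le r hr hy)) h3
      rw [AddSubgroup.mem_sup]
      exact ⟨Additive.ofMul (⟨a, D.le p hp ha⟩ : N), ha, Additive.ofMul (⟨b, D.le r hr hb⟩ : N), hb, Subtype.ext e⟩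
  nbr := by
    rintro _ ⟨p, hp, rfl⟩
    obtain ⟨x, hx, h⟩ := D.exists_moved (D.mv_all hp)
    exact ⟨_, ⟨x, hx, rfl⟩, fun h1 => h ((D.le_pr hp hx).1 h1)⟩
  top := by
    intro m
    have h1 : (⊤ : AddSubgroup (Additive N)) ≤ sSup (pt N '' Pt) := by
      rw [← D.toGD.span']
      exact iSup₂_le fun p hp => le_sSup hp
    exact h1 (AddSubgroup.mem_top m)

theorem cn {p x : Subgroup G} (hp : p ∈ Pt) (hx : x ∈ Pt) : Cn (pt N '' Pt) (Tt N Pt X) (pt N p) (pt N x) := by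
  have hpp : Cn (pt N '' Pt) (Tt N Pt X) (pt N p) (pt N p) := D.geoL.cn_refl ⟨p, hp, rfl⟩
  have h := D.conn p hp x hx
  clear hx
  induction h with
  | refl => exact hpp
  | tail _ h2 ih =>
    obtain ⟨hb, hc, h3⟩ := h2
    refine D.geo.cn_step ⟨p, hp, rfl⟩ ⟨_, hb, rfl⟩ ⟨_, hc, rfl⟩ ih ?_
    rcases h3 with h3 | h3
    · exact fun h4 => h3 ((D.le_pr hb hc).1 h4)
    · exact fun h4 => h3 ((D.le_pr hc hb).1 (D.geo.sym _ ⟨_, hb, rfl⟩ _ ⟨_, hc, rfl⟩ h4))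

theorem geoO : GeoO (pt N '' Pt) (Tt N Pt X) where
  toGeoL := D.geoL
  cn := by
    rintro _ ⟨p, hp, rfl⟩ _ ⟨x, hx, rfl⟩
    exact D.cn hp hx
  nonempty := D.ex.image _

end comm

/-! ### Group forms -/

variable (D : ND N Pt X q)
include D

theorem isc : IsMulCommutative N := ⟨⟨fun a b => Subtype.ext (D.comm a a.2 b b.2)⟩⟩

/-- `X p` centralises a vector `≠ 1` of `x` : it centralises `x` -/
theorem one {p x : Subgroup G} (hp : p ∈ Pt) (hx : x ∈ Pt) {v : G} (hv : v ∈ x) (hv1 : v ≠ 1)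
    (h : ∀ w ∈ X p, w * v = v * w) : X p ≤ centralizer (x : Set G) := by
  intro w hw
  have h1 : MulAut.conj w • x = x := by
    refine D.ti _ (D.mv p hp w hw x hx) x hx v ⟨v, hv, ?_⟩ hv hv1
    change w * v * w⁻¹ = v
    rw [h w hw, mul_inv_cancel_right]
  refine mem_centralizer_iff.2 fun u hu => ?_
  by_contra hne
  have h2 : w * u * w⁻¹ ∈ x := h1 ▸ (⟨u, hu, rfl⟩ : w * u * w⁻¹ ∈ MulAut.conj w • x)
  have h3 : w * u * w⁻¹ * u⁻¹ ≠ 1 := by
    intro e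
    rw [mul_inv_eq_one, mul_inv_eq_iff_eq_mul] at e
    exact hne e.symm
  have h4 := D.ti p hp x hx _ (D.XN p hp w hw u (D.le x hx hu)) (mul_mem h2 (inv_mem hu)) h3
  subst h4
  exact hne (D.Xp p hp w hw u hu).symm

theorem exists_v {p : Subgroup G} (hp : p ∈ Pt) : ∃ v ∈ p, v ≠ 1 := by
  have := D.isc
  exact D.exists_ne hp

variable [Finite G]

theorem sym {p x : Subgroup G} (hp : p ∈ Pt) (hx : x ∈ Pt) (h : X p ≤ centralizer (x : Set G)) :
    X x ≤ centralizer (p : Set G) := by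
  have := D.isc
  exact (D.le_pr hx hp).1 (D.geo.sym _ ⟨p, hp, rfl⟩ _ ⟨x, hx, rfl⟩ ((D.le_pr hp hx).2 h))

/-- `N = r C_N(X p)` -/
theorem ix {p r : Subgroup G} (hp : p ∈ Pt) (hr : r ∈ Pt) (h : ¬ X p ≤ centralizer (r : Set G)) {m : G} (hm : m ∈ N) :
    ∃ x ∈ r, ∀ w ∈ X p, w * (m * x⁻¹) = (m * x⁻¹) * w := by
  have := D.isc
  obtain ⟨x, hx, h1⟩ := D.geo.ix _ ⟨p, hp, rfl⟩ _ ⟨r, hr, rfl⟩ (fun h1 => h ((D.le_pr hp hr).1 h1))
    (Additive.ofMul (⟨m, hm⟩ : N))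
  refine ⟨((x.toMul : N) : G), hx, ?_⟩
  rw [sub_eq_add_neg] at h1
  exact (D.mem_pr hp).1 h1

/-- hyperbolic lines are unions of points -/
theorem hyp {p r : Subgroup G} (hp : p ∈ Pt) (hr : r ∈ Pt) (h : ¬ X p ≤ centralizer (r : Set G)) {x y : G}
    (hx : x ∈ p) (hy : y ∈ r) (h1 : x * y ≠ 1) : ∃ s ∈ Pt, x * y ∈ s ∧ s ≤ p ⊔ r := by
  have := D.isc
  obtain ⟨_, ⟨s, hs, rfl⟩, h2, h3⟩ := D.geo.hyp' ⟨p, hp, rfl⟩ ⟨r, hr, rfl⟩ (fun h1 => h ((D.le_pr hp hr).1 h1))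
    (x := Additive.ofMul (⟨x, D.le p hp hx⟩ : N)) (y := Additive.ofMul (⟨y, D.le r hr hy⟩ : N)) hx hy
    (fun e => h1 (congrArg (fun t : Additive N => ((t.toMul : N) : G)) e))
  refine ⟨s, hs, h2, fun v hv => ?_⟩
  have h4 := h3 (x := Additive.ofMul (⟨v, D.le s hs hv⟩ : N)) hv
  obtain ⟨a, ha, b, hb, e⟩ := AddSubgroup.mem_sup.1 h4
  have e' : ((a.toMul : N) : G) * ((b.toMul : N) : G) = v :=
    congrArg (fun t : Additive N => ((t.toMul : N) : G)) e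
  rw [← e']
  exact mul_mem (mem_sup_left ha) (mem_sup_right hb)

/-- **every element `≠ 1` lies in a point** -/
theorem vect {v : G} (hv : v ∈ N) (hv1 : v ≠ 1) : ∃ p ∈ Pt, v ∈ p := by
  have := D.isc
  obtain ⟨_, ⟨p, hp, rfl⟩, h⟩ := D.geoO.vect (Additive.ofMul (⟨v, hv⟩ : N))
    (fun e => hv1 (congrArg (fun t : Additive N => ((t.toMul : N) : G)) e))
  exact ⟨p, hp, h⟩

/-- different points have different perps -/
theorem sep {p x : Subgroup G} (hp : p ∈ Pt) (hx : x ∈ Pt) (hne : p ≠ x) :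
    ∃ r ∈ Pt, X p ≤ centralizer (r : Set G) ∧ ¬ X x ≤ centralizer (r : Set G) := by
  have := D.isc
  obtain ⟨_, ⟨r, hr, rfl⟩, h1, h2⟩ := D.geoL.sep ⟨p, hp, rfl⟩ ⟨x, hx, rfl⟩
    (fun e => hne (pt_inj (D.le p hp) (D.le x hx) e)) (D.cn hp hx)
  exact ⟨r, hr, (D.le_pr hp hr).1 h1, fun h => h2 ((D.le_pr hx hr).2 h)⟩

theorem two {x y y' : Subgroup G} (hx : x ∈ Pt) (hy : y ∈ Pt) (hy' : y' ∈ Pt) (h : x ≠ y) (h' : x ≠ y') :
    ∃ p ∈ Pt, X x ≤ centralizer (p : Set G) ∧ ¬ X y ≤ centralizer (p : Set G) ∧ ¬ X y' ≤ centralizer (p : Set G) := by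
  have := D.isc
  obtain ⟨_, ⟨p, hp, rfl⟩, h1, h2, h3⟩ := D.geoO.two ⟨x, hx, rfl⟩ ⟨y, hy, rfl⟩ ⟨y', hy', rfl⟩
    (fun e => h (pt_inj (D.le x hx) (D.le y hy) e)) (fun e => h' (pt_inj (D.le x hx) (D.le y' hy') e))
  exact ⟨p, hp, (D.le_pr hx hp).1 h1, fun h => h2 ((D.le_pr hy hp).2 h), fun h => h3 ((D.le_pr hy' hp).2 h)⟩

/-- **transitivity on the points `≠ c` of `c^⊥`** : one step -/
theorem step {c y p : Subgroup G} (hc : c ∈ Pt) (hy : y ∈ Pt) (hp : p ∈ Pt) (hcy : X c ≤ centralizer (y : Set G))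
    (hcp : X c ≤ centralizer (p : Set G)) (hyp : ¬ X y ≤ centralizer (p : Set G)) :
    ∃ s ∈ Pt, X s ≤ centralizer (c : Set G) ∧ ∃ w ∈ X s, MulAut.conj w • y = p := by
  obtain ⟨u, hu, hu1⟩ := D.exists_v hy
  obtain ⟨v, hv, hv1⟩ := D.exists_v hp
  have hyp' : y ≠ p := by
    rintro rfl
    exact hyp fun w hw => mem_centralizer_iff.2 fun z hz => (D.Xp y hy w hw z hz).symm
  have hm : u⁻¹ * v ≠ 1 := by
    intro e
    have e1 : u = v := inv_mul_eq_one.1 e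
    exact hyp' (D.ti y hy p hp u hu (e1 ▸ hv) hu1)
  obtain ⟨s, hs, h1, h2⟩ := D.hyp hy hp hyp (inv_mem hu) hv hm
  have hcs : X c ≤ centralizer (s : Set G) := by
    have h3 : y ⊔ p ≤ centralizer (X c : Set G) :=
      sup_le (by rwa [le_centralizer_iff] at hcy) (by rwa [le_centralizer_iff] at hcp)
    rw [le_centralizer_iff]
    exact h2.trans h3
  refine ⟨s, hs, D.sym hc hs hcs, ?_⟩
  -- `u` is moved by `X s`
  have h4 : ∃ w ∈ X s, w * u ≠ u * w := by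
    by_contra hcon
    push Not at hcon
    have h5 : X s ≤ centralizer (y : Set G) := D.one hs hy hu hu1 hcon
    have h6 : X y ≤ centralizer (s : Set G) := D.sym hs hy h5
    refine hyp (D.one hy hp hv hv1 fun w hw => ?_)
    have h7 : w * (u⁻¹ * v) = (u⁻¹ * v) * w := (mem_centralizer_iff.1 (h6 hw) _ h1).symm
    have h8 : w * u⁻¹ = u⁻¹ * w := D.Xp y hy w hw _ (inv_mem hu)
    have h9 : u⁻¹ * (w * v) = u⁻¹ * (v * w) := by
      calc u⁻¹ * (w * v) = w * (u⁻¹ * v) := by rw [← mul_assoc, ← h8, mul_assoc]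
        _ = u⁻¹ * (v * w) := by rw [h7, mul_assoc]
    exact mul_left_cancel h9
  obtain ⟨w, hw, hwu⟩ := h4
  obtain ⟨w', hw', e, -⟩ := D.reg s hs w hw u (D.le y hy hu) hwu _ h1
  refine ⟨w', hw', D.ti _ (D.mv s hs w' hw' y hy) p hp v ⟨u, hu, ?_⟩ hv hv1⟩
  change w' * u * w'⁻¹ = v
  have e1 : w' * u * w'⁻¹ = (u⁻¹ * v) * u := by rw [← e]; group
  rw [e1, D.comm _ (mul_mem (inv_mem (D.le y hy hu)) (D.le p hp hv)) u (D.le y hy hu)]
  group

/-- **transitivity on the points `≠ c` of `c^⊥`** : two steps -/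
theorem trans {c y p : Subgroup G} (hc : c ∈ Pt) (hy : y ∈ Pt) (hp : p ∈ Pt) (hcy : X c ≤ centralizer (y : Set G))
    (hcp : X c ≤ centralizer (p : Set G)) (hy' : c ≠ y) (hp' : c ≠ p) :
    ∃ g : G, g ∈ centralizer (c : Set G) ∧ MulAut.conj g • y = p ∧
      ∃ s ∈ Pt, ∃ s' ∈ Pt, ∃ w ∈ X s, ∃ w' ∈ X s', g = w' * w := by
  obtain ⟨r, hr, h1, h2, h3⟩ := D.two hc hy hp hy' hp'
  obtain ⟨s, hs, h4, w, hw, h5⟩ := D.step hc hy hr hcy h1 h2
  obtain ⟨s', hs', h6, w', hw', h7⟩ := D.step hc hr hp h1 hcp fun h => h3 (D.sym hr hp h)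
  refine ⟨w' * w, mul_mem (h6 hw') (h4 hw), ?_, s, hs, s', hs', w, hw, w', hw', rfl⟩
  rw [map_mul, mul_smul, h5, h7]

/-- **LEMMA T'.** `g` centralises `c` and `[N, g] ≤ c`, `g` permutes the points with their groups: `g` centralises the
points perpendicular to `c`. -/
theorem tv {c x : Subgroup G} (hc : c ∈ Pt) (hx : x ∈ Pt) {g : G} (hgc : ∀ v ∈ c, g * v = v * g)
    (hgN : ∀ v ∈ N, g * v * g⁻¹ * v⁻¹ ∈ c) (hgm : ∀ s ∈ Pt, MulAut.conj g • s ∈ Pt)
    (hgX : ∀ s ∈ Pt, X (MulAut.conj g • s) = MulAut.conj g • X s) (hcx : X c ≤ centralizer (x : Set G)) :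
    ∀ v ∈ x, g * v = v * g := by
  by_contra hcon
  push Not at hcon
  obtain ⟨v₁, hv₁, hne₁⟩ := hcon
  have hcx' : c ≠ x := by
    rintro rfl
    exact hne₁ (hgc v₁ hv₁)
  -- `g` fixes no vector `≠ 1` of `x`
  have hinj : ∀ v ∈ x, g * v = v * g → v = 1 := by
    intro v hv e
    by_contra hv1
    have h1 : MulAut.conj g • x = x := by
      refine D.ti _ (hgm x hx) x hx v ⟨v, hv, ?_⟩ hv hv1
      change g * v * g⁻¹ = v
      rw [e, mul_inv_cancel_right]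
    have h2 : g * v₁ * g⁻¹ ∈ x := h1 ▸ (⟨v₁, hv₁, rfl⟩ : g * v₁ * g⁻¹ ∈ MulAut.conj g • x)
    by_cases h3 : g * v₁ * g⁻¹ * v₁⁻¹ = 1
    · rw [mul_inv_eq_one, mul_inv_eq_iff_eq_mul] at h3
      exact hne₁ h3
    · exact hcx' (D.ti c hc x hx _ (hgN _ (D.le x hx hv₁)) (mul_mem h2 (inv_mem hv₁)) h3)
  -- `y ⊥ x`, `y` not `⊥ c`
  obtain ⟨y, hy, h1, h2⟩ := D.sep hx hc hcx'.symm
  obtain ⟨u, hu, hu1⟩ := D.exists_v hy
  -- `x₀ ∈ x` with `[x₀, g] = [u, g]`
  have hcomm : ∀ a ∈ N, ∀ b ∈ N, g * (a * b) * g⁻¹ * (a * b)⁻¹ = (g * a * g⁻¹ * a⁻¹) * (g * b * g⁻¹ * b⁻¹) := by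
    intro a ha b hb
    have h3 : g * b * g⁻¹ * b⁻¹ ∈ N := D.le c hc (hgN b hb)
    have h4 := D.comm _ h3 _ (inv_mem ha)
    calc g * (a * b) * g⁻¹ * (a * b)⁻¹ = (g * a * g⁻¹) * ((g * b * g⁻¹ * b⁻¹) * a⁻¹) := by group
      _ = _ := by rw [h4]; group
  obtain ⟨x₀, hx₀, e₀⟩ : ∃ x₀ ∈ x, g * x₀ * g⁻¹ * x₀⁻¹ = g * u * g⁻¹ * u⁻¹ := by
    let f : x → c := fun v => ⟨g * v * g⁻¹ * (v : G)⁻¹, hgN v (D.le x hx v.2)⟩
    have hf : Function.Injective f := by
      intro a b e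
      have e1 : g * a * g⁻¹ * (a : G)⁻¹ = g * b * g⁻¹ * (b : G)⁻¹ := congrArg Subtype.val e
      have h3 : g * ((a : G) * (b : G)⁻¹) = ((a : G) * (b : G)⁻¹) * g := by
        have h4 := hcomm a (D.le x hx a.2) (b : G)⁻¹ (inv_mem (D.le x hx b.2))
        have h5 := hcomm b (D.le x hx b.2) (b : G)⁻¹ (inv_mem (D.le x hx b.2))
        rw [← e1, ← h4, mul_inv_cancel, mul_one, mul_inv_cancel, inv_one, mul_one] at h5
        rw [eq_comm, mul_inv_eq_one, mul_inv_eq_iff_eq_mul] at h5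
        exact h5
      exact Subtype.ext (mul_inv_eq_one.1 (hinj _ (mul_mem a.2 (inv_mem b.2)) h3))
    have hbij := hf.bijective_of_nat_card_le (by rw [D.card c hc, D.card x hx])
    obtain ⟨x₀, e⟩ := hbij.2 ⟨g * u * g⁻¹ * u⁻¹, hgN u (D.le y hy hu)⟩
    exact ⟨x₀, x₀.2, congrArg Subtype.val e⟩
  set v := u * x₀⁻¹ with hv
  have hxN := D.le x hx hx₀
  have huN := D.le y hy hu
  have hvN : v ∈ N := mul_mem huN (inv_mem hxN)
  have hgv : g * v = v * g := by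
    have h3 := hcomm u huN x₀⁻¹ (inv_mem hxN)
    have h4 := hcomm x₀ hxN x₀⁻¹ (inv_mem hxN)
    rw [e₀, ← h3, mul_inv_cancel, mul_one, mul_inv_cancel, inv_one, mul_one, eq_comm, mul_inv_eq_one,
      mul_inv_eq_iff_eq_mul] at h4
    exact h4
  -- `v` is not perpendicular to `c`
  have hcv : ¬ ∀ w ∈ X c, w * v = v * w := by
    intro h
    refine h2 (D.one hc hy hu hu1 fun w hw => ?_)
    have h3 : w * x₀ = x₀ * w := (mem_centralizer_iff.1 (hcx hw) x₀ hx₀).symm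
    have h4 : u = v * x₀ := by rw [hv]; group
    rw [h4]
    calc w * (v * x₀) = (w * v) * x₀ := by group
      _ = v * (w * x₀) := by rw [h w hw]; group
      _ = v * x₀ * w := by rw [h3]; group
  have hv1 : v ≠ 1 := by
    intro e
    exact hcv fun w _ => by rw [e]; simp
  obtain ⟨s, hs, hvs⟩ := D.vect hvN hv1
  have hcs : ¬ X c ≤ centralizer (s : Set G) := fun h => hcv fun w hw => (mem_centralizer_iff.1 (h hw) v hvs).symm
  -- `s ⊥ x`
  have hxs : X x ≤ centralizer (s : Set G) := by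
    refine D.one hx hs hvs hv1 fun w hw => ?_
    have h3 : w * u = u * w := (mem_centralizer_iff.1 (h1 hw) u hu).symm
    have h4 : w * x₀⁻¹ = x₀⁻¹ * w := D.Xp x hx w hw _ (inv_mem hx₀)
    rw [hv]
    calc w * (u * x₀⁻¹) = (w * u) * x₀⁻¹ := by group
      _ = u * (w * x₀⁻¹) := by rw [h3]; group
      _ = u * x₀⁻¹ * w := by rw [h4]; group
  have hsx : X s ≤ centralizer (x : Set G) := D.sym hx hs hxs
  -- `g` fixes `s`
  have hgs : MulAut.conj g • s = s := by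
    refine D.ti _ (hgm s hs) s hs v ⟨v, hvs, ?_⟩ hvs hv1
    change g * v * g⁻¹ = v
    rw [hgv, mul_inv_cancel_right]
  -- `s ⊥ [v₁, g]`
  have h3 : g * v₁ * g⁻¹ * v₁⁻¹ ≠ 1 := by
    intro e
    rw [mul_inv_eq_one, mul_inv_eq_iff_eq_mul] at e
    exact hne₁ e
  refine hcs (D.sym hs hc (D.one hs hc (hgN v₁ (D.le x hx hv₁)) h3 fun w hw => ?_))
  have h4 : X s = MulAut.conj g • X s := by
    have := hgX s hs
    rwa [hgs] at this
  have h5 : w * (g * v₁ * g⁻¹) = (g * v₁ * g⁻¹) * w := by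
    rw [h4] at hw
    obtain ⟨w₀, hw₀, rfl⟩ := hw
    have h6 : v₁ * w₀ = w₀ * v₁ := mem_centralizer_iff.1 (hsx hw₀) v₁ hv₁
    change g * w₀ * g⁻¹ * (g * v₁ * g⁻¹) = g * v₁ * g⁻¹ * (g * w₀ * g⁻¹)
    calc g * w₀ * g⁻¹ * (g * v₁ * g⁻¹) = g * (w₀ * v₁) * g⁻¹ := by group
      _ = g * (v₁ * w₀) * g⁻¹ := by rw [h6]
      _ = _ := by group
  have h6 : w * v₁⁻¹ = v₁⁻¹ * w := (mem_centralizer_iff.1 (hsx hw) _ (inv_mem hv₁)).symm
  calc w * (g * v₁ * g⁻¹ * v₁⁻¹) = w * (g * v₁ * g⁻¹) * v₁⁻¹ := by group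
    _ = (g * v₁ * g⁻¹) * (w * v₁⁻¹) := by rw [h5]; group
    _ = _ := by rw [h6]; group

end ND

end Cfsg.Agent.Omega.NO3S.EThree.NrGeo

end

section


/-!
# (E), `k = 2`, no radical, `[W_1, N_2] ≠ 1` is impossible ((NR1); helper997 #19952 (3), in the form of bb #23661)

`NrH Z U` : partner points and lines, t.i. points, `[N_a, N_u] = 1` for `a ~ u`, `N_1` is irreducible for `N_G(Z 0)`,
an `N(Z 0) ∩ N(Z 1)`-invariant subgroup `≠ 1` of `N_1` meets `Z 1` (this makes the non-perp graph connected, LEMMA 0 is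
not needed), `RegX`, the points cover `U 0`, `|U 0| = |Z 0|²`.

* `NrH.nd` : the geometry of `N_a`, if `X_c` moves `N_a` (`a ~ c`);
* `NrH.mem_X` : `c^⊥ ≤ X_c`;
* `NrH.two_common` : two common neighbours `c ≠ r` of `a`, `b` imply `[N_a, N_b] = 1`;
* **`NrH.nr_one`** : `X_u` centralises `N_a` for `a ~ u`.
-/

set_option autoImplicit false
set_option linter.unusedSectionVars false

namespace Cfsg.Agent.Omega.NO3S.EThree.NrOne

open Subgroup Cfsg
open Cfsg.Agent.ZN Cfsg.Agent.Omega.OM.PG Cfsg.Agent.Omega.OM.PG.Peel Cfsg.Agent.Omega.OM.PG.PeelQ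
open Cfsg.Agent.Omega.OM.PG.PcQ (RegX not_adj_self)
open Cfsg.Agent.Omega.NO3S.EThree Cfsg.Agent.Omega.NO3S.EThree.ExactA
open Cfsg.Agent.Omega.NoFF.Basic (comm_symm conj_conj conj_le_iff)
open Cfsg.Agent.Omega.OmThm.Grp (GD Mv)
open Cfsg.Agent.Omega.NO3S.EThree.NrGeo (ND)
open scoped Pointwise

universe u

variable {G : Type u} [Group G]

/-- **The hypotheses of (NR1).** -/
structure NrH (Z U : Fin 2 → Subgroup G) : Prop where
  P : PP Z U
  F : XF Z (XW Z U)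
  ti : TIp Z
  reg : RegX Z (XW Z U)
  q3 : 3 ≤ Nat.card (Z 0)
  h01 : Z 0 ≠ Z 1
  com : ∀ a u : Subgroup G, Adj Z a u → Com Z a u
  irr : ∀ K : Subgroup G, K ≤ NN Z (Z 0) → HH (Z 0) ≤ normalizer (K : Set G) → K = ⊥ ∨ NN Z (Z 0) ≤ K
  fx : ∀ K : Subgroup G, K ≤ NN Z (Z 0) → HH (Z 0) ⊓ HH (Z 1) ≤ normalizer (K : Set G) → K ≠ ⊥ →
    ∃ x ∈ K, x ∈ Z 1 ∧ x ≠ 1
  pts : ∀ x ∈ U 0, x ≠ 1 → ∃ p, IsPt Z p ∧ p ≤ U 0 ∧ x ∈ p
  cardU : Nat.card (U 0) = Nat.card (Z 0) * Nat.card (Z 0)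
  UN : U 1 ≤ NN Z (Z 0)

namespace NrH

variable {Z U : Fin 2 → Subgroup G} (D : NrH Z U)
include D

theorem pt0 : IsPt Z (Z 0) := ⟨1, by rw [map_one, one_smul]⟩

theorem adj01 : Adj Z (Z 0) (Z 1) := ⟨1, by rw [map_one, one_smul], by rw [map_one, one_smul]⟩

theorem card_pt {a : Subgroup G} (ha : IsPt Z a) : Nat.card a = Nat.card (Z 0) := by
  obtain ⟨k, rfl⟩ := ha
  exact ZN.ChoiceBase.card_cj k _

theorem ti' {a b : Subgroup G} (ha : IsPt Z a) (hb : IsPt Z b) {v : G} (h1 : v ∈ a) (h2 : v ∈ b) (hv : v ≠ 1) :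
    a = b := by
  by_contra hne
  exact hv (ti_one D.ti ha hb hne h1 h2)

theorem NQ {a c : Subgroup G} (h : Adj Z a c) : NN Z a ≤ QQ c :=
  D.P.f3 (D.P.adj_symm h) (D.P.NN_le_QQ h.pt) (D.com _ _ h)

theorem NN_cent {a c : Subgroup G} (h : Adj Z a c) {b : Subgroup G} (h' : Adj Z b c) :
    NN Z a ≤ centralizer (b : Set G) := (D.NQ h).trans (D.P.QQ_le_cent_of_adj h')

/-- `N_a` centralises `c`, `a ~ c` -/
theorem NN_cent' {a c : Subgroup G} (h : Adj Z a c) : NN Z a ≤ centralizer (c : Set G) :=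
  (D.P.NN_comm h.pt).trans (centralizer_le h.le_NN)

theorem NN_com {a : Subgroup G} (ha : IsPt Z a) {x y : G} (hx : x ∈ NN Z a) (hy : y ∈ NN Z a) : x * y = y * x :=
  mem_centralizer_iff.1 (D.P.NN_comm ha hy) x hx

theorem cent_of {c : Subgroup G} (hc : IsPt Z c) {x y : G} (hx : x ∈ XW Z U c) (hy : y ∈ XW Z U c) : x * y = y * x :=
  mem_centralizer_iff.1 ((eab_iff.1 (D.F.eab c hc)).1 hy) x hx

/-- the line `U 1` -/
theorem line1 {p : Subgroup G} (hp : IsPt Z p) (h : p ≤ U 1) : Adj Z (Z 0) p ∧ LnOn Z U p (U 1) := by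
  obtain ⟨s, hs0, hs1, hs2, hs3⟩ := D.P.swap
  obtain ⟨k, rfl⟩ := hp
  have h1 : MulAut.conj (s⁻¹ * k) • Z 0 ≤ U 0 := by
    have := conj_le_iff (g := s⁻¹) |>.2 h
    rwa [conj_conj, ← hs2, inv_conj_conj] at this
  obtain ⟨l, hl0, hl1, hl2, hl3⟩ := D.P.tr _ h1
  have e : MulAut.conj k • Z 0 = MulAut.conj (s * l) • Z 0 := by
    rw [← conj_conj, hl0, conj_conj, mul_inv_cancel_left]
  refine ⟨D.P.adj_symm ⟨s * l, e, ?_⟩, s * l, e, ?_⟩
  · rw [← conj_conj, hl1, hs1]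
  · rw [← conj_conj, hl2, hs2]

/-- the line on `c` in `N_a` -/
theorem exists_line {a c : Subgroup G} (h : Adj Z a c) : ∃ V : Subgroup G, LnOn Z U c V ∧ c ≤ V ∧ V ≤ NN Z a ∧
    Nat.card V = Nat.card (Z 0) * Nat.card (Z 0) ∧ (∀ v ∈ V, v ≠ 1 → ∃ s, Adj Z a s ∧ s ≤ V ∧ v ∈ s) ∧
    ∀ s, IsPt Z s → s ≤ V → Adj Z a s ∧ LnOn Z U s V := by
  obtain ⟨s, hs0, hs1, hs2, hs3⟩ := D.P.swap
  have hpts : ∀ v ∈ U 1, v ≠ 1 → ∃ p, IsPt Z p ∧ p ≤ U 1 ∧ v ∈ p := by
    intro v hv hv1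
    rw [← hs2] at hv
    obtain ⟨x, hx, rfl⟩ := hv
    have hx1 : x ≠ 1 := by
      rintro rfl
      exact hv1 (by simp)
    obtain ⟨p, hp, hpU, hxp⟩ := D.pts x hx hx1
    refine ⟨MulAut.conj s • p, hp.conj s, ?_, ⟨x, hxp, rfl⟩⟩
    rw [← hs2]
    exact conj_le_iff.2 hpU
  obtain ⟨k, rfl, rfl⟩ := h
  refine ⟨MulAut.conj k • U 1, ⟨k * s, ?_, ?_⟩, ?_, ?_, ?_, ?_, ?_⟩
  · rw [← conj_conj, hs0]
  · rw [← conj_conj, hs2]
  · refine conj_le_iff.2 ?_
    rw [← hs0, ← hs2]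
    exact conj_le_iff.2 D.P.ZU
  · rw [NN_conj]
    exact conj_le_iff.2 D.UN
  · rw [← hs2, conj_conj]
    exact (ZN.ChoiceBase.card_cj _ _).trans D.cardU
  · rintro _ ⟨x, hx, rfl⟩ hv1
    have hx1 : x ≠ 1 := by
      rintro rfl
      exact hv1 (by simp)
    obtain ⟨p, hp, hpU, hxp⟩ := hpts x hx hx1
    exact ⟨MulAut.conj k • p, (D.line1 hp hpU).1.conj k, conj_le_iff.2 hpU, ⟨x, hxp, rfl⟩⟩
  · intro p hp hpV
    have h1 : MulAut.conj k⁻¹ • p ≤ U 1 := by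
      have := conj_le_iff (g := k⁻¹) |>.2 hpV
      rwa [inv_conj_conj] at this
    obtain ⟨h2, h3⟩ := D.line1 (hp.conj k⁻¹) h1
    have h4 := h2.conj k
    have h5 := h3.conj k
    rw [conj_inv_conj] at h4 h5
    exact ⟨h4, h5⟩

/-- moved: `X_c` moves `N_a` for some `a ~ c` -/
theorem mov_all {a c a' c' : Subgroup G} (h : Adj Z a c) (h' : Adj Z a' c')
    (hm : ¬ XW Z U c ≤ centralizer (NN Z a : Set G)) : ¬ XW Z U c' ≤ centralizer (NN Z a' : Set G) := by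
  obtain ⟨k, rfl, rfl⟩ := h
  obtain ⟨k', rfl, rfl⟩ := h'
  intro h1
  apply hm
  have h2 := Cfsg.Agent.Omega.NoFF.Basic.conj_le_centralizer (g := k * k'⁻¹) h1
  have e1 : ∀ A : Subgroup G, MulAut.conj (k * k'⁻¹) • (MulAut.conj k' • A) = MulAut.conj k • A := fun A => by
    rw [conj_conj, inv_mul_cancel_right]
  rwa [← XW_conj, ← NN_conj, e1, e1] at h2

theorem YY_conj (k : G) {a : Subgroup G} (ha : IsPt Z a) :
    YY Z (XW Z U) (MulAut.conj k • a) = MulAut.conj k • YY Z (XW Z U) a := by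
  have key : ∀ (k : G) {a : Subgroup G}, IsPt Z a → MulAut.conj k • YY Z (XW Z U) a ≤ YY Z (XW Z U) (MulAut.conj k • a) := by
    intro k a ha
    have h1 : YY Z (XW Z U) a ≤ MulAut.conj k⁻¹ • YY Z (XW Z U) (MulAut.conj k • a) := by
      refine iSup_le fun p => ?_
      have h2 : XW Z U (MulAut.conj k • (p : Subgroup G)) ≤ YY Z (XW Z U) (MulAut.conj k • a) :=
        le_iSup (fun p : {p : Subgroup G // Adj Z (MulAut.conj k • a) p} => XW Z U (p : Subgroup G))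
          ⟨_, p.2.conj k⟩
      have h3 := conj_le_iff (g := k⁻¹) |>.2 h2
      rwa [XW_conj, inv_conj_conj] at h3
    have h3 := conj_le_iff (g := k) |>.2 h1
    rwa [conj_inv_conj] at h3
  refine le_antisymm ?_ (key k ha)
  have h1 := key k⁻¹ (ha.conj k)
  rw [inv_conj_conj] at h1
  have h3 := conj_le_iff (g := k) |>.2 h1
  rwa [conj_inv_conj] at h3

theorem le_YY {a p : Subgroup G} (h : Adj Z a p) : XW Z U p ≤ YY Z (XW Z U) a :=
  le_iSup (fun p : {p : Subgroup G // Adj Z a p} => XW Z U (p : Subgroup G)) ⟨p, h⟩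

theorem X_cent {a c : Subgroup G} (h : Adj Z a c) : XW Z U c ≤ centralizer (a : Set G) :=
  (D.F.XQ c (D.P.adj_pt h)).trans (D.P.QQ_le_cent_of_adj h)

theorem YY_cent (a : Subgroup G) : YY Z (XW Z U) a ≤ centralizer (a : Set G) := iSup_le fun p => D.X_cent p.2

theorem mv' {a p : Subgroup G} {w : G} (hp : Adj Z a p) (hw : w ∈ XW Z U p) {x : Subgroup G} (hx : Adj Z a x) :
    Adj Z a (MulAut.conj w • x) := by
  have h1 := Adj.conj hx w
  rwa [Cfsg.Agent.Omega.NOThreeL.Pair.conj_eq_of_mem (centralizer_le_normalizer _ (D.X_cent hp hw))] at h1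

/-- the base case of the geometry -/
theorem gd {a : Subgroup G} (ha : IsPt Z a) : GD (NN Z a) {p | Adj Z a p} (XW Z U) (Nat.card (Z 0)) where
  comm := fun x hx y hy => D.NN_com ha hx hy
  sq := fun x hx => by
    have h := (eab_iff.1 (NN_eab D.P ha)).2 x hx
    rwa [pow_two] at h
  hq := D.q3
  le := fun p hp => Adj.le_NN hp
  card := fun p hp => D.card_pt (D.P.adj_pt hp)
  ti := fun p hp x hx v hvp hvx hv1 => D.ti' (D.P.adj_pt hp) (D.P.adj_pt hx) hvp hvx hv1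
  XN := fun p hp w hw v hv => D.F.com p (D.P.adj_pt hp) w hw v (D.NQ hp hv)
  Xp := fun p hp w hw v hv => D.cent_of (D.P.adj_pt hp) hw (D.F.aX p (D.P.adj_pt hp) hv)
  mv := fun p hp w hw x hx => D.mv' hp hw hx
  Xc := fun p hp w hw x hx => D.F.conj w x (D.P.adj_pt hx)
  reg := by
    intro x hx w hw b hb hne z hz
    obtain ⟨w', hw', h1, h2⟩ := D.reg x (D.P.adj_pt hx) w hw b (D.NQ hx hb) hne z hz
    exact ⟨w', hw', h1, fun v hv => h2 v (D.NQ hx hv)⟩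
  cardT := by
    obtain ⟨j, rfl⟩ := ha
    have key : ∀ p, Adj Z (MulAut.conj j • Z 0) p →
        (centralizer (NN Z (MulAut.conj j • Z 0) : Set G)).relIndex (XW Z U p) =
        (centralizer (NN Z (Z 0) : Set G)).relIndex (XW Z U (Z 1)) := by
      rintro _ ⟨k, hk, rfl⟩
      rw [XW_conj, hk, NN_conj]
      have e2 : centralizer ((MulAut.conj k • NN Z (Z 0) : Subgroup G) : Set G) =
          MulAut.conj k • centralizer (NN Z (Z 0) : Set G) := (ZN.ChoiceBase.cj_centralizer k _).symm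
      rw [e2, relIndex_pointwise_smul]
    intro p hp x hx
    rw [key p hp, key x hx]
  span := le_rfl

/-- no vector `≠ 1` of `N_1` is centralised by all `X_p` -/
theorem nk0 {a c : Subgroup G} (h : Adj Z a c) (hm : ¬ XW Z U c ≤ centralizer (NN Z a : Set G)) {v : G}
    (hv : v ∈ NN Z (Z 0)) (hkill : ∀ p, Adj Z (Z 0) p → ∀ g ∈ XW Z U p, g * v = v * g) : v = 1 := by
  have hm0 := D.mov_all h D.adj01 hm
  have h1 : HH (Z 0) ≤ normalizer ((NN Z (Z 0) ⊓ centralizer (YY Z (XW Z U) (Z 0) : Set G) : Subgroup G) : Set G) := by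
    refine NO3L.LemP.le_normalizer_inf (PP.HH_le_NN _) ?_
    refine le_trans ?_ (NO3L.LemP.normalizer_le_normalizer_cent (YY Z (XW Z U) (Z 0)))
    intro g hg
    refine ChoiceBase.mem_normalizer_iff_cj.2 ?_
    have h2 := D.YY_conj g D.pt0
    rw [Cfsg.Agent.Omega.NOThreeL.Pair.conj_eq_of_mem hg] at h2
    exact h2.symm
  have h2 : NN Z (Z 0) ⊓ centralizer (YY Z (XW Z U) (Z 0) : Set G) = ⊥ := by
    rcases D.irr _ inf_le_left h1 with h3 | h3
    · exact h3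
    · exfalso
      exact hm0 ((D.le_YY D.adj01).trans (comm_symm (h3.trans inf_le_right)))
  have h3 : v ∈ NN Z (Z 0) ⊓ centralizer (YY Z (XW Z U) (Z 0) : Set G) := by
    refine ⟨hv, ?_⟩
    have h5 : YY Z (XW Z U) (Z 0) ≤ centralizer ({v} : Set G) :=
      iSup_le fun p g hg => mem_centralizer_singleton_iff.2 (hkill p p.2 g hg)
    exact mem_centralizer_iff.2 fun y hy => mem_centralizer_singleton_iff.1 (h5 hy)
  rw [h2, mem_bot] at h3
  exact h3

/-- `X p` centralises a vector `≠ 1` of `x` : it centralises `x` -/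
theorem one0 {a p x : Subgroup G} (hp : Adj Z a p) (hx : Adj Z a x) {v : G} (hv : v ∈ x) (hv1 : v ≠ 1)
    (h : ∀ w ∈ XW Z U p, w * v = v * w) : XW Z U p ≤ centralizer (x : Set G) := by
  intro w hw
  have hpp := D.P.adj_pt hp
  have hxp := D.P.adj_pt hx
  have h1 : MulAut.conj w • x = x := by
    refine D.ti' (hxp.conj w) hxp (v := v) ⟨v, hv, ?_⟩ hv hv1
    change w * v * w⁻¹ = v
    rw [h w hw, mul_inv_cancel_right]
  refine mem_centralizer_iff.2 fun u hu => ?_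
  by_contra hne
  have h2 : w * u * w⁻¹ ∈ x := h1 ▸ (⟨u, hu, rfl⟩ : w * u * w⁻¹ ∈ MulAut.conj w • x)
  have h3 : w * u * w⁻¹ * u⁻¹ ≠ 1 := by
    intro e
    rw [mul_inv_eq_one, mul_inv_eq_iff_eq_mul] at e
    exact hne e.symm
  have h4 := D.ti' hpp hxp (D.F.com p hpp w hw u (D.NQ hp (hx.le_NN hu))) (mul_mem h2 (inv_mem hu)) h3
  subst h4
  exact hne (D.cent_of hpp hw (D.F.aX _ hpp hu)).symm

/-- one step of the symmetrised non-perp relation on the points of `N_a` -/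
def St (Z U : Fin 2 → Subgroup G) (a x y : Subgroup G) : Prop :=
  x ∈ {p | Adj Z a p} ∧ y ∈ {p | Adj Z a p} ∧ (Mv (XW Z U) x y ∨ Mv (XW Z U) y x)

theorem st_conj {a x y : Subgroup G} (g : G) (h : St Z U a x y) :
    St Z U (MulAut.conj g • a) (MulAut.conj g • x) (MulAut.conj g • y) := by
  obtain ⟨h1, h2, h3⟩ := h
  have key : ∀ {x y : Subgroup G}, Adj Z a x → Mv (XW Z U) x y → Mv (XW Z U) (MulAut.conj g • x) (MulAut.conj g • y) := by
    intro x y hx hm hle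
    refine hm fun w hw => ?_
    have h4 : g * w * g⁻¹ ∈ XW Z U (MulAut.conj g • x) := by
      rw [XW_conj]
      exact ⟨w, hw, rfl⟩
    exact (mem_cent_conj (g := g)).1 (hle h4)
  exact ⟨Adj.conj h1 g, Adj.conj h2 g, h3.imp (key h1) (key h2)⟩

omit D in
theorem st_symm {a x y : Subgroup G} (h : St Z U a x y) : St Z U a y x := ⟨h.2.1, h.1, h.2.2.symm⟩

theorem rt_conj {a x y : Subgroup G} (g : G) (h : Relation.ReflTransGen (St Z U a) x y) :
    Relation.ReflTransGen (St Z U (MulAut.conj g • a)) (MulAut.conj g • x) (MulAut.conj g • y) := by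
  induction h with
  | refl => exact Relation.ReflTransGen.refl
  | tail _ h2 ih => exact ih.tail (D.st_conj g h2)

/-- **the non-perp graph on the points of `N_1` is connected** (no vector of `N_1 - Z 1` is fixed by `N(Z 0) ∩ N(Z 1)`) -/
theorem conn0 {a c : Subgroup G} (h : Adj Z a c) (hm : ¬ XW Z U c ≤ centralizer (NN Z a : Set G)) {x : Subgroup G}
    (hx : Adj Z (Z 0) x) : Relation.ReflTransGen (St Z U (Z 0)) (Z 1) x := by
  by_contra hcon
  set M : Subgroup G := sSup {y | Adj Z (Z 0) y ∧ ¬ Relation.ReflTransGen (St Z U (Z 0)) (Z 1) y} with hM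
  have hxM : x ≤ M := le_sSup ⟨hx, hcon⟩
  have hne : M ≠ ⊥ := by
    intro e
    rw [e] at hxM
    have h1 := D.card_pt (D.P.adj_pt hx)
    rw [le_bot_iff.1 hxM, Subgroup.card_bot] at h1
    have := D.q3
    omega
  have hMn : HH (Z 0) ⊓ HH (Z 1) ≤ normalizer (M : Set G) := by
    have key : ∀ g ∈ HH (Z 0) ⊓ HH (Z 1), MulAut.conj g • M ≤ M := by
      intro g hg
      have hg0 : MulAut.conj g • Z 0 = Z 0 := Cfsg.Agent.Omega.NOThreeL.Pair.conj_eq_of_mem hg.1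
      have hg1 : MulAut.conj g • Z 1 = Z 1 := Cfsg.Agent.Omega.NOThreeL.Pair.conj_eq_of_mem hg.2
      have hgi0 : MulAut.conj g⁻¹ • Z 0 = Z 0 := Cfsg.Agent.Omega.NOThreeL.Pair.conj_eq_of_mem (inv_mem hg.1)
      have hgi1 : MulAut.conj g⁻¹ • Z 1 = Z 1 := Cfsg.Agent.Omega.NOThreeL.Pair.conj_eq_of_mem (inv_mem hg.2)
      have h1 : M ≤ MulAut.conj g⁻¹ • M := by
        refine sSup_le ?_
        rintro y ⟨hy, hyc⟩
        have h2 : MulAut.conj g • y ≤ M := by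
          refine le_sSup ⟨?_, fun h3 => hyc ?_⟩
          · have := Adj.conj hy g
            rwa [hg0] at this
          · have h4 := D.rt_conj g⁻¹ h3
            rwa [hgi0, hgi1, inv_conj_conj] at h4
        have h3 := conj_le_iff (g := g⁻¹) |>.2 h2
        rwa [inv_conj_conj] at h3
      have h3 := conj_le_iff (g := g) |>.2 h1
      rwa [conj_inv_conj] at h3
    intro g hg
    refine ChoiceBase.mem_normalizer_iff_cj.2 (le_antisymm (key g hg) ?_)
    have h1 := conj_le_iff (g := g) |>.2 (key g⁻¹ (inv_mem hg))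
    rwa [conj_inv_conj] at h1
  obtain ⟨t, htM, ht, ht1⟩ := D.fx M (sSup_le fun y hy => Adj.le_NN hy.1) hMn hne
  -- all `X_p` centralise `Z 1`
  have hall : ∀ p, Adj Z (Z 0) p → XW Z U p ≤ centralizer (Z 1 : Set G) := by
    intro p hp
    by_cases hc : Relation.ReflTransGen (St Z U (Z 0)) (Z 1) p
    · refine D.one0 hp D.adj01 ht ht1 fun w hw => ?_
      have h1 : M ≤ centralizer (XW Z U p : Set G) := by
        refine sSup_le ?_
        rintro y ⟨hy, hyc⟩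
        refine comm_symm ?_
        by_contra h2
        exact hyc (hc.tail ⟨hp, hy, Or.inl h2⟩)
      exact mem_centralizer_iff.1 (h1 htM) w hw
    · by_contra h2
      exact hc (Relation.ReflTransGen.single ⟨D.adj01, hp, Or.inr h2⟩)
  exact ht1 (D.nk0 h hm (D.adj01.le_NN ht) fun p hp g hg => (mem_centralizer_iff.1 (hall p hp hg) t ht).symm)

theorem conn {a c : Subgroup G} (h : Adj Z a c) (hm : ¬ XW Z U c ≤ centralizer (NN Z a : Set G)) {p x : Subgroup G}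
    (hp : Adj Z a p) (hx : Adj Z a x) : Relation.ReflTransGen (St Z U a) p x := by
  have hsym : ∀ {x y : Subgroup G}, Relation.ReflTransGen (St Z U a) x y → Relation.ReflTransGen (St Z U a) y x := by
    intro x y h
    induction h with
    | refl => exact Relation.ReflTransGen.refl
    | tail _ h2 ih => exact Relation.ReflTransGen.head (st_symm h2) ih
  obtain ⟨k, hk⟩ := h.pt
  have key : ∀ {y : Subgroup G}, Adj Z a y → Relation.ReflTransGen (St Z U a) (MulAut.conj k • Z 1) y := by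
    intro y hy
    have hy' : Adj Z (Z 0) (MulAut.conj k⁻¹ • y) := by
      have := Adj.conj hy k⁻¹
      rwa [hk, inv_conj_conj] at this
    have h1 := D.rt_conj k (D.conn0 h hm hy')
    rwa [← hk, conj_inv_conj] at h1
  exact (hsym (key hp)).trans (key hx)

variable [Finite G]

/-- **The geometry of `N_a`.** -/
theorem nd {a c : Subgroup G} (h : Adj Z a c) (hm : ¬ XW Z U c ≤ centralizer (NN Z a : Set G)) :
    ND (NN Z a) {p | Adj Z a p} (XW Z U) (Nat.card (Z 0)) where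
  toGD := D.gd h.pt
  nk := by
    obtain ⟨k, hk⟩ := h.pt
    intro v hv hkill
    rw [hk, NN_conj] at hv
    obtain ⟨v₀, hv₀, rfl⟩ := hv
    have h3 : v₀ = 1 := by
      refine D.nk0 h hm hv₀ fun p hp g hg => ?_
      have h6 := hkill (MulAut.conj k • p) (by rw [hk]; exact hp.conj k) (MulAut.conj k g)
        (by rw [XW_conj]; exact ⟨g, hg, rfl⟩)
      change MulAut.conj k g * MulAut.conj k v₀ = MulAut.conj k v₀ * MulAut.conj k g at h6
      rw [← map_mul, ← map_mul] at h6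
      exact (MulAut.conj k).injective h6
    rw [h3]
    simp
  line := by
    intro p hp
    obtain ⟨V, hV, hpV, hVN, hc, hcov, hpts⟩ := D.exists_line hp
    refine ⟨V, hpV, hVN, hc.le, fun v hv hv1 => ?_, fun s hs hsV => ?_, ?_⟩
    · obtain ⟨s, h1, h2, h3⟩ := hcov v hv hv1
      exact ⟨s, h1, h2, h3⟩
    · obtain ⟨-, h2⟩ := hpts s (D.P.adj_pt hs) hsV
      exact fun w hw => mem_centralizer_iff.2 fun v hv =>
        D.cent_of (D.P.adj_pt hs) (ln_le_XW h2 hv) hw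
    · -- a second point
      obtain ⟨v, hv, hvp⟩ : ∃ v ∈ V, v ∉ p := by
        by_contra hcon
        push Not at hcon
        have h1 : V = p := le_antisymm hcon hpV
        rw [h1, D.card_pt (D.P.adj_pt hp)] at hc
        have h2 := D.q3
        nlinarith
      obtain ⟨s, h1, h2, h3⟩ := hcov v hv fun e => hvp (e ▸ one_mem _)
      exact ⟨s, h1, h2, fun e => hvp (e ▸ h3)⟩
  ex := ⟨c, h⟩
  conn := fun p hp x hx => D.conn h hm hp hx

end NrH

end Cfsg.Agent.Omega.NO3S.EThree.NrOne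

end

section


/-!
# (E), `k = 2`, no radical, `[W_1, N_2] ≠ 1` is impossible: the end of (NR1)

* `NrH.pt_le_X`, `NrH.mem_X` : `c^⊥ ≤ X_c`;
* `NrH.two_common` : two common neighbours `c ≠ r` of `a`, `b` imply `[N_a, N_b] = 1`;
* **`NrH.nr_one`** : `X_u` centralises `N_a` for `a ~ u`.
-/

set_option autoImplicit false
set_option linter.unusedSectionVars false

namespace Cfsg.Agent.Omega.NO3S.EThree.NrOne

open Subgroup Cfsg
open Cfsg.Agent.ZN Cfsg.Agent.Omega.OM.PG Cfsg.Agent.Omega.OM.PG.Peel Cfsg.Agent.Omega.OM.PG.PeelQ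
open Cfsg.Agent.Omega.OM.PG.PcQ (RegX not_adj_self)
open Cfsg.Agent.Omega.NO3S.EThree Cfsg.Agent.Omega.NO3S.EThree.ExactA
open Cfsg.Agent.Omega.NoFF.Basic (comm_symm conj_conj conj_le_iff)
open Cfsg.Agent.Omega.NOThreeL.Pair (conj_eq_of_mem)
open Cfsg.Agent.Omega.OmThm.Grp (GD Mv)
open Cfsg.Agent.Omega.NO3S.EThree.NrGeo (ND)
open scoped Pointwise

universe u

variable {G : Type u} [Group G] [Finite G]

namespace NrH

variable {Z U : Fin 2 → Subgroup G} (D : NrH Z U)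
include D

/-- the points of `c^⊥` lie in `X_c` -/
theorem pt_le_X {a c x : Subgroup G} (h : Adj Z a c) (hm : ¬ XW Z U c ≤ centralizer (NN Z a : Set G)) (hx : Adj Z a x)
    (hcx : XW Z U c ≤ centralizer (x : Set G)) : x ≤ XW Z U c := by
  have hc := D.P.adj_pt h
  by_cases hne : c = x
  · rw [← hne]
    exact D.F.aX c hc
  obtain ⟨V, hV, hcV, hVN, hVc, hcov, hpts⟩ := D.exists_line h
  obtain ⟨v, hv, hvc⟩ : ∃ v ∈ V, v ∉ c := by
    by_contra hcon
    push Not at hcon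
    have h1 : V = c := le_antisymm hcon hcV
    rw [h1, D.card_pt hc] at hVc
    have h2 := D.q3
    nlinarith
  obtain ⟨r, hr, hrV, hvr⟩ := hcov v hv fun e => hvc (e ▸ one_mem _)
  have hrc : c ≠ r := fun e => hvc (e ▸ hvr)
  have hVX := ln_le_XW hV
  have hcr : XW Z U c ≤ centralizer (r : Set G) := fun w hw =>
    mem_centralizer_iff.2 fun v hv => D.cent_of hc (hVX (hrV hv)) hw
  obtain ⟨g, hgc, hgr, -⟩ := (D.nd h hm).trans (c := c) (y := r) (p := x) h hr hx hcr hcx hrc hne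
  have hgcc : MulAut.conj g • c = c := conj_eq_of_mem (centralizer_le_normalizer _ hgc)
  have hV' : LnOn Z U c (MulAut.conj g • V) := by
    have := hV.conj g
    rwa [hgcc] at this
  rw [← hgr]
  exact (conj_le_iff.2 hrV).trans (ln_le_XW hV')

/-- the vectors of `c^⊥` lie in `X_c` -/
theorem mem_X {b c : Subgroup G} (h : Adj Z b c) (hm : ¬ XW Z U c ≤ centralizer (NN Z b : Set G)) {m : G}
    (hmN : m ∈ NN Z b) (hc : ∀ w ∈ XW Z U c, w * m = m * w) : m ∈ XW Z U c := by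
  by_cases hm1 : m = 1
  · rw [hm1]
    exact one_mem _
  obtain ⟨p, hp, hmp⟩ := (D.nd h hm).vect hmN hm1
  exact D.pt_le_X h hm hp ((D.nd h hm).one h hp hmp hm1 hc) hmp

omit [Finite G] in
theorem gm_mem {a c : Subgroup G} (h : Adj Z a c) {g m : G} (hg : g ∈ NN Z a) (hm : m ∈ XW Z U c) :
    g * m * g⁻¹ * m⁻¹ ∈ c := by
  have h1 := inv_mem (D.F.com c (D.P.adj_pt h) m hm g (D.NQ h hg))
  have e : (m * g * m⁻¹ * g⁻¹)⁻¹ = g * m * g⁻¹ * m⁻¹ := by group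
  rwa [e] at h1

omit [Finite G] in
theorem fix {a b c : Subgroup G} (hac : Adj Z a c) (hbc : Adj Z b c) {g : G} (hg : g ∈ NN Z a) :
    MulAut.conj g • b = b := conj_eq_of_mem (centralizer_le_normalizer _ (D.NN_cent hac hbc hg))

/-- (G4) -/
theorem g4 {a b c r x : Subgroup G} (hac : Adj Z a c) (hbc : Adj Z b c) (har : Adj Z a r) (hbr : Adj Z b r)
    (hm : ¬ XW Z U c ≤ centralizer (NN Z b : Set G)) (hcr : XW Z U c ≤ centralizer (r : Set G)) (hx : Adj Z b x)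
    (hxc : XW Z U c ≤ centralizer (x : Set G)) (hxr : ¬ XW Z U r ≤ centralizer (x : Set G)) {g x₀ : G}
    (hg : g ∈ NN Z a) (hx₀ : x₀ ∈ x) (hx1 : x₀ ≠ 1) (hgx : g * x₀ = x₀ * g) : g ∈ centralizer (NN Z b : Set G) := by
  have E := D.nd hbc hm
  have hmr : ¬ XW Z U r ≤ centralizer (NN Z b : Set G) := D.mov_all hbc hbr hm
  have hgm : ∀ s, Adj Z b s → Adj Z b (MulAut.conj g • s) := by
    intro s hs
    have := hs.conj g
    rwa [D.fix hac hbc hg] at this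
  have hcx : c ≠ x := by
    rintro rfl
    exact hxr (E.sym hbc hbr hcr)
  -- `g` centralises `x`
  have hxX : x ≤ XW Z U c := D.pt_le_X hbc hm hx hxc
  have hgx' : MulAut.conj g • x = x := by
    refine D.ti' (D.P.adj_pt (hgm x hx)) (D.P.adj_pt hx) (v := x₀) ⟨x₀, hx₀, ?_⟩ hx₀ hx1
    change g * x₀ * g⁻¹ = x₀
    rw [hgx, mul_inv_cancel_right]
  have hgxx : ∀ v ∈ x, g * v = v * g := by
    intro v hv
    by_contra hne
    have h1 := D.gm_mem hac hg (hxX hv)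
    have h2 : g * v * g⁻¹ ∈ x := hgx' ▸ (⟨v, hv, rfl⟩ : g * v * g⁻¹ ∈ MulAut.conj g • x)
    refine hcx (D.ti' (D.P.adj_pt hac) (D.P.adj_pt hx) h1 (mul_mem h2 (inv_mem hv)) fun e => hne ?_)
    rwa [mul_inv_eq_one, mul_inv_eq_iff_eq_mul] at e
  -- `[g, N_b] ≤ r`
  have key : ∀ m ∈ NN Z b, ∃ x' ∈ x, ∀ w ∈ XW Z U r, w * (m * x'⁻¹) = (m * x'⁻¹) * w := fun m hm => E.ix hbr hx hxr hm
  have hgr : ∀ m ∈ NN Z b, g * m * g⁻¹ * m⁻¹ ∈ r := by
    intro m hmN
    obtain ⟨x', hx', h1⟩ := key m hmN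
    have h2 : m * x'⁻¹ ∈ XW Z U r := D.mem_X hbr hmr (mul_mem hmN (inv_mem (hx.le_NN hx'))) h1
    have h3 := D.gm_mem har hg h2
    have e : g * (m * x'⁻¹) * g⁻¹ * (m * x'⁻¹)⁻¹ = g * m * g⁻¹ * m⁻¹ := by
      have h4 := hgxx x' hx'
      have h5 : x'⁻¹ * g⁻¹ = g⁻¹ * x'⁻¹ := by
        rw [← mul_inv_rev, ← mul_inv_rev, h4]
      calc g * (m * x'⁻¹) * g⁻¹ * (m * x'⁻¹)⁻¹ = g * m * (x'⁻¹ * g⁻¹) * (x' * m⁻¹) := by group
        _ = _ := by rw [h5]; group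
    rwa [e] at h3
  have htv : ∀ s, Adj Z b s → XW Z U r ≤ centralizer (s : Set G) → ∀ v ∈ s, g * v = v * g := by
    intro s hs hrs
    exact E.tv hbr hs (fun v hv => (mem_centralizer_iff.1 (D.NN_cent' har hg) v hv).symm) hgr hgm
      (fun s hs => D.F.conj g s (D.P.adj_pt hs)) hrs
  refine mem_centralizer_iff.2 fun m hmN => ?_
  obtain ⟨x', hx', h1⟩ := key m hmN
  have h4 : g * (m * x'⁻¹) = (m * x'⁻¹) * g := by
    by_cases h5 : m * x'⁻¹ = 1
    · rw [h5, one_mul, mul_one]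
    · obtain ⟨s, hs, hms⟩ := E.vect (mul_mem hmN (inv_mem (hx.le_NN hx'))) h5
      exact htv s hs (E.one hbr hs hms h5 h1) _ hms
  calc m * g = (m * x'⁻¹) * (x' * g) := by group
    _ = (m * x'⁻¹) * (g * x') := by rw [hgxx x' hx']
    _ = (g * (m * x'⁻¹)) * x' := by rw [h4]; group
    _ = g * m := by group

/-- **two common neighbours** -/
theorem two_common {a b c r : Subgroup G} (hac : Adj Z a c) (hbc : Adj Z b c) (har : Adj Z a r) (hbr : Adj Z b r)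
    (hne : c ≠ r) (hm : ¬ XW Z U c ≤ centralizer (NN Z b : Set G)) : Com Z a b := by
  have E := D.nd hbc hm
  have hmr : ¬ XW Z U r ≤ centralizer (NN Z b : Set G) := D.mov_all hbc hbr hm
  have hma : ¬ XW Z U c ≤ centralizer (NN Z a : Set G) := D.mov_all hbc hac hm
  have Ea := D.nd hac hma
  have hcp := D.P.adj_pt hac
  have hrp := D.P.adj_pt har
  by_cases hcr : XW Z U c ≤ centralizer (r : Set G)
  swap
  · intro g hg
    refine mem_centralizer_iff.2 fun m hmN => ?_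
    obtain ⟨x, hx, h1⟩ := E.ix hbc hbr hcr hmN
    have hrc : ¬ XW Z U r ≤ centralizer (c : Set G) := fun h => hcr (E.sym hbr hbc h)
    have hm1N : m * x⁻¹ ∈ NN Z b := mul_mem hmN (inv_mem (hbr.le_NN hx))
    obtain ⟨y, hy, h2⟩ := E.ix hbr hbc hrc hm1N
    have hm' : m * x⁻¹ * y⁻¹ ∈ NN Z b := mul_mem hm1N (inv_mem (hbc.le_NN hy))
    have h3 : ∀ w ∈ XW Z U c, w * (m * x⁻¹ * y⁻¹) = (m * x⁻¹ * y⁻¹) * w := by
      intro w hw
      have h5 : w * y⁻¹ = y⁻¹ * w := D.cent_of hcp hw (inv_mem (D.F.aX c hcp hy))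
      calc w * (m * x⁻¹ * y⁻¹) = w * (m * x⁻¹) * y⁻¹ := by group
        _ = m * x⁻¹ * (w * y⁻¹) := by rw [h1 w hw]; group
        _ = _ := by rw [h5]; group
    have h4 := D.mem_X hbc hm hm' h3
    have h5 := D.mem_X hbr hmr hm' h2
    have h6 := ti_one D.ti hcp hrp hne (D.gm_mem hac hg h4) (D.gm_mem har hg h5)
    rw [mul_inv_eq_one, mul_inv_eq_iff_eq_mul] at h6
    have h7 : g * y = y * g := (mem_centralizer_iff.1 (D.NN_cent' hac hg) y hy).symm
    have h8 : g * x = x * g := (mem_centralizer_iff.1 (D.NN_cent' har hg) x hx).symm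
    calc m * g = (m * x⁻¹ * y⁻¹) * (y * (x * g)) := by group
      _ = (m * x⁻¹ * y⁻¹) * (y * g * x) := by rw [← h8]; group
      _ = ((m * x⁻¹ * y⁻¹) * g) * (y * x) := by rw [← h7]; group
      _ = g * m := by rw [← h6]; group
  · by_contra hcon
    obtain ⟨g, hg, hgN⟩ := SetLike.not_le_iff_exists.1 hcon
    have hrc : XW Z U r ≤ centralizer (c : Set G) := E.sym hbc hbr hcr
    obtain ⟨x, hx, hxc, hxr⟩ := E.sep hbc hbr hne
    obtain ⟨y, hy, hyr, hyc⟩ := E.sep hbr hbc hne.symm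
    obtain ⟨x', hx', hxc', hxr'⟩ := Ea.sep hac har hne
    obtain ⟨z, hz, hz1⟩ := Ea.exists_v hx'
    have hzX : z ∈ XW Z U c := D.pt_le_X hac hma hx' hxc' hz
    have hxX : x ≤ XW Z U c := D.pt_le_X hbc hm hx hxc
    have hyX : y ≤ XW Z U r := D.pt_le_X hbr hmr hy hyr
    have hN : ∀ v : x × y, (v.1 : G) * (v.2 : G) ∈ NN Z b := fun v => mul_mem (hx.le_NN v.1.2) (hy.le_NN v.2.2)
    let f : x × y → c := fun v => ⟨((v.1 : G) * (v.2 : G)) * z * ((v.1 : G) * (v.2 : G))⁻¹ * z⁻¹,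
      D.gm_mem hbc (hN v) hzX⟩
    have hf : Function.Injective f := by
      rintro ⟨v, w⟩ ⟨v', w'⟩ e
      have e1 : ((v : G) * (w : G)) * z * ((v : G) * (w : G))⁻¹ * z⁻¹ =
          ((v' : G) * (w' : G)) * z * ((v' : G) * (w' : G))⁻¹ * z⁻¹ := congrArg Subtype.val e
      have e2 := mul_right_cancel e1
      set n := ((v : G) * (w : G)) with hn
      set n' := ((v' : G) * (w' : G)) with hn'
      have e3 : (n⁻¹ * n') * z = z * (n⁻¹ * n') := by
        calc (n⁻¹ * n') * z = n⁻¹ * (n' * z * n'⁻¹) * n' := by group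
          _ = z * (n⁻¹ * n') := by rw [← e2]; group
      have hnN : n⁻¹ * n' ∈ NN Z b := mul_mem (inv_mem (hN (v, w))) (hN (v', w'))
      have h1 : n⁻¹ * n' ∈ centralizer (NN Z a : Set G) :=
        D.g4 hbc hac hbr har hma hcr hx' hxc' hxr' hnN hz hz1 e3
      have h2 : g * (n⁻¹ * n') = (n⁻¹ * n') * g := mem_centralizer_iff.1 h1 g hg
      set p := (v : G)⁻¹ * (v' : G) with hp
      set s := (w : G)⁻¹ * (w' : G) with hs
      have hpx : p ∈ x := mul_mem (inv_mem v.2) v'.2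
      have hsy : s ∈ y := mul_mem (inv_mem w.2) w'.2
      have hps : n⁻¹ * n' = p * s := by
        rw [hn, hn', hp, hs]
        have h3 := D.NN_com hbc.pt (inv_mem (hy.le_NN w.2)) (mul_mem (inv_mem (hx.le_NN v.2)) (hx.le_NN v'.2))
        calc ((v : G) * (w : G))⁻¹ * ((v' : G) * (w' : G)) = ((w : G)⁻¹ * ((v : G)⁻¹ * (v' : G))) * (w' : G) := by group
          _ = _ := by rw [h3]; group
      rw [hps] at h2
      have h4 : g * p * g⁻¹ * p⁻¹ ∈ c := D.gm_mem hac hg (hxX hpx)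
      have h5 : g * s * g⁻¹ * s⁻¹ ∈ r := D.gm_mem har hg (hyX hsy)
      have h6 : g * p * g⁻¹ * p⁻¹ = (g * s * g⁻¹ * s⁻¹)⁻¹ := by
        have h7 := D.NN_com hbc.pt (hx.le_NN hpx) (hbr.le_NN (inv_mem h5))
        have h8 : (g * p * g⁻¹ * p⁻¹) * p = (g * s * g⁻¹ * s⁻¹)⁻¹ * p := by
          rw [← h7]
          calc (g * p * g⁻¹ * p⁻¹) * p = (g * (p * s)) * (g * s)⁻¹ := by group
            _ = (p * s * g) * (g * s)⁻¹ := by rw [h2]
            _ = _ := by group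
        exact mul_right_cancel h8
      have h7 : g * p * g⁻¹ * p⁻¹ = 1 := ti_one D.ti hcp hrp hne h4 (h6 ▸ inv_mem h5)
      have h8 : g * s * g⁻¹ * s⁻¹ = 1 := by
        rw [h7] at h6
        exact inv_eq_one.1 h6.symm
      rw [mul_inv_eq_one, mul_inv_eq_iff_eq_mul] at h7 h8
      have hp1 : p = 1 := by
        by_contra hp1
        exact hgN (D.g4 hac hbc har hbr hm hcr hx hxc hxr hg hpx hp1 h7)
      have hs1 : s = 1 := by
        by_contra hs1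
        exact hgN (D.g4 har hbr hac hbc hmr hrc hy hyr hyc hg hsy hs1 h8)
      exact Prod.ext (Subtype.ext (inv_mul_eq_one.1 hp1)) (Subtype.ext (inv_mul_eq_one.1 hs1))
    have h1 := Nat.card_le_card_of_injective f hf
    rw [Nat.card_prod, D.card_pt (D.P.adj_pt hx), D.card_pt (D.P.adj_pt hy), D.card_pt hcp] at h1
    have h2 := D.q3
    nlinarith

/-- **(NR1)** -/
theorem nr_one {a c : Subgroup G} (h : Adj Z a c) : XW Z U c ≤ centralizer (NN Z a : Set G) := by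
  by_contra hm
  obtain ⟨l, hl, hlN⟩ : ∃ l, LnOn Z U c l ∧ ¬ l ≤ centralizer (NN Z a : Set G) := by
    by_contra hcon
    push Not at hcon
    exact hm (sup_le (comm_symm (D.com _ _ h)) (iSup_le fun l => hcon l l.2))
  have hlX := ln_le_XW hl
  obtain ⟨k, hk0, hk1⟩ := hl
  -- `b`
  have hbc : Adj Z (MulAut.conj k • Z 1) c := by
    rw [hk0]
    exact D.P.adj_symm (D.adj01.conj k)
  have hlb : l ≤ NN Z (MulAut.conj k • Z 1) := by
    rw [hk1, NN_conj]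
    refine conj_le_iff.2 ?_
    obtain ⟨s, hs0, hs1, hs2, hs3⟩ := D.P.swap
    rw [← hs0, ← hs3, NN_conj]
    exact conj_le_iff.2 D.UN
  set b := MulAut.conj k • Z 1 with hb
  have hmb : ¬ XW Z U c ≤ centralizer (NN Z b : Set G) := D.mov_all h hbc hm
  have E := D.nd hbc hmb
  have Ea := D.nd h hm
  obtain ⟨v, hv, hvN⟩ := SetLike.not_le_iff_exists.1 hlN
  obtain ⟨g, hg, hgv⟩ : ∃ g ∈ NN Z a, g * v ≠ v * g := by
    by_contra hcon
    push Not at hcon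
    exact hvN (mem_centralizer_iff.2 hcon)
  have hncom : ¬ Com Z a b := fun h1 => hgv (mem_centralizer_iff.1 (h1 hg) v (hlb hv)).symm
  have hin : ∀ m ∈ NN Z b, g * m * g⁻¹ * m⁻¹ ∈ c := by
    intro m hmN
    by_cases h1 : g * m * g⁻¹ * m⁻¹ = 1
    · rw [h1]
      exact one_mem _
    have h2 : g * m * g⁻¹ * m⁻¹ ∈ NN Z b := by
      refine mul_mem ?_ (inv_mem hmN)
      exact (mem_normalizer_iff.1 (PP.HH_le_NN b (centralizer_le_normalizer _ (D.NN_cent h hbc hg))) m).1 hmN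
    have h3 : g * m * g⁻¹ * m⁻¹ ∈ NN Z a := by
      have h4 := (mem_normalizer_iff.1 (PP.HH_le_NN a (centralizer_le_normalizer _ (D.NN_cent hbc h hmN))) g⁻¹).1
        (inv_mem hg)
      have e : g * m * g⁻¹ * m⁻¹ = g * (m * g⁻¹ * m⁻¹) := by group
      rw [e]
      exact mul_mem hg h4
    obtain ⟨p, hp, hmp⟩ := E.vect h2 h1
    obtain ⟨p', hp', hmp'⟩ := Ea.vect h3 h1
    have e : p = p' := D.ti' (D.P.adj_pt hp) (D.P.adj_pt hp') hmp hmp' h1
    subst e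
    by_cases hpc : c = p
    · rw [hpc]
      exact hmp
    · exact absurd (D.two_common h hbc hp' hp hpc hmb) hncom
  have hv1 : v ≠ 1 := by
    rintro rfl
    exact hgv (by rw [mul_one, one_mul])
  obtain ⟨s, hs, hvs⟩ := E.vect (hlb hv) hv1
  have hcs : XW Z U c ≤ centralizer (s : Set G) :=
    E.one hbc hs hvs hv1 fun w hw => D.cent_of (D.P.adj_pt h) hw (hlX hv)
  refine hgv (E.tv hbc hs (fun v hv => (mem_centralizer_iff.1 (D.NN_cent' h hg) v hv).symm) hin ?_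
    (fun s hs => D.F.conj g s (D.P.adj_pt hs)) hcs v hvs)
  intro s hs
  have := Adj.conj hs g
  rwa [D.fix h hbc hg] at this

end NrH

end Cfsg.Agent.Omega.NO3S.EThree.NrOne

end
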