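import Cfsg.Agent.Mrg.Omega.NO3S.EThree.ExactB
import Cfsg.Agent.Mrg.Omega.OM.PG.Base
import Mathlib

section


/-!
# The additive quotient of an abelian subgroup

`Qt N a M π` : `π : G → M` is on the abelian subgroup `N` a homomorphism onto the additive group `M` with kernel `a`;
`exists_qt`, `Qt.im` (image of a subgroup), `Qt.exists_act` (automorphism of `M` induced by an element of `G`),
`Qt.exists_sum` (an orbit product).
-/

set_option autoImplicit false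
set_option linter.unusedSectionVars false

namespace Cfsg.Agent.Omega.NO3S.EThree

open Subgroup
open scoped Pointwise

universe u

variable {G : Type u} [Group G]

theorem mem_cjs {t x : G} {A : Subgroup G} : x ∈ MulAut.conj t • A ↔ t⁻¹ * x * t ∈ A := by
  rw [Subgroup.mem_pointwise_smul_iff_inv_smul_mem, ← map_inv, MulAut.smul_def, MulAut.conj_apply, inv_inv]

/-- `π` is on `N` a homomorphism onto `M` with kernel `a`. -/
structure Qt (N a : Subgroup G) (M : Type u) [AddCommGroup M] (π : G → M) : Prop where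
  mul : ∀ x ∈ N, ∀ y ∈ N, π (x * y) = π x + π y
  ker : ∀ x ∈ N, π x = 0 ↔ x ∈ a
  surj : ∀ m, ∃ x ∈ N, π x = m

theorem exists_qt (N a : Subgroup G) (hab : ∀ x ∈ N, ∀ y ∈ N, x * y = y * x) :
    ∃ (M : Type u) (_ : AddCommGroup M) (π : G → M), Qt N a M π := by
  classical
  let _ : CommGroup N := { (inferInstance : Group N) with
    mul_comm := fun x y => Subtype.ext (hab x x.2 y y.2) }
  let K : Subgroup N := a.subgroupOf N
  refine ⟨Additive (N ⧸ K), inferInstance, fun g => if h : g ∈ N then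
    Additive.ofMul ((⟨g, h⟩ : N) : N ⧸ K) else 0, ?_, ?_, ?_⟩
  · intro x hx y hy
    rw [dif_pos (mul_mem hx hy), dif_pos hx, dif_pos hy]
    rfl
  · intro x hx
    rw [dif_pos hx]
    have h1 : (((⟨x, hx⟩ : N) : N ⧸ K) = 1) ↔ (⟨x, hx⟩ : N) ∈ K := QuotientGroup.eq_one_iff _
    exact h1
  · intro m
    obtain ⟨x, hx⟩ := QuotientGroup.mk_surjective (s := K) (Additive.toMul m)
    refine ⟨x, x.2, ?_⟩
    rw [dif_pos x.2]
    exact hx

namespace Qt

variable {N a : Subgroup G} {M : Type u} [AddCommGroup M] {π : G → M} (q : Qt N a M π)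
include q

theorem one : π 1 = 0 := (q.ker 1 (one_mem _)).2 (one_mem _)

theorem inv {x : G} (hx : x ∈ N) : π x⁻¹ = -π x := by
  have h1 := q.mul x hx x⁻¹ (inv_mem hx)
  rw [mul_inv_cancel, q.one] at h1
  exact (neg_eq_of_add_eq_zero_right h1.symm).symm

theorem eq_iff {x y : G} (hx : x ∈ N) (hy : y ∈ N) : π x = π y ↔ x⁻¹ * y ∈ a := by
  rw [← q.ker _ (mul_mem (inv_mem hx) hy), q.mul _ (inv_mem hx) _ hy, q.inv hx]
  constructor
  · intro h; rw [h]; abel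
  · intro h
    have : π x = π x + (-π x + π y) := by rw [h, add_zero]
    rw [this]; abel

/-- The image of a subgroup. -/
def im (A : Subgroup G) : AddSubgroup M where
  carrier := {m | ∃ x ∈ A, x ∈ N ∧ π x = m}
  zero_mem' := ⟨1, one_mem _, one_mem _, q.one⟩
  add_mem' := by
    rintro _ _ ⟨x, hx, hxN, rfl⟩ ⟨y, hy, hyN, rfl⟩
    exact ⟨x * y, mul_mem hx hy, mul_mem hxN hyN, q.mul x hxN y hyN⟩
  neg_mem' := by
    rintro _ ⟨x, hx, hxN, rfl⟩
    exact ⟨x⁻¹, inv_mem hx, inv_mem hxN, q.inv hxN⟩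

theorem mem_im {A : Subgroup G} {m : M} : m ∈ q.im A ↔ ∃ x ∈ A, x ∈ N ∧ π x = m := Iff.rfl

theorem im_mono {A B : Subgroup G} (h : A ≤ B) : q.im A ≤ q.im B := by
  rintro _ ⟨x, hx, hxN, rfl⟩
  exact ⟨x, h hx, hxN, rfl⟩

theorem π_mem_im {A : Subgroup G} {x : G} (hx : x ∈ A) (hxN : x ∈ N) : π x ∈ q.im A := ⟨x, hx, hxN, rfl⟩

/-- `im (A B) = im A + im B` for commuting `A`, `B ≤ N` -/
theorem im_sup {A B : Subgroup G} (hA : A ≤ N) (hB : B ≤ N)
    (hc : ∀ g ∈ A ⊔ B, ∃ α ∈ A, ∃ β ∈ B, g = α * β) : q.im (A ⊔ B) = q.im A ⊔ q.im B := by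
  apply le_antisymm
  · rintro _ ⟨x, hx, hxN, rfl⟩
    obtain ⟨α, hα, β, hβ, rfl⟩ := hc x hx
    rw [q.mul α (hA hα) β (hB hβ)]
    exact add_mem (AddSubgroup.mem_sup_left (q.π_mem_im hα (hA hα)))
      (AddSubgroup.mem_sup_right (q.π_mem_im hβ (hB hβ)))
  · exact sup_le (q.im_mono le_sup_left) (q.im_mono le_sup_right)

/-- An element of `G` normalising `N` and `a` acts on `M`. -/
theorem exists_act {t : G} (hN : MulAut.conj t • N = N) (ha : MulAut.conj t • a = a) :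
    ∃ φ : M ≃+ M, ∀ x ∈ N, φ (π x) = π (t * x * t⁻¹) := by
  classical
  have hN1 : ∀ x ∈ N, t * x * t⁻¹ ∈ N := fun x hx => by
    rw [← hN]
    exact ⟨x, hx, rfl⟩
  have hN2 : ∀ x ∈ N, t⁻¹ * x * t ∈ N := fun x hx => by
    rw [← hN, mem_cjs] at hx
    exact hx
  have ha1 : ∀ x ∈ a, t * x * t⁻¹ ∈ a := fun x hx => by
    rw [← ha]
    exact ⟨x, hx, rfl⟩
  have ha2 : ∀ x ∈ a, t⁻¹ * x * t ∈ a := fun x hx => by
    rw [← ha, mem_cjs] at hx
    exact hx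
  choose σ hσN hσ using q.surj
  have k1 : ∀ x ∈ N, π (t * σ (π x) * t⁻¹) = π (t * x * t⁻¹) := by
    intro x hx
    rw [q.eq_iff (hN1 _ (hσN _)) (hN1 x hx)]
    have h1 : (σ (π x))⁻¹ * x ∈ a := (q.eq_iff (hσN _) hx).1 (hσ _)
    have := ha1 _ h1
    have e : (t * σ (π x) * t⁻¹)⁻¹ * (t * x * t⁻¹) = t * ((σ (π x))⁻¹ * x) * t⁻¹ := by group
    rwa [e]
  have k2 : ∀ x ∈ N, π (t⁻¹ * σ (π x) * t) = π (t⁻¹ * x * t) := by
    intro x hx
    rw [q.eq_iff (hN2 _ (hσN _)) (hN2 x hx)]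
    have h1 : (σ (π x))⁻¹ * x ∈ a := (q.eq_iff (hσN _) hx).1 (hσ _)
    have := ha2 _ h1
    have e : (t⁻¹ * σ (π x) * t)⁻¹ * (t⁻¹ * x * t) = t⁻¹ * ((σ (π x))⁻¹ * x) * t := by group
    rwa [e]
  let φ : M ≃+ M :=
    { toFun := fun m => π (t * σ m * t⁻¹)
      invFun := fun m => π (t⁻¹ * σ m * t)
      left_inv := by
        intro m
        change π (t⁻¹ * σ (π (t * σ m * t⁻¹)) * t) = m
        rw [k2 _ (hN1 _ (hσN _))]
        have : t⁻¹ * (t * σ m * t⁻¹) * t = σ m := by group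
        rw [this, hσ]
      right_inv := by
        intro m
        change π (t * σ (π (t⁻¹ * σ m * t)) * t⁻¹) = m
        rw [k1 _ (hN2 _ (hσN _))]
        have : t * (t⁻¹ * σ m * t) * t⁻¹ = σ m := by group
        rw [this, hσ]
      map_add' := by
        intro m m'
        have h1 : m + m' = π (σ m * σ m') := by rw [q.mul _ (hσN _) _ (hσN _), hσ, hσ]
        rw [h1, k1 _ (mul_mem (hσN _) (hσN _)), ← q.mul _ (hN1 _ (hσN _)) _ (hN1 _ (hσN _))]
        congr 1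
        group }
  exact ⟨φ, k1⟩

theorem prod_list : ∀ l : List G, (∀ y ∈ l, y ∈ N) → l.prod ∈ N ∧ π l.prod = (l.map π).sum
  | [], _ => ⟨one_mem _, by simpa using q.one⟩
  | y :: l, h => by
    obtain ⟨h1, h2⟩ := prod_list l fun z hz => h z (List.mem_cons_of_mem _ hz)
    have hy : y ∈ N := h y List.mem_cons_self
    rw [List.prod_cons, List.map_cons, List.sum_cons, ← h2]
    exact ⟨mul_mem hy h1, q.mul y hy _ h1⟩

/-- The product over a finite set. -/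
theorem exists_prod (hab : ∀ x ∈ N, ∀ y ∈ N, x * y = y * x) (O : Finset G) (hO : ∀ y ∈ O, y ∈ N) :
    ∃ n ∈ N, π n = ∑ y ∈ O, π y ∧ ∀ t : G, (∀ y ∈ O, t * y * t⁻¹ ∈ O) → t * n * t⁻¹ = n := by
  classical
  have hl : ∀ y ∈ O.toList, y ∈ N := fun y hy => hO y (Finset.mem_toList.1 hy)
  obtain ⟨h1, h2⟩ := q.prod_list O.toList hl
  refine ⟨O.toList.prod, h1, ?_, fun t ht => ?_⟩
  · rw [h2, Finset.sum_map_toList]
  · have h3 : t * O.toList.prod * t⁻¹ = (O.toList.map (MulAut.conj t)).prod := by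
      rw [← MulAut.conj_apply, map_list_prod]
    have hnd : (O.toList.map (MulAut.conj t)).Nodup := (Finset.nodup_toList O).map (MulAut.conj t).injective
    have h4 : (O.toList.map (MulAut.conj t)).toFinset = O := by
      apply Finset.eq_of_subset_of_card_le
      · intro y hy
        rw [List.mem_toFinset, List.mem_map] at hy
        obtain ⟨z, hz, rfl⟩ := hy
        exact ht z (Finset.mem_toList.1 hz)
      · rw [List.toFinset_card_of_nodup hnd, List.length_map, Finset.length_toList]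
    have h5 : (O.toList.map (MulAut.conj t)).Perm O.toList := by
      refine (List.perm_ext_iff_of_nodup hnd (Finset.nodup_toList O)).2 fun y => ?_
      rw [← List.mem_toFinset, h4, Finset.mem_toList]
    rw [h3]
    refine h5.prod_eq' ?_
    refine List.Pairwise.imp_of_mem (R := fun _ _ => True) ?_ (List.pairwise_of_forall fun _ _ => trivial)
    intro x y hx hy _
    have hx' : x ∈ N := hl x (h5.mem_iff.1 hx)
    have hy' : y ∈ N := hl y (h5.mem_iff.1 hy)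
    exact hab x hx' y hy'

/-- The preimage of a subgroup. -/
def pre (C : AddSubgroup M) : Subgroup G where
  carrier := {x | x ∈ N ∧ π x ∈ C}
  one_mem' := ⟨one_mem _, by rw [q.one]; exact zero_mem _⟩
  mul_mem' := fun {x y} hx hy => ⟨mul_mem hx.1 hy.1, by rw [q.mul x hx.1 y hy.1]; exact add_mem hx.2 hy.2⟩
  inv_mem' := fun {x} hx => ⟨inv_mem hx.1, by rw [q.inv hx.1]; exact neg_mem hx.2⟩

theorem mem_pre {C : AddSubgroup M} {x : G} : x ∈ q.pre C ↔ x ∈ N ∧ π x ∈ C := Iff.rfl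

/-- A 2-group fixes a nonzero vector. -/
theorem fixed_vec [Finite G] {T : Subgroup G} (hT : IsPGroup 2 T) (hN : ∀ t ∈ T, ∀ x ∈ N, t * x * t⁻¹ ∈ N)
    (ha : ∀ t ∈ T, ∀ x ∈ a, t * x * t⁻¹ ∈ a) {C : AddSubgroup M}
    (hC : ∀ t ∈ T, ∀ x ∈ N, π x ∈ C → π (t * x * t⁻¹) ∈ C) {y : M} (hy : y ∈ C) (hy0 : y ≠ 0) (hy2 : y + y = 0) :
    ∃ x ∈ N, π x ∈ C ∧ π x ≠ 0 ∧ ∀ t ∈ T, π (t * x * t⁻¹) = π x := by
  classical
  choose σ hσN hσ using q.surj
  have k1 : ∀ t ∈ T, ∀ x ∈ N, π (t * σ (π x) * t⁻¹) = π (t * x * t⁻¹) := by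
    intro t ht x hx
    rw [q.eq_iff (hN t ht _ (hσN _)) (hN t ht x hx)]
    have h1 : (σ (π x))⁻¹ * x ∈ a := (q.eq_iff (hσN _) hx).1 (hσ _)
    have := ha t ht _ h1
    have e : (t * σ (π x) * t⁻¹)⁻¹ * (t * x * t⁻¹) = t * ((σ (π x))⁻¹ * x) * t⁻¹ := by group
    rwa [e]
  have hfin : Finite M := by
    apply Finite.of_surjective (fun x : N => π x)
    intro m
    obtain ⟨x, hx, e⟩ := q.surj m
    exact ⟨⟨x, hx⟩, e⟩
  let act : MulAction T C :=
    { smul := fun t m => ⟨π ((t : G) * σ m * (t : G)⁻¹), hC t t.2 _ (hσN _) (by rw [hσ]; exact m.2)⟩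
      one_smul := by
        intro m
        apply Subtype.ext
        change π (((1 : T) : G) * σ m * ((1 : T) : G)⁻¹) = m
        rw [OneMemClass.coe_one, inv_one, mul_one, one_mul, hσ]
      mul_smul := by
        intro s t m
        apply Subtype.ext
        change π (((s * t : T) : G) * σ m * ((s * t : T) : G)⁻¹) =
          π ((s : G) * σ (π ((t : G) * σ m * (t : G)⁻¹)) * (s : G)⁻¹)
        rw [k1 s s.2 _ (hN t t.2 _ (hσN _))]
        congr 1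
        push_cast
        group }
  have h0 : (0 : C) ∈ MulAction.fixedPoints T C := by
    intro t
    apply Subtype.ext
    change π ((t : G) * σ ((0 : C) : M) * (t : G)⁻¹) = 0
    have : ((0 : C) : M) = π 1 := by rw [q.one]; rfl
    rw [this, k1 t t.2 1 (one_mem _), mul_one, mul_inv_cancel, q.one]
  have h2 : 2 ∣ Nat.card C := by
    have h3 : addOrderOf (⟨y, hy⟩ : C) = 2 := by
      apply addOrderOf_eq_prime
      · apply Subtype.ext
        change ((2 : ℕ) • (⟨y, hy⟩ : C) : C).1 = 0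
        rw [two_nsmul]
        exact hy2
      · intro h
        exact hy0 (congrArg Subtype.val h)
    rw [← h3]
    exact addOrderOf_dvd_natCard _
  obtain ⟨b, hb, hne⟩ := hT.exists_fixed_point_of_prime_dvd_card_of_fixed_point C h2 h0
  refine ⟨σ b, hσN _, by rw [hσ]; exact b.2, fun h => hne (Subtype.ext ?_), fun t ht => ?_⟩
  · rw [hσ] at h
    exact h.symm
  · have := congrArg Subtype.val (hb ⟨t, ht⟩)
    change π (t * σ b * t⁻¹) = b at this
    rw [this, hσ]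

end Qt

end Cfsg.Agent.Omega.NO3S.EThree

end

section


/-!
# The geometry of `N_a / a` in the transvection case

`M = N_a / a`, the points are the images of the `w ~ a`, `T` = the automorphisms induced by `N_w`.

* `TQ.geo` : `PtGeo.Geo`; `TQ.mem_pr` : `π n ∈ pr T (im w)` iff `[n, N_w] = 1`.
-/

set_option autoImplicit false
set_option linter.unusedSectionVars false

namespace Cfsg.Agent.Omega.NO3S.EThree

open Subgroup Cfsg Cfsg.Agent.ZN Cfsg.Agent.Omega.MinPar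
open Cfsg.Agent.Omega.NoFF.Basic (conj_conj mem_conj conj_le_iff conj_le_centralizer comm_symm comm_mono)
open Cfsg.Agent.Omega.NOThreeL.Pair (conj_eq_of_mem)
open Cfsg.Agent.Omega.OM.PG PtGeo
open scoped Pointwise

universe u

variable {G : Type u} [Group G]

/-- The points of `M = N_a / a`. -/
def PPa {Z : Fin 2 → Subgroup G} {a : Subgroup G} {M : Type u} [AddCommGroup M] {π : G → M}
    (q : Qt (NN Z a) a M π) : Set (AddSubgroup M) := {p | ∃ w, Adj Z a w ∧ p = q.im w}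

/-- The automorphisms induced by `N_w`. -/
def Ta {Z : Fin 2 → Subgroup G} {a : Subgroup G} {M : Type u} [AddCommGroup M] {π : G → M}
    (q : Qt (NN Z a) a M π) : AddSubgroup M → Set (M ≃+ M) :=
  fun p => {φ | ∃ w, Adj Z a w ∧ p = q.im w ∧ ∃ t ∈ NN Z w, ∀ x ∈ NN Z a, φ (π x) = π (t * x * t⁻¹)}

namespace TQ0

variable [Finite G] {Z U : Fin 2 → Subgroup G} (P : TQ0 Z U)
include P

theorem qt {a : Subgroup G} (ha : IsPt Z a) : ∃ (M : Type u) (_ : AddCommGroup M) (π : G → M), Qt (NN Z a) a M π :=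
  exists_qt _ _ fun _ hx _ hy => P.abN ha hx hy

variable {a : Subgroup G} {M : Type u} [AddCommGroup M] {π : G → M} (q : Qt (NN Z a) a M π)
include q

theorem pt_disj {w : Subgroup G} (hw : Adj Z a w) {x : G} (hx : x ∈ w) (hxa : x ∈ a) : x = 1 := by
  by_contra h1
  exact P.adj_ne hw (P.ti _ _ hw.pt (P.adj_pt hw) x hxa hx h1)

theorem π_ne {w : Subgroup G} (hw : Adj Z a w) {x : G} (hx : x ∈ w) (hx1 : x ≠ 1) : π x ≠ 0 := by
  rw [Ne, q.ker x (hw.le_NN hx)]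
  exact fun h => hx1 (P.pt_disj q hw hx h)

theorem im_inj {w w' : Subgroup G} (hw : Adj Z a w) (hw' : Adj Z a w') {x : G} (hx : x ∈ w) (hx1 : x ≠ 1)
    (h : π x ∈ q.im w') : w = w' := by
  obtain ⟨y, hy, hyN, e⟩ := q.mem_im.1 h
  have h1 : y⁻¹ * x ∈ a := (q.eq_iff hyN (hw.le_NN hx)).1 e
  have h2 : x ∈ a ⊔ w' := by
    have : x = y * (y⁻¹ * x) := by group
    rw [this]
    exact mul_mem (mem_sup_right hy) (mem_sup_left h1)
  rcases P.fus' hw' (P.adj_pt hw) hx h2 hx1 with e' | e'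
  · exact absurd e'.symm (P.adj_ne hw)
  · exact e'

theorem im_eq {w w' : Subgroup G} (hw : Adj Z a w) (hw' : Adj Z a w') (h : q.im w = q.im w') : w = w' := by
  obtain ⟨x, hx, hx1⟩ := P.exists_ne (P.adj_pt hw)
  exact P.im_inj q hw hw' hx hx1 (h ▸ q.π_mem_im hx (hw.le_NN hx))

theorem act_ex {t : G} (ht : MulAut.conj t • a = a) :
    ∃ φ : M ≃+ M, ∀ x ∈ NN Z a, φ (π x) = π (t * x * t⁻¹) :=
  q.exists_act (by rw [← NN_conj, ht]) ht

theorem mem_Ta {w : Subgroup G} (hw : Adj Z a w) {φ : M ≃+ M} :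
    φ ∈ Ta q (q.im w) ↔ ∃ t ∈ NN Z w, ∀ x ∈ NN Z a, φ (π x) = π (t * x * t⁻¹) := by
  constructor
  · rintro ⟨w', hw', e, t, ht, h⟩
    have := P.im_eq q hw hw' e
    subst this
    exact ⟨t, ht, h⟩
  · rintro ⟨t, ht, h⟩
    exact ⟨w, hw, rfl, t, ht, h⟩

theorem adj_conj_of {w : Subgroup G} (hw : Adj Z a w) {t : G} (ht : MulAut.conj t • a = a) :
    Adj Z a (MulAut.conj t • w) := by
  have := hw.conj t
  rwa [ht] at this

theorem mp_im {w : Subgroup G} (hw : Adj Z a w) {t : G} (ht : MulAut.conj t • a = a) {φ : M ≃+ M}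
    (hφ : ∀ x ∈ NN Z a, φ (π x) = π (t * x * t⁻¹)) : mp φ (q.im w) = q.im (MulAut.conj t • w) := by
  ext m
  rw [mem_mp]
  constructor
  · rintro ⟨_, ⟨x, hx, hxN, rfl⟩, rfl⟩
    refine ⟨t * x * t⁻¹, ?_, ?_, (hφ x hxN).symm⟩
    · rw [mem_conj]
      have : t⁻¹ * (t * x * t⁻¹) * t = x := by group
      rwa [this]
    · have h1 : MulAut.conj t • NN Z a = NN Z a := by rw [← NN_conj, ht]
      rw [← h1, mem_conj]
      have : t⁻¹ * (t * x * t⁻¹) * t = x := by group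
      rwa [this]
  · rintro ⟨y, hy, hyN, rfl⟩
    rw [mem_conj] at hy
    refine ⟨π (t⁻¹ * y * t), q.π_mem_im hy (hw.le_NN hy), ?_⟩
    rw [hφ _ (hw.le_NN hy)]
    congr 1
    group

end TQ0

namespace TQ

variable [Finite G] {Z U : Fin 2 → Subgroup G} (P : TQ Z U)
include P

variable {a : Subgroup G} {M : Type u} [AddCommGroup M] {π : G → M} (q : Qt (NN Z a) a M π)
include q

/-- `π n` is fixed by `N_w` iff `[n, N_w] = 1`. -/
theorem mem_pr {w : Subgroup G} (hw : Adj Z a w) {n : G} (hn : n ∈ NN Z a) :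
    π n ∈ pr (Ta q) (q.im w) ↔ n ∈ centralizer (NN Z w : Set G) := by
  constructor
  · intro h
    refine P.lift hw hn fun t ht => ?_
    obtain ⟨φ, hφ⟩ := P.act_ex q (P.conj_pt hw ht)
    have h1 : φ (π n) = π n := h φ ((P.mem_Ta q hw).2 ⟨t, ht, hφ⟩)
    rw [hφ n hn] at h1
    have htn : t * n * t⁻¹ ∈ NN Z a := by
      rw [← P.conj_NN hw ht, mem_conj]
      have : t⁻¹ * (t * n * t⁻¹) * t = n := by group
      rwa [this]
    rw [q.eq_iff htn hn] at h1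
    have h2 : (t * n * t⁻¹)⁻¹ * n = n⁻¹ * (n * t * n⁻¹ * t⁻¹) * n := by group
    rw [h2] at h1
    have h3 : n * (n⁻¹ * (n * t * n⁻¹ * t⁻¹) * n) * n⁻¹ ∈ a := by
      have : n * (n⁻¹ * (n * t * n⁻¹ * t⁻¹) * n) * n⁻¹ = n⁻¹ * (n * t * n⁻¹ * t⁻¹) * n := by
        rw [← P.aN hw.pt h1 hn, mul_inv_cancel_right]
      rw [this]
      exact h1
    have h4 : n * (n⁻¹ * (n * t * n⁻¹ * t⁻¹) * n) * n⁻¹ = n * t * n⁻¹ * t⁻¹ := by group
    rwa [h4] at h3
  · intro h φ hφ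
    obtain ⟨t, ht, h1⟩ := (P.mem_Ta q hw).1 hφ
    rw [h1 n hn]
    have : t * n * t⁻¹ = n := by rw [mem_centralizer_iff.1 h t ht, mul_inv_cancel_right]
    rw [this]

theorem le_pr {w w' : Subgroup G} (hw : Adj Z a w) (hw' : Adj Z a w') :
    q.im w' ≤ pr (Ta q) (q.im w) ↔ w' ≤ centralizer (NN Z w : Set G) := by
  constructor
  · intro h x hx
    exact (P.mem_pr q hw (hw'.le_NN hx)).1 (h (q.π_mem_im hx (hw'.le_NN hx)))
  · rintro h _ ⟨x, hx, hxN, rfl⟩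
    exact (P.mem_pr q hw hxN).2 (h hx)

/-- The geometry. -/
theorem geo : Geo (PPa q) (Ta q) where
  ne := by
    rintro _ ⟨w, hw, rfl⟩
    obtain ⟨x, hx, hx1⟩ := P.exists_ne (P.adj_pt hw)
    exact ⟨π x, q.π_mem_im hx (hw.le_NN hx), P.π_ne q hw hx hx1⟩
  ti := by
    rintro _ ⟨w, hw, rfl⟩ _ ⟨w', hw', rfl⟩ m ⟨x, hx, hxN, rfl⟩ h h0
    have hx1 : x ≠ 1 := by
      rintro rfl
      exact h0 q.one
    rw [P.im_inj q hw hw' hx hx1 h]
  mem := by
    rintro _ ⟨w, hw, rfl⟩ φ hφ m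
    obtain ⟨t, ht, h1⟩ := (P.mem_Ta q hw).1 hφ
    obtain ⟨n, hn, rfl⟩ := q.surj m
    rw [h1 n hn]
    obtain ⟨α, hα, υ, hυ, e⟩ := P.mem_au hw (P.com' hw hn ht)
    have hυN := hw.le_NN hυ
    have htn : t * n * t⁻¹ ∈ NN Z a := by
      rw [← P.conj_NN hw ht, mem_conj]
      have : t⁻¹ * (t * n * t⁻¹) * t = n := by group
      rwa [this]
    -- `t n t⁻¹ = n υ⁻¹ α⁻¹`
    have e1 : (t * n * t⁻¹)⁻¹ * (n * υ⁻¹) ∈ a := by
      have e2 : (t * n * t⁻¹)⁻¹ = n⁻¹ * (n * t * n⁻¹ * t⁻¹) := by group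
      have e3 : υ * n = n * υ := P.abN hw.pt hυN hn
      have e4 : n⁻¹ * α = α * n⁻¹ := (P.aN hw.pt hα (inv_mem hn)).symm
      have e5 : (t * n * t⁻¹)⁻¹ * (n * υ⁻¹) = α := by
        rw [e2, e]
        calc n⁻¹ * (α * υ) * (n * υ⁻¹) = (n⁻¹ * α) * (υ * n) * υ⁻¹ := by group
          _ = (α * n⁻¹) * (n * υ) * υ⁻¹ := by rw [e3, e4]
          _ = α := by group
      rw [e5]
      exact hα
    have e6 : π (t * n * t⁻¹) = π (n * υ⁻¹) := (q.eq_iff htn (mul_mem hn (inv_mem hυN))).2 e1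
    rw [e6, q.mul n hn _ (inv_mem hυN), add_sub_cancel_left]
    exact q.π_mem_im (inv_mem hυ) (inv_mem hυN)
  self := by
    rintro _ ⟨w, hw, rfl⟩
    exact (P.le_pr q hw hw).2 (P.self_le (P.adj_pt hw))
  act := by
    rintro _ ⟨w, hw, rfl⟩ φ hφ _ ⟨r, hr, rfl⟩
    obtain ⟨t, ht, h1⟩ := (P.mem_Ta q hw).1 hφ
    exact ⟨_, P.adj_conj_of q hr (P.conj_pt hw ht), P.mp_im q hr (P.conj_pt hw ht) h1⟩
  cj := by
    rintro _ ⟨w, hw, rfl⟩ φ hφ _ ⟨r, hr, rfl⟩ m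
    obtain ⟨t, ht, h1⟩ := (P.mem_Ta q hw).1 hφ
    obtain ⟨n, hn, rfl⟩ := q.surj m
    have htn : t * n * t⁻¹ ∈ NN Z a := by
      rw [← P.conj_NN hw ht, mem_conj]
      have : t⁻¹ * (t * n * t⁻¹) * t = n := by group
      rwa [this]
    rw [P.mp_im q hr (P.conj_pt hw ht) h1, h1 n hn, P.mem_pr q (P.adj_conj_of q hr (P.conj_pt hw ht)) htn,
      P.mem_pr q hr hn, NN_conj, ← conj_centralizer, mem_conj]
    have : t⁻¹ * (t * n * t⁻¹) * t = n := by group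
    rw [this]
  sur := by
    rintro _ ⟨w, hw, rfl⟩ m hm v ⟨υ, hυ, hυN, rfl⟩
    obtain ⟨n, hn, rfl⟩ := q.surj m
    rw [P.mem_pr q hw hn] at hm
    obtain ⟨t, ht, α, hα, e⟩ := P.sur hw hn hm hυ
    obtain ⟨φ, hφ⟩ := P.act_ex q (P.conj_pt hw ht)
    refine ⟨φ, (P.mem_Ta q hw).2 ⟨t, ht, hφ⟩, ?_⟩
    rw [hφ n hn, ← q.mul n hn υ hυN, q.eq_iff ?_ (mul_mem hn hυN), e]
    · have : (n * υ * α)⁻¹ * (n * υ) = α⁻¹ := by group
      rw [this]
      exact inv_mem hα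
    · rw [← P.conj_NN hw ht, mem_conj]
      have : t⁻¹ * (t * n * t⁻¹) * t = n := by group
      rwa [this]
  sym := by
    rintro _ ⟨w, hw, rfl⟩ _ ⟨r, hr, rfl⟩ h
    rw [P.le_pr q hw hr] at h
    rw [P.le_pr q hr hw]
    exact P.perp_symm hw hr h
  ix := by
    rintro _ ⟨w, hw, rfl⟩ _ ⟨r, hr, rfl⟩ h m
    rw [P.le_pr q hw hr] at h
    obtain ⟨n, hn, rfl⟩ := q.surj m
    obtain ⟨x, hx, hc⟩ := P.dec hw hr h hn
    have hxN := hr.le_NN hx
    refine ⟨π x, q.π_mem_im hx hxN, ?_⟩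
    have h1 : π n - π x = π (x⁻¹ * n) := by
      rw [q.mul _ (inv_mem hxN) _ hn, q.inv hxN]; abel
    rw [h1]
    exact (P.mem_pr q hw (mul_mem (inv_mem hxN) hn)).2 hc

end TQ

end Cfsg.Agent.Omega.NO3S.EThree

end

section


/-!
# The transvection case: lines, one component

`TQL Z U B` : `TQ` with `O₂(H/F) = 1`, lines `U`, and a 2-group `B` with `C_{N_0}(B) ≤ Z_0Z_1`.

* `TQL.geoO` : `PtGeo.GeoO` for every `a`.
-/

set_option autoImplicit false
set_option linter.unusedSectionVars false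

namespace Cfsg.Agent.Omega.NO3S.EThree

open Subgroup Cfsg Cfsg.Agent.ZN Cfsg.Agent.Omega.MinPar
open Cfsg.Agent.Omega.NoFF.Basic (conj_conj mem_conj conj_le_iff conj_le_centralizer comm_symm comm_mono)
open Cfsg.Agent.Omega.NOThreeL.Pair (conj_eq_of_mem)
open Cfsg.Agent.Omega.OM.PG PtGeo
open scoped Pointwise

universe u

variable {G : Type u} [Group G]

theorem norm_conj {A : Subgroup G} {k : G} (h : k ∈ normalizer (A : Set G)) : MulAut.conj k • A = A :=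
  conj_eq_of_mem h

theorem conj_norm {A : Subgroup G} {k : G} (h : MulAut.conj k • A = A) : k ∈ normalizer (A : Set G) :=
  ChoiceBase.mem_normalizer_iff_cj.2 h

theorem conj_normalizer (k : G) (A : Subgroup G) :
    MulAut.conj k • normalizer (A : Set G) = normalizer ((MulAut.conj k • A : Subgroup G) : Set G) :=
  (Cfsg.Agent.MinSimple.CosetFam.normalizer_conj k A).symm

theorem mem_conj_self {k x : G} {A : Subgroup G} (h : x ∈ A) : k * x * k⁻¹ ∈ MulAut.conj k • A := by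
  rw [mem_conj]
  have : k⁻¹ * (k * x * k⁻¹) * k = x := by group
  rwa [this]

namespace TQ0

variable [Finite G] {Z U : Fin 2 → Subgroup G} (P : TQ0 Z U)
include P

/-- the points of the line `k U_1` are adjacent to `k Z_0`; more precisely -/
theorem tr1 {k : G} {y : Subgroup G} (hy : IsPt Z y) (hle : y ≤ MulAut.conj k • U 1) :
    ∃ g : G, MulAut.conj g • (MulAut.conj k • Z 1) = y ∧ MulAut.conj g • (MulAut.conj k • Z 0) = MulAut.conj k • Z 0 ∧
      MulAut.conj g • (MulAut.conj k • U 1) = MulAut.conj k • U 1 ∧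
      MulAut.conj g • (MulAut.conj k • U 0) = MulAut.conj k • U 0 := by
  obtain ⟨s, s0, s1, s2, s3⟩ := P.swap
  obtain ⟨k'', rfl⟩ := hy
  have h1 : MulAut.conj ((k * s)⁻¹ * k'') • Z 0 ≤ U 0 := by
    have := conj_le_iff (g := (k * s)⁻¹) |>.2 hle
    rw [← s2, conj_conj k s, inv_conj_conj, conj_conj] at this
    exact this
  obtain ⟨l, l0, l1, l2, l3⟩ := P.tr _ h1
  have t1 : MulAut.conj (k * s)⁻¹ • (MulAut.conj k • Z 1) = Z 0 := by
    rw [conj_conj, mul_inv_rev, inv_mul_cancel_right, ← s0, inv_conj_conj]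
  have t0 : MulAut.conj (k * s)⁻¹ • (MulAut.conj k • Z 0) = Z 1 := by
    rw [conj_conj, mul_inv_rev, inv_mul_cancel_right, ← s1, inv_conj_conj]
  have t3 : MulAut.conj (k * s)⁻¹ • (MulAut.conj k • U 1) = U 0 := by
    rw [conj_conj, mul_inv_rev, inv_mul_cancel_right, ← s2, inv_conj_conj]
  have t2 : MulAut.conj (k * s)⁻¹ • (MulAut.conj k • U 0) = U 1 := by
    rw [conj_conj, mul_inv_rev, inv_mul_cancel_right, ← s3, inv_conj_conj]
  refine ⟨k * s * l * (k * s)⁻¹, ?_, ?_, ?_, ?_⟩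
  · rw [← conj_conj, t1, ← conj_conj, l0, conj_conj, ← mul_assoc, mul_inv_cancel, one_mul]
  · rw [← conj_conj, t0, ← conj_conj, l1, ← conj_conj, s1]
  · rw [← conj_conj, t3, ← conj_conj, l2, ← conj_conj, s2]
  · rw [← conj_conj, t2, ← conj_conj, l3, ← conj_conj, s3]

theorem adj_of_le {k : G} {y : Subgroup G} (hy : IsPt Z y) (hle : y ≤ MulAut.conj k • U 1) :
    Adj Z (MulAut.conj k • Z 0) y := by
  obtain ⟨g, h1, h2, -, -⟩ := P.tr1 hy hle
  exact ⟨g * k, by rw [← conj_conj, h2], by rw [← conj_conj, h1]⟩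

/-- lines -/
theorem pts1 {k x : G} (hx : x ∈ MulAut.conj k • U 1) (hx1 : x ≠ 1) :
    ∃ w, IsPt Z w ∧ w ≤ MulAut.conj k • U 1 ∧ x ∈ w := by
  obtain ⟨s, s0, s1, s2, s3⟩ := P.swap
  have h1 : (k * s)⁻¹ * x * (k * s) ∈ U 0 := by
    rw [← s2, conj_conj, mem_conj] at hx
    exact hx
  have h2 : (k * s)⁻¹ * x * (k * s) ≠ 1 := by
    intro e
    apply hx1
    have : x = (k * s) * ((k * s)⁻¹ * x * (k * s)) * (k * s)⁻¹ := by group
    rw [this, e]; group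
  obtain ⟨w, hw, hle, hxw⟩ := P.pts _ h1 h2
  refine ⟨MulAut.conj (k * s) • w, hw.conj _, ?_, ?_⟩
  · have := conj_le_iff (g := k * s) |>.2 hle
    rwa [← conj_conj k s (U 0), s2] at this
  · rw [mem_conj]; exact hxw

theorem pt_le_line (k : G) : MulAut.conj k • Z 1 ≤ MulAut.conj k • U 1 := by
  obtain ⟨s, s0, s1, s2, s3⟩ := P.swap
  rw [← s0, ← s2]
  exact conj_le_iff.2 (conj_le_iff.2 P.ZU)

theorem line_le_NN (k : G) : MulAut.conj k • U 1 ≤ NN Z (MulAut.conj k • Z 0) := by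
  intro x hx
  by_cases hx1 : x = 1
  · rw [hx1]; exact one_mem _
  obtain ⟨w, hw, hle, hxw⟩ := P.pts1 hx hx1
  exact (P.adj_of_le hw hle).le_NN hxw

theorem line_le_cent (k : G) : MulAut.conj k • U 1 ≤ centralizer (NN Z (MulAut.conj k • Z 1) : Set G) := by
  obtain ⟨s, s0, s1, s2, s3⟩ := P.swap
  rw [← s0, ← s2, conj_conj, conj_conj]
  have h1 : MulAut.conj (k * s) • U 0 ≤ QQ (MulAut.conj (k * s) • Z 0) := by
    rw [QQ_conj]
    exact conj_le_iff.2 P.UQ'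
  exact h1.trans (P.QQ_le_cent ⟨_, rfl⟩)

theorem card_line (k : G) : Nat.card (MulAut.conj k • U 1 : Subgroup G) = Nat.card (Z 0) ^ 2 := by
  obtain ⟨s, s0, s1, s2, s3⟩ := P.swap
  rw [← s2, conj_conj, ← P.cardU]
  exact (Nat.card_congr (Subgroup.equivSMul (MulAut.conj (k * s)) (U 0)).toEquiv).symm

/-- a line is generated by two different points -/
theorem line_eq {k : G} {y y' : Subgroup G} (hy : IsPt Z y) (hy' : IsPt Z y') (h : y ≤ MulAut.conj k • U 1)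
    (h' : y' ≤ MulAut.conj k • U 1) (hne : y ≠ y') : y ⊔ y' = MulAut.conj k • U 1 := by
  refine Subgroup.eq_of_le_of_card_ge (sup_le h h') ?_
  rw [P.card_line, sq]
  have h1 : Nat.card (y × y') ≤ Nat.card (y ⊔ y' : Subgroup G) := by
    refine Nat.card_le_card_of_injective
      (fun p : y × y' => (⟨p.1 * p.2, mul_mem (mem_sup_left p.1.2) (mem_sup_right p.2.2)⟩ : (y ⊔ y' : Subgroup G))) ?_
    rintro ⟨a, b⟩ ⟨c, d⟩ e
    have e1 : (a : G) * b = c * d := congrArg Subtype.val e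
    have e2 : (c : G)⁻¹ * a = d * (b : G)⁻¹ := by
      calc (c : G)⁻¹ * a = (c : G)⁻¹ * (a * b) * (b : G)⁻¹ := by group
        _ = (c : G)⁻¹ * (c * d) * (b : G)⁻¹ := by rw [e1]
        _ = d * (b : G)⁻¹ := by group
    have e3 : (c : G)⁻¹ * a = 1 := by
      by_contra h0
      exact hne (P.ti _ _ hy hy' _ (mul_mem (inv_mem c.2) a.2) (e2 ▸ mul_mem d.2 (inv_mem b.2)) h0)
    have e4 : (c : G) = a := inv_mul_eq_one.1 e3
    have e5 : (d : G) = b := by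
      rw [e3] at e2
      exact (mul_inv_eq_one.1 e2.symm)
    exact Prod.ext (Subtype.ext e4.symm) (Subtype.ext e5.symm)
  rwa [Nat.card_prod, P.card_pt hy, P.card_pt hy'] at h1

/-- another point on the line -/
theorem exists_other (k : G) {y : Subgroup G} (hy : IsPt Z y) :
    ∃ y', IsPt Z y' ∧ y' ≤ MulAut.conj k • U 1 ∧ y' ≠ y := by
  by_contra hcon
  push Not at hcon
  have h1 : MulAut.conj k • U 1 ≤ y := by
    intro x hx
    by_cases hx1 : x = 1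
    · rw [hx1]; exact one_mem _
    obtain ⟨w, hw, hle, hxw⟩ := P.pts1 hx hx1
    rwa [← hcon w hw hle]
  have h2 := Subgroup.card_le_of_le h1
  rw [P.card_line, P.card_pt hy] at h2
  have h3 := P.one_lt
  nlinarith

theorem sq_one {a : Subgroup G} (ha : IsPt Z a) {x : G} (hx : x ∈ NN Z a) : x * x = 1 := by
  let K : Subgroup G :=
    { carrier := {x | x ∈ NN Z a ∧ x * x = 1}
      one_mem' := ⟨one_mem _, one_mul _⟩
      mul_mem' := fun {x y} hx hy => ⟨mul_mem hx.1 hy.1, by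
        have h1 := P.abN ha hx.1 hy.1
        calc x * y * (x * y) = x * (y * x) * y := by group
          _ = x * (x * y) * y := by rw [h1]
          _ = (x * x) * (y * y) := by group
          _ = 1 := by rw [hx.2, hy.2, one_mul]⟩
      inv_mem' := fun {x} hx => ⟨inv_mem hx.1, by
        have : x⁻¹ * x⁻¹ = (x * x)⁻¹ := by group
        rw [this, hx.2, inv_one]⟩ }
  have h1 : NN Z a ≤ K := by
    refine sSup_le fun u hu y hy => ⟨hu.le_NN hy, ?_⟩
    rw [← sq]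
    exact P.ZsqConj (P.adj_pt hu) y hy
  exact (h1 hx).2

end TQ0

/-- The transvection case, with lines and `B`. -/
structure TQL (Z U : Fin 2 → Subgroup G) (B : Subgroup G) : Prop extends TQ Z U where
  core : ∀ J : Subgroup G, J ≤ HH (Z 0) → HH (Z 0) ≤ normalizer (J : Set G) →
    (∀ y ∈ J, y * y ∈ centralizer (NN Z (Z 0) : Set G)) → J ≤ centralizer (NN Z (Z 0) : Set G)
  B2 : IsPGroup 2 B
  B0 : B ≤ HH (Z 0)
  B1 : B ≤ HH (Z 1)
  BU : ∀ x ∈ U 0, ∀ b ∈ B, b * x * b⁻¹ * x⁻¹ ∈ Z 0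
  Bfix : ∀ n ∈ NN Z (Z 0), (∀ b ∈ B, b * n * b⁻¹ = n) → n ∈ Z 0 ⊔ Z 1
  ab : ∀ l l', LnOn Z U (Z 0) l → LnOn Z U (Z 0) l' → l ≤ centralizer (l' : Set G)

namespace TQL

variable [Finite G] {Z U : Fin 2 → Subgroup G} {B : Subgroup G} (P : TQL Z U B)
include P

theorem core' {a : Subgroup G} (ha : IsPt Z a) (J : Subgroup G) (h1 : J ≤ HH a)
    (h2 : HH a ≤ normalizer (J : Set G)) (h3 : ∀ y ∈ J, y * y ∈ centralizer (NN Z a : Set G)) :
    J ≤ centralizer (NN Z a : Set G) := by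
  obtain ⟨k, rfl⟩ := ha
  have k1 : MulAut.conj k⁻¹ • J ≤ HH (Z 0) := by
    have := conj_le_iff (g := k⁻¹) |>.2 h1
    rwa [← HH_conj, inv_conj_conj] at this
  have k2 : HH (Z 0) ≤ normalizer ((MulAut.conj k⁻¹ • J : Subgroup G) : Set G) := by
    have := conj_le_iff (g := k⁻¹) |>.2 h2
    rwa [← HH_conj, inv_conj_conj, conj_normalizer] at this
  have k3 : ∀ y ∈ MulAut.conj k⁻¹ • J, y * y ∈ centralizer (NN Z (Z 0) : Set G) := by
    intro y hy
    rw [mem_conj, inv_inv] at hy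
    have := h3 _ hy
    rw [NN_conj, ← conj_centralizer, mem_conj] at this
    have e : k⁻¹ * (k * y * k⁻¹ * (k * y * k⁻¹)) * k = y * y := by group
    rwa [e] at this
  have k4 := P.core _ k1 k2 k3
  have k5 := conj_le_iff (g := k) |>.2 k4
  rwa [conj_inv_conj, conj_centralizer, ← NN_conj] at k5

/-- the radical -/
def II (Z : Fin 2 → Subgroup G) (a : Subgroup G) : Subgroup G :=
  NN Z a ⊓ ⨅ r : {r : Subgroup G // Adj Z a r}, centralizer (NN Z r : Set G)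

omit P in
theorem mem_II {a : Subgroup G} {x : G} : x ∈ II Z a ↔ x ∈ NN Z a ∧ ∀ r, Adj Z a r → x ∈ centralizer (NN Z r : Set G) := by
  unfold II
  rw [mem_inf, mem_iInf]
  exact ⟨fun h => ⟨h.1, fun r hr => h.2 ⟨r, hr⟩⟩, fun h => ⟨h.1, fun r => h.2 r r.2⟩⟩

omit P in
theorem conj_II {a : Subgroup G} {g x : G} (hg : MulAut.conj g • a = a) (hx : x ∈ II Z a) : g * x * g⁻¹ ∈ II Z a := by
  rw [mem_II] at hx ⊢
  have h1 : MulAut.conj g • NN Z a = NN Z a := by rw [← NN_conj, hg]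
  refine ⟨by rw [← h1]; exact mem_conj_self hx.1, fun r hr => ?_⟩
  have h2 : Adj Z a (MulAut.conj g⁻¹ • r) := by
    have h3 := hr.conj g⁻¹
    have h4 : MulAut.conj g⁻¹ • a = a := by
      have := congrArg (fun A => MulAut.conj g⁻¹ • A) hg
      simp only [inv_conj_conj] at this
      exact this.symm
    rwa [h4] at h3
  have h3 := mem_conj_self (k := g) (hx.2 _ h2)
  rwa [conj_centralizer, ← NN_conj, conj_inv_conj] at h3

theorem o2' {a : Subgroup G} (ha : IsPt Z a) {w w' : Subgroup G} (hw : Adj Z a w) (hw' : Adj Z a w') {τ τ' : G}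
    (hτ : τ ∈ NN Z w) (hτ' : τ' ∈ NN Z w')
    (h : ∀ n ∈ NN Z a, n⁻¹ * (τ' * τ * n * (τ' * τ)⁻¹) ∈ II Z a) : τ' * τ ∈ centralizer (NN Z a : Set G) := by
  let J : Subgroup G :=
    { carrier := {h | MulAut.conj h • a = a ∧ (∀ i ∈ II Z a, h * i * h⁻¹ = i) ∧
        ∀ n ∈ NN Z a, n⁻¹ * (h * n * h⁻¹) ∈ II Z a}
      one_mem' := ⟨by rw [map_one, one_smul], fun i _ => by group, fun n _ => by
        have : n⁻¹ * (1 * n * 1⁻¹) = 1 := by group
        rw [this]; exact one_mem _⟩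
      mul_mem' := by
        rintro x y ⟨x1, x2, x3⟩ ⟨y1, y2, y3⟩
        refine ⟨by rw [← conj_conj, y1, x1], fun i hi => ?_, fun n hn => ?_⟩
        · have : x * y * i * (x * y)⁻¹ = x * (y * i * y⁻¹) * x⁻¹ := by group
          rw [this, y2 i hi, x2 i hi]
        · have e1 : n⁻¹ * (x * y * n * (x * y)⁻¹) =
              (n⁻¹ * (x * n * x⁻¹)) * (x * (n⁻¹ * (y * n * y⁻¹)) * x⁻¹) := by group
          rw [e1, x2 _ (y3 n hn)]
          exact mul_mem (x3 n hn) (y3 n hn)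
      inv_mem' := by
        rintro x ⟨x1, x2, x3⟩
        have x1' : MulAut.conj x⁻¹ • a = a := by
          have := congrArg (fun A => MulAut.conj x⁻¹ • A) x1
          simp only [inv_conj_conj] at this
          exact this.symm
        have hN : ∀ n ∈ NN Z a, x⁻¹ * n * x ∈ NN Z a := by
          intro n hn
          have h1 : MulAut.conj x⁻¹ • NN Z a = NN Z a := by rw [← NN_conj, x1']
          have h2 := mem_conj_self (k := x⁻¹) hn
          rwa [h1, inv_inv] at h2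
        refine ⟨x1', fun i hi => ?_, fun n hn => ?_⟩
        · have h1 := x2 i hi
          have : x⁻¹ * i * x⁻¹⁻¹ = x⁻¹ * (x * i * x⁻¹) * x := by rw [h1]; group
          rw [this]; group
        · have h1 := x3 _ (hN n hn)
          have h2 := inv_mem h1
          have e1 : n⁻¹ * (x⁻¹ * n * x⁻¹⁻¹) = ((x⁻¹ * n * x)⁻¹ * (x * (x⁻¹ * n * x) * x⁻¹))⁻¹ := by group
          rw [e1]
          exact h2 }
  have hJ1 : J ≤ HH a := fun x hx => conj_norm hx.1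
  have hJ2 : HH a ≤ normalizer (J : Set G) := by
    intro g hg
    have key : ∀ g ∈ HH a, ∀ x ∈ J, g * x * g⁻¹ ∈ J := by
      rintro g hg x ⟨x1, x2, x3⟩
      have hga : MulAut.conj g • a = a := norm_conj hg
      have hga' : MulAut.conj g⁻¹ • a = a := norm_conj (inv_mem hg)
      refine ⟨?_, fun i hi => ?_, fun n hn => ?_⟩
      · rw [← conj_conj, ← conj_conj, hga', x1, hga]
      · have h1 := x2 _ (conj_II hga' hi)
        have e1 : g * x * g⁻¹ * i * (g * x * g⁻¹)⁻¹ = g * (x * (g⁻¹ * i * g⁻¹⁻¹) * x⁻¹) * g⁻¹ := by group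
        rw [e1, h1]; group
      · have hn' : g⁻¹ * n * g ∈ NN Z a := by
          have h1 : MulAut.conj g⁻¹ • NN Z a = NN Z a := by rw [← NN_conj, hga']
          have h2 := mem_conj_self (k := g⁻¹) hn
          rwa [h1, inv_inv] at h2
        have h1 := conj_II hga (x3 _ hn')
        have e1 : g * ((g⁻¹ * n * g)⁻¹ * (x * (g⁻¹ * n * g) * x⁻¹)) * g⁻¹ =
            n⁻¹ * (g * x * g⁻¹ * n * (g * x * g⁻¹)⁻¹) := by group
        rwa [e1] at h1
    refine mem_normalizer_iff.2 fun x => ⟨key g hg x, fun hx => ?_⟩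
    have := key g⁻¹ (inv_mem hg) _ hx
    have e : g⁻¹ * (g * x * g⁻¹) * g⁻¹⁻¹ = x := by group
    rwa [e] at this
  have hJ3 : ∀ y ∈ J, y * y ∈ centralizer (NN Z a : Set G) := by
    rintro y ⟨y1, y2, y3⟩
    refine mem_centralizer_iff.2 fun n hn => ?_
    set i : G := n⁻¹ * (y * n * y⁻¹) with hi
    have hiI : i ∈ II Z a := y3 n hn
    have e1 : y * n * y⁻¹ = n * i := by rw [hi]; group
    have e2 : y * y * n * (y * y)⁻¹ = n := by
      calc y * y * n * (y * y)⁻¹ = y * (y * n * y⁻¹) * y⁻¹ := by group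
        _ = y * (n * i) * y⁻¹ := by rw [e1]
        _ = (y * n * y⁻¹) * (y * i * y⁻¹) := by group
        _ = n * (i * i) := by rw [e1, y2 i hiI]; group
        _ = n := by rw [P.sq_one ha (mem_II.1 hiI).1, mul_one]
    calc n * (y * y) = y * y * n * (y * y)⁻¹ * (y * y) := by rw [e2]
      _ = y * y * n := by group
  refine P.core' ha J hJ1 hJ2 hJ3 ⟨?_, fun i hi => ?_, h⟩
  · rw [← conj_conj, P.conj_pt hw hτ, P.conj_pt hw' hτ']
  · have h1 := mem_centralizer_iff.1 ((mem_II.1 hi).2 w hw) τ hτ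
    have h2 := mem_centralizer_iff.1 ((mem_II.1 hi).2 w' hw') τ' hτ'
    calc τ' * τ * i * (τ' * τ)⁻¹ = τ' * (τ * i * τ⁻¹) * τ'⁻¹ := by group
      _ = τ' * i * τ'⁻¹ := by rw [h1, mul_inv_cancel_right]
      _ = i := by rw [h2, mul_inv_cancel_right]

section quot

variable {a : Subgroup G} {M : Type u} [AddCommGroup M] {π : G → M} (ha : IsPt Z a) (q : Qt (NN Z a) a M π)
include ha q

theorem π_mem_pr {n : G} (hn : n ∈ NN Z a) :
    (∀ r ∈ PPa q, π n ∈ pr (Ta q) r) ↔ n ∈ II Z a := by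
  rw [mem_II]
  constructor
  · intro h
    exact ⟨hn, fun r hr => (P.mem_pr q hr hn).1 (h _ ⟨r, hr, rfl⟩)⟩
  · rintro ⟨-, h⟩ _ ⟨r, hr, rfl⟩
    exact (P.mem_pr q hr hn).2 (h r hr)

theorem col_line {k : G} (hk : a = MulAut.conj k • Z 0) {y y' : Subgroup G} (hy : IsPt Z y) (hy' : IsPt Z y')
    (h : y ≤ MulAut.conj k • U 1) (h' : y' ≤ MulAut.conj k • U 1) (hne : y ≠ y') :
    Col (PPa q) (Ta q) (q.im y) (q.im y') := by
  subst hk
  have hay := P.adj_of_le hy h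
  have hay' := P.adj_of_le hy' h'
  refine ⟨?_, fun v hv hv0 => ?_⟩
  · rw [P.le_pr q hay hay']
    obtain ⟨g, h1, -, h3, -⟩ := P.tr1 hy h
    have h4 := P.line_le_cent (g * k)
    rw [← conj_conj, ← conj_conj, h1, h3] at h4
    exact h'.trans h4
  · have hsup : q.im (y ⊔ y') = q.im y ⊔ q.im y' := by
      refine q.im_sup hay.le_NN hay'.le_NN fun g hg => mem_sup_of_comm (fun z hz => ?_) hg
      exact mem_centralizer_iff.2 fun x hx => P.abN ha (hay.le_NN hx) (hay'.le_NN hz)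
    rw [← hsup, P.line_eq hy hy' h h' hne] at hv ⊢
    obtain ⟨g, hg, hgN, rfl⟩ := hv
    have hg1 : g ≠ 1 := by
      rintro rfl
      exact hv0 q.one
    obtain ⟨w, hw, hle, hgw⟩ := P.pts1 hg hg1
    exact ⟨q.im w, ⟨w, P.adj_of_le hw hle, rfl⟩, q.π_mem_im hgw hgN, q.im_mono hle⟩

/-- The geometry with lines. -/
theorem geoL : GeoL (PPa q) (Ta q) where
  toGeo := P.geo q
  o2 := by
    rintro _ ⟨w, hw, rfl⟩ _ ⟨w', hw', rfl⟩ t ht t' ht' h m
    obtain ⟨τ, hτ, h1⟩ := (P.mem_Ta q hw).1 ht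
    obtain ⟨τ', hτ', h2⟩ := (P.mem_Ta q hw').1 ht'
    have e0 : ∀ n ∈ NN Z a, t' (t (π n)) = π (τ' * τ * n * (τ' * τ)⁻¹) := by
      intro n hn
      have hn' : τ * n * τ⁻¹ ∈ NN Z a := by
        have := mem_conj_self (k := τ) hn
        rwa [P.conj_NN hw hτ] at this
      rw [h1 n hn, h2 _ hn']
      congr 1
      group
    have hmem : ∀ n ∈ NN Z a, τ' * τ * n * (τ' * τ)⁻¹ ∈ NN Z a := by
      intro n hn
      have h3 : MulAut.conj (τ' * τ) • NN Z a = NN Z a := by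
        rw [← conj_conj, P.conj_NN hw hτ, P.conj_NN hw' hτ']
      rw [← h3]
      exact mem_conj_self hn
    have h3 : τ' * τ ∈ centralizer (NN Z a : Set G) := by
      refine P.o2' ha hw hw' hτ hτ' fun n hn => ?_
      rw [← P.π_mem_pr ha q (mul_mem (inv_mem hn) (hmem n hn))]
      intro r hr
      have h4 := h (π n) r hr
      rw [e0 n hn] at h4
      rw [q.mul _ (inv_mem hn) _ (hmem n hn), q.inv hn]
      have : -π n + π (τ' * τ * n * (τ' * τ)⁻¹) = π (τ' * τ * n * (τ' * τ)⁻¹) - π n := by abel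
      rwa [this]
    obtain ⟨n, hn, rfl⟩ := q.surj m
    rw [e0 n hn, ← mem_centralizer_iff.1 h3 n hn, mul_inv_cancel_right]
  line := by
    rintro _ ⟨w, ⟨k, hk, rfl⟩, rfl⟩
    obtain ⟨y, hy, hle, hne⟩ := P.exists_other k (y := MulAut.conj k • Z 1) (P.adj_pt ⟨k, rfl, rfl⟩)
    subst hk
    have hay := P.adj_of_le hy hle
    refine ⟨q.im y, ⟨y, hay, rfl⟩, fun e => hne (P.im_eq q ⟨k, rfl, rfl⟩ hay e).symm, ?_⟩
    exact P.col_line ha q rfl (P.adj_pt ⟨k, rfl, rfl⟩) hy (P.pt_le_line k) hle hne.symm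
  nbr := by
    rintro _ ⟨w, hw, rfl⟩
    obtain ⟨r, hr, h⟩ := P.exists_moved hw
    exact ⟨q.im r, ⟨r, hr, rfl⟩, by rwa [P.le_pr q hw hr]⟩
  top := by
    intro m
    obtain ⟨n, hn, rfl⟩ := q.surj m
    have h1 : NN Z a ≤ q.pre (sSup (PPa q)) := by
      refine sSup_le fun u hu x hx => ⟨hu.le_NN hx, ?_⟩
      exact AddSubgroup.mem_sSup_of_mem (⟨u, hu, rfl⟩ : q.im u ∈ PPa q) (q.π_mem_im hx (hu.le_NN hx))
    exact (h1 hn).2

omit ha in
theorem im_conj_le {t : G} (ht : MulAut.conj t • a = a) {r r' : Subgroup G} (hr : Adj Z a r) (hr' : Adj Z a r') :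
    q.im (MulAut.conj t • r') ≤ pr (Ta q) (q.im (MulAut.conj t • r)) ↔ q.im r' ≤ pr (Ta q) (q.im r) := by
  rw [P.le_pr q (P.adj_conj_of q hr ht) (P.adj_conj_of q hr' ht), P.le_pr q hr hr', NN_conj, ← conj_centralizer,
    conj_le_iff]

omit ha in
theorem cn_conj {t : G} (ht : MulAut.conj t • a = a) {r r' : Subgroup G} (hr : Adj Z a r) (hr' : Adj Z a r')
    (h : Cn (PPa q) (Ta q) (q.im r) (q.im r')) :
    Cn (PPa q) (Ta q) (q.im (MulAut.conj t • r)) (q.im (MulAut.conj t • r')) := by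
  obtain ⟨_, ⟨s, hs, rfl⟩, h1, h2⟩ := h
  refine ⟨_, ⟨_, P.adj_conj_of q hs ht, rfl⟩, ?_, ?_⟩
  · rwa [P.im_conj_le q ht hr hs]
  · rwa [P.im_conj_le q ht hr' hs]

omit ha q in
theorem Bfix' (k : G) : ∃ T : Subgroup G, IsPGroup 2 T ∧ (∀ t ∈ T, MulAut.conj t • (MulAut.conj k • Z 0) =
    MulAut.conj k • Z 0) ∧ (∀ t ∈ T, MulAut.conj t • (MulAut.conj k • Z 1) = MulAut.conj k • Z 1) ∧
    (∀ n ∈ NN Z (MulAut.conj k • Z 0), (∀ t ∈ T, t * n * t⁻¹ = n) → n ∈ MulAut.conj k • Z 0 ⊔ MulAut.conj k • Z 1) ∧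
    (∀ x ∈ MulAut.conj k • U 0, ∀ t ∈ T, t * x * t⁻¹ * x⁻¹ ∈ MulAut.conj k • Z 0) := by
  refine ⟨MulAut.conj k • B, ?_, ?_, ?_, ?_, ?_⟩
  · exact P.B2.of_equiv (Subgroup.equivSMul (MulAut.conj k) B)
  · intro t ht
    rw [mem_conj] at ht
    have h1 := norm_conj (P.B0 ht)
    have h2 := congrArg (fun A => MulAut.conj k • A) h1
    simp only [conj_conj] at h2
    have e : k * (k⁻¹ * t * k) = t * k := by group
    rw [e, ← conj_conj] at h2
    exact h2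
  · intro t ht
    rw [mem_conj] at ht
    have h1 := norm_conj (P.B1 ht)
    have h2 := congrArg (fun A => MulAut.conj k • A) h1
    simp only [conj_conj] at h2
    have e : k * (k⁻¹ * t * k) = t * k := by group
    rw [e, ← conj_conj] at h2
    exact h2
  · intro n hn hf
    rw [NN_conj, mem_conj] at hn
    rw [← conj_sup', mem_conj]
    refine P.Bfix _ hn fun b hb => ?_
    have h1 := hf (k * b * k⁻¹) (mem_conj_self hb)
    have e : b * (k⁻¹ * n * k) * b⁻¹ = k⁻¹ * (k * b * k⁻¹ * n * (k * b * k⁻¹)⁻¹) * k := by group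
    rw [e, h1]
  · intro x hx t ht
    rw [mem_conj] at hx ht ⊢
    have := P.BU _ hx _ ht
    have e : k⁻¹ * t * k * (k⁻¹ * x * k) * (k⁻¹ * t * k)⁻¹ * (k⁻¹ * x * k)⁻¹ = k⁻¹ * (t * x * t⁻¹ * x⁻¹) * k := by
      group
    rwa [e] at this

/-- **One component** (helper262, (2')) -/
theorem cn_one {u w₁ : Subgroup G} (hu : Adj Z a u) (hw₁ : Adj Z a w₁) : Cn (PPa q) (Ta q) (q.im u) (q.im w₁) := by
  classical
  have gL := P.geoL ha q
  have mP : ∀ r, Adj Z a r → q.im r ∈ PPa q := fun r h => ⟨r, h, rfl⟩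
  obtain ⟨k, hk, hku⟩ := hu
  have hu : Adj Z a u := ⟨k, hk, hku⟩
  by_contra hcon
  obtain ⟨T, hT2, hTa, hTu, hTf, -⟩ := P.Bfix' k
  rw [← hk] at hTa hTf
  rw [← hku] at hTu hTf
  set C : AddSubgroup M := MC (PPa q) (Ta q) (q.im w₁) with hC
  have hTN : ∀ t ∈ T, ∀ x ∈ NN Z a, t * x * t⁻¹ ∈ NN Z a := by
    intro t ht x hx
    have h1 : MulAut.conj t • NN Z a = NN Z a := by rw [← NN_conj, hTa t ht]
    rw [← h1]
    exact mem_conj_self hx
  have hTa' : ∀ t ∈ T, ∀ x ∈ a, t * x * t⁻¹ ∈ a := by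
    intro t ht x hx
    have := mem_conj_self (k := t) hx
    rwa [hTa t ht] at this
  -- elements mapping `w₁` into its component
  have hmap : ∀ t ∈ T, Cn (PPa q) (Ta q) (q.im w₁) (q.im (MulAut.conj t • w₁)) →
      ∀ x ∈ NN Z a, π x ∈ C → π (t * x * t⁻¹) ∈ C := by
    intro t ht hcn x hx hxC
    obtain ⟨φ, hφ⟩ := P.act_ex q (hTa t ht)
    rw [← hφ x hx]
    have h1 : C ≤ C.comap φ.toAddMonoidHom := by
      refine sSup_le ?_
      rintro _ ⟨⟨r, hr, rfl⟩, hr2⟩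
      rintro _ ⟨y, hy, hyN, rfl⟩
      change φ (π y) ∈ C
      rw [hφ y hyN]
      have h2 := P.cn_conj q (hTa t ht) hw₁ hr hr2
      have h3 := gL.cn_trans ⟨w₁, hw₁, rfl⟩ ⟨_, P.adj_conj_of q hw₁ (hTa t ht), rfl⟩
        ⟨_, P.adj_conj_of q hr (hTa t ht), rfl⟩ hcn h2
      refine le_MC (mP _ (P.adj_conj_of q hr (hTa t ht))) h3 ?_
      exact q.π_mem_im (mem_conj_self hy) (hTN t ht y hyN)
    exact h1 hxC
  let T₁ : Subgroup G := T ⊓ normalizer (q.pre C : Set G)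
  have hT₁ : ∀ t ∈ T₁, ∀ x ∈ NN Z a, π x ∈ C → π (t * x * t⁻¹) ∈ C := by
    intro t ht x hx hxC
    exact ((mem_normalizer_iff.1 ht.2 x).1 ⟨hx, hxC⟩).2
  obtain ⟨y₀, hy₀, hy₀1⟩ := P.exists_ne (P.adj_pt hw₁)
  have hw₁C : Cn (PPa q) (Ta q) (q.im w₁) (q.im w₁) := gL.cn_refl ⟨w₁, hw₁, rfl⟩
  obtain ⟨x₀, hx₀N, hx₀C, hx₀0, hx₀T⟩ := q.fixed_vec (T := T₁) (hT2.to_le inf_le_left)
    (fun t ht => hTN t ht.1) (fun t ht => hTa' t ht.1) (C := C) hT₁
    (y := π y₀) (le_MC (mP _ hw₁) hw₁C (q.π_mem_im hy₀ (hw₁.le_NN hy₀))) (P.π_ne q hw₁ hy₀ hy₀1) (by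
      rw [← q.mul _ (hw₁.le_NN hy₀) _ (hw₁.le_NN hy₀), P.sq_one ha (hw₁.le_NN hy₀), q.one])
  -- the point of the fixed vector
  obtain ⟨_, ⟨w, hw, rfl⟩, hcw, x, hx, hxN, hxe⟩ := gL.vec ⟨w₁, hw₁, rfl⟩ (π x₀) hx₀C hx₀0
  have hx1 : x ≠ 1 := by
    rintro rfl
    apply hx₀0
    rw [← hxe, q.one]
  have hxT : ∀ t ∈ T₁, t * x * t⁻¹ = x := by
    intro t ht
    have h1 : π (t * x * t⁻¹) = π x := by
      obtain ⟨φ, hφ⟩ := P.act_ex q (hTa t ht.1)
      rw [← hφ x hxN, hxe, hφ x₀ hx₀N, hx₀T t ht]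
    have h2 : MulAut.conj t • w = w := by
      refine P.im_inj q (P.adj_conj_of q hw (hTa t ht.1)) hw (mem_conj_self hx) (fun e => hx1 (conj_eq_one_iff.1 e)) ?_
      rw [h1]
      exact q.π_mem_im hx hxN
    have h3 : t * x * t⁻¹ ∈ w := by
      have := mem_conj_self (k := t) hx
      rwa [h2] at this
    have h4 : x⁻¹ * (t * x * t⁻¹) ∈ a := (q.eq_iff hxN (hTN t ht.1 x hxN)).1 h1.symm
    have h5 := P.pt_disj q hw (mul_mem (inv_mem hx) h3) h4
    exact (inv_mul_eq_one.1 h5).symm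
  -- the orbit
  let O : Finset G := (Set.toFinite {y : G | ∃ t ∈ T, y = t * x * t⁻¹}).toFinset
  have hO : ∀ y, y ∈ O ↔ ∃ t ∈ T, y = t * x * t⁻¹ := fun y => by
    simp only [O, Set.Finite.mem_toFinset, Set.mem_ofPred_eq]
  obtain ⟨n, hn, hnπ, hnT⟩ := q.exists_prod (fun x hx y hy => P.abN ha hx hy) O (by
    intro y hy
    obtain ⟨t, ht, rfl⟩ := (hO y).1 hy
    exact hTN t ht x hxN)
  have hnau : n ∈ a ⊔ u := by
    refine hTf n hn fun t ht => hnT t fun y hy => ?_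
    obtain ⟨t', ht', rfl⟩ := (hO y).1 hy
    exact (hO _).2 ⟨t * t', mul_mem ht ht', by group⟩
  have hnu : π n ∈ q.im u := by
    obtain ⟨α, hα, υ, hυ, rfl⟩ := P.mem_au hu hnau
    have hυN := hu.le_NN hυ
    have hαN : α ∈ NN Z a := by
      have := mul_mem hn (inv_mem hυN)
      rwa [mul_inv_cancel_right] at this
    rw [q.mul α hαN υ hυN, (q.ker α hαN).2 hα, zero_add]
    exact q.π_mem_im hυ hυN
  -- a neighbour of `w`
  obtain ⟨_, ⟨r, hr, rfl⟩, hrw⟩ := gL.nbr _ ⟨w, hw, rfl⟩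
  have hr1 : Cn (PPa q) (Ta q) (q.im w₁) (q.im r) := gL.cn_step ⟨w₁, hw₁, rfl⟩ ⟨w, hw, rfl⟩ ⟨r, hr, rfl⟩ hcw hrw
  have hur : q.im u ≤ pr (Ta q) (q.im r) := by
    by_contra h
    exact hcon (gL.cn_step ⟨w₁, hw₁, rfl⟩ ⟨r, hr, rfl⟩ ⟨u, hu, rfl⟩ hr1 h).symm
  have hrest : ∀ y ∈ O.erase x, π y ∈ pr (Ta q) (q.im r) := by
    intro y hy
    rw [Finset.mem_erase] at hy
    obtain ⟨hyx, hyO⟩ := hy
    obtain ⟨t, ht, rfl⟩ := (hO y).1 hyO
    by_contra h
    apply hyx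
    have h1 : Cn (PPa q) (Ta q) (q.im w₁) (q.im (MulAut.conj t • w)) := by
      refine gL.cn_step ⟨w₁, hw₁, rfl⟩ ⟨r, hr, rfl⟩ ⟨_, P.adj_conj_of q hw (hTa t ht), rfl⟩ hr1 fun h2 => h (h2 ?_)
      exact q.π_mem_im (mem_conj_self hx) (hTN t ht x hxN)
    have h2 := P.cn_conj q (hTa t ht) hw₁ hw hcw
    have h3 : Cn (PPa q) (Ta q) (q.im w₁) (q.im (MulAut.conj t • w₁)) :=
      gL.cn_trans ⟨w₁, hw₁, rfl⟩ ⟨_, P.adj_conj_of q hw (hTa t ht), rfl⟩ ⟨_, P.adj_conj_of q hw₁ (hTa t ht), rfl⟩ h1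
        h2.symm
    refine hxT t ⟨ht, ?_⟩
    refine mem_normalizer_fintype fun y hy => ?_
    have hy' : y ∈ NN Z a ∧ π y ∈ C := hy
    exact (⟨hTN t ht y hy'.1, hmap t ht h3 y hy'.1 hy'.2⟩ : t * y * t⁻¹ ∈ q.pre C)
  have hxO : x ∈ O := (hO x).2 ⟨1, one_mem _, by group⟩
  rw [← Finset.add_sum_erase O π hxO] at hnπ
  have hx2 : π x ∈ pr (Ta q) (q.im r) := by
    have h1 : π x = π n - ∑ y ∈ O.erase x, π y := by rw [hnπ]; abel
    rw [h1]
    exact sub_mem (hur hnu) (sum_mem hrest)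
  have hwr : ¬ q.im w ≤ pr (Ta q) (q.im r) := gL.nsym ⟨w, hw, rfl⟩ ⟨r, hr, rfl⟩ hrw
  exact gL.not_mem ⟨r, hr, rfl⟩ ⟨w, hw, rfl⟩ hwr (q.π_mem_im hx hxN) (P.π_ne q hw hx hx1) hx2

/-- **The geometry has one component.** -/
theorem geoO : GeoO (PPa q) (Ta q) where
  toGeoL := P.geoL ha q
  cn := by
    rintro _ ⟨w, hw, rfl⟩ _ ⟨w', hw', rfl⟩
    exact P.cn_one ha q hw hw'
  nonempty := by
    obtain ⟨k, rfl⟩ := ha
    exact ⟨_, _, ⟨k, rfl, rfl⟩, rfl⟩

end quot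

end TQL

end Cfsg.Agent.Omega.NO3S.EThree

end

section


/-!
# NO-3S, case (E), TEXT R3 #16982 (4): symplectic spaces in characteristic 2

`B` a nondegenerate alternating form on the `F`-space `E`, `char F = 2`.

* `tvn B u a` : the transvection `x ↦ x + a B(x,u) u`;
* `Sim B φ c A` : `A` is `φ`-semilinear and `B(Ax, Ay) = c φ(B(x,y))`;
* `Sy.exists_perp`, `Sy.perp_le` : an additive subgroup invariant under the transvections with centres in `u^⊥`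
  and not inside `F u` contains `u^⊥`;
* `Sy.tra` : two transvections with centres in `u^⊥ - F u` move any vector of `u^⊥ - F u` to any other;
* `Sim.eq_tvn` : a similarity which fixes `u^⊥` pointwise is a transvection;
* `Sy.exists_list` : every linear isometry is a product of transvections.
-/

set_option autoImplicit false

namespace Cfsg.Agent.Omega.NO3S.EThree

variable {F E : Type*} [Field F] [AddCommGroup E] [Module F E]

/-- The transvection `x ↦ x + a B(x,u) u`. -/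
def tvn (B : E →ₗ[F] E →ₗ[F] F) (u : E) (a : F) (x : E) : E := x + (a * B x u) • u

/-- `A` is a `φ`-semilinear similarity with factor `c`. -/
structure Sim (B : E →ₗ[F] E →ₗ[F] F) (φ : F ≃+* F) (c : F) (A : E → E) : Prop where
  add : ∀ x y, A (x + y) = A x + A y
  smul : ∀ (a : F) x, A (a • x) = φ a • A x
  form : ∀ x y, B (A x) (A y) = c * φ (B x y)

/-- `B` is a nondegenerate alternating form (characteristic 2). -/
structure Sy (B : E →ₗ[F] E →ₗ[F] F) : Prop where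
  two : (2 : F) = 0
  alt : ∀ x, B x x = 0
  nd : ∀ x, (∀ y, B x y = 0) → x = 0

namespace Sy

variable {B : E →ₗ[F] E →ₗ[F] F} (h : Sy B)

include h

theorem add_self (x : E) : x + x = 0 := by
  have : x + x = (2 : F) • x := by rw [two_smul]
  rw [this, h.two, zero_smul]

theorem add_self' (a : F) : a + a = 0 := by
  have : a + a = (2 : F) * a := by ring
  rw [this, h.two, zero_mul]

theorem neg_eq (x : E) : -x = x := neg_eq_of_add_eq_zero_left (h.add_self x)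

theorem symm (x y : E) : B x y = B y x := by
  have h1 := h.alt (x + y)
  simp only [map_add, LinearMap.add_apply, h.alt, zero_add, add_zero] at h1
  linear_combination h1 - B y x * h.two

theorem nd' (x : E) (hx : ∀ y, B y x = 0) : x = 0 := h.nd x fun y => by rw [h.symm]; exact hx y

/-- `u^⊥⊥ = F u` -/
theorem perp_perp {u x : E} (hx : ∀ y, B y u = 0 → B y x = 0) : ∃ a : F, x = a • u := by
  by_cases hu : ∀ y, B y u = 0
  · refine ⟨0, ?_⟩
    rw [zero_smul]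
    exact h.nd' x fun y => hx y (hu y)
  push Not at hu
  obtain ⟨y0, hy0⟩ := hu
  refine ⟨B y0 x / B y0 u, ?_⟩
  have h1 : x - (B y0 x / B y0 u) • u = 0 := by
    apply h.nd'
    intro y
    have h2 := hx (y - (B y u / B y0 u) • y0) (by
      rw [map_sub, LinearMap.sub_apply, map_smul, LinearMap.smul_apply, smul_eq_mul, div_mul_cancel₀ _ hy0, sub_self])
    rw [map_sub, LinearMap.sub_apply, map_smul, LinearMap.smul_apply, smul_eq_mul] at h2
    rw [map_sub, map_smul, smul_eq_mul]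
    rw [← h2]
    ring
  exact sub_eq_zero.1 h1

/-- a vector of `u^⊥` not orthogonal to `x ∉ F u` -/
theorem exists_perp {u x : E} (hx : ∀ a : F, x ≠ a • u) : ∃ w, B w u = 0 ∧ B w x ≠ 0 := by
  by_contra hcon
  push Not at hcon
  obtain ⟨a, ha⟩ := h.perp_perp hcon
  exact hx a ha

/-- **(KEY)** an additive subgroup invariant under the transvections with centres in `u^⊥` and not inside `F u`
contains `u^⊥`. -/
theorem perp_le {u : E} {S : AddSubgroup E} (hS : ∀ x ∈ S, ∀ w, B w u = 0 → ∀ a : F, (a * B x w) • w ∈ S)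
    {x : E} (hx : x ∈ S) (hxu : ∀ a : F, x ≠ a • u) {v : E} (hv : B v u = 0) : v ∈ S := by
  have key : ∀ w, B w u = 0 → B x w ≠ 0 → w ∈ S := by
    intro w hw hxw
    have h1 := hS x hx w hw (B x w)⁻¹
    rwa [inv_mul_cancel₀ hxw, one_smul] at h1
  by_cases hxv : B x v = 0
  · obtain ⟨w, hw, hwx⟩ := h.exists_perp hxu
    have hxw : B x w ≠ 0 := by rwa [h.symm]
    have h1 := key w hw hxw
    have h2 := key (v + w) (by rw [map_add, LinearMap.add_apply, hv, hw, add_zero])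
      (by rw [map_add, hxv, zero_add]; exact hxw)
    have h3 := S.sub_mem h2 h1
    rwa [add_sub_cancel_right] at h3
  · exact key v hv hxv

/-- a common non-orthogonal vector in `u^⊥` -/
theorem exists_link {u x y : E} (hx : ∀ a : F, x ≠ a • u) (hy : ∀ a : F, y ≠ a • u) :
    ∃ z, B z u = 0 ∧ B z x ≠ 0 ∧ B z y ≠ 0 := by
  obtain ⟨a, ha, hax⟩ := h.exists_perp hx
  obtain ⟨b, hb, hby⟩ := h.exists_perp hy
  by_cases hay : B a y = 0
  · by_cases hbx : B b x = 0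
    · refine ⟨a + b, ?_, ?_, ?_⟩
      · rw [map_add, LinearMap.add_apply, ha, hb, add_zero]
      · rw [map_add, LinearMap.add_apply, hbx, add_zero]; exact hax
      · rw [map_add, LinearMap.add_apply, hay, zero_add]; exact hby
    · exact ⟨b, hb, hbx, hby⟩
  · exact ⟨a, ha, hax, hay⟩

theorem tvn_tvn (u : E) (a : F) (x : E) : tvn B u a (tvn B u a x) = x := by
  unfold tvn
  rw [map_add, LinearMap.add_apply, map_smul, LinearMap.smul_apply, h.alt, smul_zero, add_zero, add_assoc,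
    h.add_self, add_zero]

/-- one transvection moves `x` to `y` when `B x y ≠ 0` -/
theorem tvn_move {x y : E} (hxy : B x y ≠ 0) : tvn B (x + y) (B x y)⁻¹ x = y := by
  unfold tvn
  rw [map_add, h.alt, zero_add, inv_mul_cancel₀ hxy, one_smul, ← add_assoc, h.add_self, zero_add]

omit h in
theorem tvn_of_perp {u x : E} (a : F) (hx : B x u = 0) : tvn B u a x = x := by
  unfold tvn
  rw [hx, mul_zero, zero_smul, add_zero]

/-- **two transvections with centres in `u^⊥ - F u` move `x` to `y`.** -/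
theorem tra {u x y : E} (hx0 : B x u = 0) (hx : ∀ a : F, x ≠ a • u) (hy0 : B y u = 0) (hy : ∀ a : F, y ≠ a • u) :
    ∃ w₁ w₂ : E, ∃ a₁ a₂ : F, B w₁ u = 0 ∧ B w₂ u = 0 ∧ (∀ a : F, w₁ ≠ a • u) ∧ (∀ a : F, w₂ ≠ a • u) ∧
      tvn B w₂ a₂ (tvn B w₁ a₁ x) = y := by
  obtain ⟨z, hz0, hzx, hzy⟩ := h.exists_link hx hy
  have hxz : B x z ≠ 0 := by rwa [h.symm]
  refine ⟨x + z, z + y, (B x z)⁻¹, (B z y)⁻¹, ?_, ?_, ?_, ?_, ?_⟩
  · rw [map_add, LinearMap.add_apply, hx0, hz0, add_zero]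
  · rw [map_add, LinearMap.add_apply, hy0, hz0, add_zero]
  · intro a ha
    have h1 : B x (x + z) = 0 := by rw [ha, map_smul, hx0, smul_zero]
    rw [map_add, h.alt, zero_add] at h1
    exact hxz h1
  · intro a ha
    have h1 : B z (z + y) = 0 := by rw [ha, map_smul, hz0, smul_zero]
    rw [map_add, h.alt, zero_add] at h1
    exact hzy h1
  · rw [h.tvn_move hxz, h.tvn_move hzy]

/-- transvections are linear isometries -/
theorem tvn_sim (u : E) (a : F) : Sim B (RingEquiv.refl F) 1 (tvn B u a) := by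
  refine ⟨fun x y => ?_, fun b x => ?_, fun x y => ?_⟩
  · unfold tvn
    rw [map_add, LinearMap.add_apply, mul_add, add_smul]
    abel
  · unfold tvn
    rw [map_smul, LinearMap.smul_apply, smul_eq_mul, RingEquiv.refl_apply, smul_add, smul_smul]
    congr 2
    ring
  · unfold tvn
    rw [RingEquiv.refl_apply, one_mul]
    simp only [map_add, LinearMap.add_apply, map_smul, LinearMap.smul_apply, smul_eq_mul, h.alt, mul_zero, add_zero]
    rw [h.symm u y]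
    have h1 := h.add_self' (a * B y u * B x u)
    have e : B x y + a * B x u * B y u + a * B y u * B x u =
        B x y + (a * B y u * B x u + a * B y u * B x u) := by ring
    rw [e, h1, add_zero]

end Sy

namespace Sim

variable {B : E →ₗ[F] E →ₗ[F] F} {φ : F ≃+* F} {c : F} {A : E → E} (hA : Sim B φ c A)

include hA

theorem zero : A 0 = 0 := by
  have h := hA.add 0 0
  rw [add_zero] at h
  exact left_eq_add.1 h

theorem sub (x y : E) : A (x - y) = A x - A y := by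
  have h := hA.add (x - y) y
  rw [sub_add_cancel] at h
  rw [h, add_sub_cancel_right]

/-- fixing a nonzero 1-space pointwise: no field automorphism -/
theorem phi_eq {u : E} (hu : u ≠ 0) (hfix : ∀ a : F, A (a • u) = a • u) (a : F) : φ a = a := by
  have h1 := hA.smul a u
  have h2 := hfix 1
  rw [one_smul] at h2
  rw [hfix a, h2] at h1
  exact (smul_left_injective F hu h1).symm

/-- **a similarity fixing `u^⊥` pointwise is a transvection** (`u^⊥ / F u ≠ 0`). -/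
theorem eq_tvn (h : Sy B) {u : E} (hu : u ≠ 0) (hfix : ∀ x, B x u = 0 → A x = x) {w : E} (hw : B w u = 0)
    (hwu : ∀ a : F, w ≠ a • u) : ∃ l : F, ∀ x, A x = tvn B u l x := by
  have hφ : ∀ a, φ a = a := hA.phi_eq hu fun a => hfix _ (by
    rw [map_smul, LinearMap.smul_apply, h.alt, smul_zero])
  have hc : c = 1 := by
    obtain ⟨y, hy, hyw⟩ := h.exists_perp hwu
    have h1 := hA.form y w
    rw [hfix y hy, hfix w hw, hφ] at h1
    have h2 : c * B y w = 1 * B y w := by rw [one_mul]; exact h1.symm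
    exact mul_right_cancel₀ hyw h2
  obtain ⟨y1, hy1⟩ : ∃ y, B y u ≠ 0 := by
    by_contra hcon
    push Not at hcon
    exact hu (h.nd' u hcon)
  -- normalise
  obtain ⟨y0, hy0⟩ : ∃ y, B y u = 1 := ⟨(B y1 u)⁻¹ • y1, by
    rw [map_smul, LinearMap.smul_apply, smul_eq_mul, inv_mul_cancel₀ hy1]⟩
  obtain ⟨l, hl⟩ : ∃ l : F, A y0 - y0 = l • u := by
    apply h.perp_perp
    intro y hy
    have h1 := hA.form y y0
    rw [hfix y hy, hφ, hc, one_mul] at h1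
    rw [map_sub, h1, sub_self]
  refine ⟨l, fun x => ?_⟩
  have h1 : A (x - B x u • y0) = x - B x u • y0 := hfix _ (by
    rw [map_sub, LinearMap.sub_apply, map_smul, LinearMap.smul_apply, hy0, smul_eq_mul, mul_one, sub_self])
  have h2 : A y0 = y0 + l • u := by rw [← hl]; abel
  rw [hA.sub, hA.smul, hφ, h2] at h1
  unfold tvn
  have h3 : A x = x - B x u • y0 + B x u • (y0 + l • u) := by rw [← h1]; abel
  rw [h3, smul_add, smul_smul, mul_comm (B x u) l]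
  abel

end Sim

namespace Sy

variable {B : E →ₗ[F] E →ₗ[F] F} (h : Sy B)

/-- composition of transvections -/
def comp (B : E →ₗ[F] E →ₗ[F] F) (l : List (E × F)) (x : E) : E := l.foldr (fun p y => tvn B p.1 p.2 y) x

theorem comp_nil (x : E) : comp B [] x = x := rfl

theorem comp_cons (p : E × F) (l : List (E × F)) (x : E) : comp B (p :: l) x = tvn B p.1 p.2 (comp B l x) := rfl

include h

/-- **every linear isometry is a product of transvections.** -/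
theorem exists_list [FiniteDimensional F E] {A : E → E} (hA : Sim B (RingEquiv.refl F) 1 A) :
    ∃ l : List (E × F), ∀ x, A x = comp B l x := by
  -- the fixed space
  let Fx : (A : E → E) → Sim B (RingEquiv.refl F) 1 A → Submodule F E := fun A hA =>
    { carrier := {x | A x = x}
      add_mem' := fun {x y} hx hy => by
        change A (x + y) = x + y
        rw [hA.add, hx, hy]
      zero_mem' := hA.zero
      smul_mem' := fun a x hx => by
        change A (a • x) = a • x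
        rw [hA.smul, hx, RingEquiv.refl_apply] }
  have main : ∀ n : ℕ, ∀ (A : E → E) (hA : Sim B (RingEquiv.refl F) 1 A),
      Module.finrank F E ≤ Module.finrank F (Fx A hA) + n → ∃ l : List (E × F), ∀ x, A x = comp B l x := by
    intro n
    induction n with
    | zero =>
      intro A hA hn
      have h1 : Fx A hA = ⊤ := by
        apply Submodule.eq_top_of_finrank_eq
        exact le_antisymm (Submodule.finrank_le _) (by simpa using hn)
      refine ⟨[], fun x => ?_⟩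
      have h2 : x ∈ Fx A hA := by rw [h1]; exact Submodule.mem_top
      exact h2
    | succ n ih =>
      intro A hA hn
      by_cases hid : ∀ x, A x = x
      · exact ⟨[], hid⟩
      push Not at hid
      obtain ⟨x, hx⟩ := hid
      -- it suffices to fix one more vector with transvections trivial on the fixed space
      have step : ∀ (A' : E → E) (hA' : Sim B (RingEquiv.refl F) 1 A'), (∀ w, A w = w → A' w = w) → A' x = x →
          ∃ l : List (E × F), ∀ x, A' x = comp B l x := by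
        intro A' hA' hle hx'
        refine ih A' hA' ?_
        have h1 : Fx A hA < Fx A' hA' := by
          refine lt_of_le_of_ne (fun w hw => hle w hw) fun he => hx ?_
          have h2 : x ∈ Fx A' hA' := hx'
          rw [← he] at h2
          exact h2
        have h2 := Submodule.finrank_lt_finrank_of_lt h1
        omega
      have hcomp : ∀ (u : E) (a : F) (A : E → E), Sim B (RingEquiv.refl F) 1 A →
          Sim B (RingEquiv.refl F) 1 fun y => tvn B u a (A y) := by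
        intro u a A hA
        have ht := h.tvn_sim u a
        refine ⟨fun x y => ?_, fun b x => ?_, fun x y => ?_⟩
        · rw [hA.add, ht.add]
        · rw [hA.smul, ht.smul]; rfl
        · rw [ht.form, hA.form]
          simp
      have hfx : ∀ w y, A w = w → B w (A y) = B w y := by
        intro w y hw
        have h1 := hA.form w y
        rw [hw] at h1
        simpa using h1
      -- one step: `B (A x) x ≠ 0`
      by_cases hB : B (A x) x = 0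
      · -- two steps
        obtain ⟨z, hz1, hz2, hz3⟩ : ∃ z, (∀ w, A w = w → B w z = 0) ∧ B x z ≠ 0 ∧ B (A x) z ≠ 0 := by
          -- `W = Fix A`, `x, A x ∉ W = W^⊥⊥`
          have hdd : ∀ y, (∀ z, (∀ w, A w = w → B w z = 0) → B y z = 0) → A y = y := by
            intro y hy
            -- double orthogonal
            have hnd : (B : LinearMap.BilinForm F E).Nondegenerate := by
              refine ⟨fun m hm => h.nd m hm, fun m hm => h.nd' m hm⟩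
            have hrefl : (B : LinearMap.BilinForm F E).IsRefl := fun a b hab => by
              rw [← h.symm]; exact hab
            have h1 := LinearMap.BilinForm.orthogonal_orthogonal hnd hrefl (Fx A hA)
            have h2 : y ∈ LinearMap.BilinForm.orthogonal (B : LinearMap.BilinForm F E)
                (LinearMap.BilinForm.orthogonal (B : LinearMap.BilinForm F E) (Fx A hA)) := by
              intro z hz
              have h3 : B y z = 0 := hy z fun w hw => hz w hw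
              change B z y = 0
              rw [← h.symm]; exact h3
            rw [h1] at h2
            exact h2
          have hxW : ¬ A x = x := hx
          have hAxW : ¬ A (A x) = A x := by
            intro h1
            apply hx
            have h2 : A (A x - x) = 0 := by rw [hA.sub, h1, sub_self]
            have h3 : A x - x = 0 := by
              apply h.nd
              intro y
              have h4 := hA.form (A x - x) y
              rw [h2, map_zero, LinearMap.zero_apply] at h4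
              simpa using h4.symm
            exact sub_eq_zero.1 h3
          have ha : ∃ z, (∀ w, A w = w → B w z = 0) ∧ B x z ≠ 0 := by
            by_contra hcon
            push Not at hcon
            exact hxW (hdd x hcon)
          have hb : ∃ z, (∀ w, A w = w → B w z = 0) ∧ B (A x) z ≠ 0 := by
            by_contra hcon
            push Not at hcon
            exact hAxW (hdd _ hcon)
          obtain ⟨a, ha1, ha2⟩ := ha
          obtain ⟨b, hb1, hb2⟩ := hb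
          by_cases h1 : B (A x) a = 0
          · by_cases h2 : B x b = 0
            · refine ⟨a + b, fun w hw => ?_, ?_, ?_⟩
              · rw [map_add, ha1 w hw, hb1 w hw, add_zero]
              · rw [map_add, h2, add_zero]; exact ha2
              · rw [map_add, h1, zero_add]; exact hb2
            · exact ⟨b, hb1, h2, hb2⟩
          · exact ⟨a, ha1, ha2, h1⟩
        -- `A x → x + z → x`
        have hAz : B (A x) (x + z) ≠ 0 := by rw [map_add, hB, zero_add]; exact hz3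
        have hzx : B (x + z) x ≠ 0 := by
          rw [map_add, LinearMap.add_apply, h.alt, zero_add, h.symm]; exact hz2
        have hA1 := hcomp (A x + (x + z)) (B (A x) (x + z))⁻¹ A hA
        have hA2 := hcomp (x + z + x) (B (x + z) x)⁻¹ _ hA1
        obtain ⟨l, hl⟩ := step _ hA2 (fun w hw => by
          have e1 : B w (A x + (x + z)) = 0 := by
            rw [map_add, map_add, hfx w x hw, hz1 w hw, add_zero, h.add_self']
          have e2 : B w (x + z + x) = 0 := by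
            rw [map_add, map_add, hz1 w hw, add_zero, h.add_self']
          change tvn B (x + z + x) _ (tvn B (A x + (x + z)) _ (A w)) = w
          rw [hw, tvn_of_perp _ e1, tvn_of_perp _ e2]) (by
          rw [h.tvn_move hAz, h.tvn_move hzx])
        refine ⟨(A x + (x + z), (B (A x) (x + z))⁻¹) :: (x + z + x, (B (x + z) x)⁻¹) :: l, fun y => ?_⟩
        rw [comp_cons, comp_cons, ← hl y, h.tvn_tvn, h.tvn_tvn]
      · have hA1 := hcomp (A x + x) (B (A x) x)⁻¹ A hA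
        obtain ⟨l, hl⟩ := step _ hA1 (fun w hw => by
          have e1 : B w (A x + x) = 0 := by
            rw [map_add, hfx w x hw, h.add_self']
          change tvn B (A x + x) _ (A w) = w
          rw [hw, tvn_of_perp _ e1]) (by
          rw [h.tvn_move hB])
        refine ⟨(A x + x, (B (A x) x)⁻¹) :: l, fun y => ?_⟩
        rw [comp_cons, ← hl y, h.tvn_tvn]
  exact main (Module.finrank F E) A hA (Nat.le_add_left _ _)

end Sy

end Cfsg.Agent.Omega.NO3S.EThree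

end

section


/-!
# NO-3S, case (E), TEXT R3 #16982 (4): a symplectic module with radical

`M : SpR F E r B H N Z` : `H` acts on the abelian group `N` with radical `Z ≤ N`; `N / Z = E^r`, `H` permutes the `r`
coordinates and acts by semilinear similarities of `(E, B)`; the transvections of each coordinate are induced by
elements of `H` centralising `Z`.

* `At M j y v` : `v` has the coordinate `y` at `j` and `0` elsewhere; `On M j A g` : `g` acts as `A` on the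
  coordinate `j` and trivially on the others;
* `Side M Zp Vp Bp j₀ u₀ w₀` : the point `Zp` (`F u₀` at `j₀`), the line `Vp` (`F u₀ + F w₀`), the abelian group
  `Bp ≥ Vp` normalised by `N` and by `D = H ∩ N(Zp)`;
* `Side.key` : a subgroup of `N` normalised by `D` which is not inside `Zp Z` (at `j₀`) covers `u₀^⊥`;
* `Side.other` : `Bp` acts trivially on the coordinates `j ≠ j₀`;
* `Side.tv` : `Bp` acts on the coordinate `j₀` by transvections with centre `u₀`;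
* `Side.full` : if `K ≤ Bp` is normalised by `D` and does not centralise `N` then it induces all of them;
* `Side.all` : and `⟨K^H⟩` induces all transvections of all coordinates.
-/

set_option autoImplicit false
set_option linter.unusedSectionVars false

namespace Cfsg.Agent.Omega.NO3S.EThree

open Subgroup

variable {G : Type*} [Group G]

/-- `H` acts on `N` with radical `Z` as a wreathed symplectic group. -/
structure SpR (F E : Type*) [Field F] [AddCommGroup E] [Module F E] (r : ℕ) (B : E →ₗ[F] E →ₗ[F] F)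
    (H N Z : Subgroup G) where
  e : G → Fin r → E
  mul : ∀ v ∈ N, ∀ w ∈ N, e (v * w) = e v + e w
  surj : ∀ x : Fin r → E, ∃ v ∈ N, e v = x
  ker : ∀ v ∈ N, e v = 0 ↔ v ∈ Z
  nor : ∀ h ∈ H, ∀ v ∈ N, h * v * h⁻¹ ∈ N
  act : ∀ h ∈ H, ∃ σ : Equiv.Perm (Fin r), ∀ j, ∃ (φ : F ≃+* F) (c : F) (A : E → E), Sim B φ c A ∧
    ∀ v ∈ N, e (h * v * h⁻¹) (σ j) = A (e v j)
  lift : ∀ j u a, ∃ g ∈ H, (∀ z ∈ Z, g * z = z * g) ∧
    ∀ v ∈ N, e (g * v * g⁻¹) j = tvn B u a (e v j) ∧ ∀ k, k ≠ j → e (g * v * g⁻¹) k = e v k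
  tr : ∀ j j', ∃ h ∈ H, ∀ v ∈ N, e (h * v * h⁻¹) j' = 0 ↔ e v j = 0

variable {F E : Type*} [Field F] [AddCommGroup E] [Module F E] {r : ℕ} {B : E →ₗ[F] E →ₗ[F] F} {H N Z : Subgroup G}

/-- `v` has the coordinate `y` at `j` and `0` elsewhere -/
def At (M : SpR F E r B H N Z) (j : Fin r) (y : E) (v : G) : Prop := M.e v j = y ∧ ∀ k, k ≠ j → M.e v k = 0

/-- `g` acts as `A` on the coordinate `j` and trivially on the others -/
def On (M : SpR F E r B H N Z) (j : Fin r) (A : E → E) (g : G) : Prop :=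
  ∀ v ∈ N, M.e (g * v * g⁻¹) j = A (M.e v j) ∧ ∀ k, k ≠ j → M.e (g * v * g⁻¹) k = M.e v k

namespace SpR

variable (M : SpR F E r B H N Z)

theorem e_one : M.e 1 = 0 := by
  have h := M.mul 1 (one_mem N) 1 (one_mem N)
  rw [mul_one] at h
  exact left_eq_add.1 h

theorem e_inv {v : G} (hv : v ∈ N) : M.e v⁻¹ = -M.e v := by
  have h := M.mul v hv v⁻¹ (inv_mem hv)
  rw [mul_inv_cancel, M.e_one] at h
  exact (neg_eq_of_add_eq_zero_right h.symm).symm

theorem e_div {v w : G} (hv : v ∈ N) (hw : w ∈ N) : M.e (v * w⁻¹) = M.e v - M.e w := by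
  rw [M.mul v hv _ (inv_mem hw), M.e_inv hw, sub_eq_add_neg]

/-- equal coordinates: equal modulo `Z` -/
theorem div_mem {v w : G} (hv : v ∈ N) (hw : w ∈ N) (h : M.e v = M.e w) : v * w⁻¹ ∈ Z := by
  rw [← M.ker _ (mul_mem hv (inv_mem hw)), M.e_div hv hw, h, sub_self]

theorem at_iff {j : Fin r} {y : E} {v : G} : At M j y v ↔ M.e v = Pi.single j y := by
  constructor
  · rintro ⟨h1, h2⟩
    funext k
    by_cases hk : k = j
    · subst hk; rw [Pi.single_eq_same]; exact h1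
    · rw [Pi.single_eq_of_ne hk]; exact h2 k hk
  · intro h
    refine ⟨?_, fun k hk => ?_⟩
    · rw [h, Pi.single_eq_same]
    · rw [h, Pi.single_eq_of_ne hk]

theorem exists_at (j : Fin r) (y : E) : ∃ v ∈ N, At M j y v := by
  obtain ⟨v, hv, h⟩ := M.surj (Pi.single j y)
  exact ⟨v, hv, M.at_iff.2 h⟩

theorem At.eq {j : Fin r} {y : E} {v w : G} {M : SpR F E r B H N Z} (h : At M j y v) (h' : At M j y w) :
    M.e v = M.e w := by
  rw [M.at_iff.1 h, M.at_iff.1 h']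

/-! ### The maps induced by an element of `H` -/

theorem act_surj {h : G} (hh : h ∈ H) {σ : Equiv.Perm (Fin r)} {j : Fin r} {A : E → E}
    (hA : ∀ v ∈ N, M.e (h * v * h⁻¹) (σ j) = A (M.e v j)) (y : E) : ∃ x, A x = y := by
  obtain ⟨v, hv, hy, -⟩ := M.exists_at (σ j) y
  have h1 : h⁻¹ * v * h ∈ N := by
    have := M.nor h⁻¹ (inv_mem hh) v hv
    rwa [inv_inv] at this
  refine ⟨M.e (h⁻¹ * v * h) j, ?_⟩
  rw [← hA _ h1]
  have e : h * (h⁻¹ * v * h) * h⁻¹ = v := by group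
  rw [e, hy]

theorem c_ne (hB : Sy B) {u : E} (hu : u ≠ 0) {φ : F ≃+* F} {c : F} {A : E → E} (hA : Sim B φ c A)
    (hs : ∀ y, ∃ x, A x = y) : c ≠ 0 := by
  intro hc
  apply hu
  apply hB.nd
  intro y
  obtain ⟨x, hx⟩ := hs u
  obtain ⟨x', hx'⟩ := hs y
  rw [← hx, ← hx', hA.form, hc, zero_mul]

theorem inj_of (hB : Sy B) {φ : F ≃+* F} {c : F} {A : E → E} (hA : Sim B φ c A) (hs : ∀ y, ∃ x, A x = y) {x : E}
    (hx : A x = 0) : x = 0 := by
  by_contra hx0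
  have hc := c_ne hB hx0 hA hs
  apply hx0
  apply hB.nd
  intro y
  have h1 := hA.form x y
  rw [hx, map_zero, LinearMap.zero_apply] at h1
  have h2 : φ (B x y) = 0 := (mul_eq_zero.1 h1.symm).resolve_left hc
  exact (map_eq_zero φ).1 h2

/-- an element fixing the coordinate `j` of some vector concentrated in `j` fixes the coordinate `j` -/
theorem perm_eq {h : G} {σ : Equiv.Perm (Fin r)}
    (hσ : ∀ j, ∃ (φ : F ≃+* F) (c : F) (A : E → E), Sim B φ c A ∧ ∀ v ∈ N, M.e (h * v * h⁻¹) (σ j) = A (M.e v j))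
    {j j' : Fin r} {y : E} {v : G} (hv : v ∈ N) (hy : At M j y v) (hne : M.e (h * v * h⁻¹) j' ≠ 0) : σ j = j' := by
  by_contra hcon
  obtain ⟨k, hk⟩ : ∃ k, σ k = j' := ⟨σ.symm j', σ.apply_symm_apply j'⟩
  have hkj : k ≠ j := fun h1 => hcon (h1 ▸ hk)
  obtain ⟨φ, c, A, hA, hAe⟩ := hσ k
  apply hne
  rw [← hk, hAe v hv, hy.2 k hkj, hA.zero]

/-! ### Elements acting on one coordinate -/

theorem On.one (j : Fin r) : On M j id 1 := by
  intro v hv
  rw [one_mul, inv_one, mul_one]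
  exact ⟨rfl, fun _ _ => rfl⟩

variable {M}

theorem On.mul {j : Fin r} {A A' : E → E} {g g' : G} (hg' : g' ∈ H) (h : On M j A g) (h' : On M j A' g') :
    On M j (fun x => A (A' x)) (g * g') := by
  intro v hv
  have e : g * g' * v * (g * g')⁻¹ = g * (g' * v * g'⁻¹) * g⁻¹ := by group
  have h1 := h _ (M.nor g' hg' v hv)
  have h2 := h' v hv
  rw [e]
  exact ⟨by rw [h1.1, h2.1], fun k hk => by rw [h1.2 k hk, h2.2 k hk]⟩

theorem On.at {j : Fin r} {A : E → E} {g : G} (h : On M j A g) {v : G} (hv : v ∈ N) {y : E} (hy : At M j y v) :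
    At M j (A y) (g * v * g⁻¹) := by
  refine ⟨?_, fun k hk => ?_⟩
  · rw [(h v hv).1, hy.1]
  · rw [(h v hv).2 k hk, hy.2 k hk]

/-- conjugating a transvection by an element of `H` -/
theorem On.conj {h : G} (hh : h ∈ H) {σ : Equiv.Perm (Fin r)}
    (hσ : ∀ j, ∃ (φ : F ≃+* F) (c : F) (A : E → E), Sim B φ c A ∧ ∀ v ∈ N, M.e (h * v * h⁻¹) (σ j) = A (M.e v j))
    {j : Fin r} {φ : F ≃+* F} {c : F} {A : E → E} (hA : Sim B φ c A)
    (hAe : ∀ v ∈ N, M.e (h * v * h⁻¹) (σ j) = A (M.e v j)) {u : E} (hc : c ≠ 0) {a : F} {g : G} (hgH : g ∈ H)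
    (hg : On M j (tvn B u a) g) : On M (σ j) (tvn B (A u) (φ a * c⁻¹)) (h * g * h⁻¹) := by
  intro v hv
  have h1 : h⁻¹ * v * h ∈ N := by
    have := M.nor h⁻¹ (inv_mem hh) v hv
    rwa [inv_inv] at this
  have h2 := M.nor g hgH _ h1
  have e1 : h * g * h⁻¹ * v * (h * g * h⁻¹)⁻¹ = h * (g * (h⁻¹ * v * h) * g⁻¹) * h⁻¹ := by group
  have e2 : h * (h⁻¹ * v * h) * h⁻¹ = v := by group
  have h3 := hg _ h1
  refine ⟨?_, fun k hk => ?_⟩
  · rw [e1, hAe _ h2, h3.1]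
    have h4 := hAe _ h1
    rw [e2] at h4
    unfold tvn
    rw [hA.add, hA.smul, ← h4, map_mul]
    congr 2
    rw [h4, hA.form]
    field_simp
  · obtain ⟨k', hk'⟩ : ∃ k', σ k' = k := ⟨σ.symm k, σ.apply_symm_apply k⟩
    have hne : k' ≠ j := fun h5 => hk (by rw [← hk', h5])
    obtain ⟨φ', c', A', -, hA'⟩ := hσ k'
    rw [e1, ← hk', hA' _ h2, h3.2 k' hne, ← hA' _ h1, e2]

end SpR

/-- The point `Zp`, the line `Vp` and the abelian group `Bp`. -/
structure Side (M : SpR F E r B H N Z) (Zp Vp Bp : Subgroup G) (j₀ : Fin r) (u₀ w₀ : E) : Prop where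
  hB : Sy B
  HZ : H ≤ normalizer (Z : Set G)
  ZN : Z ≤ N
  ZV : Zp ≤ Vp
  VN : Vp ≤ N
  VB : Vp ≤ Bp
  NN : ∀ x ∈ N, ∀ y ∈ N, x * y = y * x
  BB : ∀ x ∈ Bp, ∀ y ∈ Bp, x * y = y * x
  NB : N ≤ normalizer (Bp : Set G)
  DB : H ⊓ normalizer (Zp : Set G) ≤ normalizer (Bp : Set G)
  BH : Bp ≤ H
  BZ : ∀ b ∈ Bp, ∀ z ∈ Z, b * z = z * b
  f4 : ∀ x ∈ Z, ∀ z ∈ Zp, x ≠ 1 → z ≠ 1 → ∀ g : G, g * (x * z) * g⁻¹ ∉ Zp
  ZZ : ∀ x ∈ Z, x ∈ Zp → x = 1
  red : ∀ g ∈ H, (∀ z ∈ Z, g * z = z * g) → (∀ v ∈ N, g * v * g⁻¹ * v⁻¹ ∈ Z) → ∀ v ∈ N, g * v = v * g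
  hu : u₀ ≠ 0
  hw : ∀ a : F, w₀ ≠ a • u₀
  hwu : B w₀ u₀ = 0
  pt : ∀ x ∈ Zp, ∃ a : F, At M j₀ (a • u₀) x
  pt' : ∀ a : F, ∃ x ∈ Zp, At M j₀ (a • u₀) x
  ln : ∀ x ∈ Vp, ∃ a b : F, At M j₀ (a • u₀ + b • w₀) x
  ln' : ∀ a b : F, ∃ x ∈ Vp, At M j₀ (a • u₀ + b • w₀) x

namespace Side

variable [Finite G] {M : SpR F E r B H N Z} {Zp Vp Bp : Subgroup G} {j₀ : Fin r} {u₀ w₀ : E}
  (D : Side M Zp Vp Bp j₀ u₀ w₀)

include D

theorem conj_eq {g z z' : G} (hg : g ∈ H) (hz : z ∈ Zp) (hz' : z' ∈ Zp) (h : M.e (g * z * g⁻¹) = M.e z') :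
    g * z * g⁻¹ = z' := by
  have hzN : z ∈ N := D.VN (D.ZV hz)
  have hz'N : z' ∈ N := D.VN (D.ZV hz')
  have h1 : g * z * g⁻¹ * z'⁻¹ ∈ Z := M.div_mem (M.nor g hg z hzN) hz'N h
  by_cases hz1 : z' = 1
  · rw [hz1, inv_one, mul_one] at h1
    have h2 : z ∈ Z := (mem_normalizer_iff.1 (D.HZ hg) z).2 h1
    have h3 := D.ZZ z h2 hz
    rw [h3, hz1]; group
  by_contra hne
  have h2 : g * z * g⁻¹ * z'⁻¹ ≠ 1 := fun h3 => hne (mul_inv_eq_one.1 h3)
  apply D.f4 _ h1 z' hz' h2 hz1 g⁻¹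
  have e : g⁻¹ * (g * z * g⁻¹ * z'⁻¹ * z') * g⁻¹⁻¹ = z := by group
  rw [e]
  exact hz

/-- an element of `H` preserving `F u₀` at `j₀` normalises `Zp` -/
theorem mem_norm {g : G} (hg : g ∈ H) (h : ∀ z ∈ Zp, ∃ b : F, At M j₀ (b • u₀) (g * z * g⁻¹)) :
    g ∈ H ⊓ normalizer (Zp : Set G) := by
  refine ⟨hg, ?_⟩
  have h1 : ∀ z ∈ Zp, g * z * g⁻¹ ∈ Zp := by
    intro z hz
    obtain ⟨b, hb⟩ := h z hz
    obtain ⟨z', hz', hz''⟩ := D.pt' b
    rw [D.conj_eq hg hz hz' (SpR.At.eq hb hz'')]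
    exact hz'
  exact mem_normalizer_fintype h1

/-- the lifts of transvections of the coordinate `j` are in `D` when `j ≠ j₀` or the centre is in `u₀^⊥` -/
theorem lift_mem {g : G} (hg : g ∈ H) {j : Fin r} {u : E} {a : F} (h : On M j (tvn B u a) g)
    (hju : j ≠ j₀ ∨ B u₀ u = 0) : g ∈ H ⊓ normalizer (Zp : Set G) := by
  refine D.mem_norm hg fun z hz => ?_
  obtain ⟨b, hb⟩ := D.pt z hz
  refine ⟨b, ?_⟩
  have h1 := h z (D.VN (D.ZV hz))
  by_cases hj : j = j₀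
  · have h2 := hju.resolve_left fun h3 => h3 hj
    subst hj
    have h3 := SpR.On.at h (D.VN (D.ZV hz)) hb
    rwa [Sy.tvn_of_perp _ (by rw [map_smul, LinearMap.smul_apply, h2, smul_zero])] at h3
  · refine ⟨?_, fun k hk => ?_⟩
    · rw [h1.2 j₀ (fun h3 => hj h3.symm), hb.1]
    · by_cases hkj : k = j
      · rw [hkj, h1.1, hb.2 j (hkj ▸ hk)]
        unfold tvn
        simp
      · rw [h1.2 k hkj, hb.2 k hk]

theorem exists_lift (j : Fin r) (u : E) (a : F) : ∃ g ∈ H, (∀ z ∈ Z, g * z = z * g) ∧ On M j (tvn B u a) g := by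
  obtain ⟨g, hg, h1, h2⟩ := M.lift j u a
  exact ⟨g, hg, h1, h2⟩

/-- an element of `D` fixes the coordinate `j₀` -/
theorem perm_fix {d : G} (hd : d ∈ H ⊓ normalizer (Zp : Set G)) {σ : Equiv.Perm (Fin r)}
    (hσ : ∀ j, ∃ (φ : F ≃+* F) (c : F) (A : E → E), Sim B φ c A ∧ ∀ v ∈ N, M.e (d * v * d⁻¹) (σ j) = A (M.e v j)) :
    σ j₀ = j₀ := by
  obtain ⟨z, hz, hz1⟩ := D.pt' 1
  rw [one_smul] at hz1
  have h1 : d * z * d⁻¹ ∈ Zp := (mem_normalizer_iff.1 hd.2 z).1 hz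
  obtain ⟨a, ha⟩ := D.pt _ h1
  refine SpR.perm_eq M hσ (D.VN (D.ZV hz)) hz1 ?_
  rw [ha.1]
  intro h2
  -- `d z d⁻¹ ∈ Z`, so `z ∈ Z`
  have h3 : M.e (d * z * d⁻¹) = 0 := by
    rw [M.at_iff.1 ha, h2, Pi.single_zero]
  have h4 := (M.ker _ (D.VN (D.ZV h1))).1 h3
  have h5 := D.ZZ _ h4 h1
  have h6 : z = 1 := conj_eq_one_iff.1 h5
  apply D.hu
  have h7 := hz1.1
  rw [h6, M.e_one] at h7
  exact h7.symm

/-- an element of `D` maps vectors concentrated in `j₀` to such vectors -/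
theorem exists_act {d : G} (hd : d ∈ H ⊓ normalizer (Zp : Set G)) : ∃ (φ : F ≃+* F) (c : F) (A : E → E),
    Sim B φ c A ∧ (∃ b : F, A u₀ = b • u₀) ∧ (∀ y, ∃ x, A x = y) ∧ c ≠ 0 ∧
      ∀ v ∈ N, ∀ y, At M j₀ y v → At M j₀ (A y) (d * v * d⁻¹) := by
  obtain ⟨σ, hσ⟩ := M.act d hd.1
  have h0 := D.perm_fix hd hσ
  obtain ⟨φ, c, A, hA, hAe⟩ := hσ j₀
  rw [h0] at hAe
  have hs : ∀ y, ∃ x, A x = y := fun y => M.act_surj hd.1 (σ := 1) (j := j₀) hAe y
  have hat : ∀ v ∈ N, ∀ y, At M j₀ y v → At M j₀ (A y) (d * v * d⁻¹) := by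
    intro v hv y hy
    refine ⟨by rw [hAe v hv, hy.1], fun k hk => ?_⟩
    obtain ⟨k', hk'⟩ : ∃ k', σ k' = k := ⟨σ.symm k, σ.apply_symm_apply k⟩
    have hne : k' ≠ j₀ := fun h1 => hk (by rw [← hk', h1, h0])
    obtain ⟨φ', c', A', hA', hAe'⟩ := hσ k'
    rw [← hk', hAe' v hv, hy.2 k' hne, hA'.zero]
  refine ⟨φ, c, A, hA, ?_, hs, SpR.c_ne D.hB D.hu hA hs, hat⟩
  obtain ⟨z, hz, hz1⟩ := D.pt' 1
  rw [one_smul] at hz1
  obtain ⟨b, hb⟩ := D.pt _ ((mem_normalizer_iff.1 hd.2 z).1 hz)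
  exact ⟨b, by rw [← (hat z (D.VN (D.ZV hz)) _ hz1).1, hb.1]⟩

/-- **(KEY)** a subgroup `K ≤ N` normalised by `D`, with an element whose coordinate at `j₀` is not in `F u₀`,
covers `u₀^⊥`. -/
theorem key {K : Subgroup G} (hKN : K ≤ N) (hDK : H ⊓ normalizer (Zp : Set G) ≤ normalizer (K : Set G)) {x : G}
    (hx : x ∈ K) (hxu : ∀ a : F, M.e x j₀ ≠ a • u₀) {y : E} (hy : B y u₀ = 0) : ∃ v ∈ K, At M j₀ y v := by
  have hB := D.hB
  -- the subgroup of `E` covered by `K`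
  let S : AddSubgroup E :=
    { carrier := {y | ∃ v ∈ K, At M j₀ y v}
      add_mem' := by
        rintro a b ⟨v, hv, hva⟩ ⟨w, hw, hwb⟩
        refine ⟨v * w, mul_mem hv hw, ?_, fun k hk => ?_⟩
        · rw [M.mul v (hKN hv) w (hKN hw), Pi.add_apply, hva.1, hwb.1]
        · rw [M.mul v (hKN hv) w (hKN hw), Pi.add_apply, hva.2 k hk, hwb.2 k hk, add_zero]
      zero_mem' := ⟨1, one_mem K, by rw [M.e_one]; rfl, fun k _ => by rw [M.e_one]; rfl⟩
      neg_mem' := by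
        rintro a ⟨v, hv, hva⟩
        refine ⟨v⁻¹, inv_mem hv, ?_, fun k hk => ?_⟩
        · rw [M.e_inv (hKN hv), Pi.neg_apply, hva.1]
        · rw [M.e_inv (hKN hv), Pi.neg_apply, hva.2 k hk, neg_zero] }
  have hcom : ∀ v ∈ K, ∀ w, B w u₀ = 0 → ∀ a : F, (a * B (M.e v j₀) w) • w ∈ S := by
    intro v hv w hw a
    obtain ⟨g, hg, -, hon⟩ := D.exists_lift j₀ w a
    have hgD := D.lift_mem hg hon (Or.inr (by rw [hB.symm]; exact hw))
    have h1 : g * v * g⁻¹ ∈ K := (mem_normalizer_iff.1 (hDK hgD) v).1 hv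
    have h2 := hon v (hKN hv)
    refine ⟨g * v * g⁻¹ * v⁻¹, mul_mem h1 (inv_mem hv), ?_, fun k hk => ?_⟩
    · rw [M.e_div (hKN h1) (hKN hv), Pi.sub_apply, h2.1]
      unfold tvn
      rw [add_sub_cancel_left]
    · rw [M.e_div (hKN h1) (hKN hv), Pi.sub_apply, h2.2 k hk, sub_self]
  have hS : ∀ x ∈ S, ∀ w, B w u₀ = 0 → ∀ a : F, (a * B x w) • w ∈ S := by
    rintro x ⟨v, hv, hvx⟩ w hw a
    have := hcom v hv w hw a
    rwa [hvx.1] at this
  -- an element of `S` outside `F u₀`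
  obtain ⟨w, hw, hwx, hwF⟩ : ∃ w, B w u₀ = 0 ∧ B (M.e x j₀) w ≠ 0 ∧ ∀ a : F, w ≠ a • u₀ := by
    by_cases h1 : B (M.e x j₀) u₀ = 0
    · obtain ⟨w, hw, hwx⟩ := hB.exists_perp hxu
      refine ⟨w, hw, by rw [hB.symm]; exact hwx, fun a ha => hwx ?_⟩
      rw [ha, map_smul, LinearMap.smul_apply, hB.symm, h1, smul_zero]
    · by_cases h2 : B (M.e x j₀) w₀ = 0
      · refine ⟨w₀ + u₀, ?_, ?_, fun a ha => D.hw (a - 1) ?_⟩
        · rw [map_add, LinearMap.add_apply, D.hwu, hB.alt, add_zero]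
        · rw [map_add, h2, zero_add]; exact h1
        · rw [sub_smul, one_smul, ← ha, add_sub_cancel_right]
      · exact ⟨w₀, D.hwu, h2, D.hw⟩
  have hwS : w ∈ S := by
    have h1 := hcom x hx w hw (B (M.e x j₀) w)⁻¹
    rwa [inv_mul_cancel₀ hwx, one_smul] at h1
  exact hB.perp_le hS hwS hwF hy

/-- **`Bp` acts trivially on the coordinates `≠ j₀`.** -/
theorem other {g : G} (hg : g ∈ Bp) {j : Fin r} (hj : j ≠ j₀) {v : G} (hv : v ∈ N) :
    M.e (g * v * g⁻¹) j = M.e v j := by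
  have hB := D.hB
  by_contra hne
  -- `i = [g, v] ∈ N ∩ Bp`
  have hgv : g * v * g⁻¹ ∈ N := M.nor g (D.BH hg) v hv
  have hiN : g * v * g⁻¹ * v⁻¹ ∈ N := mul_mem hgv (inv_mem hv)
  have hiB : g * v * g⁻¹ * v⁻¹ ∈ Bp := by
    have h1 := (mem_normalizer_iff.1 (D.NB hv) g⁻¹).1 (inv_mem hg)
    have e : g * v * g⁻¹ * v⁻¹ = g * (v * g⁻¹ * v⁻¹) := by group
    rw [e]
    exact mul_mem hg h1
  have hx0 : M.e (g * v * g⁻¹ * v⁻¹) j ≠ 0 := by
    rw [M.e_div hgv hv, Pi.sub_apply]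
    exact sub_ne_zero.2 hne
  -- `N ∩ Bp` covers the coordinate `j`
  let S : AddSubgroup E :=
    { carrier := {y | ∃ v ∈ N ⊓ Bp, At M j y v}
      add_mem' := by
        rintro a b ⟨v, hv, hva⟩ ⟨w, hw, hwb⟩
        refine ⟨v * w, mul_mem hv hw, ?_, fun k hk => ?_⟩
        · rw [M.mul v hv.1 w hw.1, Pi.add_apply, hva.1, hwb.1]
        · rw [M.mul v hv.1 w hw.1, Pi.add_apply, hva.2 k hk, hwb.2 k hk, add_zero]
      zero_mem' := ⟨1, one_mem _, by rw [M.e_one]; rfl, fun k _ => by rw [M.e_one]; rfl⟩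
      neg_mem' := by
        rintro a ⟨v, hv, hva⟩
        refine ⟨v⁻¹, inv_mem hv, ?_, fun k hk => ?_⟩
        · rw [M.e_inv hv.1, Pi.neg_apply, hva.1]
        · rw [M.e_inv hv.1, Pi.neg_apply, hva.2 k hk, neg_zero] }
  have hcom : ∀ v ∈ N ⊓ Bp, ∀ (w : E) (a : F), (a * B (M.e v j) w) • w ∈ S := by
    intro v hv0 w a
    have hvN : v ∈ N := hv0.1
    have hvB : v ∈ Bp := hv0.2
    obtain ⟨d, hd, -, hon⟩ := D.exists_lift j w a
    have hdD := D.lift_mem hd hon (Or.inl hj)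
    have h1 : d * v * d⁻¹ ∈ N := M.nor d hd v hvN
    have h1' : d * v * d⁻¹ ∈ Bp := (mem_normalizer_iff.1 (D.DB hdD) v).1 hvB
    have h2 := hon v hvN
    refine ⟨d * v * d⁻¹ * v⁻¹, mem_inf.2 ⟨mul_mem h1 (inv_mem hvN), mul_mem h1' (inv_mem hvB)⟩, ?_,
      fun k hk => ?_⟩
    · rw [M.e_div h1 hvN, Pi.sub_apply, h2.1]
      unfold tvn
      rw [add_sub_cancel_left]
    · rw [M.e_div h1 hvN, Pi.sub_apply, h2.2 k hk, sub_self]
  have hS : ∀ x ∈ S, ∀ w, B w 0 = 0 → ∀ a : F, (a * B x w) • w ∈ S := by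
    rintro x ⟨v, hv, hvx⟩ w - a
    have := hcom v hv w a
    rwa [hvx.1] at this
  have hall : ∀ y : E, y ∈ S := by
    obtain ⟨w, -, hwx⟩ := hB.exists_perp (u := 0) (x := M.e (g * v * g⁻¹ * v⁻¹) j) (fun a ha => hx0 (by
      rw [ha, smul_zero]))
    have hwx' : B (M.e (g * v * g⁻¹ * v⁻¹) j) w ≠ 0 := by rw [hB.symm]; exact hwx
    have hwS : w ∈ S := by
      have h1 := hcom _ ⟨hiN, hiB⟩ w (B (M.e (g * v * g⁻¹ * v⁻¹) j) w)⁻¹
      rwa [inv_mul_cancel₀ hwx', one_smul] at h1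
    intro y
    refine hB.perp_le hS hwS (fun a ha => hwx ?_) (map_zero _)
    rw [ha, smul_zero, map_zero, LinearMap.zero_apply]
  -- so `g` centralises all vectors concentrated in `j`
  have hfix : ∀ (y : E), ∀ w ∈ N, At M j y w → g * w * g⁻¹ = w := by
    intro y w hw hwy
    obtain ⟨x, ⟨hxN, hxB⟩, hxy⟩ := hall y
    have h1 : w * x⁻¹ ∈ Z := M.div_mem hw hxN (SpR.At.eq hwy hxy)
    have h2 := D.BZ g hg _ h1
    have h3 := D.BB g hg x hxB
    have e : g * w * g⁻¹ = g * (w * x⁻¹) * x * g⁻¹ := by group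
    rw [e, h2]
    calc w * x⁻¹ * g * x * g⁻¹ = w * x⁻¹ * (g * x) * g⁻¹ := by group
      _ = w := by rw [h3]; group
  -- contradiction with the action of `g`
  obtain ⟨σ, hσ⟩ := M.act g (D.BH hg)
  obtain ⟨φ, c, A, hA, hAe⟩ := hσ j
  have hσj : σ j = j := by
    obtain ⟨w, hw, hwx⟩ := M.exists_at j (M.e (g * v * g⁻¹ * v⁻¹) j)
    refine M.perm_eq hσ hw hwx ?_
    rw [hfix _ w hw hwx, hwx.1]
    exact hx0
  rw [hσj] at hAe
  apply hne
  obtain ⟨w, hw, hwy⟩ := M.exists_at j (M.e v j)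
  rw [hAe v hv, ← hwy.1, ← hAe w hw, hfix _ w hw hwy, hwy.1]

/-- **`Bp` acts on the coordinate `j₀` by transvections with centre `u₀`.** -/
theorem tv {g : G} (hg : g ∈ Bp) : ∃ l : F, On M j₀ (tvn B u₀ l) g := by
  have hB := D.hB
  -- `N ∩ Bp` covers `u₀^⊥`
  have hcov : ∀ y, B y u₀ = 0 → ∃ v ∈ N ⊓ Bp, At M j₀ y v := by
    intro y hy
    obtain ⟨x, hx, hx1⟩ := D.ln' 0 1
    rw [zero_smul, zero_add, one_smul] at hx1
    refine D.key (K := N ⊓ Bp) inf_le_left ?_ (x := x) ⟨D.VN hx, D.VB hx⟩ ?_ hy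
    · intro d hd
      have h1 := D.DB hd
      have key : ∀ d ∈ H ⊓ normalizer (Zp : Set G), ∀ x ∈ N ⊓ Bp, d * x * d⁻¹ ∈ N ⊓ Bp := fun d hd x hx =>
        ⟨M.nor d hd.1 x hx.1, (mem_normalizer_iff.1 (D.DB hd) x).1 hx.2⟩
      rw [mem_normalizer_iff]
      intro x
      refine ⟨key d hd x, fun hx => ?_⟩
      have h2 := key d⁻¹ (inv_mem hd) _ hx
      have e : d⁻¹ * (d * x * d⁻¹) * d⁻¹⁻¹ = x := by group
      rwa [e] at h2
    · intro a ha
      rw [hx1.1] at ha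
      exact D.hw a ha
  have hfix : ∀ y, B y u₀ = 0 → ∀ w ∈ N, At M j₀ y w → g * w * g⁻¹ = w := by
    intro y hy w hw hwy
    obtain ⟨x, ⟨hxN, hxB⟩, hxy⟩ := hcov y hy
    have h1 : w * x⁻¹ ∈ Z := M.div_mem hw hxN (SpR.At.eq hwy hxy)
    have h2 := D.BZ g hg _ h1
    have h3 := D.BB g hg x hxB
    have e : g * w * g⁻¹ = g * (w * x⁻¹) * x * g⁻¹ := by group
    rw [e, h2]
    calc w * x⁻¹ * g * x * g⁻¹ = w * x⁻¹ * (g * x) * g⁻¹ := by group
      _ = w := by rw [h3]; group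
  obtain ⟨σ, hσ⟩ := M.act g (D.BH hg)
  have hσj : σ j₀ = j₀ := by
    obtain ⟨w, hw, hwx⟩ := M.exists_at j₀ u₀
    refine M.perm_eq hσ hw hwx ?_
    rw [hfix _ (hB.alt _) w hw hwx, hwx.1]
    exact D.hu
  obtain ⟨φ, c, A, hA, hAe⟩ := hσ j₀
  rw [hσj] at hAe
  obtain ⟨l, hl⟩ := hA.eq_tvn hB D.hu (fun x hx => by
    obtain ⟨w, hw, hwx⟩ := M.exists_at j₀ x
    rw [← hwx.1, ← hAe w hw, hfix x hx w hw hwx]) D.hwu D.hw
  exact ⟨l, fun v hv => ⟨by rw [hAe v hv, hl], fun k hk => D.other hg hk hv⟩⟩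

/-- `[g, v] ∈ Zp Z` for `g ∈ Bp` -/
theorem comm_mem {g v : G} (hg : g ∈ Bp) (hv : v ∈ N) : ∃ z ∈ Zp, ∃ z' ∈ Z, g * v * g⁻¹ * v⁻¹ = z' * z := by
  obtain ⟨l, hl⟩ := D.tv hg
  have h1 := hl v hv
  have hgv : g * v * g⁻¹ ∈ N := M.nor g (D.BH hg) v hv
  obtain ⟨z, hz, hz1⟩ := D.pt' (l * B (M.e v j₀) u₀)
  have h2 : M.e (g * v * g⁻¹ * v⁻¹) = M.e z := by
    rw [M.e_div hgv hv, M.at_iff.1 hz1]
    funext k
    by_cases hk : k = j₀
    · subst hk
      rw [Pi.sub_apply, h1.1, Pi.single_eq_same]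
      unfold tvn
      rw [add_sub_cancel_left]
    · rw [Pi.sub_apply, h1.2 k hk, sub_self, Pi.single_eq_of_ne hk]
  exact ⟨z, hz, _, M.div_mem (mul_mem hgv (inv_mem hv)) (D.VN (D.ZV hz)) h2, by group⟩

/-- `K ≤ Bp` normalised by `D` and not centralising `N` induces all transvections with centre `u₀` -/
theorem full [Finite F] {K : Subgroup G} (hKB : K ≤ Bp) (hDK : H ⊓ normalizer (Zp : Set G) ≤ normalizer (K : Set G))
    (hne : ∃ g ∈ K, ∃ v ∈ N, g * v ≠ v * g) (l : F) : ∃ g ∈ K, On M j₀ (tvn B u₀ l) g := by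
  have hB := D.hB
  obtain ⟨g, hg, v, hv, hgv⟩ := hne
  obtain ⟨m, hm⟩ := D.tv (hKB hg)
  have hm0 : m ≠ 0 := by
    intro h0
    apply hgv
    refine D.red g (D.BH (hKB hg)) (D.BZ g (hKB hg)) (fun w hw => ?_) v hv
    refine M.div_mem (M.nor g (D.BH (hKB hg)) w hw) hw ?_
    funext k
    by_cases hk : k = j₀
    · subst hk
      rw [(hm w hw).1, h0]
      unfold tvn
      rw [zero_mul, zero_smul, add_zero]
    · exact (hm w hw).2 k hk
  -- `l = m b²`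
  obtain ⟨b, hb⟩ : ∃ b : F, b * b = l * m⁻¹ := by
    have hinj : Function.Injective fun x : F => x * x := by
      intro x y hxy
      have h1 : (x - y) * (x - y) = 0 := by
        have h2 : x * x - y * y = 0 := sub_eq_zero.2 hxy
        have h3 : (x - y) * (x - y) = (x * x - y * y) + 2 * (y * y - x * y) := by ring
        rw [h3, h2, hB.two, zero_mul, add_zero]
      exact sub_eq_zero.1 (mul_self_eq_zero.1 h1)
    exact Finite.surjective_of_injective hinj (l * m⁻¹)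
  by_cases hb0 : b = 0
  · refine ⟨1, one_mem K, ?_⟩
    have hl : l = 0 := by
      rw [hb0, zero_mul] at hb
      exact (mul_eq_zero.1 hb.symm).resolve_right (inv_ne_zero hm0)
    intro w hw
    rw [hl, one_mul, inv_one, mul_one]
    refine ⟨?_, fun _ _ => rfl⟩
    unfold tvn
    rw [zero_mul, zero_smul, add_zero]
  -- an element of `D` with `u₀ ↦ b u₀`
  have hne0 : ∀ {x : E}, x ≠ 0 → ∀ a : F, x ≠ a • (0 : E) := fun hx a h => hx (by rw [h, smul_zero])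
  obtain ⟨w₁, w₂, a₁, a₂, -, -, -, -, hmv⟩ := hB.tra (u := 0) (x := u₀) (y := b • u₀) (map_zero _) (hne0 D.hu)
    (map_zero _) (hne0 (smul_ne_zero hb0 D.hu))
  obtain ⟨d₁, hd₁, -, hon₁⟩ := D.exists_lift j₀ w₁ a₁
  obtain ⟨d₂, hd₂, -, hon₂⟩ := D.exists_lift j₀ w₂ a₂
  have hon := SpR.On.mul hd₁ hon₂ hon₁
  have hd : d₂ * d₁ ∈ H := mul_mem hd₂ hd₁
  have ht₁ := hB.tvn_sim w₁ a₁
  have ht₂ := hB.tvn_sim w₂ a₂
  have hsim : Sim B (RingEquiv.refl F) 1 fun x => tvn B w₂ a₂ (tvn B w₁ a₁ x) := by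
    refine ⟨fun x y => ?_, fun c x => ?_, fun x y => ?_⟩
    · rw [ht₁.add, ht₂.add]
    · rw [ht₁.smul, ht₂.smul]; rfl
    · rw [ht₂.form, ht₁.form]; simp
  have hdD : d₂ * d₁ ∈ H ⊓ normalizer (Zp : Set G) := by
    refine D.mem_norm hd fun z hz => ?_
    obtain ⟨a, ha⟩ := D.pt z hz
    refine ⟨a * b, ?_⟩
    have h1 := SpR.On.at hon (D.VN (D.ZV hz)) ha
    rw [hsim.smul, hmv, RingEquiv.refl_apply, smul_smul] at h1
    exact h1
  obtain ⟨σ, hσ⟩ := M.act _ hd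
  have hσj := D.perm_fix hdD hσ
  refine ⟨d₂ * d₁ * g * (d₂ * d₁)⁻¹, (mem_normalizer_iff.1 (hDK hdD) g).1 hg, ?_⟩
  -- conjugation
  have h1 := SpR.On.conj (M := M) hd hσ hsim (fun v hv => by rw [hσj]; exact (hon v hv).1) (u := u₀) one_ne_zero
    (D.BH (hKB hg)) hm
  rw [hσj, hmv, RingEquiv.refl_apply, inv_one, mul_one] at h1
  have h2 : tvn B (b • u₀) m = tvn B u₀ l := by
    funext x
    unfold tvn
    rw [map_smul, smul_eq_mul, smul_smul]
    congr 2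
    have h3 : l = m * (b * b) := by rw [hb]; field_simp
    rw [h3]; ring
  rwa [h2] at h1

/-- the conjugates of `K` under `H` induce all transvections of all coordinates -/
theorem all [Finite F] {K R : Subgroup G} (hKB : K ≤ Bp) (hDK : H ⊓ normalizer (Zp : Set G) ≤ normalizer (K : Set G))
    (hne : ∃ g ∈ K, ∃ v ∈ N, g * v ≠ v * g) (hR : ∀ h ∈ H, ∀ g ∈ K, h * g * h⁻¹ ∈ R) (j : Fin r) (u : E) (a : F) :
    ∃ g ∈ R, g ∈ H ∧ (∀ z ∈ Z, g * z = z * g) ∧ On M j (tvn B u a) g := by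
  have hB := D.hB
  by_cases hu : u = 0
  · refine ⟨1, one_mem R, one_mem H, fun z _ => by rw [one_mul, mul_one], ?_⟩
    intro w hw
    rw [one_mul, inv_one, mul_one, hu]
    refine ⟨?_, fun _ _ => rfl⟩
    unfold tvn
    rw [smul_zero, add_zero]
  -- move the coordinate `j₀` to `j`
  obtain ⟨h, hh, htr⟩ := M.tr j₀ j
  obtain ⟨σ, hσ⟩ := M.act h hh
  obtain ⟨v₀, hv₀, hv₀u⟩ := M.exists_at j₀ u₀
  have hσj : σ j₀ = j := by
    refine M.perm_eq hσ hv₀ hv₀u fun h1 => ?_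
    exact D.hu (hv₀u.1.symm.trans ((htr v₀ hv₀).1 h1))
  obtain ⟨φ, c, A, hA, hAe⟩ := hσ j₀
  have hs := fun y => M.act_surj hh hAe y
  have hc := SpR.c_ne hB D.hu hA hs
  have hAu : A u₀ ≠ 0 := fun h1 => D.hu (SpR.inj_of hB hA hs h1)
  -- move `A u₀` to `u`
  have hne0 : ∀ {x : E}, x ≠ 0 → ∀ a : F, x ≠ a • (0 : E) := fun hx a h => hx (by rw [h, smul_zero])
  obtain ⟨w₁, w₂, a₁, a₂, -, -, -, -, hmv⟩ := hB.tra (u := 0) (x := A u₀) (y := u) (map_zero _) (hne0 hAu)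
    (map_zero _) (hne0 hu)
  obtain ⟨d₁, hd₁, -, hon₁⟩ := D.exists_lift j w₁ a₁
  obtain ⟨d₂, hd₂, -, hon₂⟩ := D.exists_lift j w₂ a₂
  have hon := SpR.On.mul hd₁ hon₂ hon₁
  have hd : d₂ * d₁ ∈ H := mul_mem hd₂ hd₁
  have ht₁ := hB.tvn_sim w₁ a₁
  have ht₂ := hB.tvn_sim w₂ a₂
  have hsim : Sim B (RingEquiv.refl F) 1 fun x => tvn B w₂ a₂ (tvn B w₁ a₁ x) := by
    refine ⟨fun x y => ?_, fun c x => ?_, fun x y => ?_⟩
    · rw [ht₁.add, ht₂.add]
    · rw [ht₁.smul, ht₂.smul]; rfl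
    · rw [ht₂.form, ht₁.form]; simp
  obtain ⟨τ, hτ⟩ := M.act _ hd
  have hτj : τ j = j := by
    obtain ⟨w, hw, hwA⟩ := M.exists_at j (A u₀)
    refine M.perm_eq hτ hw hwA ?_
    rw [(SpR.On.at hon hw hwA).1, hmv]
    exact hu
  obtain ⟨g, hg, hgon⟩ := D.full hKB hDK hne (φ.symm (a * c))
  have h1 := SpR.On.conj (M := M) hh hσ hA hAe (u := u₀) hc (D.BH (hKB hg)) hgon
  have hgH : h * g * h⁻¹ ∈ H := mul_mem (mul_mem hh (D.BH (hKB hg))) (inv_mem hh)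
  rw [hσj, φ.apply_symm_apply, mul_assoc, mul_inv_cancel₀ hc, mul_one] at h1
  have h2 := SpR.On.conj (M := M) hd hτ hsim (fun v hv => by rw [hτj]; exact (hon v hv).1) (u := A u₀) one_ne_zero
    hgH h1
  rw [hτj, hmv, RingEquiv.refl_apply, inv_one, mul_one] at h2
  have h3 : d₂ * d₁ * (h * g * h⁻¹) * (d₂ * d₁)⁻¹ = (d₂ * d₁ * h) * g * (d₂ * d₁ * h)⁻¹ := by group
  refine ⟨_, ?_, mul_mem (mul_mem hd hgH) (inv_mem hd), ?_, h2⟩
  · rw [h3]
    exact hR _ (mul_mem hd hh) g hg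
  · -- centralises `Z`
    intro z hz
    rw [h3]
    have hx : (d₂ * d₁ * h)⁻¹ ∈ H := inv_mem (mul_mem hd hh)
    have h4 : (d₂ * d₁ * h)⁻¹ * z * (d₂ * d₁ * h) ∈ Z := by
      have := (mem_normalizer_iff.1 (D.HZ hx) z).1 hz
      rwa [inv_inv] at this
    have h5 := D.BZ g (hKB hg) _ h4
    calc d₂ * d₁ * h * g * (d₂ * d₁ * h)⁻¹ * z
        = d₂ * d₁ * h * (g * ((d₂ * d₁ * h)⁻¹ * z * (d₂ * d₁ * h))) * (d₂ * d₁ * h)⁻¹ := by group
      _ = z * (d₂ * d₁ * h * g * (d₂ * d₁ * h)⁻¹) := by rw [h5]; group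

/-- products of transvections of one coordinate -/
theorem all_comp [Finite F] {K R : Subgroup G} (hKB : K ≤ Bp)
    (hDK : H ⊓ normalizer (Zp : Set G) ≤ normalizer (K : Set G))
    (hne : ∃ g ∈ K, ∃ v ∈ N, g * v ≠ v * g) (hR : ∀ h ∈ H, ∀ g ∈ K, h * g * h⁻¹ ∈ R) (j : Fin r)
    (l : List (E × F)) : ∃ g ∈ R, g ∈ H ∧ (∀ z ∈ Z, g * z = z * g) ∧ On M j (Sy.comp B l) g := by
  induction l with
  | nil =>
    refine ⟨1, one_mem R, one_mem H, fun z _ => by rw [one_mul, mul_one], ?_⟩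
    intro w hw
    rw [one_mul, inv_one, mul_one]
    exact ⟨rfl, fun _ _ => rfl⟩
  | cons p l ih =>
    obtain ⟨g, hg, hgH, hgZ, hgon⟩ := ih
    obtain ⟨g', hg', hgH', hgZ', hgon'⟩ := D.all hKB hDK hne hR j p.1 p.2
    refine ⟨g' * g, mul_mem hg' hg, mul_mem hgH' hgH, fun z hz => ?_, ?_⟩
    · rw [mul_assoc, hgZ z hz, ← mul_assoc, hgZ' z hz, mul_assoc]
    · have h1 := SpR.On.mul hgH hgon' hgon
      intro v hv
      exact h1 v hv

/-- **`⟨K^H⟩` induces every element of `Sp(E)^r`** -/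
theorem all_iso [Finite F] [FiniteDimensional F E] {K R : Subgroup G} (hKB : K ≤ Bp)
    (hDK : H ⊓ normalizer (Zp : Set G) ≤ normalizer (K : Set G))
    (hne : ∃ g ∈ K, ∃ v ∈ N, g * v ≠ v * g) (hR : ∀ h ∈ H, ∀ g ∈ K, h * g * h⁻¹ ∈ R) {A : Fin r → E → E}
    (hA : ∀ j, Sim B (RingEquiv.refl F) 1 (A j)) :
    ∃ g ∈ R, g ∈ H ∧ (∀ z ∈ Z, g * z = z * g) ∧ ∀ v ∈ N, ∀ j, M.e (g * v * g⁻¹) j = A j (M.e v j) := by
  classical
  have key : ∀ s : Finset (Fin r), ∃ g ∈ R, g ∈ H ∧ (∀ z ∈ Z, g * z = z * g) ∧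
      ∀ v ∈ N, (∀ j ∈ s, M.e (g * v * g⁻¹) j = A j (M.e v j)) ∧ ∀ j, j ∉ s → M.e (g * v * g⁻¹) j = M.e v j := by
    intro s
    induction s using Finset.induction_on with
    | empty =>
      refine ⟨1, one_mem R, one_mem H, fun z _ => by rw [one_mul, mul_one], fun v hv => ⟨fun j hj => ?_, fun j _ => ?_⟩⟩
      · exact absurd hj (Finset.notMem_empty j)
      · rw [one_mul, inv_one, mul_one]
    | insert j s hj ih =>
      obtain ⟨g, hg, hgH, hgZ, hgv⟩ := ih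
      obtain ⟨l, hl⟩ := D.hB.exists_list (hA j)
      obtain ⟨g', hg', hgH', hgZ', hgon'⟩ := D.all_comp hKB hDK hne hR j l
      refine ⟨g' * g, mul_mem hg' hg, mul_mem hgH' hgH, fun z hz => ?_, fun v hv => ?_⟩
      · rw [mul_assoc, hgZ z hz, ← mul_assoc, hgZ' z hz, mul_assoc]
      · have e : g' * g * v * (g' * g)⁻¹ = g' * (g * v * g⁻¹) * g'⁻¹ := by group
        have h1 := hgon' _ (M.nor g hgH v hv)
        rw [e]
        refine ⟨fun k hk => ?_, fun k hk => ?_⟩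
        · by_cases hkj : k = j
          · rw [hkj, h1.1, (hgv v hv).2 j hj, hl]
          · rw [h1.2 k hkj, (hgv v hv).1 k ((Finset.mem_insert.1 hk).resolve_left hkj)]
        · have hkj : k ≠ j := fun h2 => hk (h2 ▸ Finset.mem_insert_self _ _)
          rw [h1.2 k hkj, (hgv v hv).2 k fun h2 => hk (Finset.mem_insert_of_mem h2)]
  obtain ⟨g, hg, hgH, hgZ, hgv⟩ := key Finset.univ
  exact ⟨g, hg, hgH, hgZ, fun v hv j => (hgv v hv).1 j (Finset.mem_univ j)⟩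

/-- **an involution centralising `Z` and a point in each coordinate lies in `C(N) ⟨K^H⟩`** -/
theorem gen [Finite F] [FiniteDimensional F E] {K R : Subgroup G} (hKB : K ≤ Bp)
    (hDK : H ⊓ normalizer (Zp : Set G) ≤ normalizer (K : Set G))
    (hne : ∃ g ∈ K, ∃ v ∈ N, g * v ≠ v * g) (hR : ∀ h ∈ H, ∀ g ∈ K, h * g * h⁻¹ ∈ R) {t : G} (ht : t ∈ H)
    (htZ : ∀ z ∈ Z, t * z = z * t) (ht2 : t * t = 1)
    (hfix : ∀ j, ∃ u : E, u ≠ 0 ∧ ∀ a : F, ∃ y ∈ N, At M j (a • u) y ∧ t * y * t⁻¹ = y) :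
    ∃ g ∈ R, g ∈ H ∧ ∀ v ∈ N, t * g⁻¹ * v = v * (t * g⁻¹) := by
  have hB := D.hB
  obtain ⟨σ, hσ⟩ := M.act t ht
  have hσj : ∀ j, σ j = j := by
    intro j
    obtain ⟨u, hu, hy⟩ := hfix j
    obtain ⟨y, hyN, hy1, hyt⟩ := hy 1
    rw [one_smul] at hy1
    refine M.perm_eq hσ hyN hy1 ?_
    rw [hyt, hy1.1]
    exact hu
  have hA : ∀ j, ∃ A : E → E, Sim B (RingEquiv.refl F) 1 A ∧ ∀ v ∈ N, M.e (t * v * t⁻¹) j = A (M.e v j) := by
    intro j
    obtain ⟨φ, c, A, hA, hAe⟩ := hσ j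
    rw [hσj j] at hAe
    obtain ⟨u, hu, hy⟩ := hfix j
    have hφ : ∀ a, φ a = a := hA.phi_eq hu fun a => by
      obtain ⟨y, hyN, hy1, hyt⟩ := hy a
      rw [← hy1.1, ← hAe y hyN, hyt]
    have hAA : ∀ x, A (A x) = x := by
      intro x
      obtain ⟨v, hv, hvx, -⟩ := M.exists_at j x
      have h1 := M.nor t ht v hv
      rw [← hvx, ← hAe v hv, ← hAe _ h1]
      have e : t * (t * v * t⁻¹) * t⁻¹ = t * t * v * (t * t)⁻¹ := by group
      rw [e, ht2]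
      simp
    have hc : c = 1 := by
      obtain ⟨x, hx⟩ : ∃ x, B u x ≠ 0 := by
        by_contra hcon
        push Not at hcon
        exact hu (hB.nd u hcon)
      have h1 := hA.form (A u) (A x)
      rw [hAA, hAA, hA.form, hφ, hφ] at h1
      have h2 : c * c = 1 := by
        have h3 : c * c * B u x = 1 * B u x := by rw [one_mul, mul_assoc]; exact h1.symm
        exact mul_right_cancel₀ hx h3
      have h3 : (c - 1) * (c - 1) = 0 := by
        have h4 : (c - 1) * (c - 1) = (c * c - 1) + 2 * (1 - c) := by ring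
        rw [h4, h2, hB.two]; ring
      exact sub_eq_zero.1 (mul_self_eq_zero.1 h3)
    refine ⟨A, ⟨hA.add, fun a x => ?_, fun x y => ?_⟩, hAe⟩
    · rw [hA.smul, hφ, RingEquiv.refl_apply]
    · rw [hA.form, hc, hφ, RingEquiv.refl_apply]
  choose A hA hAe using hA
  obtain ⟨g, hg, hgH, hgZ, hgv⟩ := D.all_iso hKB hDK hne hR hA
  refine ⟨g, hg, hgH, ?_⟩
  refine D.red _ (mul_mem ht (inv_mem hgH)) (fun z hz => ?_) fun v hv => ?_
  · have h1 : g⁻¹ * z = z * g⁻¹ := by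
      calc g⁻¹ * z = g⁻¹ * (z * g) * g⁻¹ := by group
        _ = g⁻¹ * (g * z) * g⁻¹ := by rw [hgZ z hz]
        _ = z * g⁻¹ := by group
    rw [mul_assoc, h1, ← mul_assoc, htZ z hz, mul_assoc]
  · have h1 : g⁻¹ * v * g ∈ N := by
      have := M.nor g⁻¹ (inv_mem hgH) v hv
      rwa [inv_inv] at this
    have e1 : t * g⁻¹ * v * (t * g⁻¹)⁻¹ = t * (g⁻¹ * v * g) * t⁻¹ := by group
    have e2 : g * (g⁻¹ * v * g) * g⁻¹ = v := by group
    rw [e1]
    refine M.div_mem (M.nor t ht _ h1) hv ?_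
    funext j
    rw [hAe j _ h1, ← hgv _ h1 j, e2]

end Side

end Cfsg.Agent.Omega.NO3S.EThree

end

section


/-!
# NO-3S, case (E), TEXT R3 #16982 (4) (helper609), `d = 1`

`H₀ = N(Z₀)`, `H₁ = N(Z₁)` act on `N₀`, `N₁` as symplectic groups with radical `Z₀`, `Z₁` (`SpR`); `Z₁ ≤ V₁ ≤ N₀`,
`Z₀ ≤ V₀ ≤ N₁` are points and totally isotropic lines; `Bᵢ ≥ Nᵢ Vᵢ` is abelian and normal in `Hᵢ`; `[N₀, N₁] ≠ 1`.

* `Four.comm` : `[R₀, B₀] ≤ N₀`, `R₀ = ⟨N₁^{H₀}⟩`;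
* `Four.norm_V` : `D ∩ R₀` normalises `V₀`;
* `Four.le_sup` : `D ≤ F₀ (D ∩ N(V₀))`, `F₀ = C_{H₀}(N₀)`: against STEP F.
-/

set_option autoImplicit false
set_option linter.unusedSectionVars false

namespace Cfsg.Agent.Omega.NO3S.EThree

open Subgroup

variable {G : Type*} [Group G]

variable {F E F' E' : Type*} [Field F] [AddCommGroup E] [Module F E] [Field F'] [AddCommGroup E'] [Module F' E']
  {r r' : ℕ} {B : E →ₗ[F] E →ₗ[F] F} {B' : E' →ₗ[F'] E' →ₗ[F'] F'} {N₀ N₁ Z₀ Z₁ : Subgroup G}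

/-- the hypotheses of (4) -/
structure Four (M₀ : SpR F E r B (normalizer (Z₀ : Set G)) N₀ Z₀) (M₁ : SpR F' E' r' B' (normalizer (Z₁ : Set G)) N₁ Z₁)
    (V₀ V₁ B₀ B₁ L : Subgroup G) (j₀ : Fin r) (u₀ w₀ : E) (j₁ : Fin r') (u₁ w₁ : E') : Prop where
  s₀ : Side M₀ Z₁ V₁ B₁ j₀ u₀ w₀
  s₁ : Side M₁ Z₀ V₀ B₀ j₁ u₁ w₁
  NB₀ : N₀ ≤ B₀
  NB₁ : N₁ ≤ B₁
  HB₀ : normalizer (Z₀ : Set G) ≤ normalizer (B₀ : Set G)
  NV : ∀ x ∈ V₀, x ∈ N₀ → x ∈ Z₀
  VZ : ∀ x ∈ V₀, x ∈ Z₁ → x = 1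
  LV : L ≤ normalizer (V₀ : Set G)
  LC : L ≤ centralizer (Z₁ : Set G)
  Ltr : ∀ x ∈ V₀, ∃ l ∈ L, l * x * l⁻¹ ∈ Z₀
  blk : ∀ j, ∃ u : E, u ≠ 0 ∧ ∀ a : F, ∃ y ∈ N₀, y ∈ centralizer (L : Set G) ∧ At M₀ j (a • u) y
  sq : ∀ x ∈ N₀, x * x = 1
  ne : ∃ g ∈ N₁, ∃ v ∈ N₀, g * v ≠ v * g

/-- the normal closure of `K` under `H` -/
def ncl (H K : Subgroup G) : Subgroup G := closure {x | ∃ h ∈ H, ∃ g ∈ K, x = h * g * h⁻¹}

theorem mem_ncl {H K : Subgroup G} {h g : G} (hh : h ∈ H) (hg : g ∈ K) : h * g * h⁻¹ ∈ ncl H K :=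
  subset_closure ⟨h, hh, g, hg, rfl⟩

theorem le_ncl {H K : Subgroup G} : K ≤ ncl H K := fun g hg => by
  have := mem_ncl (one_mem H) hg
  rwa [one_mul, inv_one, mul_one] at this

theorem ncl_le {H K L : Subgroup G} (h : ∀ x ∈ H, ∀ g ∈ K, x * g * x⁻¹ ∈ L) : ncl H K ≤ L := by
  unfold ncl
  rw [closure_le]
  rintro _ ⟨x, hx, g, hg, rfl⟩
  exact h x hx g hg

theorem ncl_conj {H K : Subgroup G} {h : G} (hh : h ∈ H) {x : G} (hx : x ∈ ncl H K) : h * x * h⁻¹ ∈ ncl H K := by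
  unfold ncl at hx
  induction hx using closure_induction with
  | mem x hx =>
    obtain ⟨y, hy, g, hg, rfl⟩ := hx
    have e : h * (y * g * y⁻¹) * h⁻¹ = (h * y) * g * (h * y)⁻¹ := by group
    rw [e]
    exact mem_ncl (mul_mem hh hy) hg
  | one => rw [mul_one, mul_inv_cancel]; exact one_mem _
  | mul x y _ _ h1 h2 =>
    have e : h * (x * y) * h⁻¹ = (h * x * h⁻¹) * (h * y * h⁻¹) := by group
    rw [e]
    exact mul_mem h1 h2
  | inv x _ h1 =>
    have e : h * x⁻¹ * h⁻¹ = (h * x * h⁻¹)⁻¹ := by group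
    rw [e]
    exact inv_mem h1

/-- elements of `A C`, `C ≤ N(A)` -/
theorem exists_mul_of_sup {A C : Subgroup G} (h : ∀ c ∈ C, ∀ a ∈ A, c * a * c⁻¹ ∈ A) {x : G} (hx : x ∈ A ⊔ C) :
    ∃ a ∈ A, ∃ c ∈ C, x = a * c := by
  let K : Subgroup G :=
    { carrier := {x | ∃ f ∈ A, ∃ n ∈ C, x = f * n}
      one_mem' := ⟨1, one_mem A, 1, one_mem C, by simp⟩
      mul_mem' := by
        rintro _ _ ⟨f, hf, n, hn, rfl⟩ ⟨f', hf', n', hn', rfl⟩
        exact ⟨f * (n * f' * n⁻¹), mul_mem hf (h n hn f' hf'), n * n', mul_mem hn hn', by group⟩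
      inv_mem' := by
        rintro _ ⟨f, hf, n, hn, rfl⟩
        refine ⟨n⁻¹ * f⁻¹ * n⁻¹⁻¹, h _ (inv_mem hn) _ (inv_mem hf), n⁻¹, inv_mem hn, by group⟩ }
  have hle : A ⊔ C ≤ K := sup_le (fun f hf => ⟨f, hf, 1, one_mem C, by simp⟩)
    fun n hn => ⟨1, one_mem A, n, hn, by simp⟩
  exact hle hx

namespace Four

variable [Finite G] {M₀ : SpR F E r B (normalizer (Z₀ : Set G)) N₀ Z₀}
  {M₁ : SpR F' E' r' B' (normalizer (Z₁ : Set G)) N₁ Z₁} {V₀ V₁ B₀ B₁ L : Subgroup G}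
  {j₀ : Fin r} {u₀ w₀ : E} {j₁ : Fin r'} {u₁ w₁ : E'} (D : Four M₀ M₁ V₀ V₁ B₀ B₁ L j₀ u₀ w₀ j₁ u₁ w₁)

include D

theorem Z₁_le : Z₁ ≤ N₀ := D.s₀.ZV.trans D.s₀.VN

theorem Z₀_le : Z₀ ≤ N₁ := D.s₁.ZV.trans D.s₁.VN

/-- `[R₀, B₀] ≤ N₀` -/
theorem comm {g : G} (hg : g ∈ ncl (normalizer (Z₀ : Set G)) N₁) {x : G} (hx : x ∈ B₀) :
    g ∈ normalizer (Z₀ : Set G) ∧ g * x * g⁻¹ * x⁻¹ ∈ N₀ := by
  -- elements of `N₁`
  have h1 : ∀ y ∈ N₁, ∀ x ∈ B₀, y * x * y⁻¹ * x⁻¹ ∈ N₀ := by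
    intro y hy x hx
    obtain ⟨z, hz, z', hz', e⟩ := D.s₁.comm_mem hx hy
    have h2 : (x * y * x⁻¹ * y⁻¹)⁻¹ ∈ N₀ := by
      rw [e]
      exact inv_mem (mul_mem (D.Z₁_le hz') (D.s₀.ZN hz))
    have e2 : (x * y * x⁻¹ * y⁻¹)⁻¹ = y * x * y⁻¹ * x⁻¹ := by group
    rwa [e2] at h2
  have hN₁H : N₁ ≤ normalizer (Z₀ : Set G) := D.NB₁.trans D.s₀.BH
  let K : Subgroup G :=
    { carrier := {g | g ∈ normalizer (Z₀ : Set G) ∧ ∀ x ∈ B₀, g * x * g⁻¹ * x⁻¹ ∈ N₀}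
      one_mem' := ⟨one_mem _, fun x _ => by simp⟩
      mul_mem' := by
        rintro a b ⟨ha, h1⟩ ⟨hb, h2⟩
        refine ⟨mul_mem ha hb, fun x hx => ?_⟩
        have h3 := M₀.nor a ha _ (h2 x hx)
        have e : a * b * x * (a * b)⁻¹ * x⁻¹ = (a * (b * x * b⁻¹ * x⁻¹) * a⁻¹) * (a * x * a⁻¹ * x⁻¹) := by group
        rw [e]
        exact mul_mem h3 (h1 x hx)
      inv_mem' := by
        rintro a ⟨ha, h1⟩
        refine ⟨inv_mem ha, fun x hx => ?_⟩
        have h3 := M₀.nor a⁻¹ (inv_mem ha) _ (inv_mem (h1 x hx))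
        have e : a⁻¹ * x * a⁻¹⁻¹ * x⁻¹ = a⁻¹ * (a * x * a⁻¹ * x⁻¹)⁻¹ * a⁻¹⁻¹ := by group
        rw [e]
        exact h3 }
  have hle : ncl (normalizer (Z₀ : Set G)) N₁ ≤ K := by
    refine ncl_le fun h hh y hy => ⟨mul_mem (mul_mem hh (hN₁H hy)) (inv_mem hh), fun x hx => ?_⟩
    have hx' : h⁻¹ * x * h ∈ B₀ := by
      have := (mem_normalizer_iff.1 (D.HB₀ (inv_mem hh)) x).1 hx
      rwa [inv_inv] at this
    have h2 := M₀.nor h hh _ (h1 y hy _ hx')
    have e : h * y * h⁻¹ * x * (h * y * h⁻¹)⁻¹ * x⁻¹ = h * (y * (h⁻¹ * x * h) * y⁻¹ * (h⁻¹ * x * h)⁻¹) * h⁻¹ := by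
      group
    rw [e]
    exact h2
  have h2 := hle hg
  exact ⟨h2.1, h2.2 x hx⟩

/-- points of `V₀ Z₁` -/
theorem eq_one {x x' z g : G} (hx : x ∈ V₀) (hx' : x' ∈ V₀) (hz : z ∈ Z₁) (hg : g ∈ normalizer (Z₁ : Set G))
    (e : g * x * g⁻¹ = z * x') : z = 1 := by
  by_contra hz1
  by_cases hx1 : x' = 1
  · rw [hx1, mul_one] at e
    have h1 : x ∈ Z₁ := (mem_normalizer_iff.1 hg x).2 (e ▸ hz)
    have h2 := D.VZ x hx h1
    rw [h2] at e
    apply hz1
    rw [← e]; group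
  · obtain ⟨l, hl, hlx⟩ := D.Ltr x' hx'
    obtain ⟨l', hl', hlx'⟩ := D.Ltr x hx
    have hlz : l * z = z * l := (mem_centralizer_iff.1 (D.LC hl) z hz).symm
    apply D.s₁.f4 z hz _ hlx hz1 (fun h1 => hx1 (conj_eq_one_iff.1 h1)) (l' * (l * g)⁻¹)
    have e1 : z * (l * x' * l⁻¹) = l * g * x * (l * g)⁻¹ := by
      calc z * (l * x' * l⁻¹) = (z * l) * x' * l⁻¹ := by group
        _ = l * (z * x') * l⁻¹ := by rw [← hlz]; group
        _ = l * g * x * (l * g)⁻¹ := by rw [← e]; group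
    have e2 : l' * (l * g)⁻¹ * (l * g * x * (l * g)⁻¹) * (l' * (l * g)⁻¹)⁻¹ = l' * x * l'⁻¹ := by group
    rw [e1, e2]
    exact hlx'

theorem V₀B : V₀ ≤ B₀ := D.s₁.VB

/-- **`D ∩ R₀` normalises `V₀`** -/
theorem norm_V {g : G} (hg : g ∈ ncl (normalizer (Z₀ : Set G)) N₁) (hg1 : g ∈ normalizer (Z₁ : Set G)) :
    g ∈ normalizer (V₀ : Set G) := by
  have key : ∀ x ∈ V₀, g * x * g⁻¹ ∈ V₀ := by
    intro x hx
    have hgD : g ∈ normalizer (Z₁ : Set G) ⊓ normalizer (Z₀ : Set G) := ⟨hg1, (D.comm hg (D.V₀B hx)).1⟩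
    have h1 := (D.comm hg (D.V₀B hx)).2
    have hxN := D.s₁.VN hx
    have hgx := M₁.nor g hg1 x hxN
    have hk : g * x * g⁻¹ * x⁻¹ ∈ N₁ := mul_mem hgx (inv_mem hxN)
    obtain ⟨φ, c, A, hA, -, -, -, hat⟩ := D.s₁.exists_act hgD
    obtain ⟨a, b, hab⟩ := D.s₁.ln x hx
    have h2 := hat x hxN _ hab
    -- the coordinate of `[g, x]` is in `F u₁`
    obtain ⟨a', ha'⟩ : ∃ a' : F', M₁.e (g * x * g⁻¹ * x⁻¹) j₁ = a' • u₁ := by
      by_contra hcon
      push Not at hcon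
      have hK : normalizer (Z₁ : Set G) ⊓ normalizer (Z₀ : Set G) ≤ normalizer ((N₀ ⊓ N₁ : Subgroup G) : Set G) := by
        have kk : ∀ d ∈ normalizer (Z₁ : Set G) ⊓ normalizer (Z₀ : Set G), ∀ x ∈ N₀ ⊓ N₁, d * x * d⁻¹ ∈ N₀ ⊓ N₁ :=
          fun d hd x hx => mem_inf.2 ⟨M₀.nor d hd.2 x (mem_inf.1 hx).1, M₁.nor d hd.1 x (mem_inf.1 hx).2⟩
        intro d hd
        rw [mem_normalizer_iff]
        intro x
        refine ⟨kk d hd x, fun hx => ?_⟩
        have h2 := kk d⁻¹ (inv_mem hd) _ hx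
        have e : d⁻¹ * (d * x * d⁻¹) * d⁻¹⁻¹ = x := by group
        rwa [e] at h2
      obtain ⟨k, hkK, hkw⟩ := D.s₁.key (K := N₀ ⊓ N₁) inf_le_right hK (mem_inf.2 ⟨h1, hk⟩) hcon D.s₁.hwu
      obtain ⟨w, hw, hww⟩ := D.s₁.ln' 0 1
      rw [zero_smul, zero_add, one_smul] at hww
      have h3 : w * k⁻¹ ∈ Z₁ := M₁.div_mem (D.s₁.VN hw) (mem_inf.1 hkK).2 (SpR.At.eq hww hkw)
      have h4 : w ∈ N₀ := by
        have := mul_mem (D.Z₁_le h3) (mem_inf.1 hkK).1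
        rwa [inv_mul_cancel_right] at this
      obtain ⟨b', hb'⟩ := D.s₁.pt w (D.NV w hw h4)
      exact D.s₁.hw b' (hww.1.symm.trans hb'.1)
    have hat' : At M₁ j₁ (a' • u₁) (g * x * g⁻¹ * x⁻¹) := by
      refine ⟨ha', fun k hk => ?_⟩
      rw [M₁.e_div hgx hxN, Pi.sub_apply, h2.2 k hk, hab.2 k hk, sub_self]
    obtain ⟨z, hz, hza⟩ := D.s₁.pt' a'
    have h3 : g * x * g⁻¹ * x⁻¹ * z⁻¹ ∈ Z₁ := M₁.div_mem hk (D.Z₀_le hz) (SpR.At.eq hat' hza)
    have hzx : z * x ∈ V₀ := mul_mem (D.s₁.ZV hz) hx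
    have e1 : g * x * g⁻¹ = (g * x * g⁻¹ * x⁻¹ * z⁻¹) * (z * x) := by group
    have h4 := D.eq_one hx hzx h3 hg1 e1
    rw [h4, one_mul] at e1
    rw [e1]
    exact hzx
  exact mem_normalizer_fintype key

/-- **(4)**: `D ≤ F₀ (D ∩ N(V₀))` -/
theorem le_sup [Finite F] [Finite F'] [FiniteDimensional F E] :
    normalizer (Z₀ : Set G) ⊓ normalizer (Z₁ : Set G) ≤
      (normalizer (Z₀ : Set G) ⊓ centralizer (N₀ : Set G)) ⊔
        ((normalizer (Z₀ : Set G) ⊓ normalizer (Z₁ : Set G)) ⊓ normalizer (V₀ : Set G)) := by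
  have hB' := D.s₁.hB
  have hN₁H : N₁ ≤ normalizer (Z₀ : Set G) := D.NB₁.trans D.s₀.BH
  -- `F₀ ≤ D`, normal in `H₀`
  have hF0D : normalizer (Z₀ : Set G) ⊓ centralizer (N₀ : Set G) ≤ normalizer (Z₀ : Set G) ⊓ normalizer (Z₁ : Set G) :=
    le_inf inf_le_left (inf_le_right.trans ((centralizer_le D.Z₁_le).trans (centralizer_le_normalizer _)))
  have hF0n : ∀ h ∈ normalizer (Z₀ : Set G), ∀ f ∈ normalizer (Z₀ : Set G) ⊓ centralizer (N₀ : Set G),
      h * f * h⁻¹ ∈ normalizer (Z₀ : Set G) ⊓ centralizer (N₀ : Set G) := by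
    intro h hh f hf
    refine mem_inf.2 ⟨mul_mem (mul_mem hh hf.1) (inv_mem hh), mem_centralizer_iff.2 fun y hy => ?_⟩
    have h1 := M₀.nor h⁻¹ (inv_mem hh) y hy
    rw [inv_inv] at h1
    have h2 := mem_centralizer_iff.1 (mem_inf.1 hf).2 _ h1
    calc y * (h * f * h⁻¹) = h * ((h⁻¹ * y * h) * f) * h⁻¹ := by group
      _ = h * f * h⁻¹ * y := by rw [h2]; group
  have hRH : ncl (normalizer (Z₀ : Set G)) N₁ ≤ normalizer (Z₀ : Set G) :=
    ncl_le fun h hh y hy => mul_mem (mul_mem hh (hN₁H hy)) (inv_mem hh)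
  -- `Θ = (F₀ R₀) ∩ D`
  have hTheta : ∀ y, y ∈ (normalizer (Z₀ : Set G) ⊓ centralizer (N₀ : Set G)) ⊔ ncl (normalizer (Z₀ : Set G)) N₁ →
      y ∈ normalizer (Z₀ : Set G) ⊓ normalizer (Z₁ : Set G) →
      y ∈ (normalizer (Z₀ : Set G) ⊓ centralizer (N₀ : Set G)) ⊔
        ((normalizer (Z₀ : Set G) ⊓ normalizer (Z₁ : Set G)) ⊓ normalizer (V₀ : Set G)) := by
    intro y hy hyD
    obtain ⟨f, hf, g, hg, rfl⟩ := exists_mul_of_sup (fun c hc a ha => hF0n c (hRH hc) a ha) hy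
    have hgD : g ∈ normalizer (Z₀ : Set G) ⊓ normalizer (Z₁ : Set G) := by
      have := mul_mem (inv_mem (hF0D hf)) hyD
      rwa [inv_mul_cancel_left] at this
    exact mul_mem (mem_sup_left hf) (mem_sup_right (mem_inf.2 ⟨hgD, D.norm_V hg hgD.2⟩))
  have hThc : ∀ h ∈ normalizer (Z₀ : Set G), ∀ y ∈ (normalizer (Z₀ : Set G) ⊓ centralizer (N₀ : Set G)) ⊔
      ncl (normalizer (Z₀ : Set G)) N₁, h * y * h⁻¹ ∈ (normalizer (Z₀ : Set G) ⊓ centralizer (N₀ : Set G)) ⊔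
      ncl (normalizer (Z₀ : Set G)) N₁ := by
    intro h hh y hy
    obtain ⟨f, hf, g, hg, rfl⟩ := exists_mul_of_sup (fun c hc a ha => hF0n c (hRH hc) a ha) hy
    have e : h * (f * g) * h⁻¹ = (h * f * h⁻¹) * (h * g * h⁻¹) := by group
    rw [e]
    exact mul_mem (mem_sup_left (hF0n h hh f hf)) (mem_sup_right (ncl_conj hh hg))
  -- the conjugates of `N₀` under `L`
  have hNl : ∀ l ∈ L, ∀ n ∈ N₀, l * n * l⁻¹ ∈ (normalizer (Z₀ : Set G) ⊓ centralizer (N₀ : Set G)) ⊔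
      ncl (normalizer (Z₀ : Set G)) N₁ ∧ l * n * l⁻¹ ∈ normalizer (Z₀ : Set G) ⊓ normalizer (Z₁ : Set G) := by
    intro l hl n hn
    -- `l n l⁻¹` centralises `V₀ ≥ Z₀`
    have hcV : ∀ x ∈ V₀, l * n * l⁻¹ * x = x * (l * n * l⁻¹) := by
      intro x hx
      have h1 : l⁻¹ * x * l ∈ V₀ := by
        have := (mem_normalizer_iff.1 (inv_mem (D.LV hl)) x).1 hx
        rwa [inv_inv] at this
      have h2 := D.s₁.BB n (D.NB₀ hn) _ (D.V₀B h1)
      calc l * n * l⁻¹ * x = l * (n * (l⁻¹ * x * l)) * l⁻¹ := by group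
        _ = x * (l * n * l⁻¹) := by rw [h2]; group
    have hcL : ∀ y ∈ N₀, y ∈ centralizer (L : Set G) → l * n * l⁻¹ * y = y * (l * n * l⁻¹) := by
      intro y hy hyL
      have h1 : l * y = y * l := mem_centralizer_iff.1 hyL l hl
      have h2 := D.s₀.NN n hn y hy
      calc l * n * l⁻¹ * y = l * n * l⁻¹ * (y * l) * l⁻¹ := by group
        _ = l * (n * y) * l⁻¹ := by rw [← h1]; group
        _ = l * y * n * l⁻¹ := by rw [h2]; group
        _ = y * (l * n * l⁻¹) := by rw [h1]; group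
    have hcZ1 : ∀ z ∈ Z₁, l * n * l⁻¹ * z = z * (l * n * l⁻¹) := fun z hz =>
      hcL z (D.Z₁_le hz) (mem_centralizer_iff.2 fun m hm => (mem_centralizer_iff.1 (D.LC hm) z hz).symm)
    have ht0 : l * n * l⁻¹ ∈ normalizer (Z₀ : Set G) :=
      centralizer_le_normalizer _ (mem_centralizer_iff.2 fun z hz => (hcV z (D.s₁.ZV hz)).symm)
    have ht1 : l * n * l⁻¹ ∈ normalizer (Z₁ : Set G) :=
      centralizer_le_normalizer _ (mem_centralizer_iff.2 fun z hz => (hcZ1 z hz).symm)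
    refine ⟨?_, mem_inf.2 ⟨ht0, ht1⟩⟩
    obtain ⟨g, hg, hgH, hgN⟩ := D.s₀.gen (K := N₁) (R := ncl (normalizer (Z₀ : Set G)) N₁) D.NB₁
      (fun d hd => by
        have kk : ∀ d ∈ normalizer (Z₀ : Set G) ⊓ normalizer (Z₁ : Set G), ∀ x ∈ N₁, d * x * d⁻¹ ∈ N₁ :=
          fun d hd x hx => M₁.nor d hd.2 x hx
        rw [mem_normalizer_iff]
        intro x
        refine ⟨kk d hd x, fun hx => ?_⟩
        have h2 := kk d⁻¹ (inv_mem hd) _ hx
        have e : d⁻¹ * (d * x * d⁻¹) * d⁻¹⁻¹ = x := by group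
        rwa [e] at h2) D.ne (fun h hh g hg => mem_ncl hh hg) ht0 (fun z hz => hcV z (D.s₁.ZV hz))
      (by
        have e : l * n * l⁻¹ * (l * n * l⁻¹) = l * (n * n) * l⁻¹ := by group
        rw [e, D.sq n hn]; group)
      (fun j => by
        obtain ⟨u, hu, hy⟩ := D.blk j
        refine ⟨u, hu, fun a => ?_⟩
        obtain ⟨y, hyN, hyL, hya⟩ := hy a
        refine ⟨y, hyN, hya, ?_⟩
        rw [hcL y hyN hyL]; group)
    have e : l * n * l⁻¹ = (l * n * l⁻¹ * g⁻¹) * g := by group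
    rw [e]
    refine mul_mem (mem_sup_left (mem_inf.2 ⟨mul_mem ht0 (inv_mem hgH), mem_centralizer_iff.2 fun v hv => ?_⟩))
      (mem_sup_right hg)
    exact (hgN v hv).symm
  -- all transvections with centre `w ∈ u₁^⊥ - F u₁`
  obtain ⟨x₁, hx₁, hx₁w⟩ := D.s₁.ln' 0 1
  rw [zero_smul, zero_add, one_smul] at hx₁w
  have htw : ∀ b : F', ∃ y, y ∈ (normalizer (Z₀ : Set G) ⊓ centralizer (N₀ : Set G)) ⊔
      ncl (normalizer (Z₀ : Set G)) N₁ ∧ y ∈ normalizer (Z₀ : Set G) ⊓ normalizer (Z₁ : Set G) ∧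
      On M₁ j₁ (tvn B' w₁ b) y := by
    intro b
    obtain ⟨l, hl, hlx⟩ := D.Ltr x₁ hx₁
    have hl1 : l⁻¹ ∈ normalizer (Z₁ : Set G) := inv_mem (centralizer_le_normalizer _ (D.LC hl))
    obtain ⟨σ, hσ⟩ := M₁.act _ hl1
    obtain ⟨a, ha⟩ := D.s₁.pt _ hlx
    have hlxN : l * x₁ * l⁻¹ ∈ N₁ := D.Z₀_le hlx
    have e0 : l⁻¹ * (l * x₁ * l⁻¹) * l⁻¹⁻¹ = x₁ := by group
    have hw10 : w₁ ≠ 0 := fun h0 => D.s₁.hw 0 (by rw [h0, zero_smul])
    have hσj : σ j₁ = j₁ := by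
      refine M₁.perm_eq hσ hlxN ha ?_
      rw [e0, hx₁w.1]
      exact hw10
    obtain ⟨φ, c, A, hA, hAe⟩ := hσ j₁
    have hs := fun y => M₁.act_surj hl1 hAe y
    have hc := SpR.c_ne hB' D.s₁.hu hA hs
    have hAu : φ a • A u₁ = w₁ := by
      have h1 := hAe _ hlxN
      rw [hσj, e0, hx₁w.1, ha.1, hA.smul] at h1
      exact h1.symm
    have ha0 : φ a ≠ 0 := fun h0 => hw10 (by rw [← hAu, h0, zero_smul])
    obtain ⟨n, hn, hnon⟩ := D.s₁.full (K := N₀) D.NB₀ (fun d hd => by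
        have kk : ∀ d ∈ normalizer (Z₁ : Set G) ⊓ normalizer (Z₀ : Set G), ∀ x ∈ N₀, d * x * d⁻¹ ∈ N₀ :=
          fun d hd x hx => M₀.nor d hd.2 x hx
        rw [mem_normalizer_iff]
        intro x
        refine ⟨kk d hd x, fun hx => ?_⟩
        have h2 := kk d⁻¹ (inv_mem hd) _ hx
        have e : d⁻¹ * (d * x * d⁻¹) * d⁻¹⁻¹ = x := by group
        rwa [e] at h2) (by
        obtain ⟨g, hg, v, hv, hgv⟩ := D.ne
        exact ⟨v, hv, g, hg, fun h1 => hgv h1.symm⟩) (φ.symm (b * (φ a * φ a) * c))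
    have h1 := SpR.On.conj (M := M₁) hl1 hσ hA hAe (u := u₁) hc (D.s₁.BH (D.NB₀ hn)) hnon
    rw [hσj, φ.apply_symm_apply, mul_assoc, mul_inv_cancel₀ hc, mul_one] at h1
    have h2 : tvn B' (A u₁) (b * (φ a * φ a)) = tvn B' w₁ b := by
      funext x
      unfold tvn
      rw [← hAu, map_smul, smul_eq_mul, smul_smul]
      congr 2
      ring
    rw [h2, inv_inv] at h1
    have h3 := hNl l⁻¹ (inv_mem hl) n hn
    rw [inv_inv] at h3
    exact ⟨_, h3.1, h3.2, h1⟩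
  have hne0 : ∀ {x : E'}, x ≠ 0 → ∀ a : F', x ≠ a • (0 : E') := fun hx a h => hx (by rw [h, smul_zero])
  have htall : ∀ w : E', B' w u₁ = 0 → (∀ a : F', w ≠ a • u₁) → ∀ b : F', ∃ y,
      y ∈ (normalizer (Z₀ : Set G) ⊓ centralizer (N₀ : Set G)) ⊔ ncl (normalizer (Z₀ : Set G)) N₁ ∧
      y ∈ normalizer (Z₀ : Set G) ⊓ normalizer (Z₁ : Set G) ∧ On M₁ j₁ (tvn B' w b) y := by
    intro w hw hwu b
    obtain ⟨v₁, v₂, a₁, a₂, hv₁, hv₂, -, -, hmv⟩ := hB'.tra D.s₁.hwu D.s₁.hw hw hwu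
    obtain ⟨d₁, hd₁, -, hon₁⟩ := D.s₁.exists_lift j₁ v₁ a₁
    obtain ⟨d₂, hd₂, -, hon₂⟩ := D.s₁.exists_lift j₁ v₂ a₂
    have hd₁D := D.s₁.lift_mem hd₁ hon₁ (Or.inr (by rw [hB'.symm]; exact hv₁))
    have hd₂D := D.s₁.lift_mem hd₂ hon₂ (Or.inr (by rw [hB'.symm]; exact hv₂))
    have hon := SpR.On.mul hd₁ hon₂ hon₁
    have hd : d₂ * d₁ ∈ normalizer (Z₁ : Set G) := mul_mem hd₂ hd₁
    have hdD : d₂ * d₁ ∈ normalizer (Z₁ : Set G) ⊓ normalizer (Z₀ : Set G) := mul_mem hd₂D hd₁D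
    have ht₁ := hB'.tvn_sim v₁ a₁
    have ht₂ := hB'.tvn_sim v₂ a₂
    have hsim : Sim B' (RingEquiv.refl F') 1 fun x => tvn B' v₂ a₂ (tvn B' v₁ a₁ x) := by
      refine ⟨fun x y => ?_, fun c x => ?_, fun x y => ?_⟩
      · rw [ht₁.add, ht₂.add]
      · rw [ht₁.smul, ht₂.smul]; rfl
      · rw [ht₂.form, ht₁.form]; simp
    obtain ⟨σ, hσ⟩ := M₁.act _ hd
    have hσj := D.s₁.perm_fix hdD hσ
    obtain ⟨y, hy1, hy2, hyon⟩ := htw b
    have h1 := SpR.On.conj (M := M₁) hd hσ hsim (fun v hv => by rw [hσj]; exact (hon v hv).1) (u := w₁) one_ne_zero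
      hy2.2 hyon
    rw [hσj, hmv, RingEquiv.refl_apply, inv_one, mul_one] at h1
    exact ⟨_, hThc _ hdD.2 y hy1, mul_mem (mul_mem (mem_inf.2 ⟨hdD.2, hdD.1⟩) hy2) (inv_mem (mem_inf.2 ⟨hdD.2, hdD.1⟩)),
      h1⟩
  -- the main step
  intro d hd
  have hd' : d ∈ normalizer (Z₁ : Set G) ⊓ normalizer (Z₀ : Set G) := ⟨hd.2, hd.1⟩
  obtain ⟨φ, c, A, hA, ⟨b, hb⟩, hs, hc, hat⟩ := D.s₁.exists_act hd'
  have hx₁N := D.s₁.VN hx₁
  have h1 := hat x₁ hx₁N _ hx₁w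
  have hb0 : b ≠ 0 := fun h0 => D.s₁.hu (SpR.inj_of hB' hA hs (by rw [hb, h0, zero_smul]))
  have hAw : B' (A w₁) u₁ = 0 := by
    have h2 := hA.form w₁ u₁
    rw [D.s₁.hwu, map_zero, mul_zero, hb, map_smul, smul_eq_mul] at h2
    exact (mul_eq_zero.1 h2).resolve_left hb0
  have hAwu : ∀ a : F', A w₁ ≠ a • u₁ := by
    intro a ha
    have h2 : A (w₁ - φ.symm (a * b⁻¹) • u₁) = 0 := by
      rw [hA.sub, hA.smul, φ.apply_symm_apply, hb, smul_smul, mul_assoc, inv_mul_cancel₀ hb0, mul_one, ha, sub_self]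
    exact D.s₁.hw _ (sub_eq_zero.1 (SpR.inj_of hB' hA hs h2))
  obtain ⟨v₁, v₂, a₁, a₂, hv₁, hv₂, hv₁u, hv₂u, hmv⟩ := hB'.tra hAw hAwu D.s₁.hwu D.s₁.hw
  obtain ⟨y₁, hy₁, hy₁D, hon₁⟩ := htall v₁ hv₁ hv₁u a₁
  obtain ⟨y₂, hy₂, hy₂D, hon₂⟩ := htall v₂ hv₂ hv₂u a₂
  have hon := SpR.On.mul hy₁D.2 hon₂ hon₁
  have hyD : y₂ * y₁ ∈ normalizer (Z₀ : Set G) ⊓ normalizer (Z₁ : Set G) := mul_mem hy₂D hy₁D
  have h2 := SpR.On.at hon (M₁.nor d hd.2 x₁ hx₁N) h1
  rw [hmv] at h2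
  have hδ : y₂ * y₁ * d ∈ normalizer (Z₀ : Set G) ⊓ normalizer (Z₁ : Set G) := mul_mem hyD hd
  have e1 : y₂ * y₁ * (d * x₁ * d⁻¹) * (y₂ * y₁)⁻¹ = y₂ * y₁ * d * x₁ * (y₂ * y₁ * d)⁻¹ := by group
  rw [e1] at h2
  -- `δ = y₂ y₁ d` normalises `V₀`
  have hδV : y₂ * y₁ * d ∈ normalizer (V₀ : Set G) := by
    obtain ⟨φ', c', A', hA', ⟨b', hb'⟩, -, -, hat'⟩ := D.s₁.exists_act (d := y₂ * y₁ * d) ⟨hδ.2, hδ.1⟩
    have hA'w : A' w₁ = w₁ := by
      rw [← (hat' x₁ hx₁N _ hx₁w).1, h2.1]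
    refine mem_normalizer_fintype fun x hx => ?_
    obtain ⟨α, β, hαβ⟩ := D.s₁.ln x hx
    have h3 := hat' x (D.s₁.VN hx) _ hαβ
    rw [hA'.add, hA'.smul, hA'.smul, hb', hA'w, smul_smul] at h3
    obtain ⟨x', hx', hx'at⟩ := D.s₁.ln' (φ' α * b') (φ' β)
    have h4 := M₁.div_mem (M₁.nor _ hδ.2 x (D.s₁.VN hx)) (D.s₁.VN hx') (SpR.At.eq h3 hx'at)
    have e2 : y₂ * y₁ * d * x * (y₂ * y₁ * d)⁻¹ = (y₂ * y₁ * d * x * (y₂ * y₁ * d)⁻¹ * x'⁻¹) * x' := by group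
    have h5 := D.eq_one hx hx' h4 hδ.2 e2
    rw [h5, one_mul] at e2
    rw [e2]
    exact hx'
  have e3 : d = (y₂ * y₁)⁻¹ * (y₂ * y₁ * d) := by group
  rw [e3]
  refine mul_mem (inv_mem (hTheta _ (mul_mem hy₂ hy₁) hyD)) (mem_sup_right (mem_inf.2 ⟨hδ, hδV⟩))

end Four

end Cfsg.Agent.Omega.NO3S.EThree

end
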