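import Cfsg.Agent.Mrg.Omega.NO3S.EThree.UInOf
import Cfsg.Agent.Mrg.Omega.NO3S.EThree.TiNegY
import Cfsg.Agent.Mrg.Omega.NO3S.EThree.FourTwo.Plug
import Cfsg.Agent.Mrg.Omega.KL.QF.QIn
import Cfsg.Agent.Mrg.Omega.FF.GlobEnd


/-!
# Row (7) of the ledger: `EOf K (k = 2 ∧ 4 ≤ q)`, all stages, from MLK and Ext
-/

set_option autoImplicit false
set_option linter.unusedSectionVars false

namespace Cfsg.Agent.Omega.NO3S.EThree.Row7

open Cfsg.Agent.Omega.Frame (Cls)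
open Cfsg.Agent.Omega.Node.MultiOf

universe u

/-- **Row (7).** -/
theorem row7 {K : Cls.{u}} (hML : ML.Final.MLK.{u, u}) (hX : ML.Ex.Two.Ext.{u, u}) :
    EOf K fun k q => k = 2 ∧ 4 ≤ q :=
  Row7Split.eOf_split (FourTwo.fourK_of K hML hX) (TiNeg.nonLocIn K) (vIn hML)
    (KL.QF.QIn.kIn FF.Glob.ffthm hML hX)

end Cfsg.Agent.Omega.NO3S.EThree.Row7
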