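import Cfsg.Agent.Mrg.Omega.NO3S.EThree.RegX
import Cfsg.Agent.Mrg.Omega.NO3S.EThree.Row7
import Cfsg.Agent.Mrg.Omega.NO3S.EThree.CoreOf
import Cfsg.Agent.Mrg.Omega.OM.PG.PcK


/-!
# THEOREM R for `q ≥ 4` (`k = 2`), every stage: the assembly (helper627 #23558 (10), helper925 #23084)

* `FQ.false_rad` : `Z_i ≤ N_i`: contradiction from (1a) = `TA'`, (1b) = `OneB`, `(NO)`, `CoreP`;
* `RIn K` : (1a) and (1b), radical case; `NrIn K` : no radical, `[X_1, N_2] = 1` and THEOREM C;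
* **`vIn_of : MLK → RIn K → NrIn K → VIn K`**.
-/

set_option autoImplicit false
set_option linter.unusedSectionVars false

namespace Cfsg.Agent.Omega.NO3S.EThree

open Subgroup Cfsg Cfsg.Agent.ZN Cfsg.Agent.Omega.MinPar
open Cfsg.Agent.Omega.NoFF.Basic (conj_conj mem_conj conj_le_iff conj_le_centralizer comm_symm comm_mono)
open Cfsg.Agent.Omega.OM.PG
open Cfsg.Agent.Omega.OM.PG.Peel (Nob Exa XW)
open Cfsg.Agent.Omega.NO3S.EThree.ExactA (NoP)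
open Cfsg.Agent.Omega.OM.PG.TwoI (TA')
open scoped Pointwise

universe u

variable {G : Type u} [Group G]

/-- `[N_a, N_u] = 1` for all adjacent pairs from one. -/
theorem com_all {Z : Fin 2 → Subgroup G} (h : Com Z (Z 0) (Z 1)) : ∀ a u : Subgroup G, Adj Z a u → Com Z a u := by
  rintro _ _ ⟨k, rfl, rfl⟩
  unfold Com
  rw [NN_conj, NN_conj]
  exact conj_le_centralizer h

/-- **The radical case.** -/
theorem FQ.false_rad [Finite G] {Z U : Fin 2 → Subgroup G} {B : Subgroup G} {q : ℕ} (D : FQ Z U B q) (hNO : NoDQ Z)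
    (hQ : NoQQ Z) (hP : NoP Z) (hcore : PcK.CoreP Z)
    (hcom : NN Z (Z 0) ⊓ NN Z (Z 1) ≤ Z 0 ⊔ Z 1 → Com Z (Z 0) (Z 1))
    (hrad : ∀ i, Z i ≤ NN Z (Z i)) (h1a : TA' Z (XW Z U)) (h1b : OneB Z U) : False := by
  have hi := D.inter_of hNO hQ hrad h1b
  refine TwoI.false_of_pc D.toPP (D.XW_eab 0) (D.XW_le_Q 0) D.nobX D.tip hP h1a (D.tb_of hNO h1b) D.fixP D.surQ
    (D.hdis hi) fun a u hau => ?_
  exact PcK.pcK' D.toPP (Peel.xf D.toPP (D.XW_eab 0) (D.XW_le_Q 0)) (com_all (hcom hi)) D.tip D.surQ D.pts D.card0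
    hcore (hrad 0) hau

end Cfsg.Agent.Omega.NO3S.EThree

namespace Cfsg.Agent.Omega.NO3S.EThree.Row7

open Subgroup Cfsg Cfsg.Agent.ZN.ChoiceBase
open Cfsg.Agent.Omega.OM
open Cfsg.Agent.Omega.NO3S.EThree
open Cfsg.Agent.Omega.OM.PG (Com)
open Cfsg.Agent.Omega.OM.PG.Peel (XW)
open Cfsg.Agent.Omega.OM.PG.TwoI (TA')
open Cfsg.Agent.Omega.NO3S.EThree.Frame
open Cfsg.Agent.Omega.MinPar (NonLoc)
open Cfsg.Agent.Omega.Frame (Cls)
open Cfsg.Agent.Omega.Node.MultiOf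
open scoped Pointwise

universe u

variable {G : Type u} [Group G]

section sockets

variable (K : Cls.{u})

/-- (1a), (1b) of THEOREM R, radical case. -/
def RIn : Prop :=
  ∀ (G : Type u) [Group G] [Finite G], K G → ∀ (S : Sylow 2 G) (P K' B ZJ : Subgroup G)
    (L W Z C : Fin 2 → Subgroup G) (q : ℕ), MQ S P K' B ZJ L W Z C q → (∀ i, ¬ W i ≤ Nn Z i) →
      (∀ i, Z i ≤ Nn Z i) → TA' Z (XW Z W) ∧ OneB Z W

/-- (NR1), THEOREM C; no radical. -/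
def NrIn : Prop :=
  ∀ (G : Type u) [Group G] [Finite G], K G → ∀ (S : Sylow 2 G) (P K' B ZJ : Subgroup G)
    (L W Z C : Fin 2 → Subgroup G) (q : ℕ), MQ S P K' B ZJ L W Z C q → ¬ Z 0 ≤ Nn Z 0 →
      PG.PeelQ.ThmC2 Z (XW Z W) ∧ XW Z W (Z 0) ≤ centralizer (Nn Z 1 : Set G)

end sockets

/-- the swap: `Z 0 ≤ N_0` gives `Z i ≤ N_i` -/
theorem MQ.rad [Finite G] {S : Sylow 2 G} {P K' B ZJ : Subgroup G} {L W Z C : Fin 2 → Subgroup G} {q : ℕ}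
    (h : MQ S P K' B ZJ L W Z C q) (h0 : Z 0 ≤ Nn Z 0) (i : Fin 2) : Z i ≤ Nn Z i := by
  rcases fin2 i with rfl | rfl
  · exact h0
  obtain ⟨s, p⟩ := h.exists_pa
  have e0 : cj s (Z 0) = Z 1 := h.bg.cj_s_Z p
  have e1 : cj s (Nn Z 0) = Nn Z 1 := by
    have h1 : PG.NN Z (cj s (Z 0)) = cj s (PG.NN Z (Z 0)) := PG.NN_conj s (Z 0)
    rw [e0] at h1
    exact h1.symm
  rw [← e0, ← e1]
  exact cj_mono s h0

/-- **(A)**: `VIn` from `RIn`, `NrIn`. -/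
theorem vIn_of {K : Cls.{u}} (hML : ML.Final.MLK.{u, u}) (hR : RIn K) (hN : NrIn K) : VIn K := by
  intro G _ _ hG S P K' B ZJ L W Z C q h hW
  have D : FQ Z W B q := FQ.of_bg h.bg (h.ti 0) h.nonloc
  by_cases h0 : Z 0 ≤ Nn Z 0
  · have hrad := h.rad h0
    obtain ⟨h1a, h1b⟩ := hR G hG S P K' B ZJ L W Z C q h hW hrad
    exact D.false_rad (NoDQ.of_bg h.bg hML (h.ti 0) h.nonloc) (NoQQ.of_bg h.bg hML (h.ti 0) h.nonloc)
      (NoP.of_bg h.bg hML (h.ti 0) h.nonloc) (CoreP.of_bg h.bg) h.com_of_inter hrad h1a h1b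
  · obtain ⟨hC, hX⟩ := hN G hG S P K' B ZJ L W Z C q h h0
    exact D.nrTwo (NoP.of_bg h.bg hML (h.ti 0) h.nonloc) hC h0 hX

end Cfsg.Agent.Omega.NO3S.EThree.Row7
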